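/-
The Leech lattice of the definitions (`Cfsg.leechLattice`, the additive closure of `Cfsg.leechSet`):
`leechSet` is already closed under addition and negation, so the lattice equals `leechSet` as a set;
a convenient membership criterion; and (given the weights of the Golay code) the minimal squared
length 32.
-/
import Mathlib
import Cfsg.Prelude.Def_Sporadic_a
import Cfsg.Prelude.Def_Spor_Conway

set_option autoImplicit false

namespace Cfsg.Agent.Lib.helper93

open Cfsg

/-- the indicator word of a set of points -/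
def ind (s : Finset GolayPt) : GolayPt → ZMod 2 := fun i => if i ∈ s then 1 else 0

theorem zmod2_eq_one_of_ne_zero (a : ZMod 2) (h : a ≠ 0) : a = 1 := by
  revert a; decide

theorem support₂_ind (s : Finset GolayPt) : support₂ (ind s) = s := by
  ext i
  unfold support₂ ind
  simp

theorem ind_support₂ (w : GolayPt → ZMod 2) : ind (support₂ w) = w := by
  funext i
  unfold ind support₂
  by_cases h : w i = 0
  · simp [h]
  · simp [zmod2_eq_one_of_ne_zero _ h]

theorem mem_supports_iff (C : Set (GolayPt → ZMod 2)) (s : Finset GolayPt) :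
    s ∈ supports C ↔ ind s ∈ C := by
  constructor
  · rintro ⟨w, hw, rfl⟩
    rw [ind_support₂]; exact hw
  · intro h
    exact ⟨ind s, h, support₂_ind s⟩

theorem one_mem_golayCode : (1 : GolayPt → ZMod 2) ∈ golayCode :=
  Submodule.subset_span (Set.mem_union_right _ rfl)

/-- the word of `x` relative to `m`: `1` at the coordinates with `x i ≢ m (mod 4)` -/
def wd (m : ℤ) (x : GolayPt → ℤ) : GolayPt → ZMod 2 := fun i => if x i ≡ m [ZMOD 4] then 0 else 1

theorem modeq_a (a m : ℤ) (h : a ≡ m [ZMOD 2]) : a ≡ m + 2 [ZMOD 4] ↔ ¬ a ≡ m [ZMOD 4] := by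
  unfold Int.ModEq at *; omega

theorem modeq_b (a m k : ℤ) (h : a ≡ m [ZMOD 2]) (hk : k ≡ m + 2 [ZMOD 4]) :
    a ≡ k [ZMOD 4] ↔ ¬ a ≡ m [ZMOD 4] := by
  unfold Int.ModEq at *; omega

theorem modeq_c (a m k : ℤ) (hk : k ≡ m [ZMOD 4]) : a ≡ k [ZMOD 4] ↔ a ≡ m [ZMOD 4] := by
  unfold Int.ModEq at *; omega

theorem modeq_d (a m k : ℤ) (h : a ≡ m [ZMOD 2]) (hk1 : ¬ k ≡ m + 2 [ZMOD 4])
    (hk2 : ¬ k ≡ m [ZMOD 4]) : ¬ a ≡ k [ZMOD 4] := by
  unfold Int.ModEq at *; omega

theorem modeq_add (a b m m' : ℤ) (ha : a ≡ m [ZMOD 2]) (hb : b ≡ m' [ZMOD 2]) :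
    a + b ≡ m + m' [ZMOD 4] ↔ (a ≡ m [ZMOD 4] ↔ b ≡ m' [ZMOD 4]) := by
  unfold Int.ModEq at *; omega

theorem modeq_neg (a m : ℤ) : -a ≡ -m [ZMOD 4] ↔ a ≡ m [ZMOD 4] := by
  unfold Int.ModEq at *; omega

/-- membership criterion for `leechSet` -/
theorem mem_leechSet_iff (x : GolayPt → ℤ) :
    x ∈ leechSet ↔ ∃ m : ℤ, (∀ i, x i ≡ m [ZMOD 2]) ∧ (∑ i, x i ≡ 4 * m [ZMOD 8]) ∧
      wd m x ∈ golayCode := by
  constructor
  · rintro ⟨m, h2, hs, hk⟩
    refine ⟨m, h2, hs, ?_⟩
    have h := (mem_supports_iff _ _).mp (hk (m + 2))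
    have e : ind (Finset.univ.filter fun i => x i ≡ m + 2 [ZMOD 4]) = wd m x := by
      funext i
      unfold ind wd
      simp only [Finset.mem_filter, Finset.mem_univ, true_and]
      by_cases h1 : x i ≡ m [ZMOD 4]
      · rw [if_pos h1, if_neg (fun hh => ((modeq_a _ _ (h2 i)).mp hh) h1)]
      · rw [if_neg h1, if_pos ((modeq_a _ _ (h2 i)).mpr h1)]
    rw [e] at h
    exact h
  · rintro ⟨m, h2, hs, hw⟩
    refine ⟨m, h2, hs, fun k => ?_⟩
    rw [mem_supports_iff]
    by_cases hk1 : k ≡ m + 2 [ZMOD 4]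
    · have e : ind (Finset.univ.filter fun i => x i ≡ k [ZMOD 4]) = wd m x := by
        funext i
        unfold ind wd
        simp only [Finset.mem_filter, Finset.mem_univ, true_and]
        by_cases h1 : x i ≡ m [ZMOD 4]
        · rw [if_pos h1, if_neg (fun hh => ((modeq_b _ _ _ (h2 i) hk1).mp hh) h1)]
        · rw [if_neg h1, if_pos ((modeq_b _ _ _ (h2 i) hk1).mpr h1)]
      rw [e]; exact hw
    · by_cases hk2 : k ≡ m [ZMOD 4]
      · have e : ind (Finset.univ.filter fun i => x i ≡ k [ZMOD 4]) = wd m x + 1 := by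
          funext i
          unfold ind wd
          simp only [Finset.mem_filter, Finset.mem_univ, true_and, Pi.add_apply, Pi.one_apply]
          by_cases h1 : x i ≡ m [ZMOD 4]
          · rw [if_pos h1, if_pos ((modeq_c _ _ _ hk2).mpr h1)]; decide
          · rw [if_neg h1, if_neg (fun hh => h1 ((modeq_c _ _ _ hk2).mp hh))]; decide
        rw [e]; exact Submodule.add_mem _ hw one_mem_golayCode
      · have e : ind (Finset.univ.filter fun i => x i ≡ k [ZMOD 4]) = 0 := by
          funext i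
          unfold ind
          simp only [Finset.mem_filter, Finset.mem_univ, true_and, Pi.zero_apply]
          rw [if_neg (modeq_d _ _ _ (h2 i) hk1 hk2)]
        rw [e]; exact Submodule.zero_mem _

theorem wd_add (m m' : ℤ) (x y : GolayPt → ℤ) (hx : ∀ i, x i ≡ m [ZMOD 2])
    (hy : ∀ i, y i ≡ m' [ZMOD 2]) : wd (m + m') (x + y) = wd m x + wd m' y := by
  funext i
  unfold wd
  have h := modeq_add _ _ _ _ (hx i) (hy i)
  simp only [Pi.add_apply]
  by_cases a1 : x i ≡ m [ZMOD 4] <;> by_cases a2 : y i ≡ m' [ZMOD 4]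
  · rw [if_pos a1, if_pos a2, if_pos (h.mpr ⟨fun _ => a2, fun _ => a1⟩)]; decide
  · rw [if_pos a1, if_neg a2, if_neg (fun hh => a2 ((h.mp hh).mp a1))]; decide
  · rw [if_neg a1, if_pos a2, if_neg (fun hh => a1 ((h.mp hh).mpr a2))]; decide
  · rw [if_neg a1, if_neg a2, if_pos (h.mpr ⟨fun hh => absurd hh a1, fun hh => absurd hh a2⟩)]; decide

theorem wd_neg (m : ℤ) (x : GolayPt → ℤ) : wd (-m) (-x) = wd m x := by
  funext i
  unfold wd
  simp only [Pi.neg_apply]
  by_cases a1 : x i ≡ m [ZMOD 4]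
  · rw [if_pos a1, if_pos ((modeq_neg _ _).mpr a1)]
  · rw [if_neg a1, if_neg (fun hh => a1 ((modeq_neg _ _).mp hh))]

theorem zero_mem_leechSet : (0 : GolayPt → ℤ) ∈ leechSet := by
  rw [mem_leechSet_iff]
  refine ⟨0, fun i => rfl, by simp, ?_⟩
  have : wd 0 (0 : GolayPt → ℤ) = 0 := by
    funext i
    unfold wd
    simp
  rw [this]
  exact Submodule.zero_mem _

theorem add_mem_leechSet (x y : GolayPt → ℤ) (hx : x ∈ leechSet) (hy : y ∈ leechSet) :
    x + y ∈ leechSet := by
  rw [mem_leechSet_iff] at hx hy ⊢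
  obtain ⟨m, h2, hs, hw⟩ := hx
  obtain ⟨m', h2', hs', hw'⟩ := hy
  refine ⟨m + m', fun i => Int.ModEq.add (h2 i) (h2' i), ?_, ?_⟩
  · simp only [Pi.add_apply, Finset.sum_add_distrib]
    have := Int.ModEq.add hs hs'
    rw [mul_add]
    exact this
  · rw [wd_add m m' x y h2 h2']
    exact Submodule.add_mem _ hw hw'

theorem neg_mem_leechSet (x : GolayPt → ℤ) (hx : x ∈ leechSet) : -x ∈ leechSet := by
  rw [mem_leechSet_iff] at hx ⊢
  obtain ⟨m, h2, hs, hw⟩ := hx
  refine ⟨-m, fun i => Int.ModEq.neg (h2 i), ?_, ?_⟩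
  · simp only [Pi.neg_apply, Finset.sum_neg_distrib]
    have := Int.ModEq.neg hs
    rw [mul_neg]
    exact this
  · rw [wd_neg]
    exact hw

/-- `leechSet` as an additive subgroup -/
def leechSub : AddSubgroup (GolayPt → ℤ) where
  carrier := leechSet
  add_mem' := fun {a b} ha hb => add_mem_leechSet a b ha hb
  zero_mem' := zero_mem_leechSet
  neg_mem' := fun {a} ha => neg_mem_leechSet a ha

theorem leechLattice_eq : leechLattice = leechSub := by
  unfold leechLattice
  exact AddSubgroup.closure_eq leechSub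

/-- the lattice is `leechSet` -/
theorem mem_leechLattice_iff (x : GolayPt → ℤ) : x ∈ leechLattice ↔ x ∈ leechSet := by
  rw [leechLattice_eq]
  rfl

theorem wd_congr (k m : ℤ) (x : GolayPt → ℤ) (hk : k ≡ m [ZMOD 4]) : wd k x = wd m x := by
  funext i
  unfold wd
  by_cases a1 : x i ≡ m [ZMOD 4]
  · rw [if_pos a1, if_pos (a1.trans hk.symm)]
  · rw [if_neg a1, if_neg (fun hh => a1 (hh.trans hk))]

theorem wd_shift (k m : ℤ) (x : GolayPt → ℤ) (hx : ∀ i, x i ≡ m [ZMOD 2])
    (hk : k ≡ m + 2 [ZMOD 4]) : wd k x = wd m x + 1 := by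
  funext i
  unfold wd
  simp only [Pi.add_apply, Pi.one_apply]
  by_cases a1 : x i ≡ m [ZMOD 4]
  · rw [if_pos a1, if_neg (fun hh => ((modeq_b _ _ _ (hx i) hk).mp hh) a1)]; decide
  · rw [if_neg a1, if_pos ((modeq_b _ _ _ (hx i) hk).mpr a1)]; decide

/-- normal form: a vector of `leechSet` is even (all coordinates even, sum `≡ 0 (mod 8)`, the
coordinates `≡ 2 (mod 4)` form a code word) or odd (all coordinates odd, sum `≡ 4 (mod 8)`, the
coordinates `≡ 3 (mod 4)` form a code word). -/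
theorem leechSet_cases (x : GolayPt → ℤ) (hx : x ∈ leechSet) :
    ((∀ i, x i ≡ 0 [ZMOD 2]) ∧ (∑ i, x i ≡ 0 [ZMOD 8]) ∧ wd 0 x ∈ golayCode) ∨
    ((∀ i, x i ≡ 1 [ZMOD 2]) ∧ (∑ i, x i ≡ 4 [ZMOD 8]) ∧ wd 1 x ∈ golayCode) := by
  rw [mem_leechSet_iff] at hx
  obtain ⟨m, h2, hs, hw⟩ := hx
  have hm4 : m % 4 = 0 ∨ m % 4 = 1 ∨ m % 4 = 2 ∨ m % 4 = 3 := by omega
  rcases hm4 with h | h | h | h
  · left
    refine ⟨fun i => (h2 i).trans (by unfold Int.ModEq; omega), hs.trans (by unfold Int.ModEq; omega), ?_⟩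
    rw [wd_congr 0 m x (by unfold Int.ModEq; omega)]
    exact hw
  · right
    refine ⟨fun i => (h2 i).trans (by unfold Int.ModEq; omega), hs.trans (by unfold Int.ModEq; omega), ?_⟩
    rw [wd_congr 1 m x (by unfold Int.ModEq; omega)]
    exact hw
  · left
    refine ⟨fun i => (h2 i).trans (by unfold Int.ModEq; omega), hs.trans (by unfold Int.ModEq; omega), ?_⟩
    rw [wd_shift 0 m x h2 (by unfold Int.ModEq; omega)]
    exact Submodule.add_mem _ hw one_mem_golayCode
  · right
    refine ⟨fun i => (h2 i).trans (by unfold Int.ModEq; omega), hs.trans (by unfold Int.ModEq; omega), ?_⟩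
    rw [wd_shift 1 m x h2 (by unfold Int.ModEq; omega)]
    exact Submodule.add_mem _ hw one_mem_golayCode

theorem hammingNorm_wd (m : ℤ) (x : GolayPt → ℤ) :
    hammingNorm (wd m x) = (Finset.univ.filter fun i => ¬ x i ≡ m [ZMOD 4]).card := by
  unfold hammingNorm
  congr 1
  ext i
  unfold wd
  simp only [Finset.mem_filter, Finset.mem_univ, true_and]
  by_cases a1 : x i ≡ m [ZMOD 4]
  · simp [a1]
  · simp [a1]

theorem card_golayPt : Fintype.card GolayPt = 24 := by
  simp [GolayPt]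

theorem sqNorm_pos_of_ne_zero (x : GolayPt → ℤ) (hx0 : x ≠ 0) : 0 < sqNorm x := by
  obtain ⟨j, hj⟩ : ∃ j, x j ≠ 0 := by
    by_contra h
    push Not at h
    exact hx0 (funext h)
  unfold sqNorm
  have h1 : x j ^ 2 ≤ ∑ i, x i ^ 2 :=
    Finset.single_le_sum (f := fun i => x i ^ 2) (fun i _ => sq_nonneg _) (Finset.mem_univ j)
  have h2 : 0 < x j ^ 2 := by positivity
  linarith

/-- the minimal squared length, from the weights of the code -/
theorem sqNorm_ge_of_mem_leechSet (hG1 : ∀ w ∈ golayCode, 4 ∣ hammingNorm w)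
    (hG2 : ∀ w ∈ golayCode, hammingNorm w ≠ 4) (x : GolayPt → ℤ) (hx : x ∈ leechSet)
    (hx0 : x ≠ 0) : 32 ≤ sqNorm x := by
  have hpos := sqNorm_pos_of_ne_zero x hx0
  rcases leechSet_cases x hx with ⟨h2, hs, hw⟩ | ⟨h2, hs, hw⟩
  · -- even vectors
    have hW1 := hG1 _ hw
    have hW2 := hG2 _ hw
    rw [hammingNorm_wd] at hW1 hW2
    obtain ⟨T, hT⟩ : ∃ T : Finset GolayPt, T = Finset.univ.filter fun i => ¬ x i ≡ 0 [ZMOD 4] :=
      ⟨_, rfl⟩
    rw [← hT] at hW1 hW2
    by_cases hT0 : T.card = 0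
    · -- all coordinates divisible by 4
      have h4 : ∀ i, x i ≡ 0 [ZMOD 4] := by
        intro i
        by_contra hi
        have : i ∈ T := by rw [hT]; simp [hi]
        have := Finset.card_pos.mpr ⟨i, this⟩
        omega
      have hdvd : (32 : ℤ) ∣ sqNorm x := by
        have h1 : (32 : ℤ) ∣ ∑ i, (x i ^ 2 - 4 * x i) := by
          apply Finset.dvd_sum
          intro i _
          have hi := h4 i
          have : (4 : ℤ) ∣ x i := Int.dvd_of_emod_eq_zero (by unfold Int.ModEq at hi; omega)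
          obtain ⟨y, hy⟩ := this
          have hev : Even (y * (y - 1)) := Int.even_mul_pred_self y
          obtain ⟨z, hz⟩ := hev
          refine ⟨z, ?_⟩
          rw [hy]
          have : (4 * y) ^ 2 - 4 * (4 * y) = 16 * (y * (y - 1)) := by ring
          rw [this, hz]; ring
        have h2' : (32 : ℤ) ∣ 4 * ∑ i, x i := by
          have : (8 : ℤ) ∣ ∑ i, x i := Int.dvd_of_emod_eq_zero (by unfold Int.ModEq at hs; omega)
          obtain ⟨y, hy⟩ := this
          exact ⟨y, by rw [hy]; ring⟩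
        have : sqNorm x = ∑ i, (x i ^ 2 - 4 * x i) + 4 * ∑ i, x i := by
          unfold sqNorm
          rw [Finset.sum_sub_distrib, ← Finset.mul_sum]
          ring
        rw [this]
        exact dvd_add h1 h2'
      exact Int.le_of_dvd hpos hdvd
    · -- at least 8 coordinates are ≡ 2 mod 4
      have hT8 : 8 ≤ T.card := by omega
      have h1 : ∑ i ∈ T, x i ^ 2 ≤ sqNorm x := by
        unfold sqNorm
        exact Finset.sum_le_univ_sum_of_nonneg (fun i => sq_nonneg _)
      have h2' : T.card • (4 : ℤ) ≤ ∑ i ∈ T, x i ^ 2 := by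
        apply Finset.card_nsmul_le_sum
        intro i hi
        rw [hT] at hi
        simp only [Finset.mem_filter, Finset.mem_univ, true_and] at hi
        have hi2 := h2 i
        have : x i ≠ 0 ∧ x i ≠ 1 ∧ x i ≠ -1 := by
          unfold Int.ModEq at hi hi2
          omega
        obtain ⟨a, b, c⟩ := this
        have : 2 ≤ x i ∨ x i ≤ -2 := by omega
        rcases this with h | h <;> nlinarith
      have h3 : (T.card : ℤ) * 4 ≤ sqNorm x := by
        have : T.card • (4 : ℤ) = (T.card : ℤ) * 4 := by simp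
        rw [← this]
        exact le_trans h2' h1
      have : (8 : ℤ) ≤ (T.card : ℤ) := by exact_mod_cast hT8
      linarith
  · -- odd vectors
    have hW1 := hG1 _ hw
    rw [hammingNorm_wd] at hW1
    obtain ⟨T, hT⟩ : ∃ T : Finset GolayPt, T = Finset.univ.filter fun i => ¬ x i ≡ 1 [ZMOD 4] :=
      ⟨_, rfl⟩
    rw [← hT] at hW1
    -- congruence mod 16
    have hdvd : (16 : ℤ) ∣ sqNorm x := by
      have h1 : (16 : ℤ) ∣ ∑ i, (x i ^ 2 - 2 * x i + 1 - 4 * (if i ∈ T then 1 else 0)) := by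
        apply Finset.dvd_sum
        intro i _
        have hi2 := h2 i
        by_cases hi : i ∈ T
        · rw [if_pos hi]
          rw [hT] at hi
          simp only [Finset.mem_filter, Finset.mem_univ, true_and] at hi
          have : x i % 4 = 3 := by unfold Int.ModEq at hi hi2; omega
          obtain ⟨y, hy⟩ : ∃ y, x i = 4 * y + 3 := ⟨x i / 4, by omega⟩
          refine ⟨y ^ 2 + y, ?_⟩
          rw [hy]; ring
        · rw [if_neg hi]
          rw [hT] at hi
          simp only [Finset.mem_filter, Finset.mem_univ, true_and, not_not] at hi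
          have : x i % 4 = 1 := by unfold Int.ModEq at hi; omega
          obtain ⟨y, hy⟩ : ∃ y, x i = 4 * y + 1 := ⟨x i / 4, by omega⟩
          refine ⟨y ^ 2, ?_⟩
          rw [hy]; ring
      have e : ∑ i, (x i ^ 2 - 2 * x i + 1 - 4 * (if i ∈ T then (1 : ℤ) else 0))
          = sqNorm x - 2 * ∑ i, x i + 24 - 4 * T.card := by
        unfold sqNorm
        simp only [Finset.sum_sub_distrib, Finset.sum_add_distrib, ← Finset.mul_sum]
        have c1 : ∑ i : GolayPt, (1 : ℤ) = 24 := by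
          rw [Finset.sum_const, Finset.card_univ, card_golayPt]; rfl
        have c2 : ∑ i : GolayPt, (if i ∈ T then (1 : ℤ) else 0) = T.card := by
          rw [Finset.sum_ite_mem, Finset.univ_inter, Finset.sum_const]; simp
        rw [c1, c2]
      rw [e] at h1
      have h8 : (8 : ℤ) ∣ ∑ i, x i - 4 := (Int.modEq_iff_dvd.mp hs.symm)
      obtain ⟨a, ha⟩ := h8
      obtain ⟨b, hb⟩ := hW1
      obtain ⟨c, hc⟩ := h1
      refine ⟨c + a - 1 + b, ?_⟩
      have hb' : (T.card : ℤ) = 4 * b := by exact_mod_cast hb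
      linarith
    have h24 : (24 : ℤ) ≤ sqNorm x := by
      unfold sqNorm
      have : ∑ i : GolayPt, (1 : ℤ) ≤ ∑ i, x i ^ 2 := by
        apply Finset.sum_le_sum
        intro i _
        have hi2 := h2 i
        have : x i ≠ 0 := by unfold Int.ModEq at hi2; omega
        have : 1 ≤ x i ∨ x i ≤ -1 := by omega
        rcases this with h | h <;> nlinarith
      have c1 : ∑ i : GolayPt, (1 : ℤ) = 24 := by
        rw [Finset.sum_const, Finset.card_univ, card_golayPt]; rfl
      linarith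
    obtain ⟨k, hk⟩ := hdvd
    omega

/-- the minimal squared length of the Leech lattice, from the weights of the code -/
theorem sqNorm_ge_of_mem_leechLattice (hG1 : ∀ w ∈ golayCode, 4 ∣ hammingNorm w)
    (hG2 : ∀ w ∈ golayCode, hammingNorm w ≠ 4) (x : GolayPt → ℤ) (hx : x ∈ leechLattice)
    (hx0 : x ≠ 0) : 32 ≤ sqNorm x :=
  sqNorm_ge_of_mem_leechSet hG1 hG2 x ((mem_leechLattice_iff x).mp hx) hx0

end Cfsg.Agent.Lib.helper93
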