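import Mathlib
import Cfsg.Agent.Lib.helper63.M11U_P
import Cfsg.Agent.Lib.helper73.M11U_E

/-!
# `S0420`, piece G2: fixed points on the eleven points
-/

set_option autoImplicit false
open scoped Pointwise

namespace Cfsg.Agent.Lib.helper93.M11U

/-- fixed points of an element of prime order: congruence -/
theorem fx_modEq {G : Type*} [Group G] {X : Type*} [Fintype X] [DecidableEq X] [MulAction G X]
    (g : G) (p : ℕ) [Fact p.Prime] (hg : orderOf g = p) :
    Fintype.card X ≡ (Finset.univ.filter fun x : X => g • x = x).card [MOD p] := by
  have hp : IsPGroup p (Subgroup.zpowers g) :=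
    IsPGroup.of_card (n := 1) (by rw [Nat.card_zpowers, hg, pow_one])
  have h1 := hp.card_modEq_card_fixedPoints X
  have h2 : (MulAction.fixedPoints (Subgroup.zpowers g) X : Set X) =
      ↑(Finset.univ.filter fun x : X => g • x = x) := by
    ext x
    simp only [MulAction.mem_fixedPoints, Finset.coe_filter, Finset.mem_univ, true_and,
      Set.mem_ofPred_eq]
    constructor
    · intro h
      exact h ⟨g, Subgroup.mem_zpowers g⟩
    · intro h u
      have h3 : Subgroup.zpowers g ≤ MulAction.stabilizer G x := Subgroup.zpowers_le.mpr h
      exact h3 u.2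
  rw [h2, Nat.card_eq_fintype_card, Nat.card_coe_set_eq, Set.ncard_coe_finset] at h1
  exact h1

/-- the fixed points of an element are fixed by its powers -/
theorem fx_le_pow {G : Type*} [Group G] {X : Type*} [Fintype X] [DecidableEq X] [MulAction G X]
    (g : G) (k : ℕ) :
    (Finset.univ.filter fun x : X => g • x = x).card ≤
      (Finset.univ.filter fun x : X => (g ^ k) • x = x).card := by
  apply Finset.card_le_card
  intro x hx
  rw [Finset.mem_filter] at hx ⊢
  refine ⟨hx.1, ?_⟩
  have h1 : g ∈ MulAction.stabilizer G x := hx.2
  exact pow_mem h1 k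

/-- an element fixing all points -/
theorem fx_eq_card {G : Type*} [Group G] {X : Type*} [Fintype X] [DecidableEq X] [MulAction G X]
    (g : G) (h : (Finset.univ.filter fun x : X => g • x = x).card = Fintype.card X) :
    ∀ x : X, g • x = x := by
  intro x
  have h1 := (Finset.card_eq_iff_eq_univ _).mp h
  have h2 : x ∈ Finset.univ.filter fun x : X => g • x = x := by
    rw [h1]
    exact Finset.mem_univ x
  exact (Finset.mem_filter.mp h2).2

/-- an involution with seven fixed points commutes with no element of order three having only
two fixed points -/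
theorem no_seven {G : Type*} [Group G] {X : Type*} [Fintype X] [DecidableEq X] [MulAction G X]
    (hX : Fintype.card X = 11) (t z : G) (hz3 : z * z * z = 1)
    (hzt : z * t = t * z)
    (h7 : (Finset.univ.filter fun x : X => t • x = x).card = 7)
    (h2 : (Finset.univ.filter fun x : X => z • x = x).card = 2) : False := by
  classical
  set M : Finset X := Finset.univ.filter fun x : X => ¬ t • x = x with hMdef
  have hM : M.card = 4 := by
    have h : (Finset.univ.filter fun x : X => t • x = x).card + M.card =
        (Finset.univ : Finset X).card :=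
      Finset.card_filter_add_card_filter_not (s := (Finset.univ : Finset X))
        (fun x : X => t • x = x)
    rw [Finset.card_univ, hX, h7] at h
    omega
  have hmemM : ∀ x : X, x ∈ M ↔ t • x ≠ x := by
    intro x
    rw [hMdef, Finset.mem_filter]
    exact ⟨fun h => h.2, fun h => ⟨Finset.mem_univ x, h⟩⟩
  have hzM : ∀ x : X, x ∈ M → z • x ∈ M := by
    intro x hx
    rw [hmemM] at hx ⊢
    intro h
    apply hx
    have h1 : z • t • x = z • x := by rw [← mul_smul, hzt, mul_smul, h]
    exact smul_left_cancel z h1
  have htM : ∀ x : X, x ∈ M → t • x ∈ M := by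
    intro x hx
    rw [hmemM] at hx ⊢
    intro h
    apply hx
    exact smul_left_cancel t h
  have hz3' : ∀ x : X, z • z • z • x = x := by
    intro x
    rw [show z • z • z • x = (z * z * z) • x by simp only [mul_smul], hz3, one_smul]
  -- every point of `M` is fixed by `z`
  have hall : ∀ a ∈ M, z • a = a := by
    intro a ha
    by_contra hne
    have hne2 : z • z • a ≠ a := by
      intro h
      apply hne
      have := hz3' a
      rw [h] at this
      exact this
    have hne3 : z • z • a ≠ z • a := by
      intro h
      exact hne (smul_left_cancel z h)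
    -- the orbit
    have hOc : ({a, z • a, z • z • a} : Finset X).card = 3 := by
      rw [Finset.card_insert_of_notMem, Finset.card_insert_of_notMem, Finset.card_singleton]
      · rw [Finset.mem_singleton]
        exact fun h => hne3 h.symm
      · rw [Finset.mem_insert, Finset.mem_singleton]
        rintro (h | h)
        · exact hne h.symm
        · exact hne2 h.symm
    have hOM : ({a, z • a, z • z • a} : Finset X) ⊆ M := by
      intro x hx
      rw [Finset.mem_insert, Finset.mem_insert, Finset.mem_singleton] at hx
      rcases hx with rfl | rfl | rfl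
      · exact ha
      · exact hzM _ ha
      · exact hzM _ (hzM _ ha)
    have hdiff : (M \ ({a, z • a, z • z • a} : Finset X)).card = 1 := by
      rw [Finset.card_sdiff_of_subset hOM, hM, hOc]
    obtain ⟨b, hb⟩ := Finset.card_eq_one.mp hdiff
    have hbmem : b ∈ M \ ({a, z • a, z • z • a} : Finset X) := by
      rw [hb]
      exact Finset.mem_singleton_self b
    rw [Finset.mem_sdiff] at hbmem
    obtain ⟨hbM, hbO⟩ := hbmem
    rw [Finset.mem_insert, Finset.mem_insert, Finset.mem_singleton] at hbO
    push Not at hbO
    obtain ⟨hb1, hb2, hb3⟩ := hbO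
    -- elements of `M` outside the orbit equal `b`
    have honly : ∀ c ∈ M, c ≠ a → c ≠ z • a → c ≠ z • z • a → c = b := by
      intro c hc h1 h2 h3
      have : c ∈ M \ ({a, z • a, z • z • a} : Finset X) := by
        rw [Finset.mem_sdiff, Finset.mem_insert, Finset.mem_insert, Finset.mem_singleton]
        exact ⟨hc, fun h => by rcases h with h | h | h <;> contradiction⟩
      rw [hb, Finset.mem_singleton] at this
      exact this
    have hzb : z • b = b := by
      apply honly _ (hzM _ hbM)
      · intro h
        apply hb3
        have h1 : z • z • z • b = z • z • a := by rw [h]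
        rw [hz3'] at h1
        exact h1
      · intro h
        exact hb1 (smul_left_cancel z h)
      · intro h
        exact hb2 (smul_left_cancel z h)
    have htb : t • b ≠ b := (hmemM b).mp hbM
    have hztb : z • t • b = t • b := by rw [← mul_smul, hzt, mul_smul, hzb]
    have htbM := htM _ hbM
    by_cases c1 : t • b = a
    · rw [c1] at hztb
      exact hne hztb
    by_cases c2 : t • b = z • a
    · rw [c2] at hztb
      exact hne3 hztb
    by_cases c3 : t • b = z • z • a
    · rw [c3, hz3'] at hztb
      exact hne2 hztb.symm
    exact htb (honly _ htbM c1 c2 c3)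
  have hsub : M ⊆ Finset.univ.filter fun x : X => z • x = x := by
    intro x hx
    rw [Finset.mem_filter]
    exact ⟨Finset.mem_univ x, hall x hx⟩
  have := Finset.card_le_card hsub
  rw [hM, h2] at this
  omega

/-- PIECE G2: every nonidentity element fixes at most 3 of the 11 points; involutions fix
exactly 3. -/
theorem m11_fix_eleven_all {G : Type*} [Group G] [Finite G] [IsSimpleGroup G]
    (hG : Nat.card G = 7920) {X : Type*} [Fintype X] [DecidableEq X] [MulAction G X]
    (hX : Fintype.card X = 11)
    (hfaith : ∀ g : G, (∀ x : X, g • x = x) → g = 1)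
    (hcent2 : ∀ t : G, orderOf t = 2 → Nat.card (Subgroup.centralizer ({t} : Set G)) = 48)
    (hfix5 : ∀ k : G, orderOf k = 5 → (Finset.univ.filter fun x : X => k • x = x).card = 1)
    (hfix3 : ∀ z : G, orderOf z = 3 → (Finset.univ.filter fun x : X => z • x = x).card = 2) :
    (∀ t : G, orderOf t = 2 → (Finset.univ.filter fun x : X => t • x = x).card = 3) ∧
    (∀ g : G, g ≠ 1 → (Finset.univ.filter fun x : X => g • x = x).card ≤ 3) := by
  classical
  have hGnp : ¬ (Nat.card G).Prime := by
    rw [hG]
    norm_num
  have hinv : ∀ t : G, orderOf t = 2 →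
      (Finset.univ.filter fun x : X => t • x = x).card = 3 := by
    intro t ht
    have htt : t * t = 1 := by rw [← pow_two, ← ht, pow_orderOf_eq_one]
    have : Fact (Nat.Prime 2) := ⟨Nat.prime_two⟩
    have hodd := fx_modEq (X := X) t 2 ht
    rw [hX] at hodd
    have hle : (Finset.univ.filter fun x : X => t • x = x).card ≤ 11 := by
      rw [← hX]
      exact Finset.card_le_univ _
    have hsq : (MulAction.toPerm t : Equiv.Perm X) ^ 2 = 1 := by
      ext x
      rw [pow_two, Equiv.Perm.mul_apply, MulAction.toPerm_apply, MulAction.toPerm_apply,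
        ← mul_smul, htt, one_smul, Equiv.Perm.one_apply]
    have h4 : (MulAction.toPerm t : Equiv.Perm X) ^ 4 = 1 := by
      rw [show (4 : ℕ) = 2 * 2 from rfl, pow_mul, hsq, one_pow]
    have hs := Cfsg.Agent.Lib.helper63.M11U.sign_of_pow_four (MulAction.toPerm t : Equiv.Perm X) h4
    rw [Cfsg.Agent.Lib.helper73.M11U.sign_eq_one_of_simple hGnp t] at hs
    have hf2 : (Finset.univ.filter fun x : X => ((MulAction.toPerm t : Equiv.Perm X) ^ 2) x = x)
        = Finset.univ := by
      rw [hsq]
      exact Finset.filter_true_of_mem (fun x _ => rfl)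
    have hf1 : (Finset.univ.filter fun x : X => (MulAction.toPerm t : Equiv.Perm X) x = x)
        = Finset.univ.filter fun x : X => t • x = x :=
      Finset.filter_congr (fun x _ => Iff.rfl)
    rw [hf2, hf1, Finset.card_univ, hX] at hs
    have heven := (neg_one_pow_eq_one_iff_even (R := ℤˣ) (by decide)).mp hs.symm
    rw [Nat.even_iff] at heven
    have hodd' : 11 % 2 = (Finset.univ.filter fun x : X => t • x = x).card % 2 := hodd
    have hcases : (Finset.univ.filter fun x : X => t • x = x).card = 3 ∨
        (Finset.univ.filter fun x : X => t • x = x).card = 7 ∨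
        (Finset.univ.filter fun x : X => t • x = x).card = 11 := by omega
    rcases hcases with h | h | h
    · exact h
    · exfalso
      -- an element of order three of the centralizer
      have : Fact (Nat.Prime 3) := ⟨Nat.prime_three⟩
      have h3 : 3 ∣ Nat.card (Subgroup.centralizer ({t} : Set G)) := by
        rw [hcent2 t ht]
        norm_num
      obtain ⟨z, hz⟩ := exists_prime_orderOf_dvd_card' 3 h3
      have hz' : orderOf (z : G) = 3 := by rw [Subgroup.orderOf_coe, hz]
      have hzt : (z : G) * t = t * (z : G) := Subgroup.mem_centralizer_singleton_iff.mp z.2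
      have hz3 : (z : G) * (z : G) * (z : G) = 1 := by
        have := pow_orderOf_eq_one (z : G)
        rw [hz', pow_succ, pow_two] at this
        exact this
      exact no_seven hX t (z : G) hz3 hzt h (hfix3 _ hz')
    · exfalso
      rw [← hX] at h
      have h1 := hfaith t (fx_eq_card t h)
      rw [h1, orderOf_one] at ht
      omega
  refine ⟨hinv, ?_⟩
  intro g hg
  have hn1 : orderOf g ≠ 1 := fun h => hg (orderOf_eq_one_iff.mp h)
  obtain ⟨p, hp, hpd⟩ := Nat.exists_prime_and_dvd hn1
  have hord : orderOf (g ^ (orderOf g / p)) = p :=
    orderOf_pow_orderOf_div (orderOf_pos g).ne' hpd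
  have hle := fx_le_pow (X := X) g (orderOf g / p)
  have hdvd : p ∣ 2 ^ 4 * 3 ^ 2 * 5 * 11 := by
    have h1 := hpd.trans (orderOf_dvd_natCard g)
    rw [hG] at h1
    exact h1
  have key : p = 2 ∨ p = 3 ∨ p = 5 ∨ p = 11 := by
    rcases (Nat.Prime.dvd_mul hp).mp hdvd with h | h
    · rcases (Nat.Prime.dvd_mul hp).mp h with h | h
      · rcases (Nat.Prime.dvd_mul hp).mp h with h | h
        · left
          exact (Nat.prime_dvd_prime_iff_eq hp Nat.prime_two).mp (hp.dvd_of_dvd_pow h)
        · right
          left
          exact (Nat.prime_dvd_prime_iff_eq hp Nat.prime_three).mp (hp.dvd_of_dvd_pow h)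
      · right
        right
        left
        exact (Nat.prime_dvd_prime_iff_eq hp Nat.prime_five).mp h
    · right
      right
      right
      exact (Nat.prime_dvd_prime_iff_eq hp (by norm_num)).mp h
  rcases key with h | h | h | h
  · subst h
    rw [hinv _ hord] at hle
    exact hle
  · subst h
    rw [hfix3 _ hord] at hle
    omega
  · subst h
    rw [hfix5 _ hord] at hle
    omega
  · subst h
    have : Fact (Nat.Prime 11) := ⟨by norm_num⟩
    have hmod := fx_modEq (X := X) (g ^ (orderOf g / 11)) 11 hord
    rw [hX] at hmod
    have hle11 : (Finset.univ.filter fun x : X => (g ^ (orderOf g / 11)) • x = x).card ≤ 11 := by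
      rw [← hX]
      exact Finset.card_le_univ _
    have hmod' : 11 % 11 = (Finset.univ.filter fun x : X => (g ^ (orderOf g / 11)) • x = x).card % 11 :=
      hmod
    have hc : (Finset.univ.filter fun x : X => (g ^ (orderOf g / 11)) • x = x).card = 0 ∨
        (Finset.univ.filter fun x : X => (g ^ (orderOf g / 11)) • x = x).card = 11 := by omega
    rcases hc with hc | hc
    · rw [hc] at hle
      omega
    · exfalso
      have hc' : (Finset.univ.filter fun x : X => (g ^ (orderOf g / 11)) • x = x).card =
          Fintype.card X := by
        rw [hX]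
        exact hc
      have h1 := hfaith _ (fx_eq_card _ hc')
      rw [h1, orderOf_one] at hord
      omega

end Cfsg.Agent.Lib.helper93.M11U
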