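import Cfsg.Agent.Lib.helper93.LeechCnt

/-!
`Cfsg.Co0` is transitive on the vectors of norm 48 of `Cfsg.leechLattice`: the orbit of one of them
is counted by its pairs with the minimal vectors at minimal distance.
-/

set_option autoImplicit false
open Cfsg Cfsg.Agent.Lib.helper9

namespace Cfsg.Agent.Lib.helper93

/-- the orbit of `u0S` -/
def orb48 : Set ↥leechLattice := {u | ∃ g : ↥Co0, g.1 u0S = u}

theorem orb48_norm (u : ↥leechLattice) (hu : u ∈ orb48) : sqNorm (u : GolayPt → ℤ) = 48 := by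
  obtain ⟨g, rfl⟩ := hu
  rw [g.2.2]
  exact u0S_norm

theorem orb48_nbr (u : ↥leechLattice) (hu : u ∈ orb48) : (nbr u).ncard = 552 := by
  obtain ⟨g, rfl⟩ := hu
  rw [nbr_ncard_map, nbr_u0S]

theorem v0S_nbr : v0S ∈ nbr u0S := by
  refine ⟨v0S_norm, ?_⟩
  rw [sqNorm_sub_eq, u0S_norm, v0S_norm, dot_u0S, v0S_val, v0S_pt 4 (by norm_num),
    v0S_pt 7 (by norm_num), v0S_pt 1 (by norm_num), v0S_pt 2 (by norm_num),
    v0S_pt 3 (by norm_num), v0S_pt 5 (by norm_num), v0S_pt 8 (by norm_num),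
    v0S_pt 11 (by norm_num), v0S_pt 13 (by norm_num)]
  norm_num

/-- the sum of two minimal vectors with inner product `-8` is in the orbit -/
theorem sum_mem_orb48 (v w : ↥leechLattice) (hv : sqNorm (v : GolayPt → ℤ) = 32)
    (hw : sqNorm (w : GolayPt → ℤ) = 32)
    (hd : dotInt (v : GolayPt → ℤ) (w : GolayPt → ℤ) = -8) : v + w ∈ orb48 := by
  obtain ⟨h, hh⟩ := Cfsg.Agent.S0400.result v0S v v0S_norm hv
  have hh' : h.1 v0S = v := hh
  have n1 : sqNorm ((u0S - v0S : ↥leechLattice) : GolayPt → ℤ) = 32 := by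
    rw [AddSubgroup.coe_sub]
    exact v0S_nbr.2
  have d1 : dotInt (v0S : GolayPt → ℤ) ((u0S - v0S : ↥leechLattice) : GolayPt → ℤ) = -8 := by
    have h1 := dot_sub_eq (u0S : GolayPt → ℤ) (v0S : GolayPt → ℤ)
    rw [u0S_norm, v0S_norm, v0S_nbr.2] at h1
    rw [AddSubgroup.coe_sub]
    linarith
  obtain ⟨g, hg1, hg2⟩ := stab_trans (-8) (Or.inr (Or.inl rfl)) v (h.1 (u0S - v0S)) w hv
    (by rw [h.2.2]; exact n1) hw (by rw [← hh', dotInt_map h.1 h.2]; exact d1) hd
  refine ⟨g * h, ?_⟩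
  have e : u0S = v0S + (u0S - v0S) := by abel
  rw [co_mul_apply]
  conv_lhs => rw [e]
  rw [h.2.1, g.2.1, hh', hg1, hg2]

/-- the vectors of the orbit at minimal distance of a minimal vector -/
theorem fib_ncard (v : ↥leechLattice) (hv : sqNorm (v : GolayPt → ℤ) = 32) :
    {u : ↥leechLattice | u ∈ orb48 ∧
      sqNorm ((u : GolayPt → ℤ) - (v : GolayPt → ℤ)) = 32}.ncard = 47104 := by
  rw [← census_B v hv, ← Set.ncard_image_of_injective _ (sub_left_injective (b := v))]
  congr 1
  ext w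
  constructor
  · rintro ⟨u, ⟨hu, hd⟩, rfl⟩
    refine ⟨by rw [AddSubgroup.coe_sub]; exact hd, ?_⟩
    have h1 := dot_sub_eq (u : GolayPt → ℤ) (v : GolayPt → ℤ)
    rw [orb48_norm u hu, hv, hd] at h1
    rw [AddSubgroup.coe_sub]
    linarith
  · rintro ⟨hn, hd⟩
    refine ⟨v + w, ⟨sum_mem_orb48 v w hv hn hd, ?_⟩, add_sub_cancel_left v w⟩
    rw [AddSubgroup.coe_add, add_sub_cancel_left]
    exact hn

theorem norm48_finite : {u : ↥leechLattice | sqNorm (u : GolayPt → ℤ) = 48}.Finite :=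
  Set.finite_of_ncard_ne_zero (by
    rw [ncard_subtype (fun x => sqNorm x = 48), leech_count_48]
    norm_num)

theorem norm32_finite : {u : ↥leechLattice | sqNorm (u : GolayPt → ℤ) = 32}.Finite :=
  Set.finite_of_ncard_ne_zero (by
    rw [ncard_subtype (fun x => sqNorm x = 32), leech_count_32]
    norm_num)

theorem orb48_sub : orb48 ⊆ {u : ↥leechLattice | sqNorm (u : GolayPt → ℤ) = 48} :=
  fun u hu => orb48_norm u hu

theorem orb_arith (n : ℕ) (h : n * 552 = 196560 * 47104) : n = 16773120 := by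
  omega

/-- the size of the orbit, by counting pairs -/
theorem orb48_ncard : orb48.ncard = 16773120 := by
  classical
  have hOf : orb48.Finite := norm48_finite.subset orb48_sub
  have hM := norm32_finite
  have key := Finset.sum_card_bipartiteAbove_eq_sum_card_bipartiteBelow (s := hOf.toFinset)
    (t := hM.toFinset)
    (r := fun u v : ↥leechLattice => sqNorm ((u : GolayPt → ℤ) - (v : GolayPt → ℤ)) = 32)
  have h1 : ∀ u ∈ hOf.toFinset, (hM.toFinset.bipartiteAbove
      (fun u v : ↥leechLattice => sqNorm ((u : GolayPt → ℤ) - (v : GolayPt → ℤ)) = 32) u).card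
        = 552 := by
    intro u hu
    rw [← orb48_nbr u ((Set.Finite.mem_toFinset hOf).1 hu), ← Set.ncard_coe_finset]
    congr 1
    ext v
    simp [Finset.bipartiteAbove, nbr]
  have h2 : ∀ v ∈ hM.toFinset, (hOf.toFinset.bipartiteBelow
      (fun u v : ↥leechLattice => sqNorm ((u : GolayPt → ℤ) - (v : GolayPt → ℤ)) = 32) v).card
        = 47104 := by
    intro v hv
    rw [← fib_ncard v ((Set.Finite.mem_toFinset hM).1 hv), ← Set.ncard_coe_finset]
    congr 1
    ext u
    simp [Finset.bipartiteBelow]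
  rw [Finset.sum_congr rfl h1, Finset.sum_congr rfl h2, Finset.sum_const, Finset.sum_const,
    smul_eq_mul, smul_eq_mul] at key
  have hMc : hM.toFinset.card = 196560 := by
    rw [← Set.ncard_eq_toFinset_card _ hM, ncard_subtype (fun x => sqNorm x = 32), leech_count_32]
  rw [hMc, ← Set.ncard_eq_toFinset_card _ hOf] at key
  exact orb_arith _ key

/-- every vector of norm 48 is in the orbit -/
theorem mem_orb48 (u : ↥leechLattice) (hu : sqNorm (u : GolayPt → ℤ) = 48) : u ∈ orb48 := by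
  have h := Set.eq_of_subset_of_ncard_le orb48_sub (by
    rw [orb48_ncard, ncard_subtype (fun x => sqNorm x = 48), leech_count_48]) norm48_finite
  rw [h]
  exact hu

end Cfsg.Agent.Lib.helper93
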