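import Cfsg.Agent.Lib.helper93.Co0HS

/-!
The stabiliser in `Cfsg.Co0` of a vector of norm 48 of `Cfsg.leechLattice` is transitive on the
11178 minimal vectors with inner product `-16` with it.
-/

set_option autoImplicit false
open Cfsg Cfsg.Agent.Lib.helper9

namespace Cfsg.Agent.Lib.helper93

theorem dot_neg_right (a b : GolayPt → ℤ) : dotInt a (-b) = -dotInt a b := by
  unfold dotInt
  rw [← Finset.sum_neg_distrib]
  refine Finset.sum_congr rfl fun i _ => ?_
  simp only [Pi.neg_apply]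
  ring

/-- the action on vectors -/
def act1 (h : ↥Co0) (c : ↥leechLattice) : ↥leechLattice := h.1 c

theorem act1_isAct : IsAct act1 :=
  ⟨fun _ _ _ => rfl, fun h c => co_inv_apply h c⟩

/-- the minimal vectors with inner product `-16` with `u` -/
def PhiN (u x : ↥leechLattice) : Prop :=
  sqNorm (x : GolayPt → ℤ) = 32 ∧ dotInt (u : GolayPt → ℤ) (x : GolayPt → ℤ) = -16

theorem PhiN_inv (h : ↥Co0) (u x : ↥leechLattice) (hx : PhiN u x) : PhiN (act1 h u) (h.1 x) :=
  ⟨by rw [co_norm]; exact hx.1, by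
    show dotInt ((h.1 u : ↥leechLattice) : GolayPt → ℤ) _ = -16
    rw [co_dot]
    exact hx.2⟩

theorem PhiN_neg (x : ↥leechLattice) : PhiN u0S x ↔
    sqNorm ((-x : ↥leechLattice) : GolayPt → ℤ) = 32 ∧
      dotInt (u0S : GolayPt → ℤ) ((-x : ↥leechLattice) : GolayPt → ℤ) = 16 := by
  unfold PhiN
  rw [AddSubgroup.coe_neg, sqNorm_neg', dot_neg_right]
  constructor
  · rintro ⟨h1, h2⟩
    exact ⟨h1, by rw [h2]; norm_num⟩
  · rintro ⟨h1, h2⟩
    exact ⟨h1, by linarith⟩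

theorem N_base_card : {x | PhiN u0S x}.ncard = 11178 := by
  have h := ncard_sub_filter (fun x => dotInt (u0S : GolayPt → ℤ) x = 16) qH 11178
    (fun x _ hn => qH_iff x hn) cnt_qH
  rw [← h, ← Set.ncard_image_of_injective _ (neg_injective (G := ↥leechLattice))]
  congr 1
  ext x
  constructor
  · rintro ⟨y, hy, rfl⟩
    exact (PhiN_neg y).1 hy
  · intro hx
    refine ⟨-x, (PhiN_neg (-x)).2 ?_, neg_neg x⟩
    rw [neg_neg]
    exact hx

theorem N_base_trans (x x' : ↥leechLattice) (hx : PhiN u0S x) (hx' : PhiN u0S x') :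
    ∃ g : ↥Co0, act1 g u0S = u0S ∧ g.1 x = x' := by
  obtain ⟨g, hg, hgx⟩ := Co3_trans (-x) (-x') ((PhiN_neg x).1 hx) ((PhiN_neg x').1 hx')
  refine ⟨g, H3_fix g hg, ?_⟩
  rw [co_map_neg] at hgx
  exact neg_injective hgx

/-- the configuration of the 11178 vectors, for any vector of norm 48 -/
theorem N_conf (u : ↥leechLattice) (hu : sqNorm (u : GolayPt → ℤ) = 48) :
    {x | PhiN u x}.ncard = 11178 ∧
      ∀ x x', PhiN u x → PhiN u x' → ∃ g : ↥Co0, g.1 u = u ∧ g.1 x = x' := by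
  obtain ⟨h, rfl⟩ := mem_orb48 u hu
  refine ⟨(ncard_map act1_isAct PhiN PhiN_inv h u0S).trans N_base_card, ?_⟩
  intro x x' hx hx'
  exact trans_map act1_isAct (fun c x y => PhiN c x ∧ PhiN c y)
    (fun h c x y hxy => ⟨PhiN_inv h c x hxy.1, PhiN_inv h c y hxy.2⟩) u0S
    (fun x y hxy => N_base_trans x y hxy.1 hxy.2) h x x' ⟨hx, hx'⟩

end Cfsg.Agent.Lib.helper93
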