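import Cfsg.Agent.Lib.helper93.Co0Rk5A
import Cfsg.Agent.Lib.helper93.Co0Rk5B
import Cfsg.Agent.Lib.helper93.Co0Rk5C
import Cfsg.Agent.Lib.helper93.Co0Co3

/-!
The joint stabiliser in `Cfsg.Co0` of a vector `u` of norm 48 of `Cfsg.leechLattice` and of a
minimal vector `x` with inner product `-16` with `u` has four orbits, of 352, 1100, 4125 and 5600
vectors, on the other minimal vectors with inner product `-16` with `u`: the orbits are the
classes of the inner product with `x`.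
-/

set_option autoImplicit false
open Cfsg Cfsg.Agent.Lib.helper9

namespace Cfsg.Agent.Lib.helper93

/-! ### the classes on the side of `m0S` -/

/-- the class of the inner product `d` with `m0S` -/
def PR (d : ℤ) (x : GolayPt → ℤ) : Prop :=
  dotInt (u0S : GolayPt → ℤ) x = 16 ∧ dotInt (m0S : GolayPt → ℤ) x = d

/-- the test of the class -/
def qR (s n : ℕ) : Bool := qH n && tD s n

theorem tD_iff (s : ℕ) (x : GolayPt → ℤ) (hn : sqNorm x = 32) :
    tD s (packV x) = true ↔ dotInt (m0S : GolayPt → ℤ) x = 64 - 4 * s := by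
  have hb : ∀ p, -8 ≤ x p ∧ x p ≤ 8 := coord_bound64 x (by rw [hn]; norm_num)
  unfold tD
  rw [nbeq_iff, Nat.add_eq, dot_m0S, dig_packV x hb 7 (by norm_num),
    dig_packV x hb 23 (by norm_num)]
  omega

theorem qR_iff (s : ℕ) (x : GolayPt → ℤ) (hn : sqNorm x = 32) :
    PR (64 - 4 * s) x ↔ qR s (packV x) = true := by
  unfold PR qR
  rw [Bool.and_eq_true, ← qH_iff x hn, tD_iff s x hn]

theorem PR_inv (d : ℤ) (g : ↥Co0) (hg : g ∈ HH) (v : ↥leechLattice)
    (h : PR d (v : GolayPt → ℤ)) : PR d ((g.1 v : ↥leechLattice) : GolayPt → ℤ) := by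
  have h1 := H3_fix g (Subgroup.mem_inf.1 hg).1
  have h2 := stab_apply g m0S (Subgroup.mem_inf.1 hg).2
  exact ⟨by rw [inv_dot g u0S v h1]; exact h.1, by rw [inv_dot g m0S v h2]; exact h.2⟩

theorem R_trans (s : ℕ) (LS : List ℕ) (hLS : (LSi 5).filter (tD s) = LS) (root : ℕ)
    (hdesc : ∀ n ∈ LS, ∃ w, descB actsH 8 root n w = true) (x x' : ↥leechLattice)
    (hx : sqNorm (x : GolayPt → ℤ) = 32 ∧ PR (64 - 4 * s) (x : GolayPt → ℤ))
    (hx' : sqNorm (x' : GolayPt → ℤ) = 32 ∧ PR (64 - 4 * s) (x' : GolayPt → ℤ)) :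
    ∃ g ∈ HH, (g : ↥Co0).1 x = x' :=
  trans_of_table HH actsH actsH_snd (PR (64 - 4 * s)) (qR s) (fun x _ hn => qR_iff s x hn)
    (fun g hg v _ h => PR_inv _ g hg v h) LS
    (fun n hn hq => by
      rw [← hLS]
      unfold qR at hq
      rw [Bool.and_eq_true] at hq
      exact sub_cover 5 qH rfl (tD s) n hn hq.1 hq.2) root 8 hdesc x x' hx hx'

theorem R_card (s : ℕ) (LS : List ℕ) (hLS : (LSi 5).filter (tD s) = LS) (N : ℕ)
    (hN : LS.length = N) :
    {v : ↥leechLattice | sqNorm (v : GolayPt → ℤ) = 32 ∧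
      PR (64 - 4 * s) (v : GolayPt → ℤ)}.ncard = N :=
  ncard_sub_filter (PR (64 - 4 * s)) (qR s) N (fun x _ hn => qR_iff s x hn) (by
    rw [← hN, ← hLS, ← List.countP_eq_length_filter]
    exact sub_count 5 qH rfl (tD s))

/-- the vectors with inner product 16 with `u0S` other than `m0S` belong to the four classes -/
theorem R_all (y : ↥leechLattice) (hn : sqNorm (y : GolayPt → ℤ) = 32)
    (hy : dotInt (u0S : GolayPt → ℤ) (y : GolayPt → ℤ) = 16) :
    y = m0S ∨ dotInt (m0S : GolayPt → ℤ) (y : GolayPt → ℤ) = -8 ∨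
      dotInt (m0S : GolayPt → ℤ) (y : GolayPt → ℤ) = 16 ∨
      dotInt (m0S : GolayPt → ℤ) (y : GolayPt → ℤ) = 0 ∨
      dotInt (m0S : GolayPt → ℤ) (y : GolayPt → ℤ) = 8 := by
  have hmem : packV (y : GolayPt → ℤ) ∈ LSi 5 :=
    tag_cover 5 qH rfl _ (mem_EL _ y.2 hn) ((qH_iff _ hn).1 hy)
  have h := List.all_eq_true.1 LR_all _ hmem
  simp only [Bool.or_eq_true] at h
  rcases h with (((h | h) | h) | h) | h
  · left
    have hb := coord_bound64 (y : GolayPt → ℤ) (by rw [hn]; norm_num)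
    have e := (packV_ne (y : GolayPt → ℤ) hb nM0 nM0_lt).2 (Nat.eq_of_beq_eq_true h)
    exact Subtype.ext (e.trans m0S_val.symm)
  · right; left
    have := (tD_iff 18 _ hn).1 h
    rw [this]; norm_num
  · right; right; left
    have := (tD_iff 12 _ hn).1 h
    rw [this]; norm_num
  · right; right; right; left
    have := (tD_iff 16 _ hn).1 h
    rw [this]; norm_num
  · right; right; right; right
    have := (tD_iff 14 _ hn).1 h
    rw [this]; norm_num

/-! ### the classes on the side of `-m0S` -/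

/-- the base pair -/
def cN : ↥leechLattice × ↥leechLattice := (u0S, -m0S)

/-- the class of the inner product `d` with the second vector of a pair -/
def ClsN (d : ℤ) (c : ↥leechLattice × ↥leechLattice) (y : ↥leechLattice) : Prop :=
  sqNorm (y : GolayPt → ℤ) = 32 ∧ dotInt (c.1 : GolayPt → ℤ) (y : GolayPt → ℤ) = -16 ∧
    dotInt (c.2 : GolayPt → ℤ) (y : GolayPt → ℤ) = d

theorem ClsN_inv (d : ℤ) (h : ↥Co0) (c : ↥leechLattice × ↥leechLattice) (y : ↥leechLattice)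
    (hy : ClsN d c y) : ClsN d (act2 h c) (h.1 y) := by
  obtain ⟨h1, h2, h3⟩ := hy
  exact ⟨by rw [co_norm]; exact h1,
    by show dotInt ((h.1 c.1 : ↥leechLattice) : GolayPt → ℤ) _ = -16; rw [co_dot]; exact h2,
    by show dotInt ((h.1 c.2 : ↥leechLattice) : GolayPt → ℤ) _ = d; rw [co_dot]; exact h3⟩

theorem dot_neg_left (a b : GolayPt → ℤ) : dotInt (-a) b = -dotInt a b := by
  rw [dot_comm_eq, dot_neg_right, dot_comm_eq]

theorem ClsN_neg (d : ℤ) (y : ↥leechLattice) : ClsN d cN y ↔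
    sqNorm ((-y : ↥leechLattice) : GolayPt → ℤ) = 32 ∧
      PR d ((-y : ↥leechLattice) : GolayPt → ℤ) := by
  unfold ClsN PR cN
  rw [AddSubgroup.coe_neg, AddSubgroup.coe_neg, sqNorm_neg', dot_neg_right, dot_neg_right,
    dot_neg_left]
  constructor
  · rintro ⟨h1, h2, h3⟩
    exact ⟨h1, by rw [h2]; norm_num, h3⟩
  · rintro ⟨h1, h2, h3⟩
    exact ⟨h1, by linarith, h3⟩

theorem cN_fix (g : ↥Co0) (hg : g ∈ HH) : act2 g cN = cN := by
  have h1 := H3_fix g (Subgroup.mem_inf.1 hg).1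
  have h2 := stab_apply g m0S (Subgroup.mem_inf.1 hg).2
  show (g.1 u0S, g.1 (-m0S)) = (u0S, -m0S)
  rw [h1, co_map_neg, h2]

theorem ClsN_base_trans (s : ℕ) (LS : List ℕ) (hLS : (LSi 5).filter (tD s) = LS) (root : ℕ)
    (hdesc : ∀ n ∈ LS, ∃ w, descB actsH 8 root n w = true) (y y' : ↥leechLattice)
    (hy : ClsN (64 - 4 * s) cN y) (hy' : ClsN (64 - 4 * s) cN y') :
    ∃ g : ↥Co0, act2 g cN = cN ∧ g.1 y = y' := by
  obtain ⟨g, hg, hgx⟩ := R_trans s LS hLS root hdesc (-y) (-y') ((ClsN_neg _ y).1 hy)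
    ((ClsN_neg _ y').1 hy')
  refine ⟨g, cN_fix g hg, ?_⟩
  rw [co_map_neg] at hgx
  exact neg_injective hgx

theorem ClsN_base_card (s : ℕ) (LS : List ℕ) (hLS : (LSi 5).filter (tD s) = LS) (N : ℕ)
    (hN : LS.length = N) : {y | ClsN (64 - 4 * s) cN y}.ncard = N := by
  have h := R_card s LS hLS N hN
  rw [← h, ← Set.ncard_image_of_injective _ (neg_injective (G := ↥leechLattice))]
  congr 1
  ext x
  constructor
  · rintro ⟨y, hy, rfl⟩
    exact (ClsN_neg _ y).1 hy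
  · intro hx
    refine ⟨-x, (ClsN_neg _ (-x)).2 ?_, neg_neg x⟩
    rw [neg_neg]
    exact hx

theorem ClsN_base_all (y : ↥leechLattice) (hy : PhiN u0S y) :
    y = -m0S ∨ ClsN (-8) cN y ∨ ClsN 16 cN y ∨ ClsN 0 cN y ∨ ClsN 8 cN y := by
  obtain ⟨h1, h2⟩ := (PhiN_neg y).1 hy
  have hm : ∀ d : ℤ, dotInt (m0S : GolayPt → ℤ) ((-y : ↥leechLattice) : GolayPt → ℤ) = d →
      ClsN d cN y := fun d hd => (ClsN_neg d y).2 ⟨h1, h2, hd⟩
  rcases R_all (-y) h1 h2 with h | h | h | h | h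
  · left
    rw [← h, neg_neg]
  · exact Or.inr (Or.inl (hm _ h))
  · exact Or.inr (Or.inr (Or.inl (hm _ h)))
  · exact Or.inr (Or.inr (Or.inr (Or.inl (hm _ h))))
  · exact Or.inr (Or.inr (Or.inr (Or.inr (hm _ h))))

/-! ### any pair -/

theorem cN_PhiN : PhiN u0S (-m0S) := by
  rw [PhiN_neg, neg_neg]
  exact ⟨m0S_norm, m0S_H⟩

/-- every pair is the image of the base pair -/
theorem pairN_to_base (u x : ↥leechLattice) (hu : sqNorm (u : GolayPt → ℤ) = 48)
    (hx : PhiN u x) : ∃ h : ↥Co0, act2 h cN = (u, x) := by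
  obtain ⟨h1, rfl⟩ := mem_orb48 u hu
  have hx' : PhiN u0S ((h1⁻¹ : ↥Co0).1 x) := by
    have := PhiN_inv h1⁻¹ _ x hx
    have e : act1 h1⁻¹ (h1.1 u0S) = u0S := co_inv_apply h1 u0S
    rw [e] at this
    exact this
  obtain ⟨g, hg, hgx⟩ := N_base_trans (-m0S) _ cN_PhiN hx'
  have hg' : g.1 u0S = u0S := hg
  refine ⟨h1 * g, ?_⟩
  show ((h1 * g).1 u0S, (h1 * g).1 (-m0S)) = (h1.1 u0S, x)
  rw [co_mul_apply, co_mul_apply, hg', hgx, co_apply_inv]

/-- the orbit of a vector under the joint stabiliser of two vectors is a set on which the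
stabiliser is transitive -/
theorem orbit_eq_class (u x y : ↥leechLattice) (C : Set ↥leechLattice) (hy : y ∈ C)
    (hinv : ∀ g : ↥Co0, g.1 u = u → g.1 x = x → ∀ z ∈ C, g.1 z ∈ C)
    (htr : ∀ z ∈ C, ∃ g : ↥Co0, g.1 u = u ∧ g.1 x = x ∧ g.1 y = z) :
    MulAction.orbit ↥(MulAction.stabilizer ↥Co0 u ⊓ MulAction.stabilizer ↥Co0 x) y = C := by
  ext z
  constructor
  · rintro ⟨⟨g, hg⟩, rfl⟩
    obtain ⟨h1, h2⟩ := Subgroup.mem_inf.1 hg
    exact hinv g (stab_apply g u h1) (stab_apply g x h2) y hy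
  · intro hz
    obtain ⟨g, h1, h2, h3⟩ := htr z hz
    exact ⟨⟨g, Subgroup.mem_inf.2 ⟨MulAction.mem_stabilizer_iff.2 h1,
      MulAction.mem_stabilizer_iff.2 h2⟩⟩, h3⟩

/-- a class of a pair is an orbit of the stabiliser of the pair, of the size of the class of the
base pair -/
theorem class_orbit (s : ℕ) (LS : List ℕ) (hLS : (LSi 5).filter (tD s) = LS) (root : ℕ)
    (hdesc : ∀ n ∈ LS, ∃ w, descB actsH 8 root n w = true) (N : ℕ) (hN : LS.length = N)
    (hN0 : N ≠ 0) (h : ↥Co0) :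
    ∃ y, ClsN (64 - 4 * s) (act2 h cN) y ∧
      MulAction.orbit ↥(MulAction.stabilizer ↥Co0 (act2 h cN).1 ⊓
        MulAction.stabilizer ↥Co0 (act2 h cN).2) y = {z | ClsN (64 - 4 * s) (act2 h cN) z} ∧
      {z | ClsN (64 - 4 * s) (act2 h cN) z}.ncard = N := by
  have hc : {z | ClsN (64 - 4 * s) (act2 h cN) z}.ncard = N :=
    (ncard_map act2_isAct (ClsN (64 - 4 * s)) (ClsN_inv _) h cN).trans
      (ClsN_base_card s LS hLS N hN)
  obtain ⟨y, hy⟩ := Set.nonempty_of_ncard_ne_zero (by rw [hc]; exact hN0)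
  refine ⟨y, hy, ?_, hc⟩
  apply orbit_eq_class _ _ y _ hy
  · intro g h1 h2 z hz
    have := ClsN_inv (64 - 4 * s) g _ z hz
    have e : act2 g (act2 h cN) = act2 h cN := Prod.ext h1 h2
    rw [e] at this
    exact this
  · intro z hz
    obtain ⟨g, hg, hgy⟩ := trans_map act2_isAct
      (fun c y y' => ClsN (64 - 4 * s) c y ∧ ClsN (64 - 4 * s) c y')
      (fun h c y y' hyy => ⟨ClsN_inv _ h c y hyy.1, ClsN_inv _ h c y' hyy.2⟩) cN
      (fun y y' hyy => ClsN_base_trans s LS hLS root hdesc y y' hyy.1 hyy.2) h y z ⟨hy, hz⟩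
    exact ⟨g, congrArg Prod.fst hg, congrArg Prod.snd hg, hgy⟩

theorem ClsN_all (h : ↥Co0) (y : ↥leechLattice) (hy : PhiN (act2 h cN).1 y) :
    y = (act2 h cN).2 ∨ ClsN (-8) (act2 h cN) y ∨ ClsN 16 (act2 h cN) y ∨
      ClsN 0 (act2 h cN) y ∨ ClsN 8 (act2 h cN) y := by
  have hy' : PhiN u0S ((h⁻¹ : ↥Co0).1 y) := by
    have := PhiN_inv h⁻¹ _ y hy
    have e : act1 h⁻¹ (act2 h cN).1 = u0S := co_inv_apply h u0S
    rw [e] at this
    exact this
  have hb : ∀ d : ℤ, ClsN d cN ((h⁻¹ : ↥Co0).1 y) → ClsN d (act2 h cN) y := by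
    intro d hd
    have := ClsN_inv d h cN _ hd
    rw [co_apply_inv] at this
    exact this
  rcases ClsN_base_all _ hy' with h0 | h0 | h0 | h0 | h0
  · left
    have := congrArg h.1 h0
    rw [co_apply_inv] at this
    exact this
  · exact Or.inr (Or.inl (hb _ h0))
  · exact Or.inr (Or.inr (Or.inl (hb _ h0)))
  · exact Or.inr (Or.inr (Or.inr (Or.inl (hb _ h0))))
  · exact Or.inr (Or.inr (Or.inr (Or.inr (hb _ h0))))

/-- the orbits of the joint stabiliser of `u` and `x` on the minimal vectors with inner product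
`-16` with `u` -/
theorem rank5 (u x : ↥leechLattice) (hu : sqNorm (u : GolayPt → ℤ) = 48) (hx : PhiN u x) :
    ∃ y₁ y₂ y₃ y₄ : ↥leechLattice, PhiN u y₁ ∧ PhiN u y₂ ∧ PhiN u y₃ ∧ PhiN u y₄ ∧
      (MulAction.orbit ↥(MulAction.stabilizer ↥Co0 u ⊓ MulAction.stabilizer ↥Co0 x) y₁).ncard
        = 352 ∧
      (MulAction.orbit ↥(MulAction.stabilizer ↥Co0 u ⊓ MulAction.stabilizer ↥Co0 x) y₂).ncard
        = 1100 ∧
      (MulAction.orbit ↥(MulAction.stabilizer ↥Co0 u ⊓ MulAction.stabilizer ↥Co0 x) y₃).ncard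
        = 4125 ∧
      (MulAction.orbit ↥(MulAction.stabilizer ↥Co0 u ⊓ MulAction.stabilizer ↥Co0 x) y₄).ncard
        = 5600 ∧
      {z | PhiN u z} = {x} ∪
        MulAction.orbit ↥(MulAction.stabilizer ↥Co0 u ⊓ MulAction.stabilizer ↥Co0 x) y₁ ∪
        MulAction.orbit ↥(MulAction.stabilizer ↥Co0 u ⊓ MulAction.stabilizer ↥Co0 x) y₂ ∪
        MulAction.orbit ↥(MulAction.stabilizer ↥Co0 u ⊓ MulAction.stabilizer ↥Co0 x) y₃ ∪
        MulAction.orbit ↥(MulAction.stabilizer ↥Co0 u ⊓ MulAction.stabilizer ↥Co0 x) y₄ := by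
  obtain ⟨h, hh⟩ := pairN_to_base u x hu hx
  obtain ⟨y₁, c1, o1, n1⟩ := class_orbit 18 LRa LRa_eq _ LSRa_desc' 352 LRa_len (by norm_num) h
  obtain ⟨y₂, c2, o2, n2⟩ := class_orbit 12 LRb LRb_eq _ LSRb_desc' 1100 LRb_len (by norm_num) h
  obtain ⟨y₃, c3, o3, n3⟩ := class_orbit 16 LRc LRc_eq _ LSRc_desc' 4125 LRc_len (by norm_num) h
  obtain ⟨y₄, c4, o4, n4⟩ := class_orbit 14 LRd LRd_eq _ LSRd_desc' 5600 LRd_len (by norm_num) h
  have hall := ClsN_all h
  rw [hh] at c1 o1 n1 c2 o2 n2 c3 o3 n3 c4 o4 n4 hall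
  have hP : ∀ (d : ℤ) (z : ↥leechLattice), ClsN d (u, x) z → PhiN u z := fun d z hz => ⟨hz.1, hz.2.1⟩
  refine ⟨y₁, y₂, y₃, y₄, hP _ _ c1, hP _ _ c2, hP _ _ c3, hP _ _ c4, ?_, ?_, ?_, ?_, ?_⟩
  · rw [o1]; exact n1
  · rw [o2]; exact n2
  · rw [o3]; exact n3
  · rw [o4]; exact n4
  · rw [o1, o2, o3, o4]
    ext z
    simp only [Set.mem_union, Set.mem_singleton_iff, Set.mem_ofPred_eq]
    constructor
    · intro hz
      rcases hall z hz with h0 | h0 | h0 | h0 | h0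
      · exact Or.inl (Or.inl (Or.inl (Or.inl h0)))
      · exact Or.inl (Or.inl (Or.inl (Or.inr h0)))
      · exact Or.inl (Or.inl (Or.inr h0))
      · exact Or.inl (Or.inr h0)
      · exact Or.inr h0
    · rintro ((((h0 | h0) | h0) | h0) | h0)
      · rw [h0]; exact hx
      · exact hP _ _ h0
      · exact hP _ _ h0
      · exact hP _ _ h0
      · exact hP _ _ h0

end Cfsg.Agent.Lib.helper93
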