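/-
Basic facts about `Cfsg.leechLattice` and `Cfsg.Co0` that need no knowledge of the Golay code:
the vectors `8 e_p` lie in the lattice, elements of `Co0` are ℤ-linear and preserve `dotInt`, and an
element of `Co0` is determined by its values on the vectors `8 e_p` ("integer matrix" `cf`).
-/
import Mathlib
import Cfsg.Prelude.Def_Sporadic_a
import Cfsg.Prelude.Def_Spor_Conway

set_option autoImplicit false

namespace Cfsg.Agent.Lib.helper93

open Cfsg

/-- the vector `8 e_p` -/
def eightE (p : GolayPt) : GolayPt → ℤ := fun q => if q = p then 8 else 0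

theorem eightE_mem_leechSet (p : GolayPt) : eightE p ∈ leechSet := by
  refine Spor.mem_leechSet_of_const_mod_four (eightE p) 0 0 (by decide) ?_ ?_
  · intro i
    unfold eightE
    split_ifs <;> decide
  · unfold eightE
    rw [Finset.sum_ite_eq' Finset.univ p (fun _ => (8 : ℤ))]
    simp only [Finset.mem_univ, if_true]
    decide

/-- `8 e_p` as an element of the lattice -/
def E (p : GolayPt) : leechLattice := ⟨eightE p, AddSubgroup.subset_closure (eightE_mem_leechSet p)⟩

theorem E_apply (p q : GolayPt) : (E p : GolayPt → ℤ) q = if q = p then 8 else 0 := rfl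

/-- an element of `Co0` as an additive hom -/
def coAdd (f : Equiv.Perm leechLattice) (hf : f ∈ Co0) : leechLattice →+ leechLattice where
  toFun := f
  map_zero' := by
    have h := hf.1 0 0
    rw [add_zero] at h
    have : f 0 + 0 = f 0 + f 0 := by rw [add_zero]; exact h
    exact (add_left_cancel this).symm
  map_add' := hf.1

theorem coAdd_apply (f : Equiv.Perm leechLattice) (hf : f ∈ Co0) (v : leechLattice) :
    coAdd f hf v = f v := rfl

/-- `8 v = ∑ v_q (8 e_q)` inside the lattice -/
theorem eight_smul_eq_sum (v : leechLattice) :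
    (8 : ℤ) • v = ∑ q : GolayPt, ((v : GolayPt → ℤ) q) • E q := by
  apply Subtype.ext
  funext p
  rw [AddSubgroup.coe_zsmul, AddSubgroup.val_finsetSum, Finset.sum_apply]
  simp only [Pi.smul_apply, AddSubgroup.coe_zsmul, E_apply, smul_eq_mul, mul_ite, mul_zero]
  rw [Finset.sum_ite_eq Finset.univ p (fun q => (v : GolayPt → ℤ) q * 8)]
  simp only [Finset.mem_univ, if_true]
  ring

/-- the integer matrix of `f` with respect to the vectors `8 e_q` -/
def cf (f : Equiv.Perm leechLattice) (p q : GolayPt) : ℤ := ((f (E q) : leechLattice) : GolayPt → ℤ) p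

/-- key identity: `8 (f v)_p = ∑_q v_q (f (8 e_q))_p` -/
theorem eight_mul_apply (f : Equiv.Perm leechLattice) (hf : f ∈ Co0) (v : leechLattice) (p : GolayPt) :
    8 * ((f v : leechLattice) : GolayPt → ℤ) p = ∑ q : GolayPt, ((v : GolayPt → ℤ) q) * cf f p q := by
  have h1 : (8 : ℤ) • coAdd f hf v = ∑ q : GolayPt, ((v : GolayPt → ℤ) q) • coAdd f hf (E q) := by
    rw [← map_zsmul, eight_smul_eq_sum v, map_sum]
    simp only [map_zsmul]
  have h2 := congrArg (fun w : leechLattice => (w : GolayPt → ℤ) p) h1
  simp only [AddSubgroup.coe_zsmul, AddSubgroup.val_finsetSum, Finset.sum_apply, Pi.smul_apply,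
    smul_eq_mul, coAdd_apply] at h2
  exact h2

theorem sqNorm_add {α : Type*} [Fintype α] (x y : α → ℤ) :
    sqNorm (x + y) = sqNorm x + sqNorm y + 2 * dotInt x y := by
  unfold sqNorm dotInt
  rw [Finset.mul_sum, ← Finset.sum_add_distrib, ← Finset.sum_add_distrib]
  apply Finset.sum_congr rfl
  intro i _
  simp only [Pi.add_apply]
  ring

/-- elements of `Co0` preserve the integer dot product -/
theorem dotInt_map (f : Equiv.Perm leechLattice) (hf : f ∈ Co0) (v w : leechLattice) :
    dotInt ((f v : leechLattice) : GolayPt → ℤ) ((f w : leechLattice) : GolayPt → ℤ)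
      = dotInt (v : GolayPt → ℤ) (w : GolayPt → ℤ) := by
  have h1 := hf.2 (v + w)
  rw [hf.1 v w] at h1
  rw [AddSubgroup.coe_add, AddSubgroup.coe_add, sqNorm_add, sqNorm_add, hf.2 v, hf.2 w] at h1
  linarith

theorem dotInt_E (p q : GolayPt) :
    dotInt (E p : GolayPt → ℤ) (E q : GolayPt → ℤ) = if p = q then 64 else 0 := by
  unfold dotInt
  simp only [E_apply, ite_mul, zero_mul, mul_ite, mul_zero]
  rw [Finset.sum_ite_eq' Finset.univ q]
  simp only [Finset.mem_univ, if_true]
  by_cases hpq : p = q
  · rw [if_pos hpq, if_pos hpq.symm]; rfl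
  · rw [if_neg hpq, if_neg (Ne.symm hpq)]

theorem sqNorm_E (p : GolayPt) : sqNorm (E p : GolayPt → ℤ) = 64 := by
  have h := dotInt_E p p
  simp only [if_true] at h
  unfold sqNorm
  unfold dotInt at h
  rw [← h]
  apply Finset.sum_congr rfl
  intro i _
  ring

/-- an element of `Co0` fixing all `8 e_q` is the identity -/
theorem eq_one_of_fix_E (f : Equiv.Perm leechLattice) (hf : f ∈ Co0) (h : ∀ q, f (E q) = E q) :
    f = 1 := by
  apply Equiv.ext
  intro v
  apply Subtype.ext
  funext p
  have h1 := eight_mul_apply f hf v p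
  have h2 : ∑ q : GolayPt, ((v : GolayPt → ℤ) q) * cf f p q = 8 * (v : GolayPt → ℤ) p := by
    unfold cf
    simp only [h, E_apply, mul_ite, mul_zero]
    rw [Finset.sum_ite_eq Finset.univ p (fun q => (v : GolayPt → ℤ) q * 8)]
    simp only [Finset.mem_univ, if_true]
    ring
  rw [h2] at h1
  simp only [Equiv.Perm.coe_one, id_eq]
  linarith

end Cfsg.Agent.Lib.helper93
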