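/-
Explicit elements of the automorphism group `Co0` of the Leech lattice: coordinate permutations
from `M24`, sign changes on the supports of code words, negation; and the centre of `Co0`.
-/
import Mathlib
import Cfsg.Prelude.Def_Sporadic_a
import Cfsg.Prelude.Def_Spor_Conway
import Cfsg.Agent.Lib.helper93.LeechBasic
import Cfsg.Agent.Lib.helper9.M24Chain
import Cfsg.Agent.Lib.helper9.GolayWords
import Cfsg.Agent.S0432
import Cfsg.Agent.S0433

set_option autoImplicit false

namespace Cfsg.Agent.Lib.helper93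

open Cfsg
open Cfsg.Agent.Lib.helper9

/-- an additive bijection of the integer vectors that preserves the lattice (together with its
inverse) and the squared length, as an element of `Co0` -/
def mkCo0 (F G : (GolayPt → ℤ) →+ (GolayPt → ℤ))
    (hF : ∀ x ∈ leechLattice, F x ∈ leechLattice) (hG : ∀ x ∈ leechLattice, G x ∈ leechLattice)
    (hFG : ∀ x, F (G x) = x) (hGF : ∀ x, G (F x) = x) (hn : ∀ x, sqNorm (F x) = sqNorm x) :
    ↥Co0 :=
  ⟨{ toFun := fun v => ⟨F v.1, hF v.1 v.2⟩
     invFun := fun v => ⟨G v.1, hG v.1 v.2⟩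
     left_inv := fun v => Subtype.ext (hGF v.1)
     right_inv := fun v => Subtype.ext (hFG v.1) },
   fun v w => Subtype.ext (map_add F v.1 w.1), fun v => hn v.1⟩

theorem mkCo0_apply (F G : (GolayPt → ℤ) →+ (GolayPt → ℤ))
    (hF : ∀ x ∈ leechLattice, F x ∈ leechLattice) (hG : ∀ x ∈ leechLattice, G x ∈ leechLattice)
    (hFG : ∀ x, F (G x) = x) (hGF : ∀ x, G (F x) = x) (hn : ∀ x, sqNorm (F x) = sqNorm x)
    (v : ↥leechLattice) :
    (((mkCo0 F G hF hG hFG hGF hn).1 v : ↥leechLattice) : GolayPt → ℤ) = F v.1 := rfl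

/-! ### coordinate permutations -/

/-- coordinate permutation of integer vectors: the coordinate `i` moves to `σ i` -/
def permZ (σ : Equiv.Perm GolayPt) : (GolayPt → ℤ) →+ (GolayPt → ℤ) where
  toFun x := fun i => x (σ.symm i)
  map_zero' := rfl
  map_add' _ _ := rfl

theorem permZ_apply (σ : Equiv.Perm GolayPt) (x : GolayPt → ℤ) (i : GolayPt) :
    permZ σ x i = x (σ.symm i) := rfl

theorem permZ_mem (σ : Equiv.Perm GolayPt) (hσ : σ ∈ M24) (x : GolayPt → ℤ)
    (hx : x ∈ leechLattice) : permZ σ x ∈ leechLattice :=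
  Cfsg.Agent.S0432.result σ⁻¹ (inv_mem hσ) x hx

theorem sqNorm_permZ (σ : Equiv.Perm GolayPt) (x : GolayPt → ℤ) :
    sqNorm (permZ σ x) = sqNorm x := by
  unfold sqNorm
  exact Equiv.sum_comp σ.symm (fun i => x i ^ 2)

theorem permZ_inv_permZ (σ : Equiv.Perm GolayPt) (x : GolayPt → ℤ) :
    permZ σ⁻¹ (permZ σ x) = x := by
  funext i
  show x (σ.symm (σ⁻¹.symm i)) = x i
  congr 1
  exact σ.symm_apply_apply i

theorem permZ_permZ_inv (σ : Equiv.Perm GolayPt) (x : GolayPt → ℤ) :
    permZ σ (permZ σ⁻¹ x) = x := by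
  funext i
  show x (σ⁻¹.symm (σ.symm i)) = x i
  congr 1
  exact σ.apply_symm_apply i

/-- the coordinate permutation of `σ ∈ M24` as an element of `Co0` -/
def permCo (σ : Equiv.Perm GolayPt) (hσ : σ ∈ M24) : ↥Co0 :=
  mkCo0 (permZ σ) (permZ σ⁻¹) (permZ_mem σ hσ) (permZ_mem σ⁻¹ (inv_mem hσ))
    (permZ_permZ_inv σ) (permZ_inv_permZ σ) (sqNorm_permZ σ)

theorem permCo_apply (σ : Equiv.Perm GolayPt) (hσ : σ ∈ M24) (v : ↥leechLattice) :
    (((permCo σ hσ).1 v : ↥leechLattice) : GolayPt → ℤ) = permZ σ v.1 := rfl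

theorem permZ_eightE (σ : Equiv.Perm GolayPt) (q : GolayPt) :
    permZ σ (eightE q) = eightE (σ q) := by
  funext i
  unfold eightE
  rw [permZ_apply]
  by_cases h : i = σ q
  · rw [if_pos h, if_pos (by rw [h]; exact σ.symm_apply_apply q)]
  · rw [if_neg h, if_neg (fun h' => h (by rw [← h']; exact (σ.apply_symm_apply i).symm))]

theorem permCo_E (σ : Equiv.Perm GolayPt) (hσ : σ ∈ M24) (q : GolayPt) :
    (permCo σ hσ).1 (E q) = E (σ q) :=
  Subtype.ext (permZ_eightE σ q)

/-! ### sign changes -/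

/-- sign change on a set of coordinates -/
def signZ (s : Finset GolayPt) : (GolayPt → ℤ) →+ (GolayPt → ℤ) where
  toFun x := fun i => if i ∈ s then -x i else x i
  map_zero' := by
    funext i
    simp
  map_add' x y := by
    funext i
    simp only [Pi.add_apply]
    split_ifs <;> ring

theorem signZ_apply (s : Finset GolayPt) (x : GolayPt → ℤ) (i : GolayPt) :
    signZ s x i = if i ∈ s then -x i else x i := rfl

theorem signZ_mem (s : Finset GolayPt)
    (hs : s ∈ supports (golayCode : Set (GolayPt → ZMod 2))) (x : GolayPt → ℤ)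
    (hx : x ∈ leechLattice) : signZ s x ∈ leechLattice :=
  Cfsg.Agent.S0433.result s hs x hx

theorem sqNorm_signZ (s : Finset GolayPt) (x : GolayPt → ℤ) : sqNorm (signZ s x) = sqNorm x := by
  unfold sqNorm
  refine Finset.sum_congr rfl fun i _ => ?_
  rw [signZ_apply]
  split_ifs <;> ring

theorem signZ_signZ (s : Finset GolayPt) (x : GolayPt → ℤ) : signZ s (signZ s x) = x := by
  funext i
  rw [signZ_apply, signZ_apply]
  split_ifs <;> ring

/-- the sign change on the support of a code word as an element of `Co0` -/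
def signCo (s : Finset GolayPt) (hs : s ∈ supports (golayCode : Set (GolayPt → ZMod 2))) : ↥Co0 :=
  mkCo0 (signZ s) (signZ s) (signZ_mem s hs) (signZ_mem s hs) (signZ_signZ s) (signZ_signZ s)
    (sqNorm_signZ s)

theorem signCo_apply (s : Finset GolayPt)
    (hs : s ∈ supports (golayCode : Set (GolayPt → ZMod 2))) (v : ↥leechLattice) :
    (((signCo s hs).1 v : ↥leechLattice) : GolayPt → ℤ) = signZ s v.1 := rfl

/-- negation as an element of `Co0` -/
def negCo : ↥Co0 := signCo Finset.univ Spor.univ_mem_supports_golayCode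

theorem negCo_apply (v : ↥leechLattice) : negCo.1 v = -v := by
  apply Subtype.ext
  funext i
  show signZ Finset.univ v.1 i = -(v.1 i)
  rw [signZ_apply, if_pos (Finset.mem_univ i)]

/-! ### elements of `Co0` are additive -/

theorem co_map_neg (f : ↥Co0) (v : ↥leechLattice) : f.1 (-v) = -f.1 v :=
  map_neg (coAdd f.1 f.2) v

theorem co_mul_apply (f g : ↥Co0) (v : ↥leechLattice) : (f * g).1 v = f.1 (g.1 v) := rfl

theorem co_ext (f g : ↥Co0) (h : ∀ q, f.1 (E q) = g.1 (E q)) : f = g := by
  have h1 : (g⁻¹ * f).1 = 1 := by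
    apply eq_one_of_fix_E _ (g⁻¹ * f).2
    intro q
    rw [co_mul_apply, h q]
    exact g.1.symm_apply_apply (E q)
  have h2 : g⁻¹ * f = 1 := Subtype.ext h1
  exact (inv_mul_eq_one.1 h2).symm

/-! ### the centre -/

theorem sep_chk : ∀ i < 24, ∀ j < 24, i ≠ j → ∃ b ∈ gB, b.testBit i = true ∧ b.testBit j = false ∨
    b.testBit i = false ∧ b.testBit j = true := by
  decide +kernel

theorem gB_sub_cwList : ∀ b ∈ gB, b ∈ cwList := by decide +kernel

/-- two distinct points are separated by the support of a code word -/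
theorem exists_sep (p q : GolayPt) (hpq : p ≠ q) :
    ∃ s ∈ supports (golayCode : Set (GolayPt → ZMod 2)), (p ∈ s ∧ q ∉ s) ∨ (p ∉ s ∧ q ∈ s) := by
  have hne : idx p ≠ idx q := fun h => hpq (idx_injective h)
  obtain ⟨b, hb, h⟩ := sep_chk (idx p) (idx_lt p) (idx q) (idx_lt q) hne
  refine ⟨decSet b, (mem_supports_golay_iff _).2 ⟨b, gB_sub_cwList b hb, rfl⟩, ?_⟩
  rw [mem_decSet, mem_decSet]
  rcases h with ⟨h1, h2⟩ | ⟨h1, h2⟩
  · left; exact ⟨h1, by rw [h2]; decide⟩
  · right; exact ⟨by rw [h1]; decide, h2⟩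

/-- a central element has a diagonal matrix -/
theorem cf_center_offdiag (f : ↥Co0) (hf : f ∈ Subgroup.center ↥Co0) (p q : GolayPt)
    (hpq : p ≠ q) : cf f.1 p q = 0 := by
  obtain ⟨s, hs, h⟩ := exists_sep p q hpq
  have hcomm : (signCo s hs * f).1 (E q) = (f * signCo s hs).1 (E q) := by
    rw [Subgroup.mem_center_iff.1 hf (signCo s hs)]
  rw [co_mul_apply, co_mul_apply] at hcomm
  have h1 := congrArg (fun w : ↥leechLattice => (w : GolayPt → ℤ) p) hcomm
  simp only [signCo_apply, signZ_apply] at h1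
  unfold cf
  rcases h with ⟨hp, hq⟩ | ⟨hp, hq⟩
  · have hE : (signCo s hs).1 (E q) = E q := by
      apply Subtype.ext
      funext i
      rw [signCo_apply, signZ_apply]
      by_cases hi : i ∈ s
      · have hiq : i ≠ q := fun h' => hq (by rw [← h']; exact hi)
        rw [if_pos hi, E_apply, if_neg hiq]; rfl
      · rw [if_neg hi]
    rw [hE, if_pos hp] at h1
    omega
  · have hE : (signCo s hs).1 (E q) = -E q := by
      apply Subtype.ext
      funext i
      rw [signCo_apply, signZ_apply]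
      by_cases hi : i ∈ s
      · rw [if_pos hi]; rfl
      · have hiq : i ≠ q := fun h' => hi (by rw [h']; exact hq)
        rw [if_neg hi, E_apply, if_neg hiq]
        show (0 : ℤ) = -((E q : GolayPt → ℤ) i)
        rw [E_apply, if_neg hiq]; rfl
    rw [hE, co_map_neg, if_neg hp] at h1
    have h2 : ((-f.1 (E q) : ↥leechLattice) : GolayPt → ℤ) p
        = -((f.1 (E q) : ↥leechLattice) : GolayPt → ℤ) p := rfl
    rw [h2] at h1
    omega

theorem center_E (f : ↥Co0) (hf : f ∈ Subgroup.center ↥Co0) (q : GolayPt) :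
    f.1 (E q) = E q ∨ f.1 (E q) = -E q := by
  have hn : sqNorm ((f.1 (E q) : ↥leechLattice) : GolayPt → ℤ) = 64 := by
    rw [f.2.2, sqNorm_E]
  have hoff : ∀ p, p ≠ q → ((f.1 (E q) : ↥leechLattice) : GolayPt → ℤ) p = 0 :=
    fun p hp => cf_center_offdiag f hf p q hp
  unfold sqNorm at hn
  rw [Finset.sum_eq_single q (fun p _ hp => by rw [hoff p hp]; rfl)
    (fun h => absurd (Finset.mem_univ q) h)] at hn
  have h8 : ((f.1 (E q) : ↥leechLattice) : GolayPt → ℤ) q = 8 ∨
      ((f.1 (E q) : ↥leechLattice) : GolayPt → ℤ) q = -8 := by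
    have h' : (((f.1 (E q) : ↥leechLattice) : GolayPt → ℤ) q - 8) *
        (((f.1 (E q) : ↥leechLattice) : GolayPt → ℤ) q + 8) = 0 := by nlinarith
    rcases mul_eq_zero.1 h' with h | h
    · left; omega
    · right; omega
  rcases h8 with h | h
  · left
    apply Subtype.ext
    funext p
    by_cases hp : p = q
    · rw [hp, h, E_apply, if_pos rfl]
    · rw [hoff p hp, E_apply, if_neg hp]
  · right
    apply Subtype.ext
    funext p
    show _ = -((E q : GolayPt → ℤ) p)
    by_cases hp : p = q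
    · rw [hp, h, E_apply, if_pos rfl]
    · rw [hoff p hp, E_apply, if_neg hp]; rfl

theorem orb0_chk : ∀ p : GolayPt, idx p ∈ orbL.getD 0 [] := by decide +kernel

/-- `M24` is transitive on the points -/
theorem exists_m24_map (q : GolayPt) : ∃ σ ∈ M24, σ (bp 0) = q := by
  obtain ⟨t, ht, -, h⟩ := trans_exists 0 (idx q) (by norm_num) (orb0_chk q)
  exact ⟨t, genGroup_le_M24 ht, by rw [h, pt_idx]⟩

theorem neg_E_ne (q : GolayPt) : -E q ≠ E q := by
  intro h
  have h1 := congrArg (fun w : ↥leechLattice => (w : GolayPt → ℤ) q) h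
  have h2 : ((-E q : ↥leechLattice) : GolayPt → ℤ) q = -((E q : GolayPt → ℤ) q) := rfl
  simp only [h2, E_apply, if_true] at h1
  omega

theorem center_eq (f : ↥Co0) (hf : f ∈ Subgroup.center ↥Co0) : f = 1 ∨ f = negCo := by
  have key : ∀ q, ∀ σ (hσ : σ ∈ M24), f.1 (E (σ q)) = (permCo σ hσ).1 (f.1 (E q)) := by
    intro q σ hσ
    have hcomm : (permCo σ hσ * f).1 (E q) = (f * permCo σ hσ).1 (E q) := by
      rw [Subgroup.mem_center_iff.1 hf (permCo σ hσ)]
    rw [co_mul_apply, co_mul_apply, permCo_E] at hcomm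
    exact hcomm.symm
  rcases center_E f hf (bp 0) with h0 | h0
  · left
    apply co_ext
    intro q
    obtain ⟨σ, hσ, rfl⟩ := exists_m24_map q
    rw [key (bp 0) σ hσ, h0, permCo_E]
    rfl
  · right
    apply co_ext
    intro q
    obtain ⟨σ, hσ, rfl⟩ := exists_m24_map q
    rw [key (bp 0) σ hσ, h0, co_map_neg, permCo_E, negCo_apply]

theorem negCo_mem_center : negCo ∈ Subgroup.center ↥Co0 := by
  rw [Subgroup.mem_center_iff]
  intro g
  apply Subtype.ext
  apply Equiv.ext
  intro v
  show g.1 (negCo.1 v) = negCo.1 (g.1 v)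
  rw [negCo_apply, negCo_apply, co_map_neg]

theorem negCo_ne_one : negCo ≠ 1 := by
  intro h
  have h1 : negCo.1 (E none) = (1 : ↥Co0).1 (E none) := by rw [h]
  rw [negCo_apply] at h1
  exact neg_E_ne none h1

/-- statement S0398: the centre of `Co0` has order 2 -/
theorem card_center_Co0 : Nat.card (Subgroup.center ↥Co0) = 2 := by
  have h : ((Subgroup.center ↥Co0 : Subgroup ↥Co0) : Set ↥Co0) = {1, negCo} := by
    ext f
    constructor
    · intro hf
      rcases center_eq f hf with h | h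
      · left; exact h
      · right; exact h
    · rintro (rfl | rfl)
      · exact Subgroup.one_mem _
      · exact negCo_mem_center
  have h3 : Nat.card (Subgroup.center ↥Co0) =
      Set.ncard ((Subgroup.center ↥Co0 : Subgroup ↥Co0) : Set ↥Co0) := rfl
  rw [h3, h, Set.ncard_pair negCo_ne_one.symm]

end Cfsg.Agent.Lib.helper93
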