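/-
Consequences of the minimal squared length of the Leech lattice for classes modulo twice the
lattice (statements S5551, S5592-type), parameterised by the weight facts of the Golay code.
-/
import Mathlib
import Cfsg.Prelude.Def_Sporadic_a
import Cfsg.Prelude.Def_Spor_Conway
import Cfsg.Agent.Lib.helper93.Leech

set_option autoImplicit false

namespace Cfsg.Agent.Lib.helper93

open Cfsg

theorem sqNorm_neg' (x : GolayPt → ℤ) : sqNorm (-x) = sqNorm x := by
  unfold sqNorm
  apply Finset.sum_congr rfl
  intro i _
  simp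

theorem sqNorm_two_nsmul (z : GolayPt → ℤ) : sqNorm (2 • z) = 4 * sqNorm z := by
  unfold sqNorm
  rw [Finset.mul_sum]
  apply Finset.sum_congr rfl
  intro i _
  simp only [Pi.smul_apply, nsmul_eq_mul, Nat.cast_ofNat]
  ring

theorem sqNorm_parallelogram (v w : GolayPt → ℤ) :
    sqNorm (v + w) + sqNorm (v - w) = 2 * sqNorm v + 2 * sqNorm w := by
  unfold sqNorm
  rw [Finset.mul_sum, Finset.mul_sum, ← Finset.sum_add_distrib, ← Finset.sum_add_distrib]
  apply Finset.sum_congr rfl
  intro i _
  simp only [Pi.add_apply, Pi.sub_apply]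
  ring

/-- two non-zero lattice vectors of squared length at most 64 that are congruent modulo twice the
lattice have the same squared length, and are equal or opposite when that length is below 64 -/
theorem leech_mod_two (hG1 : ∀ w ∈ golayCode, 4 ∣ hammingNorm w)
    (hG2 : ∀ w ∈ golayCode, hammingNorm w ≠ 4) (v w : GolayPt → ℤ) (hv : v ∈ leechLattice)
    (hw : w ∈ leechLattice) (hvn : sqNorm v ≤ 64) (hwn : sqNorm w ≤ 64)
    (hc : ∃ z ∈ leechLattice, v - w = 2 • z) :
    sqNorm v = sqNorm w ∧ (sqNorm v < 64 → w = v ∨ w = -v) := by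
  obtain ⟨z, hz, hvw⟩ := hc
  have hz' : z + w ∈ leechLattice := leechLattice.add_mem hz hw
  have hvw' : v + w = 2 • (z + w) := by
    have : v + w = (v - w) + 2 • w := by rw [two_nsmul]; abel
    rw [this, hvw, ← nsmul_add]
  by_cases h0 : z = 0
  · have : v = w := by
      rw [h0, nsmul_zero] at hvw
      exact sub_eq_zero.mp hvw
    rw [this]
    exact ⟨rfl, fun _ => Or.inl rfl⟩
  by_cases h0' : z + w = 0
  · have : w = -v := by
      rw [h0', nsmul_zero] at hvw'
      have : w = -v := by
        have h := eq_neg_of_add_eq_zero_right hvw'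
        exact h
      exact this
    rw [this, sqNorm_neg']
    exact ⟨rfl, fun _ => Or.inr rfl⟩
  have n1 := sqNorm_ge_of_mem_leechLattice hG1 hG2 z hz h0
  have n2 := sqNorm_ge_of_mem_leechLattice hG1 hG2 (z + w) hz' h0'
  have hp := sqNorm_parallelogram v w
  rw [hvw, hvw', sqNorm_two_nsmul, sqNorm_two_nsmul] at hp
  constructor
  · omega
  · intro hlt
    omega

end Cfsg.Agent.Lib.helper93
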