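/-
The Leech lattice facts of `Leech.lean` / `LeechMod2.lean` made unconditional with the weight
facts of the concrete Golay code (helper9's `GolayThm`).
-/
import Mathlib
import Cfsg.Prelude.Def_Sporadic_a
import Cfsg.Prelude.Def_Spor_Conway
import Cfsg.Agent.Lib.helper93.Leech
import Cfsg.Agent.Lib.helper93.LeechMod2
import Cfsg.Agent.Lib.helper9.GolayThm

set_option autoImplicit false

namespace Cfsg.Agent.Lib.helper93

open Cfsg

/-- the concrete Golay code is doubly even -/
theorem golay_dvd_four : ∀ w ∈ golayCode, 4 ∣ hammingNorm w := by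
  intro w hw
  rcases Cfsg.Agent.Lib.helper9.golay_weights w hw with h | h | h | h | h <;> rw [h] <;> decide

/-- the concrete Golay code has no word of weight 4 -/
theorem golay_ne_four : ∀ w ∈ golayCode, hammingNorm w ≠ 4 := by
  intro w hw
  rcases Cfsg.Agent.Lib.helper9.golay_weights w hw with h | h | h | h | h <;> rw [h] <;> decide

/-- the minimal squared length of the Leech lattice (in the scaling of the definitions) is 32 -/
theorem leech_min_sqNorm (x : GolayPt → ℤ) (hx : x ∈ leechLattice) (hx0 : x ≠ 0) :
    32 ≤ sqNorm x :=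
  sqNorm_ge_of_mem_leechLattice golay_dvd_four golay_ne_four x hx hx0

/-- short vectors congruent modulo twice the Leech lattice -/
theorem leech_mod_two_short (v w : GolayPt → ℤ) (hv : v ∈ leechLattice)
    (hw : w ∈ leechLattice) (hvn : sqNorm v ≤ 64) (hwn : sqNorm w ≤ 64)
    (hc : ∃ z ∈ leechLattice, v - w = 2 • z) :
    sqNorm v = sqNorm w ∧ (sqNorm v < 64 → w = v ∨ w = -v) :=
  leech_mod_two golay_dvd_four golay_ne_four v w hv hw hvn hwn hc

end Cfsg.Agent.Lib.helper93
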