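import Cfsg.Agent.Lib.helper93.Co0Tower

/-!
Transport of sets of lattice vectors attached to a configuration (a pair or a triple of vectors of
`Cfsg.leechLattice`) along the elements of `Cfsg.Co0`: cardinalities and transitivity of the
stabiliser of the configuration.
-/

set_option autoImplicit false
open Cfsg Cfsg.Agent.Lib.helper9

namespace Cfsg.Agent.Lib.helper93

theorem co_inv_apply (h : ↥Co0) (x : ↥leechLattice) : (h⁻¹ : ↥Co0).1 (h.1 x) = x :=
  h.1.symm_apply_apply x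

theorem co_apply_inv (h : ↥Co0) (x : ↥leechLattice) : h.1 ((h⁻¹ : ↥Co0).1 x) = x :=
  h.1.apply_symm_apply x

theorem co_norm (h : ↥Co0) (x : ↥leechLattice) :
    sqNorm ((h.1 x : ↥leechLattice) : GolayPt → ℤ) = sqNorm (x : GolayPt → ℤ) := h.2.2 x

theorem co_dist (h : ↥Co0) (u x : ↥leechLattice) :
    sqNorm (((h.1 u : ↥leechLattice) : GolayPt → ℤ) - ((h.1 x : ↥leechLattice) : GolayPt → ℤ)) =
      sqNorm ((u : GolayPt → ℤ) - (x : GolayPt → ℤ)) := by
  rw [← AddSubgroup.coe_sub, ← co_map_sub, h.2.2, AddSubgroup.coe_sub]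

theorem co_dot (h : ↥Co0) (v x : ↥leechLattice) :
    dotInt ((h.1 v : ↥leechLattice) : GolayPt → ℤ) ((h.1 x : ↥leechLattice) : GolayPt → ℤ) =
      dotInt (v : GolayPt → ℤ) (x : GolayPt → ℤ) := dotInt_map h.1 h.2 v x

theorem co_ne (h : ↥Co0) (x y : ↥leechLattice) : h.1 x ≠ h.1 y ↔ x ≠ y :=
  h.1.injective.ne_iff

/-- the action on pairs -/
def act2 (h : ↥Co0) (c : ↥leechLattice × ↥leechLattice) : ↥leechLattice × ↥leechLattice :=
  (h.1 c.1, h.1 c.2)

/-- the action on triples -/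
def act3 (h : ↥Co0) (c : ↥leechLattice × ↥leechLattice × ↥leechLattice) :
    ↥leechLattice × ↥leechLattice × ↥leechLattice :=
  (h.1 c.1, h.1 c.2.1, h.1 c.2.2)

/-- actions of `Cfsg.Co0` -/
structure IsAct {C : Type*} (act : ↥Co0 → C → C) : Prop where
  mul : ∀ g h c, act (g * h) c = act g (act h c)
  inv : ∀ h c, act h⁻¹ (act h c) = c

theorem act2_isAct : IsAct act2 :=
  ⟨fun _ _ _ => rfl, fun h c => by
    unfold act2
    rw [co_inv_apply, co_inv_apply]⟩

theorem act3_isAct : IsAct act3 :=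
  ⟨fun _ _ _ => rfl, fun h c => by
    unfold act3
    simp only [co_inv_apply]⟩

/-- the set attached to the image of a configuration -/
theorem set_map {C : Type*} {act : ↥Co0 → C → C} (ha : IsAct act) (Φ : C → ↥leechLattice → Prop)
    (hΦ : ∀ h c x, Φ c x → Φ (act h c) (h.1 x)) (h : ↥Co0) (c : C) :
    {x | Φ (act h c) x} = h.1 '' {x | Φ c x} := by
  ext w
  constructor
  · intro hw
    refine ⟨(h⁻¹ : ↥Co0).1 w, ?_, co_apply_inv h w⟩
    have h1 := hΦ h⁻¹ _ w hw
    rw [ha.inv] at h1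
    exact h1
  · rintro ⟨x, hx, rfl⟩
    exact hΦ h c x hx

theorem ncard_map {C : Type*} {act : ↥Co0 → C → C} (ha : IsAct act)
    (Φ : C → ↥leechLattice → Prop) (hΦ : ∀ h c x, Φ c x → Φ (act h c) (h.1 x)) (h : ↥Co0)
    (c : C) : {x | Φ (act h c) x}.ncard = {x | Φ c x}.ncard := by
  rw [set_map ha Φ hΦ h c, Set.ncard_image_of_injective _ h.1.injective]

/-- transitivity of the stabiliser of the image of a configuration -/
theorem trans_map {C : Type*} {act : ↥Co0 → C → C} (ha : IsAct act)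
    (Ψ : C → ↥leechLattice → ↥leechLattice → Prop)
    (hΨ : ∀ h c x y, Ψ c x y → Ψ (act h c) (h.1 x) (h.1 y)) (c : C)
    (htr : ∀ x y, Ψ c x y → ∃ g : ↥Co0, act g c = c ∧ g.1 x = y) (h : ↥Co0) :
    ∀ x y, Ψ (act h c) x y → ∃ g : ↥Co0, act g (act h c) = act h c ∧ g.1 x = y := by
  intro x y hxy
  have h1 := hΨ h⁻¹ _ x y hxy
  rw [ha.inv] at h1
  obtain ⟨g, hg, hgx⟩ := htr _ _ h1
  refine ⟨h * g * h⁻¹, ?_, ?_⟩
  · rw [ha.mul, ha.mul, ha.inv, hg]
  · have e := conj_apply h g _ _ hgx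
    rw [co_apply_inv, co_apply_inv] at e
    exact e

end Cfsg.Agent.Lib.helper93
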