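import Cfsg.Agent.Lib.helper93.Co0TwJ
import Cfsg.Agent.Lib.helper93.Co0Conf

/-!
Pairs `(v, w)` of vectors of norm 48 of `Cfsg.leechLattice` with inner product `-32`: `Cfsg.Co0` is
transitive on them, the stabiliser of the pair is transitive on its 100 minimal vectors with inner
products 24 and `-24` with `v` and `w`, and the stabiliser of one of them has orbits of 22 and 77
vectors on the others.
-/

set_option autoImplicit false
open Cfsg Cfsg.Agent.Lib.helper9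

namespace Cfsg.Agent.Lib.helper93

theorem dot_add_right (a b c : GolayPt → ℤ) : dotInt a (b + c) = dotInt a b + dotInt a c := by
  unfold dotInt
  rw [← Finset.sum_add_distrib]
  refine Finset.sum_congr rfl fun i _ => ?_
  simp only [Pi.add_apply]
  ring

theorem dot_self_eq (a : GolayPt → ℤ) : dotInt a a = sqNorm a := by
  unfold dotInt sqNorm
  refine Finset.sum_congr rfl fun i _ => ?_
  ring

theorem dot_comm_eq (a b : GolayPt → ℤ) : dotInt a b = dotInt b a := by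
  unfold dotInt
  refine Finset.sum_congr rfl fun i _ => ?_
  ring

/-! ### the stabiliser of `u0S` -/

/-- the stabiliser of `u0S` -/
def H3 : Subgroup ↥Co0 := MulAction.stabilizer ↥Co0 u0S

theorem acts3_snd : ∀ a ∈ acts3, Snd H3 a := by
  intro a ha
  rcases List.mem_append.1 ha with h | h
  · exact snd_stab a u0S nU u0S_val (by rw [u0S_norm]; norm_num)
      (snd_words ⊤ actsS actsS_top 8 wsM a h) (fixB_spec actsM nU actsM_fix a h)
  · have hfix := fixB_spec actsF nU actsF_fix a h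
    refine snd_stab a u0S nU u0S_val (by rw [u0S_norm]; norm_num) ?_ hfix
    simp only [actsF, List.mem_cons, List.not_mem_nil, or_false] at h
    rcases h with rfl | rfl
    · exact snd_comp ⊤ _ _ (snd_runW ⊤ acts4 acts4_snd 8 _) (snd_runW ⊤ actsS actsS_top 8 _)
    · exact snd_comp ⊤ _ _ (snd_runW ⊤ acts4 acts4_snd 8 _) (snd_runW ⊤ actsS actsS_top 8 _)

theorem H3_fix (g : ↥Co0) (hg : g ∈ H3) : g.1 u0S = u0S := stab_apply g u0S hg

/-- the stabiliser of `u0S` is transitive on the minimal vectors with inner product 16 with it -/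
theorem Co3_trans (m m' : ↥leechLattice)
    (hm : sqNorm (m : GolayPt → ℤ) = 32 ∧ dotInt (u0S : GolayPt → ℤ) (m : GolayPt → ℤ) = 16)
    (hm' : sqNorm (m' : GolayPt → ℤ) = 32 ∧
      dotInt (u0S : GolayPt → ℤ) (m' : GolayPt → ℤ) = 16) :
    ∃ g ∈ H3, (g : ↥Co0).1 m = m' :=
  trans_of_table H3 acts3 acts3_snd (fun x => dotInt (u0S : GolayPt → ℤ) x = 16) qH
    (fun x _ hn => qH_iff x hn)
    (fun g hg v _ h => by rw [inv_dot g u0S v (H3_fix g hg)]; exact h) (LSi 5)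
    (fun n hn hq => tag_cover 5 qH rfl n hn hq) nM0 8 LSH_desc' m m' hm hm'

/-- the base pair -/
def cH : ↥leechLattice × ↥leechLattice := (u0S, w0S)

/-- every pair of vectors of norm 48 with inner product `-32` is the image of the base pair -/
theorem hs_pair_to_base (v w : ↥leechLattice) (hv : sqNorm (v : GolayPt → ℤ) = 48)
    (hw : sqNorm (w : GolayPt → ℤ) = 48)
    (hvw : dotInt (v : GolayPt → ℤ) (w : GolayPt → ℤ) = -32) :
    ∃ h : ↥Co0, act2 h cH = (v, w) := by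
  obtain ⟨h1, hh1⟩ := mem_orb48 v hv
  have hh1' : h1.1 u0S = v := hh1
  have n1 : sqNorm (((h1⁻¹ : ↥Co0).1 w : ↥leechLattice) : GolayPt → ℤ) = 48 := by
    rw [co_norm]
    exact hw
  have d1 : dotInt (u0S : GolayPt → ℤ)
      (((h1⁻¹ : ↥Co0).1 w : ↥leechLattice) : GolayPt → ℤ) = -32 := by
    have h2 := co_dot h1 u0S ((h1⁻¹ : ↥Co0).1 w)
    rw [hh1', co_apply_inv] at h2
    rw [← h2]
    exact hvw
  have nm : sqNorm ((u0S + (h1⁻¹ : ↥Co0).1 w : ↥leechLattice) : GolayPt → ℤ) = 32 := by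
    rw [AddSubgroup.coe_add, sqNorm_add, u0S_norm, n1, d1]
    norm_num
  have dm : dotInt (u0S : GolayPt → ℤ)
      ((u0S + (h1⁻¹ : ↥Co0).1 w : ↥leechLattice) : GolayPt → ℤ) = 16 := by
    rw [AddSubgroup.coe_add, dot_add_right, dot_self_eq, u0S_norm, d1]
    norm_num
  obtain ⟨g, hg, hgm⟩ := Co3_trans m0S (u0S + (h1⁻¹ : ↥Co0).1 w) ⟨m0S_norm, m0S_H⟩ ⟨nm, dm⟩
  have gfix := H3_fix g hg
  have gw : g.1 w0S = (h1⁻¹ : ↥Co0).1 w := by
    unfold w0S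
    rw [co_map_sub, hgm, gfix, add_sub_cancel_left]
  refine ⟨h1 * g, ?_⟩
  show ((h1 * g).1 u0S, (h1 * g).1 w0S) = (v, w)
  rw [co_mul_apply, co_mul_apply, gfix, gw, hh1', co_apply_inv]

/-- two vectors of norm 48 with inner product `-32` are exchanged by an element of `Cfsg.Co0` -/
theorem swap48 (v w : ↥leechLattice) (hv : sqNorm (v : GolayPt → ℤ) = 48)
    (hw : sqNorm (w : GolayPt → ℤ) = 48)
    (hvw : dotInt (v : GolayPt → ℤ) (w : GolayPt → ℤ) = -32) :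
    ∃ g : ↥Co0, g.1 v = w ∧ g.1 w = v := by
  obtain ⟨h, hh⟩ := hs_pair_to_base v w hv hw hvw
  obtain ⟨h', hh'⟩ := hs_pair_to_base w v hw hv (by rw [dot_comm_eq]; exact hvw)
  have e := Prod.ext_iff.1 hh
  have e' := Prod.ext_iff.1 hh'
  have e1 : h.1 u0S = v := e.1
  have e2 : h.1 w0S = w := e.2
  have e3 : h'.1 u0S = w := e'.1
  have e4 : h'.1 w0S = v := e'.2
  refine ⟨h' * h⁻¹, ?_, ?_⟩
  · rw [co_mul_apply, ← e1, co_inv_apply, e3]
  · rw [co_mul_apply, ← e2, co_inv_apply, e4]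

/-! ### the 100 points -/

/-- the 100 points of a pair `(v, w)` -/
def Phi100 (c : ↥leechLattice × ↥leechLattice) (x : ↥leechLattice) : Prop :=
  sqNorm (x : GolayPt → ℤ) = 32 ∧ dotInt (c.1 : GolayPt → ℤ) (x : GolayPt → ℤ) = 24 ∧
    dotInt (c.2 : GolayPt → ℤ) (x : GolayPt → ℤ) = -24

theorem Phi100_inv (h : ↥Co0) (c : ↥leechLattice × ↥leechLattice) (x : ↥leechLattice)
    (hx : Phi100 c x) : Phi100 (act2 h c) (h.1 x) := by
  obtain ⟨h1, h2, h3⟩ := hx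
  exact ⟨by rw [co_norm]; exact h1,
    by show dotInt ((h.1 c.1 : ↥leechLattice) : GolayPt → ℤ) _ = 24; rw [co_dot]; exact h2,
    by show dotInt ((h.1 c.2 : ↥leechLattice) : GolayPt → ℤ) _ = -24; rw [co_dot]; exact h3⟩

/-- the joint stabiliser of `u0S` and `m0S` -/
def HH : Subgroup ↥Co0 := H3 ⊓ MulAction.stabilizer ↥Co0 m0S

theorem actsH_snd : ∀ a ∈ actsH, Snd HH a :=
  snd_fix _ actsH (snd_words _ acts3 acts3_snd 8 wsH) m0S nM0 m0S_val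
    (by rw [m0S_norm]; norm_num) actsH_fix

theorem HH_fix (g : ↥Co0) (hg : g ∈ HH) : g.1 u0S = u0S ∧ g.1 w0S = w0S := by
  have h1 := H3_fix g (Subgroup.mem_inf.1 hg).1
  have h2 := stab_apply g m0S (Subgroup.mem_inf.1 hg).2
  refine ⟨h1, ?_⟩
  unfold w0S
  rw [co_map_sub, h1, h2]

theorem HH_act (g : ↥Co0) (hg : g ∈ HH) : act2 g cH = cH := by
  obtain ⟨h1, h2⟩ := HH_fix g hg
  unfold act2 cH
  rw [h1, h2]

/-- the condition on the vectors -/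
def PC (x : GolayPt → ℤ) : Prop :=
  dotInt (u0S : GolayPt → ℤ) x = 24 ∧ dotInt (w0S : GolayPt → ℤ) x = -24

theorem PC_inv (g : ↥Co0) (hg : g ∈ HH) (v : ↥leechLattice) (h : PC (v : GolayPt → ℤ)) :
    PC ((g.1 v : ↥leechLattice) : GolayPt → ℤ) := by
  obtain ⟨h1, h2⟩ := HH_fix g hg
  exact ⟨by rw [inv_dot g u0S v h1]; exact h.1, by rw [inv_dot g w0S v h2]; exact h.2⟩

theorem HS_base_trans (x x' : ↥leechLattice) (hx : Phi100 cH x) (hx' : Phi100 cH x') :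
    ∃ g ∈ HH, (g : ↥Co0).1 x = x' :=
  trans_of_table HH actsH actsH_snd PC q100 (fun x _ hn => q100_iff x hn)
    (fun g hg v _ h => PC_inv g hg v h) (LSi 6) (fun n hn hq => tag_cover 6 q100 rfl n hn hq)
    nW 8 LSC_desc' x x' hx hx'

theorem HS_base_card : {x | Phi100 cH x}.ncard = 100 :=
  ncard_sub_filter PC q100 100 (fun x _ hn => q100_iff x hn) cnt_q100

/-- the configuration of 100 points, for any pair -/
theorem HS_conf (v w : ↥leechLattice) (hv : sqNorm (v : GolayPt → ℤ) = 48)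
    (hw : sqNorm (w : GolayPt → ℤ) = 48)
    (hvw : dotInt (v : GolayPt → ℤ) (w : GolayPt → ℤ) = -32) :
    {x | Phi100 (v, w) x}.ncard = 100 ∧ ∀ x x', Phi100 (v, w) x → Phi100 (v, w) x' →
      ∃ g : ↥Co0, g.1 v = v ∧ g.1 w = w ∧ g.1 x = x' := by
  obtain ⟨h, hh⟩ := hs_pair_to_base v w hv hw hvw
  obtain ⟨rfl, rfl⟩ := Prod.ext_iff.1 hh
  refine ⟨(ncard_map act2_isAct Phi100 Phi100_inv h cH).trans HS_base_card, ?_⟩
  intro x x' hx hx'
  obtain ⟨g, hg, hgx⟩ := trans_map act2_isAct (fun c x y => Phi100 c x ∧ Phi100 c y)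
    (fun h c x y hxy => ⟨Phi100_inv h c x hxy.1, Phi100_inv h c y hxy.2⟩) cH
    (fun x y hxy => by
      obtain ⟨g, hg, hgx⟩ := HS_base_trans x y hxy.1 hxy.2
      exact ⟨g, HH_act g hg, hgx⟩) h x x' ⟨hx, hx'⟩
  exact ⟨g, congrArg Prod.fst hg, congrArg Prod.snd hg, hgx⟩

/-! ### the stabiliser of a point -/

/-- the base triple -/
def cJ : ↥leechLattice × ↥leechLattice × ↥leechLattice := (u0S, w0S, wSS)

/-- the stabiliser of `u0S`, `m0S` and `wSS` -/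
def HJ : Subgroup ↥Co0 := HH ⊓ MulAction.stabilizer ↥Co0 wSS

theorem actsJ_snd : ∀ a ∈ actsJ, Snd HJ a :=
  snd_fix _ actsJ (snd_words _ actsH actsH_snd 8 wsJ) wSS nW wSS_val
    (by rw [wSS_norm]; norm_num) actsJ_fix

theorem HJ_fix (g : ↥Co0) (hg : g ∈ HJ) : g.1 u0S = u0S ∧ g.1 w0S = w0S ∧ g.1 wSS = wSS :=
  ⟨(HH_fix g (Subgroup.mem_inf.1 hg).1).1, (HH_fix g (Subgroup.mem_inf.1 hg).1).2,
    stab_apply g wSS (Subgroup.mem_inf.1 hg).2⟩

theorem HJ_act (g : ↥Co0) (hg : g ∈ HJ) : act3 g cJ = cJ := by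
  obtain ⟨h1, h2, h3⟩ := HJ_fix g hg
  unfold act3 cJ
  simp only [h1, h2, h3]

theorem wSS_Phi : Phi100 cH wSS := ⟨wSS_norm, wSS_100.1, wSS_100.2⟩

/-- the points with inner product 8 with `wSS` -/
def PJ8 (x : GolayPt → ℤ) : Prop := PC x ∧ dotInt (wSS : GolayPt → ℤ) x = 8

/-- the points other than `wSS` with inner product other than 8 with `wSS` -/
def PJ16 (x : GolayPt → ℤ) : Prop :=
  PC x ∧ x ≠ (wSS : GolayPt → ℤ) ∧ dotInt (wSS : GolayPt → ℤ) x ≠ 8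

theorem PJ8_inv (g : ↥Co0) (hg : g ∈ HJ) (v : ↥leechLattice) (h : PJ8 (v : GolayPt → ℤ)) :
    PJ8 ((g.1 v : ↥leechLattice) : GolayPt → ℤ) := by
  obtain ⟨h1, h2, h3⟩ := HJ_fix g hg
  exact ⟨PC_inv g (Subgroup.mem_inf.1 hg).1 v h.1, by rw [inv_dot g wSS v h3]; exact h.2⟩

theorem PJ16_inv (g : ↥Co0) (hg : g ∈ HJ) (v : ↥leechLattice) (h : PJ16 (v : GolayPt → ℤ)) :
    PJ16 ((g.1 v : ↥leechLattice) : GolayPt → ℤ) := by
  obtain ⟨h1, h2, h3⟩ := HJ_fix g hg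
  exact ⟨PC_inv g (Subgroup.mem_inf.1 hg).1 v h.1, fun e => h.2.1 ((inv_eq g wSS v h3).1 e),
    by rw [inv_dot g wSS v h3]; exact h.2.2⟩

theorem J8_trans (y y' : ↥leechLattice)
    (hy : sqNorm (y : GolayPt → ℤ) = 32 ∧ PJ8 (y : GolayPt → ℤ))
    (hy' : sqNorm (y' : GolayPt → ℤ) = 32 ∧ PJ8 (y' : GolayPt → ℤ)) :
    ∃ g ∈ HJ, (g : ↥Co0).1 y = y' :=
  trans_of_table HJ actsJ actsJ_snd PJ8 q22 (fun x _ hn => q22_iff x hn)
    (fun g hg v _ h => PJ8_inv g hg v h) (LSi 7) (fun n hn hq => tag_cover 7 q22 rfl n hn hq)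
    _ 8 LSJ8_desc' y y' hy hy'

theorem J16_trans (y y' : ↥leechLattice)
    (hy : sqNorm (y : GolayPt → ℤ) = 32 ∧ PJ16 (y : GolayPt → ℤ))
    (hy' : sqNorm (y' : GolayPt → ℤ) = 32 ∧ PJ16 (y' : GolayPt → ℤ)) :
    ∃ g ∈ HJ, (g : ↥Co0).1 y = y' :=
  trans_of_table HJ actsJ actsJ_snd PJ16 q77 (fun x _ hn => q77_iff x hn)
    (fun g hg v _ h => PJ16_inv g hg v h) (LSi 8) (fun n hn hq => tag_cover 8 q77 rfl n hn hq)
    _ 8 LSJ16_desc' y y' hy hy'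

/-- the points of a triple with inner product 8 with the third vector -/
def PhiJ8 (c : ↥leechLattice × ↥leechLattice × ↥leechLattice) (y : ↥leechLattice) : Prop :=
  Phi100 (c.1, c.2.1) y ∧ dotInt (c.2.2 : GolayPt → ℤ) (y : GolayPt → ℤ) = 8

/-- the points of a triple other than the third vector with inner product other than 8 with it -/
def PhiJ16 (c : ↥leechLattice × ↥leechLattice × ↥leechLattice) (y : ↥leechLattice) : Prop :=
  Phi100 (c.1, c.2.1) y ∧ y ≠ c.2.2 ∧ dotInt (c.2.2 : GolayPt → ℤ) (y : GolayPt → ℤ) ≠ 8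

/-- the pairs of points of a triple in the same class -/
def PsiJ (c : ↥leechLattice × ↥leechLattice × ↥leechLattice) (y y' : ↥leechLattice) : Prop :=
  Phi100 (c.1, c.2.1) y ∧ Phi100 (c.1, c.2.1) y' ∧ y ≠ c.2.2 ∧ y' ≠ c.2.2 ∧
    (dotInt (c.2.2 : GolayPt → ℤ) (y : GolayPt → ℤ) = 8 ↔
      dotInt (c.2.2 : GolayPt → ℤ) (y' : GolayPt → ℤ) = 8)

theorem PhiJ8_inv (h : ↥Co0) (c : ↥leechLattice × ↥leechLattice × ↥leechLattice)
    (y : ↥leechLattice) (hy : PhiJ8 c y) : PhiJ8 (act3 h c) (h.1 y) :=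
  ⟨Phi100_inv h (c.1, c.2.1) y hy.1, by
    show dotInt ((h.1 c.2.2 : ↥leechLattice) : GolayPt → ℤ) _ = 8
    rw [co_dot]
    exact hy.2⟩

theorem PhiJ16_inv (h : ↥Co0) (c : ↥leechLattice × ↥leechLattice × ↥leechLattice)
    (y : ↥leechLattice) (hy : PhiJ16 c y) : PhiJ16 (act3 h c) (h.1 y) :=
  ⟨Phi100_inv h (c.1, c.2.1) y hy.1, (co_ne h y c.2.2).2 hy.2.1, by
    show dotInt ((h.1 c.2.2 : ↥leechLattice) : GolayPt → ℤ) _ ≠ 8
    rw [co_dot]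
    exact hy.2.2⟩

theorem PsiJ_inv (h : ↥Co0) (c : ↥leechLattice × ↥leechLattice × ↥leechLattice)
    (y y' : ↥leechLattice) (hy : PsiJ c y y') : PsiJ (act3 h c) (h.1 y) (h.1 y') :=
  ⟨Phi100_inv h (c.1, c.2.1) y hy.1, Phi100_inv h (c.1, c.2.1) y' hy.2.1,
    (co_ne h y c.2.2).2 hy.2.2.1, (co_ne h y' c.2.2).2 hy.2.2.2.1, by
    show dotInt ((h.1 c.2.2 : ↥leechLattice) : GolayPt → ℤ) _ = 8 ↔
      dotInt ((h.1 c.2.2 : ↥leechLattice) : GolayPt → ℤ) _ = 8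
    rw [co_dot, co_dot]
    exact hy.2.2.2.2⟩

theorem J8_base_card : {y | PhiJ8 cJ y}.ncard = 22 := by
  have h := ncard_sub_filter PJ8 q22 22 (fun x _ hn => q22_iff x hn) cnt_q22
  rw [← h]
  congr 1
  ext y
  exact ⟨fun hy => ⟨hy.1.1, ⟨hy.1.2.1, hy.1.2.2⟩, hy.2⟩,
    fun hy => ⟨⟨hy.1, hy.2.1.1, hy.2.1.2⟩, hy.2.2⟩⟩

theorem J16_base_card : {y | PhiJ16 cJ y}.ncard = 77 := by
  have h := ncard_sub_filter PJ16 q77 77 (fun x _ hn => q77_iff x hn) cnt_q77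
  rw [← h]
  congr 1
  ext y
  exact ⟨fun hy => ⟨hy.1.1, ⟨hy.1.2.1, hy.1.2.2⟩, fun e => hy.2.1 (Subtype.ext e), hy.2.2⟩,
    fun hy => ⟨⟨hy.1, hy.2.1.1, hy.2.1.2⟩, fun e => hy.2.2.1 (congrArg Subtype.val e), hy.2.2.2⟩⟩

theorem J_base_trans (y y' : ↥leechLattice) (h : PsiJ cJ y y') :
    ∃ g : ↥Co0, act3 g cJ = cJ ∧ g.1 y = y' := by
  obtain ⟨h1, h2, h3, h4, h5⟩ := h
  have n1 : (y : GolayPt → ℤ) ≠ (wSS : GolayPt → ℤ) := fun e => h3 (Subtype.ext e)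
  have n2 : (y' : GolayPt → ℤ) ≠ (wSS : GolayPt → ℤ) := fun e => h4 (Subtype.ext e)
  have h5' : dotInt (wSS : GolayPt → ℤ) (y : GolayPt → ℤ) = 8 ↔
      dotInt (wSS : GolayPt → ℤ) (y' : GolayPt → ℤ) = 8 := h5
  by_cases hd : dotInt (wSS : GolayPt → ℤ) (y : GolayPt → ℤ) = 8
  · obtain ⟨g, hg, hgy⟩ := J8_trans y y' ⟨h1.1, ⟨h1.2.1, h1.2.2⟩, hd⟩
      ⟨h2.1, ⟨h2.2.1, h2.2.2⟩, h5'.1 hd⟩
    exact ⟨g, HJ_act g hg, hgy⟩
  · obtain ⟨g, hg, hgy⟩ := J16_trans y y' ⟨h1.1, ⟨h1.2.1, h1.2.2⟩, n1, hd⟩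
      ⟨h2.1, ⟨h2.2.1, h2.2.2⟩, n2, fun e => hd (h5'.2 e)⟩
    exact ⟨g, HJ_act g hg, hgy⟩

/-- every triple is the image of the base triple -/
theorem hs_triple_to_base (v w x : ↥leechLattice) (hv : sqNorm (v : GolayPt → ℤ) = 48)
    (hw : sqNorm (w : GolayPt → ℤ) = 48)
    (hvw : dotInt (v : GolayPt → ℤ) (w : GolayPt → ℤ) = -32) (hx : Phi100 (v, w) x) :
    ∃ h : ↥Co0, act3 h cJ = (v, w, x) := by
  obtain ⟨h1, hh1⟩ := hs_pair_to_base v w hv hw hvw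
  have e := Prod.ext_iff.1 hh1
  have e1 : h1.1 u0S = v := e.1
  have e2 : h1.1 w0S = w := e.2
  have hx' : Phi100 cH ((h1⁻¹ : ↥Co0).1 x) := by
    have h2 := Phi100_inv h1⁻¹ (v, w) x hx
    rw [← hh1, act2_isAct.inv] at h2
    exact h2
  obtain ⟨g, hg, hgx⟩ := HS_base_trans wSS _ wSS_Phi hx'
  obtain ⟨f1, f2⟩ := HH_fix g hg
  refine ⟨h1 * g, ?_⟩
  show ((h1 * g).1 u0S, (h1 * g).1 w0S, (h1 * g).1 wSS) = (v, w, x)
  rw [co_mul_apply, co_mul_apply, co_mul_apply, f1, f2, hgx, e1, e2, co_apply_inv]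

/-- the rank 3 configuration, for any triple -/
theorem J_conf (v w x : ↥leechLattice) (hv : sqNorm (v : GolayPt → ℤ) = 48)
    (hw : sqNorm (w : GolayPt → ℤ) = 48)
    (hvw : dotInt (v : GolayPt → ℤ) (w : GolayPt → ℤ) = -32) (hx : Phi100 (v, w) x) :
    {y | PhiJ8 (v, w, x) y}.ncard = 22 ∧ {y | PhiJ16 (v, w, x) y}.ncard = 77 ∧
      ∀ y y', PsiJ (v, w, x) y y' →
        ∃ g : ↥Co0, g.1 v = v ∧ g.1 w = w ∧ g.1 x = x ∧ g.1 y = y' := by
  obtain ⟨h, hh⟩ := hs_triple_to_base v w x hv hw hvw hx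
  obtain ⟨rfl, hh2⟩ := Prod.ext_iff.1 hh
  obtain ⟨rfl, rfl⟩ := Prod.ext_iff.1 hh2
  refine ⟨(ncard_map act3_isAct PhiJ8 PhiJ8_inv h cJ).trans J8_base_card,
    (ncard_map act3_isAct PhiJ16 PhiJ16_inv h cJ).trans J16_base_card, ?_⟩
  intro y y' hy
  obtain ⟨g, hg, hgy⟩ := trans_map act3_isAct PsiJ PsiJ_inv cJ J_base_trans h y y' hy
  exact ⟨g, congrArg Prod.fst hg, congrArg (fun c => c.2.1) hg, congrArg (fun c => c.2.2) hg, hgy⟩

end Cfsg.Agent.Lib.helper93
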