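import Mathlib

/-!
The pigeonhole argument for an integral lattice `L ⊆ ℤ^ι` (rank 24) with a positive definite
symmetric form, minimal norm `μ`, the Leech numbers of vectors of norms `μ, 3μ/2, 2μ`, and
`[L : 2L] = 2^24`: every class modulo `2L` contains a vector of norm at most `2μ`, and the
vectors of norm `2μ` fall into classes of exactly 48.
-/

set_option autoImplicit false
open Matrix

namespace Cfsg.Agent.Lib.helper93

section
variable {ι : Type*} [Fintype ι] (B : Matrix ι ι ℤ)

/-- the bilinear form of the matrix `B` -/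
def bb (x y : ι → ℤ) : ℤ := x ⬝ᵥ (B *ᵥ y)

/-- the quadratic form of the matrix `B` -/
def bq (x : ι → ℤ) : ℤ := x ⬝ᵥ (B *ᵥ x)

theorem bq_eq (x : ι → ℤ) : bq B x = bb B x x := rfl

theorem bb_add_left (x y z : ι → ℤ) : bb B (x + y) z = bb B x z + bb B y z := by
  unfold bb; rw [add_dotProduct]

theorem bb_add_right (x y z : ι → ℤ) : bb B x (y + z) = bb B x y + bb B x z := by
  unfold bb; rw [mulVec_add, dotProduct_add]

theorem bb_neg_left (x y : ι → ℤ) : bb B (-x) y = -bb B x y := by
  unfold bb; rw [neg_dotProduct]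

theorem bb_neg_right (x y : ι → ℤ) : bb B x (-y) = -bb B x y := by
  unfold bb; rw [mulVec_neg, dotProduct_neg]

theorem bb_zero_left (y : ι → ℤ) : bb B 0 y = 0 := by
  unfold bb; rw [zero_dotProduct]

theorem bb_smul_left (c : ℤ) (x y : ι → ℤ) : bb B (c • x) y = c * bb B x y := by
  unfold bb; rw [smul_dotProduct, smul_eq_mul]

theorem bb_sum_left {α : Type*} (s : Finset α) (f : α → ι → ℤ) (y : ι → ℤ) :
    bb B (∑ a ∈ s, f a) y = ∑ a ∈ s, bb B (f a) y := by
  unfold bb; rw [sum_dotProduct]

theorem bb_symm (hB : B.IsSymm) (x y : ι → ℤ) : bb B x y = bb B y x := by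
  unfold bb
  rw [dotProduct_mulVec, dotProduct_comm, ← vecMul_transpose, hB.eq]

theorem bq_zero : bq B 0 = 0 := bb_zero_left B 0

theorem bq_neg (x : ι → ℤ) : bq B (-x) = bq B x := by
  rw [bq_eq, bb_neg_left, bb_neg_right, neg_neg, bq_eq]

theorem bq_add (x y : ι → ℤ) : bq B (x + y) = bq B x + bb B x y + bb B y x + bq B y := by
  rw [bq_eq, bb_add_left, bb_add_right, bb_add_right, bq_eq, bq_eq]; ring

theorem bq_sub (x y : ι → ℤ) : bq B (x - y) = bq B x - bb B x y - bb B y x + bq B y := by
  rw [sub_eq_add_neg, bq_add, bb_neg_right, bb_neg_left, bq_neg]; ring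

theorem bq_two_nsmul (z : ι → ℤ) : bq B (2 • z) = 4 * bq B z := by
  rw [two_nsmul, bq_add, ← bq_eq]; ring

/-- two short vectors congruent modulo `2L` are equal, opposite, or orthogonal of norm `2μ` -/
theorem short_congr (hB : B.IsSymm) (L : AddSubgroup (ι → ℤ)) (μ : ℤ)
    (hmin : ∀ x ∈ L, x ≠ 0 → μ ≤ bq B x) (x y z : ι → ℤ) (hy : y ∈ L) (hz : z ∈ L)
    (hxy : x - y = 2 • z) (hqx : bq B x ≤ 2 * μ) (hqy : bq B y ≤ 2 * μ) :
    y = x ∨ y = -x ∨ (bq B x = 2 * μ ∧ bq B y = 2 * μ ∧ bb B x y = 0) := by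
  by_cases h1 : y = x
  · exact Or.inl h1
  by_cases h2 : y = -x
  · exact Or.inr (Or.inl h2)
  refine Or.inr (Or.inr ?_)
  have hz0 : z ≠ 0 := by
    rintro rfl
    rw [smul_zero, sub_eq_zero] at hxy
    exact h1 hxy.symm
  have hxy' : x + y = 2 • (y + z) := by
    rw [smul_add, ← hxy, two_nsmul]; abel
  have hz0' : y + z ≠ 0 := by
    intro h
    rw [h, smul_zero] at hxy'
    exact h2 (by rw [eq_neg_iff_add_eq_zero, add_comm]; exact hxy')
  have e1 : bq B (x - y) = 4 * bq B z := by rw [hxy, bq_two_nsmul]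
  have e2 : bq B (x + y) = 4 * bq B (y + z) := by rw [hxy', bq_two_nsmul]
  have m1 := hmin z hz hz0
  have m2 := hmin (y + z) (L.add_mem hy hz) hz0'
  have a1 := bq_add B x y
  have a2 := bq_sub B x y
  have hs := bb_symm B hB x y
  refine ⟨by linarith, by linarith, by linarith⟩

/-- a family of vectors of positive norm, pairwise equal, opposite or orthogonal, has at most
`2 * rank` members -/
theorem card_le_of_orth (T : Finset (ι → ℤ)) (hT : ∀ v ∈ T, 0 < bq B v)
    (hp : ∀ v ∈ T, ∀ w ∈ T, w = v ∨ w = -v ∨ bb B v w = 0) : T.card ≤ 2 * Fintype.card ι := by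
  classical
  let e : (ι → ℤ) → ℕ := fun v => T.toList.idxOf v
  have einj : ∀ v ∈ T, ∀ w, e v = e w → v = w := by
    intro v hv w h
    exact (List.idxOf_inj (Finset.mem_toList.2 hv)).1 h
  let T' : Finset (ι → ℤ) := T.filter fun v => ¬ (-v ∈ T ∧ e (-v) < e v)
  have hsub : T ⊆ T' ∪ T'.image (fun v => -v) := by
    intro v hv
    rw [Finset.mem_union]
    by_cases h : -v ∈ T ∧ e (-v) < e v
    · right
      rw [Finset.mem_image]
      refine ⟨-v, ?_, neg_neg v⟩
      rw [Finset.mem_filter]
      refine ⟨h.1, ?_⟩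
      rw [neg_neg]
      intro h'
      exact absurd h.2 (not_lt.2 h'.2.le)
    · left
      rw [Finset.mem_filter]
      exact ⟨hv, h⟩
  have hcard : T.card ≤ 2 * T'.card := by
    calc T.card ≤ (T' ∪ T'.image (fun v => -v)).card := Finset.card_le_card hsub
      _ ≤ T'.card + (T'.image (fun v => -v)).card := Finset.card_union_le _ _
      _ ≤ T'.card + T'.card := Nat.add_le_add_left Finset.card_image_le _
      _ = 2 * T'.card := by ring
  have horth : ∀ v ∈ T', ∀ w ∈ T', v ≠ w → bb B v w = 0 := by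
    intro v hv w hw hne
    rw [Finset.mem_filter] at hv hw
    rcases hp v hv.1 w hw.1 with h | h | h
    · exact absurd h.symm hne
    · exfalso
      subst h
      have h1 : e v ≤ e (-v) := by
        by_contra hc
        exact hv.2 ⟨hw.1, not_le.1 hc⟩
      have h2 : e (-v) ≤ e v := by
        by_contra hc
        rw [neg_neg] at hw
        exact hw.2 ⟨hv.1, not_le.1 hc⟩
      exact hne (einj v hv.1 (-v) (le_antisymm h1 h2))
    · exact h
  have hli : LinearIndependent ℤ (fun v : {x // x ∈ T'} => (v : ι → ℤ)) := by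
    rw [linearIndependent_iff']
    intro s g hg i hi
    have h1 : bb B (∑ j ∈ s, g j • (j : ι → ℤ)) i = 0 := by rw [hg, bb_zero_left]
    rw [bb_sum_left, Finset.sum_eq_single_of_mem i hi, bb_smul_left] at h1
    · have hpos : 0 < bb B (i : ι → ℤ) i := hT _ (Finset.mem_filter.1 i.2).1
      rcases mul_eq_zero.1 h1 with h | h
      · exact h
      · exact absurd h hpos.ne'
    · intro j _ hji
      rw [bb_smul_left, horth j j.2 i i.2 (fun h => hji (Subtype.ext h)), mul_zero]
  have hfin := hli.fintype_card_le_finrank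
  rw [Module.finrank_fintype_fun_eq_card, Fintype.card_coe] at hfin
  omega

/-- the pigeonhole theorem -/
theorem pigeon (hB : B.IsSymm) (hι : Fintype.card ι = 24)
    (L : AddSubgroup (ι → ℤ)) (μ : ℤ) (hμ : 0 < μ)
    (hmin : ∀ x ∈ L, x ≠ 0 → μ ≤ bq B x)
    (hvals : ∀ x ∈ L, bq B x ≤ 2 * μ →
      x = 0 ∨ bq B x = μ ∨ 2 * bq B x = 3 * μ ∨ bq B x = 2 * μ)
    (h4 : {x | x ∈ L ∧ bq B x = μ}.ncard = 196560)
    (h6 : {x | x ∈ L ∧ 2 * bq B x = 3 * μ}.ncard = 16773120)
    (h8 : {x | x ∈ L ∧ bq B x = 2 * μ}.ncard = 398034000)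
    {Q : Type*} [Finite Q] (hQ : Nat.card Q ≤ 2 ^ 24) (π : (ι → ℤ) → Q)
    (hπ : ∀ x ∈ L, ∀ y ∈ L, π x = π y ↔ ∃ z ∈ L, x - y = 2 • z) :
    (∀ x ∈ L, ∃ y ∈ L, bq B y ≤ 2 * μ ∧ ∃ z ∈ L, x - y = 2 • z) ∧
    (∀ x ∈ L, bq B x = 2 * μ →
      {y | y ∈ L ∧ bq B y = 2 * μ ∧ ∃ z ∈ L, x - y = 2 • z}.ncard = 48) := by
  classical
  have := Fintype.ofFinite Q
  have hQ' : Fintype.card Q ≤ 2 ^ 24 := by rwa [Nat.card_eq_fintype_card] at hQ
  have f4 : {x | x ∈ L ∧ bq B x = μ}.Finite :=
    Set.finite_of_ncard_ne_zero (by rw [h4]; norm_num)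
  have f6 : {x | x ∈ L ∧ 2 * bq B x = 3 * μ}.Finite :=
    Set.finite_of_ncard_ne_zero (by rw [h6]; norm_num)
  have f8 : {x | x ∈ L ∧ bq B x = 2 * μ}.Finite :=
    Set.finite_of_ncard_ne_zero (by rw [h8]; norm_num)
  have c4 : f4.toFinset.card = 196560 := by rw [← h4, Set.ncard_eq_toFinset_card _ f4]
  have c6 : f6.toFinset.card = 16773120 := by rw [← h6, Set.ncard_eq_toFinset_card _ f6]
  have c8 : f8.toFinset.card = 398034000 := by rw [← h8, Set.ncard_eq_toFinset_card _ f8]
  have m4 : ∀ x, x ∈ f4.toFinset ↔ x ∈ L ∧ bq B x = μ := fun x => Set.Finite.mem_toFinset f4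
  have m6 : ∀ x, x ∈ f6.toFinset ↔ x ∈ L ∧ 2 * bq B x = 3 * μ :=
    fun x => Set.Finite.mem_toFinset f6
  have m8 : ∀ x, x ∈ f8.toFinset ↔ x ∈ L ∧ bq B x = 2 * μ :=
    fun x => Set.Finite.mem_toFinset f8
  generalize f4.toFinset = F4 at c4 m4
  generalize f6.toFinset = F6 at c6 m6
  generalize f8.toFinset = F8 at c8 m8
  have mS : ∀ x, x ∈ (({0} ∪ F4) ∪ F6) ∪ F8 ↔ x ∈ L ∧ bq B x ≤ 2 * μ := by
    intro x
    rw [Finset.mem_union, Finset.mem_union, Finset.mem_union, Finset.mem_singleton, m4, m6, m8]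
    constructor
    · rintro (((h | h) | h) | h)
      · rw [h, bq_zero]
        exact ⟨L.zero_mem, by linarith⟩
      · exact ⟨h.1, by linarith [h.2]⟩
      · exact ⟨h.1, by linarith [h.2]⟩
      · exact ⟨h.1, by linarith [h.2]⟩
    · rintro ⟨hx, hq⟩
      rcases hvals x hx hq with h | h | h | h
      · exact Or.inl (Or.inl (Or.inl h))
      · exact Or.inl (Or.inl (Or.inr ⟨hx, h⟩))
      · exact Or.inl (Or.inr ⟨hx, h⟩)
      · exact Or.inr ⟨hx, h⟩
  have hsum : ∑ v ∈ (({0} ∪ F4) ∪ F6) ∪ F8,
      (if v = 0 then 48 else if bq B v = 2 * μ then 1 else 24 : ℕ) = 48 * 2 ^ 24 := by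
    have d1 : Disjoint ({0} : Finset (ι → ℤ)) F4 := by
      rw [Finset.disjoint_left]
      intro v hv hv'
      rw [Finset.mem_singleton] at hv
      rw [m4, hv, bq_zero] at hv'
      linarith [hv'.2]
    have d2 : Disjoint ({0} ∪ F4) F6 := by
      rw [Finset.disjoint_left]
      intro v hv hv'
      rw [Finset.mem_union, Finset.mem_singleton, m4] at hv
      rw [m6] at hv'
      rcases hv with h | h
      · rw [h, bq_zero] at hv'
        linarith [hv'.2]
      · linarith [hv'.2, h.2]
    have d3 : Disjoint (({0} ∪ F4) ∪ F6) F8 := by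
      rw [Finset.disjoint_left]
      intro v hv hv'
      rw [Finset.mem_union, Finset.mem_union, Finset.mem_singleton, m4, m6] at hv
      rw [m8] at hv'
      rcases hv with (h | h) | h
      · rw [h, bq_zero] at hv'
        linarith [hv'.2]
      · linarith [hv'.2, h.2]
      · linarith [hv'.2, h.2]
    rw [Finset.sum_union d3, Finset.sum_union d2, Finset.sum_union d1, Finset.sum_singleton,
      if_pos rfl]
    have w4 : ∑ v ∈ F4, (if v = 0 then 48 else if bq B v = 2 * μ then 1 else 24 : ℕ) =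
        ∑ _v ∈ F4, 24 := by
      refine Finset.sum_congr rfl fun v hv => ?_
      rw [m4] at hv
      have h0 : v ≠ 0 := by
        rintro rfl
        rw [bq_zero] at hv
        linarith [hv.2]
      rw [if_neg h0, if_neg (by linarith [hv.2])]
    have w6 : ∑ v ∈ F6, (if v = 0 then 48 else if bq B v = 2 * μ then 1 else 24 : ℕ) =
        ∑ _v ∈ F6, 24 := by
      refine Finset.sum_congr rfl fun v hv => ?_
      rw [m6] at hv
      have h0 : v ≠ 0 := by
        rintro rfl
        rw [bq_zero] at hv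
        linarith [hv.2]
      rw [if_neg h0, if_neg (by linarith [hv.2])]
    have w8 : ∑ v ∈ F8, (if v = 0 then 48 else if bq B v = 2 * μ then 1 else 24 : ℕ) =
        ∑ _v ∈ F8, 1 := by
      refine Finset.sum_congr rfl fun v hv => ?_
      rw [m8] at hv
      have h0 : v ≠ 0 := by
        rintro rfl
        rw [bq_zero] at hv
        linarith [hv.2]
      rw [if_neg h0, if_pos hv.2]
    rw [w4, w6, w8, Finset.sum_const, Finset.sum_const, Finset.sum_const, c4, c6, c8]
    norm_num
  generalize (({0} ∪ F4) ∪ F6) ∪ F8 = S at mS hsum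
  have key : ∀ v ∈ S, ∀ w ∈ S, π v = π w →
      w = v ∨ w = -v ∨ (bq B v = 2 * μ ∧ bq B w = 2 * μ ∧ bb B v w = 0) := by
    intro v hv w hw h
    rw [mS] at hv hw
    obtain ⟨z, hz, hvw⟩ := (hπ v hv.1 w hw.1).1 h
    exact short_congr B hB L μ hmin v w z hw.1 hz hvw hv.2 hw.2
  have hall : ∀ v ∈ S, ∀ w ∈ S, π v = π w → bq B v = 2 * μ → bq B w = 2 * μ := by
    intro v hv w hw h hq
    rcases key v hv w hw h with h' | h' | h'
    · rw [h']; exact hq
    · rw [h', bq_neg]; exact hq
    · exact h'.2.1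
  have mF : ∀ (k : Q) (v : ι → ℤ), v ∈ S.filter (fun v => π v = k) ↔ v ∈ S ∧ π v = k :=
    fun k v => Finset.mem_filter
  have hfib : ∀ k : Q, ∑ v ∈ S.filter (fun v => π v = k),
      (if v = 0 then 48 else if bq B v = 2 * μ then 1 else 24 : ℕ) ≤ 48 := by
    intro k
    by_cases h0 : (0 : ι → ℤ) ∈ S.filter (fun v => π v = k)
    · have hsub : S.filter (fun v => π v = k) ⊆ {0} := by
        intro w hw
        rw [Finset.mem_singleton]
        rcases key 0 ((mF k 0).1 h0).1 w ((mF k w).1 hw).1
          (by rw [((mF k 0).1 h0).2, ((mF k w).1 hw).2]) with h | h | h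
        · exact h
        · rw [h, neg_zero]
        · exfalso
          have := h.1
          rw [bq_zero] at this
          linarith
      calc ∑ v ∈ S.filter (fun v => π v = k),
            (if v = 0 then 48 else if bq B v = 2 * μ then 1 else 24 : ℕ)
          ≤ ∑ v ∈ ({0} : Finset (ι → ℤ)),
            (if v = 0 then 48 else if bq B v = 2 * μ then 1 else 24 : ℕ) :=
            Finset.sum_le_sum_of_subset hsub
        _ = 48 := by rw [Finset.sum_singleton, if_pos rfl]
    · by_cases hne : (S.filter (fun v => π v = k)).Nonempty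
      · obtain ⟨v0, hv0⟩ := hne
        by_cases hq : bq B v0 = 2 * μ
        · have hall' : ∀ w ∈ S.filter (fun v => π v = k), bq B w = 2 * μ := by
            intro w hw
            exact hall v0 ((mF k v0).1 hv0).1 w ((mF k w).1 hw).1
              (by rw [((mF k v0).1 hv0).2, ((mF k w).1 hw).2]) hq
          have hw1 : ∀ w ∈ S.filter (fun v => π v = k),
              (if w = 0 then 48 else if bq B w = 2 * μ then 1 else 24 : ℕ) = 1 := by
            intro w hw
            have hw0 : w ≠ 0 := by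
              rintro rfl
              exact h0 hw
            rw [if_neg hw0, if_pos (hall' w hw)]
          rw [Finset.sum_congr rfl hw1, Finset.sum_const, smul_eq_mul, mul_one]
          have hc := card_le_of_orth B (S.filter (fun v => π v = k))
            (fun v hv => by rw [hall' v hv]; linarith) (fun v hv w hw => by
              rcases key v ((mF k v).1 hv).1 w ((mF k w).1 hw).1
                (by rw [((mF k v).1 hv).2, ((mF k w).1 hw).2]) with h | h | h
              · exact Or.inl h
              · exact Or.inr (Or.inl h)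
              · exact Or.inr (Or.inr h.2.2))
          rw [hι] at hc
          exact hc
        · have hsub : S.filter (fun v => π v = k) ⊆ {v0, -v0} := by
            intro w hw
            rw [Finset.mem_insert, Finset.mem_singleton]
            rcases key v0 ((mF k v0).1 hv0).1 w ((mF k w).1 hw).1
              (by rw [((mF k v0).1 hv0).2, ((mF k w).1 hw).2]) with h | h | h
            · exact Or.inl h
            · exact Or.inr h
            · exact absurd h.1 hq
          have hw24 : ∀ w ∈ S.filter (fun v => π v = k),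
              (if w = 0 then 48 else if bq B w = 2 * μ then 1 else 24 : ℕ) ≤ 24 := by
            intro w hw
            have hw0 : w ≠ 0 := by
              rintro rfl
              exact h0 hw
            rw [if_neg hw0]
            split_ifs <;> norm_num
          have hc2 : (S.filter (fun v => π v = k)).card ≤ 2 :=
            (Finset.card_le_card hsub).trans Finset.card_le_two
          calc ∑ v ∈ S.filter (fun v => π v = k),
                (if v = 0 then 48 else if bq B v = 2 * μ then 1 else 24 : ℕ)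
              ≤ (S.filter (fun v => π v = k)).card • 24 := Finset.sum_le_card_nsmul _ _ _ hw24
            _ ≤ 2 • 24 := Nat.mul_le_mul_right _ hc2
            _ = 48 := rfl
      · rw [Finset.not_nonempty_iff_eq_empty.1 hne, Finset.sum_empty]
        norm_num
  have htot : ∑ k : Q, ∑ v ∈ S.filter (fun v => π v = k),
      (if v = 0 then 48 else if bq B v = 2 * μ then 1 else 24 : ℕ) =
      ∑ v ∈ S, (if v = 0 then 48 else if bq B v = 2 * μ then 1 else 24 : ℕ) :=
    Finset.sum_fiberwise S π _
  have heq : ∀ k : Q, ∑ v ∈ S.filter (fun v => π v = k),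
      (if v = 0 then 48 else if bq B v = 2 * μ then 1 else 24 : ℕ) = 48 := by
    have h1 : ∑ k : Q, ∑ v ∈ S.filter (fun v => π v = k),
        (if v = 0 then 48 else if bq B v = 2 * μ then 1 else 24 : ℕ) = ∑ _k : Q, 48 := by
      apply le_antisymm (Finset.sum_le_sum fun k _ => hfib k)
      rw [htot, hsum, Finset.sum_const, Finset.card_univ, smul_eq_mul]
      calc Fintype.card Q * 48 ≤ 2 ^ 24 * 48 := Nat.mul_le_mul_right _ hQ'
        _ = 48 * 2 ^ 24 := by ring
    intro k
    exact (Finset.sum_eq_sum_iff_of_le (fun k _ => hfib k)).1 h1 k (Finset.mem_univ k)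
  constructor
  · intro x hx
    have hne : (S.filter (fun v => π v = π x)).Nonempty := by
      rw [Finset.nonempty_iff_ne_empty]
      intro he
      have := heq (π x)
      rw [he, Finset.sum_empty] at this
      norm_num at this
    obtain ⟨y, hy⟩ := hne
    rw [mF, mS] at hy
    exact ⟨y, hy.1.1, hy.1.2, (hπ x hx y hy.1.1).1 hy.2.symm⟩
  · intro x hx hq
    have hxS : x ∈ S := (mS x).2 ⟨hx, by linarith⟩
    have hall' : ∀ w ∈ S.filter (fun v => π v = π x), bq B w = 2 * μ := by
      intro w hw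
      exact hall x hxS w ((mF _ w).1 hw).1 ((mF _ w).1 hw).2.symm hq
    have hw1 : ∀ w ∈ S.filter (fun v => π v = π x),
        (if w = 0 then 48 else if bq B w = 2 * μ then 1 else 24 : ℕ) = 1 := by
      intro w hw
      have hw0 : w ≠ 0 := by
        rintro rfl
        have := hall' 0 hw
        rw [bq_zero] at this
        linarith
      rw [if_neg hw0, if_pos (hall' w hw)]
    have hcard : (S.filter (fun v => π v = π x)).card = 48 := by
      have := heq (π x)
      rw [Finset.sum_congr rfl hw1, Finset.sum_const, smul_eq_mul, mul_one] at this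
      exact this
    have hset : {y | y ∈ L ∧ bq B y = 2 * μ ∧ ∃ z ∈ L, x - y = 2 • z} =
        ((S.filter (fun v => π v = π x) : Finset (ι → ℤ)) : Set (ι → ℤ)) := by
      ext y
      rw [Finset.mem_coe, mF, mS, Set.mem_ofPred_eq]
      constructor
      · rintro ⟨hy, hqy, hz⟩
        exact ⟨⟨hy, by linarith⟩, ((hπ x hx y hy).2 hz).symm⟩
      · rintro ⟨⟨hy, hqy⟩, hπy⟩
        exact ⟨hy, hall x hxS y ((mS y).2 ⟨hy, hqy⟩) hπy.symm hq, (hπ x hx y hy).1 hπy.symm⟩
    rw [hset, Set.ncard_coe_finset, hcard]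

end

end Cfsg.Agent.Lib.helper93
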