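import Cfsg.Agent.Lib.helper9.M24Pack
import Cfsg.Agent.Lib.helper93.Co0Elems

/-!
Vectors of `Cfsg.leechLattice` with small coordinates packed into natural numbers: the digit `i`
in base 32 is the coordinate of index `i` shifted by 8.
-/

set_option autoImplicit false
open Cfsg Cfsg.Agent.Lib.helper9

namespace Cfsg.Agent.Lib.helper93

theorem digSum_congr (f g : ℕ → ℕ) (k : ℕ) (h : ∀ j < k, f j = g j) : digSum f k = digSum g k := by
  induction k with
  | zero => rfl
  | succ k ih =>
    rw [digSum_succ, digSum_succ, ih (fun j hj => h j (Nat.lt_succ_of_lt hj)), h k (Nat.lt_succ_self k)]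

theorem digSum_lt' (f : ℕ → ℕ) (k : ℕ) (hf : ∀ j < k, f j < 32) : digSum f k < 32 ^ k := by
  have h1 : digSum f k = digSum (fun j => if j < k then f j else 0) k :=
    digSum_congr _ _ k (fun j hj => by simp only [if_pos hj])
  rw [h1]
  refine digSum_lt _ (fun j => ?_) k
  by_cases hj : j < k
  · simp only [if_pos hj]; exact hf j hj
  · simp only [if_neg hj]; norm_num

theorem getN_digSum' (f : ℕ → ℕ) (k i : ℕ) (hf : ∀ j < k, f j < 32) (hi : i < k) :
    getN (digSum f k) i = f i := by
  have h1 : digSum f k = digSum (fun j => if j < k then f j else 0) k :=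
    digSum_congr _ _ k (fun j hj => by simp only [if_pos hj])
  rw [h1, getN_digSum _ (fun j => ?_) k i hi]
  · simp only [if_pos hi]
  · by_cases hj : j < k
    · simp only [if_pos hj]; exact hf j hj
    · simp only [if_neg hj]; norm_num

theorem digSum_eq_sum (f : ℕ → ℕ) (k : ℕ) : digSum f k = ∑ j ∈ Finset.range k, f j * 32 ^ j := by
  induction k with
  | zero => rfl
  | succ k ih => rw [digSum_succ, Finset.sum_range_succ, ih]

theorem digSum_getN (n k : ℕ) : digSum (getN n) k = n % 32 ^ k := by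
  induction k with
  | zero => rw [digSum_zero, pow_zero, Nat.mod_one]
  | succ k ih =>
    rw [digSum_succ, ih, Nat.mod_pow_succ, mul_comm]
    rfl

theorem eq_of_getN_eq (n m : ℕ) (hn : n < 32 ^ 24) (hm : m < 32 ^ 24)
    (h : ∀ i < 24, getN n i = getN m i) : n = m := by
  have h1 := digSum_getN n 24
  have h2 := digSum_getN m 24
  rw [Nat.mod_eq_of_lt hn] at h1
  rw [Nat.mod_eq_of_lt hm] at h2
  rw [← h1, ← h2]
  exact digSum_congr _ _ 24 h

/-- the vector of a packed number -/
def vecP (n : ℕ) : GolayPt → ℤ := fun p => (getN n (idx p) : ℤ) - 8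

theorem vecP_apply (n : ℕ) (p : GolayPt) : vecP n p = (getN n (idx p) : ℤ) - 8 := rfl

theorem vecP_pt (n i : ℕ) (hi : i < 24) : vecP n (pt i) = (getN n i : ℤ) - 8 := by
  rw [vecP_apply, idx_pt hi]

theorem vecP_injOn (n m : ℕ) (hn : n < 32 ^ 24) (hm : m < 32 ^ 24) (h : vecP n = vecP m) :
    n = m := by
  refine eq_of_getN_eq n m hn hm fun i hi => ?_
  have h1 := congrFun h (pt i)
  rw [vecP_pt n i hi, vecP_pt m i hi] at h1
  omega

/-- the packed number of a vector with coordinates between `-8` and `23` -/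
def packV (x : GolayPt → ℤ) : ℕ := digSum (fun i => (x (pt i) + 8).toNat) 24

theorem packV_lt (x : GolayPt → ℤ) (hx : ∀ p, -8 ≤ x p ∧ x p ≤ 8) : packV x < 32 ^ 24 := by
  refine digSum_lt' _ 24 fun j _ => ?_
  have := hx (pt j)
  omega

theorem getN_packV (x : GolayPt → ℤ) (hx : ∀ p, -8 ≤ x p ∧ x p ≤ 8) (i : ℕ) (hi : i < 24) :
    getN (packV x) i = (x (pt i) + 8).toNat := by
  refine getN_digSum' _ 24 i (fun j _ => ?_) hi
  have := hx (pt j)
  omega

theorem vecP_packV (x : GolayPt → ℤ) (hx : ∀ p, -8 ≤ x p ∧ x p ≤ 8) : vecP (packV x) = x := by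
  funext p
  rw [vecP_apply, getN_packV x hx _ (idx_lt p), pt_idx]
  have := hx p
  omega

theorem packV_vecP (n : ℕ) (hn : n < 32 ^ 24) : packV (vecP n) = n := by
  have h1 : packV (vecP n) = digSum (getN n) 24 := by
    refine digSum_congr _ _ 24 fun j hj => ?_
    show (vecP n (pt j) + 8).toNat = getN n j
    rw [vecP_pt n j hj]
    omega
  rw [h1, digSum_getN, Nat.mod_eq_of_lt hn]

/-- Horner packing of a list of digits -/
def packL (l : List ℕ) : ℕ := l.foldr (fun f acc => f + 32 * acc) 0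

theorem getN_packL : ∀ (l : List ℕ), (∀ f ∈ l, f < 32) → ∀ i, getN (packL l) i = l.getD i 0
  | [], _, i => by
    show (0 / 32 ^ i) % 32 = 0
    simp
  | a :: l, h, 0 => by
    show ((a + 32 * packL l) / 32 ^ 0) % 32 = a
    have := h a List.mem_cons_self
    rw [pow_zero, Nat.div_one]
    omega
  | a :: l, h, i + 1 => by
    show ((a + 32 * packL l) / 32 ^ (i + 1)) % 32 = (a :: l).getD (i + 1) 0
    have ha := h a List.mem_cons_self
    have ih := getN_packL l (fun f hf => h f (List.mem_cons_of_mem _ hf)) i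
    have h1 : (a + 32 * packL l) / 32 ^ (i + 1) = packL l / 32 ^ i := by
      have h2 : (a + 32 * packL l) / 32 = packL l := by omega
      rw [pow_succ, mul_comm (32 ^ i) 32, ← Nat.div_div_eq_div_mul, h2]
    rw [h1, List.getD_cons_succ]
    exact ih

theorem sq_le_sqNorm (x : GolayPt → ℤ) (p : GolayPt) : x p ^ 2 ≤ sqNorm x :=
  Finset.single_le_sum (f := fun j => x j ^ 2) (fun j _ => sq_nonneg _) (Finset.mem_univ p)

/-- vectors of the lattice of norm at most 64 have coordinates between `-8` and `8` -/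
theorem coord_bound64 (x : GolayPt → ℤ) (hn : sqNorm x ≤ 64) (p : GolayPt) :
    -8 ≤ x p ∧ x p ≤ 8 := by
  have h1 : x p ^ 2 ≤ sqNorm x :=
    Finset.single_le_sum (f := fun j => x j ^ 2) (fun j _ => sq_nonneg _) (Finset.mem_univ p)
  constructor <;> nlinarith

theorem sum_vecP_eq (x : GolayPt → ℤ) : ∑ p, x p = ∑ i ∈ Finset.range 24, x (pt i) := by
  rw [← sum_idx (fun i => x (pt i))]
  exact Finset.sum_congr rfl fun p _ => by rw [pt_idx]

end Cfsg.Agent.Lib.helper93
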