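import Cfsg.Agent.Lib.helper93.Co0TwU
import Cfsg.Agent.Lib.helper93.Co0Conf

/-!
The configuration of 275 minimal vectors attached to a vector `u` of norm 48 of
`Cfsg.leechLattice` and a minimal vector `v` at minimal distance of `u`: the stabiliser of `u` and
`v` in `Cfsg.Co0` is transitive on them, and the stabiliser of one of them has orbits of 112 and
162 vectors on the others.
-/

set_option autoImplicit false
open Cfsg Cfsg.Agent.Lib.helper9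

namespace Cfsg.Agent.Lib.helper93

/-- the 275 points of a pair `(u, v)` -/
def Phi275 (c : ↥leechLattice × ↥leechLattice) (x : ↥leechLattice) : Prop :=
  sqNorm (x : GolayPt → ℤ) = 32 ∧ sqNorm ((c.1 : GolayPt → ℤ) - (x : GolayPt → ℤ)) = 32 ∧
    dotInt (c.2 : GolayPt → ℤ) (x : GolayPt → ℤ) = 16

theorem Phi275_inv (h : ↥Co0) (c : ↥leechLattice × ↥leechLattice) (x : ↥leechLattice)
    (hx : Phi275 c x) : Phi275 (act2 h c) (h.1 x) := by
  obtain ⟨h1, h2, h3⟩ := hx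
  exact ⟨by rw [co_norm]; exact h1, by show sqNorm (((h.1 c.1 : ↥leechLattice) : GolayPt → ℤ) - _) = 32; rw [co_dist]; exact h2,
    by show dotInt ((h.1 c.2 : ↥leechLattice) : GolayPt → ℤ) _ = 16; rw [co_dot]; exact h3⟩

/-- the base pair -/
def cM : ↥leechLattice × ↥leechLattice := (u0S, v0S)

/-- the joint stabiliser of `v0S` and `u0S` -/
def HM : Subgroup ↥Co0 := MulAction.stabilizer ↥Co0 v0S ⊓ MulAction.stabilizer ↥Co0 u0S

theorem actsM_snd : ∀ a ∈ actsM, Snd HM a :=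
  snd_fix _ actsM (snd_words _ actsS actsS_snd 8 wsM) u0S nU u0S_val
    (by rw [u0S_norm]; norm_num) actsM_fix

theorem HM_fix (g : ↥Co0) (hg : g ∈ HM) : g.1 v0S = v0S ∧ g.1 u0S = u0S :=
  ⟨stab_apply g v0S (Subgroup.mem_inf.1 hg).1, stab_apply g u0S (Subgroup.mem_inf.1 hg).2⟩

theorem HM_act (g : ↥Co0) (hg : g ∈ HM) : act2 g cM = cM := by
  obtain ⟨h1, h2⟩ := HM_fix g hg
  unfold act2 cM
  rw [h1, h2]

/-- the condition on the vectors -/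
def PM (x : GolayPt → ℤ) : Prop :=
  sqNorm ((u0S : GolayPt → ℤ) - x) = 32 ∧ dotInt (v0S : GolayPt → ℤ) x = 16

theorem PM_inv (g : ↥Co0) (hg : g ∈ HM) (v : ↥leechLattice) (h : PM (v : GolayPt → ℤ)) :
    PM ((g.1 v : ↥leechLattice) : GolayPt → ℤ) := by
  obtain ⟨h1, h2⟩ := HM_fix g hg
  exact ⟨by rw [inv_dist g u0S v h2]; exact h.1, by rw [inv_dot g v0S v h1]; exact h.2⟩

theorem McL_base_trans (x x' : ↥leechLattice) (hx : Phi275 cM x) (hx' : Phi275 cM x') :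
    ∃ g ∈ HM, (g : ↥Co0).1 x = x' :=
  trans_of_table HM actsM actsM_snd PM q275 (fun x _ hn => q275_iff x hn)
    (fun g hg v _ h => PM_inv g hg v h) (LSi 1) (fun n hn hq => tag_cover 1 q275 rfl n hn hq)
    nX0 8 LSM_desc' x x' hx hx'

theorem McL_base_card : {x | Phi275 cM x}.ncard = 275 :=
  ncard_sub_filter PM q275 275 (fun x _ hn => q275_iff x hn) cnt_q275

/-- every pair is the image of the base pair -/
theorem pair_to_base (u v : ↥leechLattice) (hu : sqNorm (u : GolayPt → ℤ) = 48)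
    (hv : sqNorm (v : GolayPt → ℤ) = 32 ∧
      sqNorm ((u : GolayPt → ℤ) - (v : GolayPt → ℤ)) = 32) :
    ∃ h : ↥Co0, act2 h cM = (u, v) := by
  obtain ⟨h1, hh1⟩ := mem_orb48 u hu
  have hv' : h1.1 v0S ∈ nbr u := by
    rw [← hh1, nbr_map]
    exact ⟨v0S, v0S_nbr, rfl⟩
  obtain ⟨g, hg1, hg2⟩ := pair_trans u (h1.1 v0S) v hu hv' hv
  refine ⟨g * h1, ?_⟩
  show ((g * h1).1 u0S, (g * h1).1 v0S) = (u, v)
  rw [co_mul_apply, co_mul_apply, hh1, hg1, hg2]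

/-- the configuration of 275 points, for any pair -/
theorem McL_conf (u v : ↥leechLattice) (hu : sqNorm (u : GolayPt → ℤ) = 48)
    (hv : sqNorm (v : GolayPt → ℤ) = 32 ∧
      sqNorm ((u : GolayPt → ℤ) - (v : GolayPt → ℤ)) = 32) :
    {x | Phi275 (u, v) x}.ncard = 275 ∧ ∀ x x', Phi275 (u, v) x → Phi275 (u, v) x' →
      ∃ g : ↥Co0, g.1 u = u ∧ g.1 v = v ∧ g.1 x = x' := by
  obtain ⟨h, hh⟩ := pair_to_base u v hu hv
  obtain ⟨rfl, rfl⟩ := Prod.ext_iff.1 hh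
  refine ⟨(ncard_map act2_isAct Phi275 Phi275_inv h cM).trans McL_base_card, ?_⟩
  intro x x' hx hx'
  obtain ⟨g, hg, hgx⟩ := trans_map act2_isAct (fun c x y => Phi275 c x ∧ Phi275 c y)
    (fun h c x y hxy => ⟨Phi275_inv h c x hxy.1, Phi275_inv h c y hxy.2⟩) cM
    (fun x y hxy => by
      obtain ⟨g, hg, hgx⟩ := McL_base_trans x y hxy.1 hxy.2
      exact ⟨g, HM_act g hg, hgx⟩) h x x' ⟨hx, hx'⟩
  exact ⟨g, congrArg Prod.fst hg, congrArg Prod.snd hg, hgx⟩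

/-! ### the stabiliser of a point -/

/-- the base triple -/
def cU : ↥leechLattice × ↥leechLattice × ↥leechLattice := (u0S, v0S, x0S)

/-- the stabiliser of `v0S`, `u0S` and `x0S` -/
def HU : Subgroup ↥Co0 := HM ⊓ MulAction.stabilizer ↥Co0 x0S

theorem actsU_snd : ∀ a ∈ actsU, Snd HU a :=
  snd_fix _ actsU (snd_words _ actsM actsM_snd 8 wsU) x0S nX0 x0S_val
    (by rw [x0S_norm]; norm_num) actsU_fix

theorem HU_fix (g : ↥Co0) (hg : g ∈ HU) : g.1 v0S = v0S ∧ g.1 u0S = u0S ∧ g.1 x0S = x0S :=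
  ⟨(HM_fix g (Subgroup.mem_inf.1 hg).1).1, (HM_fix g (Subgroup.mem_inf.1 hg).1).2,
    stab_apply g x0S (Subgroup.mem_inf.1 hg).2⟩

theorem HU_act (g : ↥Co0) (hg : g ∈ HU) : act3 g cU = cU := by
  obtain ⟨h1, h2, h3⟩ := HU_fix g hg
  unfold act3 cU
  simp only [h1, h2, h3]

theorem x0S_Phi : Phi275 cM x0S := ⟨x0S_norm, x0S_275.1, x0S_275.2⟩

/-- the points with inner product 8 with `x0S` -/
def PU8 (x : GolayPt → ℤ) : Prop := PM x ∧ dotInt (x0S : GolayPt → ℤ) x = 8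

/-- the points other than `x0S` with inner product 16 with `x0S` -/
def PU16 (x : GolayPt → ℤ) : Prop :=
  PM x ∧ x ≠ (x0S : GolayPt → ℤ) ∧ dotInt (x0S : GolayPt → ℤ) x = 16

theorem PU8_inv (g : ↥Co0) (hg : g ∈ HU) (v : ↥leechLattice) (h : PU8 (v : GolayPt → ℤ)) :
    PU8 ((g.1 v : ↥leechLattice) : GolayPt → ℤ) := by
  obtain ⟨h1, h2, h3⟩ := HU_fix g hg
  exact ⟨PM_inv g (Subgroup.mem_inf.1 hg).1 v h.1, by rw [inv_dot g x0S v h3]; exact h.2⟩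

theorem PU16_inv (g : ↥Co0) (hg : g ∈ HU) (v : ↥leechLattice) (h : PU16 (v : GolayPt → ℤ)) :
    PU16 ((g.1 v : ↥leechLattice) : GolayPt → ℤ) := by
  obtain ⟨h1, h2, h3⟩ := HU_fix g hg
  exact ⟨PM_inv g (Subgroup.mem_inf.1 hg).1 v h.1, fun e => h.2.1 ((inv_eq g x0S v h3).1 e),
    by rw [inv_dot g x0S v h3]; exact h.2.2⟩

theorem U8_trans (y y' : ↥leechLattice)
    (hy : sqNorm (y : GolayPt → ℤ) = 32 ∧ PU8 (y : GolayPt → ℤ))
    (hy' : sqNorm (y' : GolayPt → ℤ) = 32 ∧ PU8 (y' : GolayPt → ℤ)) :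
    ∃ g ∈ HU, (g : ↥Co0).1 y = y' :=
  trans_of_table HU actsU actsU_snd PU8 q112 (fun x _ hn => q112_iff x hn)
    (fun g hg v _ h => PU8_inv g hg v h) (LSi 2) (fun n hn hq => tag_cover 2 q112 rfl n hn hq)
    _ 8 LSU8_desc' y y' hy hy'

theorem U16_trans (y y' : ↥leechLattice)
    (hy : sqNorm (y : GolayPt → ℤ) = 32 ∧ PU16 (y : GolayPt → ℤ))
    (hy' : sqNorm (y' : GolayPt → ℤ) = 32 ∧ PU16 (y' : GolayPt → ℤ)) :
    ∃ g ∈ HU, (g : ↥Co0).1 y = y' :=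
  trans_of_table HU actsU actsU_snd PU16 q162 (fun x _ hn => q162_iff x hn)
    (fun g hg v _ h => PU16_inv g hg v h) (LSi 3) (fun n hn hq => tag_cover 3 q162 rfl n hn hq)
    _ 8 LSU16_desc' y y' hy hy'

/-- the points of a triple with inner product 8 with the third vector -/
def PhiU8 (c : ↥leechLattice × ↥leechLattice × ↥leechLattice) (y : ↥leechLattice) : Prop :=
  Phi275 (c.1, c.2.1) y ∧ dotInt (c.2.2 : GolayPt → ℤ) (y : GolayPt → ℤ) = 8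

/-- the points of a triple other than the third vector with inner product 16 with it -/
def PhiU16 (c : ↥leechLattice × ↥leechLattice × ↥leechLattice) (y : ↥leechLattice) : Prop :=
  Phi275 (c.1, c.2.1) y ∧ y ≠ c.2.2 ∧ dotInt (c.2.2 : GolayPt → ℤ) (y : GolayPt → ℤ) = 16

/-- the pairs of points of a triple with the same inner product with the third vector -/
def PsiU (c : ↥leechLattice × ↥leechLattice × ↥leechLattice) (y y' : ↥leechLattice) : Prop :=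
  Phi275 (c.1, c.2.1) y ∧ Phi275 (c.1, c.2.1) y' ∧ y ≠ c.2.2 ∧ y' ≠ c.2.2 ∧
    dotInt (c.2.2 : GolayPt → ℤ) (y : GolayPt → ℤ) =
      dotInt (c.2.2 : GolayPt → ℤ) (y' : GolayPt → ℤ)

theorem PhiU8_inv (h : ↥Co0) (c : ↥leechLattice × ↥leechLattice × ↥leechLattice)
    (y : ↥leechLattice) (hy : PhiU8 c y) : PhiU8 (act3 h c) (h.1 y) :=
  ⟨Phi275_inv h (c.1, c.2.1) y hy.1, by
    show dotInt ((h.1 c.2.2 : ↥leechLattice) : GolayPt → ℤ) _ = 8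
    rw [co_dot]
    exact hy.2⟩

theorem PhiU16_inv (h : ↥Co0) (c : ↥leechLattice × ↥leechLattice × ↥leechLattice)
    (y : ↥leechLattice) (hy : PhiU16 c y) : PhiU16 (act3 h c) (h.1 y) :=
  ⟨Phi275_inv h (c.1, c.2.1) y hy.1, (co_ne h y c.2.2).2 hy.2.1, by
    show dotInt ((h.1 c.2.2 : ↥leechLattice) : GolayPt → ℤ) _ = 16
    rw [co_dot]
    exact hy.2.2⟩

theorem PsiU_inv (h : ↥Co0) (c : ↥leechLattice × ↥leechLattice × ↥leechLattice)
    (y y' : ↥leechLattice) (hy : PsiU c y y') : PsiU (act3 h c) (h.1 y) (h.1 y') :=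
  ⟨Phi275_inv h (c.1, c.2.1) y hy.1, Phi275_inv h (c.1, c.2.1) y' hy.2.1,
    (co_ne h y c.2.2).2 hy.2.2.1, (co_ne h y' c.2.2).2 hy.2.2.2.1, by
    show dotInt ((h.1 c.2.2 : ↥leechLattice) : GolayPt → ℤ) _ =
      dotInt ((h.1 c.2.2 : ↥leechLattice) : GolayPt → ℤ) _
    rw [co_dot, co_dot]
    exact hy.2.2.2.2⟩

theorem U8_base_card : {y | PhiU8 cU y}.ncard = 112 := by
  have h := ncard_sub_filter PU8 q112 112 (fun x _ hn => q112_iff x hn) cnt_q112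
  rw [← h]
  congr 1
  ext y
  exact ⟨fun hy => ⟨hy.1.1, ⟨hy.1.2.1, hy.1.2.2⟩, hy.2⟩,
    fun hy => ⟨⟨hy.1, hy.2.1.1, hy.2.1.2⟩, hy.2.2⟩⟩

theorem U16_base_card : {y | PhiU16 cU y}.ncard = 162 := by
  have h := ncard_sub_filter PU16 q162 162 (fun x _ hn => q162_iff x hn) cnt_q162
  rw [← h]
  congr 1
  ext y
  exact ⟨fun hy => ⟨hy.1.1, ⟨hy.1.2.1, hy.1.2.2⟩, fun e => hy.2.1 (Subtype.ext e), hy.2.2⟩,
    fun hy => ⟨⟨hy.1, hy.2.1.1, hy.2.1.2⟩, fun e => hy.2.2.1 (congrArg Subtype.val e), hy.2.2.2⟩⟩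

theorem U_base_trans (y y' : ↥leechLattice) (h : PsiU cU y y') :
    ∃ g : ↥Co0, act3 g cU = cU ∧ g.1 y = y' := by
  obtain ⟨h1, h2, h3, h4, h5⟩ := h
  have n1 : (y : GolayPt → ℤ) ≠ (x0S : GolayPt → ℤ) := fun e => h3 (Subtype.ext e)
  have n2 : (y' : GolayPt → ℤ) ≠ (x0S : GolayPt → ℤ) := fun e => h4 (Subtype.ext e)
  have h5' : dotInt (x0S : GolayPt → ℤ) (y : GolayPt → ℤ) =
      dotInt (x0S : GolayPt → ℤ) (y' : GolayPt → ℤ) := h5
  rcases x0_dots (y : GolayPt → ℤ) y.2 h1.1 ⟨h1.2.1, h1.2.2⟩ n1 with hd | hd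
  · obtain ⟨g, hg, hgy⟩ := U8_trans y y' ⟨h1.1, ⟨h1.2.1, h1.2.2⟩, hd⟩
      ⟨h2.1, ⟨h2.2.1, h2.2.2⟩, by rw [← h5']; exact hd⟩
    exact ⟨g, HU_act g hg, hgy⟩
  · obtain ⟨g, hg, hgy⟩ := U16_trans y y' ⟨h1.1, ⟨h1.2.1, h1.2.2⟩, n1, hd⟩
      ⟨h2.1, ⟨h2.2.1, h2.2.2⟩, n2, by rw [← h5']; exact hd⟩
    exact ⟨g, HU_act g hg, hgy⟩

/-- every triple is the image of the base triple -/
theorem triple_to_base (u v x : ↥leechLattice) (hu : sqNorm (u : GolayPt → ℤ) = 48)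
    (hv : sqNorm (v : GolayPt → ℤ) = 32 ∧
      sqNorm ((u : GolayPt → ℤ) - (v : GolayPt → ℤ)) = 32) (hx : Phi275 (u, v) x) :
    ∃ h : ↥Co0, act3 h cU = (u, v, x) := by
  obtain ⟨h1, hh1⟩ := pair_to_base u v hu hv
  have e := Prod.ext_iff.1 hh1
  have e1 : h1.1 u0S = u := e.1
  have e2 : h1.1 v0S = v := e.2
  have hx' : Phi275 cM ((h1⁻¹ : ↥Co0).1 x) := by
    have h2 := Phi275_inv h1⁻¹ (u, v) x hx
    rw [← hh1, act2_isAct.inv] at h2
    exact h2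
  obtain ⟨g, hg, hgx⟩ := McL_base_trans x0S _ x0S_Phi hx'
  obtain ⟨f1, f2⟩ := HM_fix g hg
  refine ⟨h1 * g, ?_⟩
  show ((h1 * g).1 u0S, (h1 * g).1 v0S, (h1 * g).1 x0S) = (u, v, x)
  rw [co_mul_apply, co_mul_apply, co_mul_apply, f1, f2, hgx, e1, e2, co_apply_inv]

/-- the rank 3 configuration, for any triple -/
theorem U_conf (u v x : ↥leechLattice) (hu : sqNorm (u : GolayPt → ℤ) = 48)
    (hv : sqNorm (v : GolayPt → ℤ) = 32 ∧
      sqNorm ((u : GolayPt → ℤ) - (v : GolayPt → ℤ)) = 32) (hx : Phi275 (u, v) x) :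
    {y | PhiU8 (u, v, x) y}.ncard = 112 ∧ {y | PhiU16 (u, v, x) y}.ncard = 162 ∧
      ∀ y y', PsiU (u, v, x) y y' →
        ∃ g : ↥Co0, g.1 u = u ∧ g.1 v = v ∧ g.1 x = x ∧ g.1 y = y' := by
  obtain ⟨h, hh⟩ := triple_to_base u v x hu hv hx
  obtain ⟨rfl, hh2⟩ := Prod.ext_iff.1 hh
  obtain ⟨rfl, rfl⟩ := Prod.ext_iff.1 hh2
  refine ⟨(ncard_map act3_isAct PhiU8 PhiU8_inv h cU).trans U8_base_card,
    (ncard_map act3_isAct PhiU16 PhiU16_inv h cU).trans U16_base_card, ?_⟩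
  intro y y' hy
  obtain ⟨g, hg, hgy⟩ := trans_map act3_isAct PsiU PsiU_inv cU U_base_trans h y y' hy
  exact ⟨g, congrArg Prod.fst hg, congrArg (fun c => c.2.1) hg, congrArg (fun c => c.2.2) hg, hgy⟩

end Cfsg.Agent.Lib.helper93
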