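import Cfsg.Agent.Lib.helper93.Co0X25A
import Cfsg.Agent.Lib.helper93.Co0X25B
import Cfsg.Agent.Lib.helper93.Co0McL

/-!
The 2025 minimal vectors of `Cfsg.leechLattice` with inner products 0 and 16 with two minimal
vectors `v`, `w` with inner product `-8`: the joint stabiliser of `v` and `w` in `Cfsg.Co0` is
transitive on them, and the stabiliser of one of them has orbits of 330, 462 and 1232 vectors.
-/

set_option autoImplicit false
open Cfsg Cfsg.Agent.Lib.helper9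

namespace Cfsg.Agent.Lib.helper93

theorem dotX_add_left (a b c : GolayPt → ℤ) : dotInt (a + b) c = dotInt a c + dotInt b c := by
  unfold dotInt
  rw [← Finset.sum_add_distrib]
  refine Finset.sum_congr rfl fun i _ => ?_
  simp only [Pi.add_apply]
  ring

/-- the 2025 points of a pair `(u, v)` -/
def PhiX (c : ↥leechLattice × ↥leechLattice) (x : ↥leechLattice) : Prop :=
  sqNorm (x : GolayPt → ℤ) = 32 ∧ dotInt (c.1 : GolayPt → ℤ) (x : GolayPt → ℤ) = 16 ∧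
    dotInt (c.2 : GolayPt → ℤ) (x : GolayPt → ℤ) = 0

theorem PhiX_inv (h : ↥Co0) (c : ↥leechLattice × ↥leechLattice) (x : ↥leechLattice)
    (hx : PhiX c x) : PhiX (act2 h c) (h.1 x) := by
  obtain ⟨h1, h2, h3⟩ := hx
  exact ⟨by rw [co_norm]; exact h1,
    by show dotInt ((h.1 c.1 : ↥leechLattice) : GolayPt → ℤ) _ = 16; rw [co_dot]; exact h2,
    by show dotInt ((h.1 c.2 : ↥leechLattice) : GolayPt → ℤ) _ = 0; rw [co_dot]; exact h3⟩

/-- the condition on the vectors -/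
def PX (x : GolayPt → ℤ) : Prop :=
  dotInt (u0S : GolayPt → ℤ) x = 16 ∧ dotInt (v0S : GolayPt → ℤ) x = 0

/-- the test of the condition -/
def qXE (n : ℕ) : Bool := qH n && tE n

theorem tE_iff (x : GolayPt → ℤ) (hn : sqNorm x = 32) :
    tE (packV x) = true ↔ dotInt (v0S : GolayPt → ℤ) x = 0 := by
  have hb : ∀ p, -8 ≤ x p ∧ x p ≤ 8 := coord_bound64 x (by rw [hn]; norm_num)
  unfold tE
  rw [nbeq_iff, dot_v0S, dig_packV x hb 4 (by norm_num), dig_packV x hb 7 (by norm_num)]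
  omega

theorem qXE_iff (x : GolayPt → ℤ) (hn : sqNorm x = 32) : PX x ↔ qXE (packV x) = true := by
  unfold PX qXE
  rw [Bool.and_eq_true, ← qH_iff x hn, tE_iff x hn]

theorem PX_inv (g : ↥Co0) (hg : g ∈ HM) (v : ↥leechLattice) (h : PX (v : GolayPt → ℤ)) :
    PX ((g.1 v : ↥leechLattice) : GolayPt → ℤ) := by
  obtain ⟨h1, h2⟩ := HM_fix g hg
  exact ⟨by rw [inv_dot g u0S v h2]; exact h.1, by rw [inv_dot g v0S v h1]; exact h.2⟩

theorem X_base_trans (x x' : ↥leechLattice) (hx : PhiX cM x) (hx' : PhiX cM x') :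
    ∃ g ∈ HM, (g : ↥Co0).1 x = x' :=
  trans_of_table HM actsM actsM_snd PX qXE (fun x _ hn => qXE_iff x hn)
    (fun g hg v _ h => PX_inv g hg v h) LX
    (fun n hn hq => by
      rw [← LX_eq]
      unfold qXE at hq
      rw [Bool.and_eq_true] at hq
      exact sub_cover 5 qH rfl tE n hn hq.1 hq.2) _ 8 LSX_desc' x x' hx hx'

theorem X_base_card : {x | PhiX cM x}.ncard = 2025 :=
  ncard_sub_filter PX qXE 2025 (fun x _ hn => qXE_iff x hn) (by
    rw [← LX_len, ← LX_eq, ← List.countP_eq_length_filter]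
    exact sub_count 5 qH rfl tE)

theorem pS_PhiX : PhiX cM pS := by
  have h : PX (pS : GolayPt → ℤ) := (qXE_iff _ pS_norm).2 (by rw [pS_pack]; decide +kernel)
  exact ⟨pS_norm, h.1, h.2⟩

/-! ### the stabiliser of a point -/

/-- the stabiliser of `v0S`, `u0S` and `pS` -/
def HK : Subgroup ↥Co0 := HM ⊓ MulAction.stabilizer ↥Co0 pS

theorem actsK_snd : ∀ a ∈ actsK, Snd HK a :=
  snd_fix _ actsK (snd_words _ actsM actsM_snd 8 wsK) pS nP pS_val
    (by rw [pS_norm]; norm_num) actsK_fix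

theorem HK_fix (g : ↥Co0) (hg : g ∈ HK) : g.1 v0S = v0S ∧ g.1 u0S = u0S ∧ g.1 pS = pS :=
  ⟨(HM_fix g (Subgroup.mem_inf.1 hg).1).1, (HM_fix g (Subgroup.mem_inf.1 hg).1).2,
    stab_apply g pS (Subgroup.mem_inf.1 hg).2⟩

/-- the base triple -/
def cK : ↥leechLattice × ↥leechLattice × ↥leechLattice := (u0S, v0S, pS)

theorem HK_act (g : ↥Co0) (hg : g ∈ HK) : act3 g cK = cK := by
  obtain ⟨h1, h2, h3⟩ := HK_fix g hg
  unfold act3 cK
  simp only [h1, h2, h3]

/-- the points with inner product `d` with the third vector of a triple -/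
def ClsX (d : ℤ) (c : ↥leechLattice × ↥leechLattice × ↥leechLattice) (y : ↥leechLattice) :
    Prop :=
  PhiX (c.1, c.2.1) y ∧ dotInt (c.2.2 : GolayPt → ℤ) (y : GolayPt → ℤ) = d

theorem ClsX_inv (d : ℤ) (h : ↥Co0) (c : ↥leechLattice × ↥leechLattice × ↥leechLattice)
    (y : ↥leechLattice) (hy : ClsX d c y) : ClsX d (act3 h c) (h.1 y) :=
  ⟨PhiX_inv h (c.1, c.2.1) y hy.1, by
    show dotInt ((h.1 c.2.2 : ↥leechLattice) : GolayPt → ℤ) _ = d
    rw [co_dot]
    exact hy.2⟩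

/-- the condition on the vectors -/
def PK (d : ℤ) (x : GolayPt → ℤ) : Prop := PX x ∧ dotInt (pS : GolayPt → ℤ) x = d

/-- the test of the condition -/
def qK (s n : ℕ) : Bool := qH n && tG s n

theorem tF_iff (s : ℕ) (x : GolayPt → ℤ) (hn : sqNorm x = 32) :
    tF s (packV x) = true ↔ dotInt (pS : GolayPt → ℤ) x = 64 - 4 * s := by
  have hb : ∀ p, -8 ≤ x p ∧ x p ≤ 8 := coord_bound64 x (by rw [hn]; norm_num)
  unfold tF
  rw [nbeq_iff, Nat.add_eq, dot_pS, dig_packV x hb 1 (by norm_num),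
    dig_packV x hb 2 (by norm_num)]
  omega

theorem qK_iff (s : ℕ) (x : GolayPt → ℤ) (hn : sqNorm x = 32) :
    PK (64 - 4 * s) x ↔ qK s (packV x) = true := by
  unfold PK PX qK tG
  rw [Bool.and_eq_true, Bool.and_eq_true, ← qH_iff x hn, tE_iff x hn, tF_iff s x hn, and_assoc]

theorem PK_inv (d : ℤ) (g : ↥Co0) (hg : g ∈ HK) (v : ↥leechLattice)
    (h : PK d (v : GolayPt → ℤ)) : PK d ((g.1 v : ↥leechLattice) : GolayPt → ℤ) := by
  obtain ⟨h1, h2, h3⟩ := HK_fix g hg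
  exact ⟨PX_inv g (Subgroup.mem_inf.1 hg).1 v h.1, by rw [inv_dot g pS v h3]; exact h.2⟩

theorem K_trans (s : ℕ) (LS : List ℕ) (hLS : (LSi 5).filter (tG s) = LS) (root : ℕ)
    (hdesc : ∀ n ∈ LS, ∃ w, descB actsK 8 root n w = true) (y y' : ↥leechLattice)
    (hy : ClsX (64 - 4 * s) cK y) (hy' : ClsX (64 - 4 * s) cK y') :
    ∃ g ∈ HK, (g : ↥Co0).1 y = y' :=
  trans_of_table HK actsK actsK_snd (PK (64 - 4 * s)) (qK s) (fun x _ hn => qK_iff s x hn)
    (fun g hg v _ h => PK_inv _ g hg v h) LS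
    (fun n hn hq => by
      rw [← hLS]
      unfold qK at hq
      rw [Bool.and_eq_true] at hq
      exact sub_cover 5 qH rfl (tG s) n hn hq.1 hq.2) root 8 hdesc y y'
    ⟨hy.1.1, hy.1.2, hy.2⟩ ⟨hy'.1.1, hy'.1.2, hy'.2⟩

theorem K_card (s : ℕ) (LS : List ℕ) (hLS : (LSi 5).filter (tG s) = LS) (N : ℕ)
    (hN : LS.length = N) : {y | ClsX (64 - 4 * s) cK y}.ncard = N := by
  have h := ncard_sub_filter (PK (64 - 4 * s)) (qK s) N (fun x _ hn => qK_iff s x hn) (by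
    rw [← hN, ← hLS, ← List.countP_eq_length_filter]
    exact sub_count 5 qH rfl (tG s))
  rw [← h]
  congr 1
  ext y
  exact ⟨fun hy => ⟨hy.1.1, hy.1.2, hy.2⟩, fun hy => ⟨⟨hy.1, hy.2.1⟩, hy.2.2⟩⟩

/-! ### any triple -/

/-- every triple is the image of the base triple -/
theorem tripleX_to_base (u v x : ↥leechLattice) (hu : sqNorm (u : GolayPt → ℤ) = 48)
    (hv : sqNorm (v : GolayPt → ℤ) = 32 ∧
      sqNorm ((u : GolayPt → ℤ) - (v : GolayPt → ℤ)) = 32) (hx : PhiX (u, v) x) :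
    ∃ h : ↥Co0, act3 h cK = (u, v, x) := by
  obtain ⟨h0, hh⟩ := pair_to_base u v hu hv
  have e1 : h0.1 u0S = u := congrArg Prod.fst hh
  have e2 : h0.1 v0S = v := congrArg Prod.snd hh
  subst e1
  subst e2
  have hx' : PhiX cM ((h0⁻¹ : ↥Co0).1 x) := by
    obtain ⟨a1, a2, a3⟩ := hx
    refine ⟨by rw [co_norm]; exact a1, ?_, ?_⟩
    · show dotInt (u0S : GolayPt → ℤ) _ = 16
      have := co_dot h0⁻¹ (h0.1 u0S) x
      rw [co_inv_apply] at this
      rw [this]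
      exact a2
    · show dotInt (v0S : GolayPt → ℤ) _ = 0
      have := co_dot h0⁻¹ (h0.1 v0S) x
      rw [co_inv_apply] at this
      rw [this]
      exact a3
  obtain ⟨g, hg, hgx⟩ := X_base_trans pS _ pS_PhiX hx'
  obtain ⟨g1, g2⟩ := HM_fix g hg
  refine ⟨h0 * g, ?_⟩
  show ((h0 * g).1 u0S, (h0 * g).1 v0S, (h0 * g).1 pS) = (h0.1 u0S, h0.1 v0S, x)
  rw [co_mul_apply, co_mul_apply, co_mul_apply, g2, g1, hgx, co_apply_inv]

/-- the orbit of a vector under a subgroup is a set on which the subgroup is transitive -/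
theorem orbit_eq_of (K : Subgroup ↥Co0) (y : ↥leechLattice) (C : Set ↥leechLattice)
    (hy : y ∈ C) (hinv : ∀ g ∈ K, ∀ z ∈ C, (g : ↥Co0).1 z ∈ C)
    (htr : ∀ z ∈ C, ∃ g ∈ K, (g : ↥Co0).1 y = z) : MulAction.orbit ↥K y = C := by
  ext z
  constructor
  · rintro ⟨⟨g, hg⟩, rfl⟩
    exact hinv g hg y hy
  · intro hz
    obtain ⟨g, hg, h3⟩ := htr z hz
    exact ⟨⟨g, hg⟩, h3⟩

/-- a class of a triple is an orbit of the stabiliser of the triple, of the size of the class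
of the base triple -/
theorem classX_orbit (s : ℕ) (LS : List ℕ) (hLS : (LSi 5).filter (tG s) = LS) (root : ℕ)
    (hdesc : ∀ n ∈ LS, ∃ w, descB actsK 8 root n w = true) (N : ℕ) (hN : LS.length = N)
    (hN0 : N ≠ 0) (h : ↥Co0) (K : Subgroup ↥Co0)
    (hK : ∀ g : ↥Co0, g ∈ K ↔ act3 g (act3 h cK) = act3 h cK) :
    ∃ y, ClsX (64 - 4 * s) (act3 h cK) y ∧ (MulAction.orbit ↥K y).ncard = N := by
  have hc : {z | ClsX (64 - 4 * s) (act3 h cK) z}.ncard = N :=
    (ncard_map act3_isAct (ClsX (64 - 4 * s)) (ClsX_inv _) h cK).trans (K_card s LS hLS N hN)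
  obtain ⟨y, hy⟩ := Set.nonempty_of_ncard_ne_zero (by rw [hc]; exact hN0)
  refine ⟨y, hy, ?_⟩
  have ho := orbit_eq_of K y {z | ClsX (64 - 4 * s) (act3 h cK) z} hy
    (fun g hg z hz => by
      have := ClsX_inv (64 - 4 * s) g _ z hz
      rw [(hK g).1 hg] at this
      exact this)
    (fun z hz => by
      obtain ⟨g, hg, hgy⟩ := trans_map act3_isAct
        (fun c y y' => ClsX (64 - 4 * s) c y ∧ ClsX (64 - 4 * s) c y')
        (fun h c y y' hyy => ⟨ClsX_inv _ h c y hyy.1, ClsX_inv _ h c y' hyy.2⟩) cK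
        (fun y y' hyy => by
          obtain ⟨g, hg, hgx⟩ := K_trans s LS hLS root hdesc y y' hyy.1 hyy.2
          exact ⟨g, HK_act g hg, hgx⟩) h y z ⟨hy, hz⟩
      exact ⟨g, (hK g).2 hg, hgy⟩)
  rw [ho]
  exact hc

/-- the configuration of 2025 points of two minimal vectors with inner product `-8` -/
theorem McL_2025 (v w : ↥leechLattice) (hv : sqNorm (v : GolayPt → ℤ) = 32)
    (hw : sqNorm (w : GolayPt → ℤ) = 32)
    (hvw : dotInt (v : GolayPt → ℤ) (w : GolayPt → ℤ) = -8) :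
    {x : ↥leechLattice | sqNorm (x : GolayPt → ℤ) = 32 ∧
      dotInt (v : GolayPt → ℤ) (x : GolayPt → ℤ) = 0 ∧
      dotInt (w : GolayPt → ℤ) (x : GolayPt → ℤ) = 16}.ncard = 2025 ∧
    (∀ x x' : ↥leechLattice, PhiX (v + w, v) x → PhiX (v + w, v) x' →
      ∃ g : ↥Co0, g.1 v = v ∧ g.1 w = w ∧ g.1 x = x') ∧
    (∀ x : ↥leechLattice, PhiX (v + w, v) x ↔ (sqNorm (x : GolayPt → ℤ) = 32 ∧
      dotInt (v : GolayPt → ℤ) (x : GolayPt → ℤ) = 0 ∧
      dotInt (w : GolayPt → ℤ) (x : GolayPt → ℤ) = 16)) ∧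
    ∀ x : ↥leechLattice, PhiX (v + w, v) x → ∃ y₁ y₂ y₃ : ↥leechLattice,
      PhiX (v + w, v) y₁ ∧ PhiX (v + w, v) y₂ ∧ PhiX (v + w, v) y₃ ∧
      (MulAction.orbit ↥(MulAction.stabilizer ↥Co0 v ⊓ MulAction.stabilizer ↥Co0 w ⊓
        MulAction.stabilizer ↥Co0 x) y₁).ncard = 330 ∧
      (MulAction.orbit ↥(MulAction.stabilizer ↥Co0 v ⊓ MulAction.stabilizer ↥Co0 w ⊓
        MulAction.stabilizer ↥Co0 x) y₂).ncard = 462 ∧
      (MulAction.orbit ↥(MulAction.stabilizer ↥Co0 v ⊓ MulAction.stabilizer ↥Co0 w ⊓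
        MulAction.stabilizer ↥Co0 x) y₃).ncard = 1232 := by
  have hu : sqNorm ((v + w : ↥leechLattice) : GolayPt → ℤ) = 48 := by
    rw [AddSubgroup.coe_add, sqNorm_add, hv, hw, hvw]
    norm_num
  have hv' : sqNorm (v : GolayPt → ℤ) = 32 ∧
      sqNorm (((v + w : ↥leechLattice) : GolayPt → ℤ) - (v : GolayPt → ℤ)) = 32 := by
    refine ⟨hv, ?_⟩
    rw [AddSubgroup.coe_add, add_sub_cancel_left]
    exact hw
  have hiff : ∀ x : ↥leechLattice, PhiX (v + w, v) x ↔ (sqNorm (x : GolayPt → ℤ) = 32 ∧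
      dotInt (v : GolayPt → ℤ) (x : GolayPt → ℤ) = 0 ∧
      dotInt (w : GolayPt → ℤ) (x : GolayPt → ℤ) = 16) := by
    intro x
    unfold PhiX
    rw [AddSubgroup.coe_add, dotX_add_left]
    constructor
    · rintro ⟨h1, h2, h3⟩
      exact ⟨h1, h3, by linarith⟩
    · rintro ⟨h1, h2, h3⟩
      exact ⟨h1, by linarith, h2⟩
  -- an element fixing `v + w` and `v` fixes `w`
  have hfix : ∀ g : ↥Co0, g.1 (v + w) = v + w → g.1 v = v → g.1 w = w := by
    intro g h1 h2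
    have h3 := g.2.1 v w
    rw [h1, h2] at h3
    exact (add_left_cancel h3).symm
  obtain ⟨h0, hh⟩ := pair_to_base (v + w) v hu hv'
  refine ⟨?_, ?_, hiff, ?_⟩
  · have e : {x : ↥leechLattice | sqNorm (x : GolayPt → ℤ) = 32 ∧
        dotInt (v : GolayPt → ℤ) (x : GolayPt → ℤ) = 0 ∧
        dotInt (w : GolayPt → ℤ) (x : GolayPt → ℤ) = 16} = {x | PhiX (v + w, v) x} := by
      ext x
      exact (hiff x).symm
    rw [e, ← hh]
    exact (ncard_map act2_isAct PhiX PhiX_inv h0 cM).trans X_base_card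
  · intro x x' hx hx'
    rw [← hh] at hx hx'
    obtain ⟨g, hg, hgx⟩ := trans_map act2_isAct (fun c x y => PhiX c x ∧ PhiX c y)
      (fun h c x y hxy => ⟨PhiX_inv h c x hxy.1, PhiX_inv h c y hxy.2⟩) cM
      (fun x y hxy => by
        obtain ⟨g, hg, hgx⟩ := X_base_trans x y hxy.1 hxy.2
        exact ⟨g, HM_act g hg, hgx⟩) h0 x x' ⟨hx, hx'⟩
    rw [hh] at hg
    have g1 : g.1 (v + w) = v + w := congrArg Prod.fst hg
    have g2 : g.1 v = v := congrArg Prod.snd hg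
    exact ⟨g, g2, hfix g g1 g2, hgx⟩
  · intro x hx
    obtain ⟨h, hh3⟩ := tripleX_to_base (v + w) v x hu hv' hx
    have hK : ∀ g : ↥Co0, g ∈ MulAction.stabilizer ↥Co0 v ⊓ MulAction.stabilizer ↥Co0 w ⊓
        MulAction.stabilizer ↥Co0 x ↔ act3 g (act3 h cK) = act3 h cK := by
      intro g
      rw [hh3]
      constructor
      · intro hg
        obtain ⟨hg12, hg3⟩ := Subgroup.mem_inf.1 hg
        obtain ⟨hg1, hg2⟩ := Subgroup.mem_inf.1 hg12
        have a1 := stab_apply g v hg1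
        have a2 := stab_apply g w hg2
        have a3 := stab_apply g x hg3
        show (g.1 (v + w), g.1 v, g.1 x) = (v + w, v, x)
        rw [g.2.1 v w, a1, a2, a3]
      · intro hg
        have b1 : g.1 (v + w) = v + w := congrArg Prod.fst hg
        have b2 : g.1 v = v := congrArg (fun c => c.2.1) hg
        have b3 : g.1 x = x := congrArg (fun c => c.2.2) hg
        exact Subgroup.mem_inf.2 ⟨Subgroup.mem_inf.2 ⟨MulAction.mem_stabilizer_iff.2 b2,
          MulAction.mem_stabilizer_iff.2 (hfix g b1 b2)⟩, MulAction.mem_stabilizer_iff.2 b3⟩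
    obtain ⟨y₁, c1, n1⟩ := classX_orbit 16 LXa LXa_eq _ LSXa_desc' 330 LXa_len (by norm_num) h _ hK
    obtain ⟨y₂, c2, n2⟩ := classX_orbit 12 LXb LXb_eq _ LSXb_desc' 462 LXb_len (by norm_num) h _ hK
    obtain ⟨y₃, c3, n3⟩ := classX_orbit 14 LXc LXc_eq _ LSXc_desc' 1232 LXc_len (by norm_num) h _ hK
    rw [hh3] at c1 c2 c3
    exact ⟨y₁, y₂, y₃, c1.1, c2.1, c3.1, n1, n2, n3⟩

end Cfsg.Agent.Lib.helper93
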