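import Cfsg.Agent.Lib.helper93.Co0B6T0
import Cfsg.Agent.Lib.helper93.Co0B6T1
import Cfsg.Agent.Lib.helper93.Co0B6T2
import Cfsg.Agent.Lib.helper93.Co0B6T3
import Cfsg.Agent.Lib.helper93.Co0B6T4

/-!
The list of the minimal vectors with inner product `-8` with `v0S`, tagged by their inner product
with `u0S`.
-/

set_option autoImplicit false
open Cfsg Cfsg.Agent.Lib.helper9

namespace Cfsg.Agent.Lib.helper93

/-- the tagged minimal vectors -/
def TAGB : List ℕ := TAGB1 ++ ((TAGB2_0 ++ (TAGB2_1 ++ (TAGB2_2 ++ (TAGB2_3 ++ (TAGB2_4 ++ (TAGB2_5 ++ (TAGB2_6 ++ (TAGB2_7 ++ [])))))))) ++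
  (TAGB3_0 ++ (TAGB3_1 ++ (TAGB3_2 ++ (TAGB3_3 ++ (TAGB3_4 ++ (TAGB3_5 ++ (TAGB3_6 ++ (TAGB3_7 ++ (TAGB3_8 ++ (TAGB3_9 ++ (TAGB3_10 ++ (TAGB3_11 ++ (TAGB3_12 ++ (TAGB3_13 ++ (TAGB3_14 ++ (TAGB3_15 ++ [])))))))))))))))))

theorem collectB_EL_eq : collectL qsB EL = TAGB := by
  rw [collectB_EL', chunksF_8 cB2, chunksF_16 cB3, cB1_eq, cB2_0, cB2_1, cB2_2, cB2_3, cB2_4, cB2_5, cB2_6, cB2_7,
    cB3_0, cB3_1, cB3_2, cB3_3, cB3_4, cB3_5, cB3_6, cB3_7, cB3_8, cB3_9, cB3_10, cB3_11, cB3_12, cB3_13, cB3_14, cB3_15]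
  rfl

/-- the packed minimal vectors passing the test number `i` -/
def LSBi (i : ℕ) : List ℕ := (TAGB.filter (selT i)).map valT

/-- every minimal vector passing the test number `i` is in the list -/
theorem tagB_cover (i : ℕ) (q : ℕ → Bool) (hq : qsB.getD i (fun _ => false) = q) (n : ℕ)
    (hn : n ∈ EL) (hqn : q n = true) : n ∈ LSBi i := by
  subst hq
  unfold LSBi
  rw [← collectB_EL_eq]
  exact mem_collect qsB i EL EL_lt n hn hqn

theorem tagB_count (i : ℕ) (q : ℕ → Bool) (hq : qsB.getD i (fun _ => false) = q) :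
    EL.countP q = TAGB.countP (selT i) := by
  subst hq
  rw [← collectB_EL_eq]
  exact count_collect qsB i EL EL_lt

set_option maxRecDepth 100000 in
set_option maxHeartbeats 0 in
theorem cntB_X : EL.countP qBX = 0 := by
  rw [tagB_count 5 qBX rfl]
  decide +kernel

end Cfsg.Agent.Lib.helper93
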