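import Cfsg.Agent.Lib.helper93.Co0B6Cb0
import Cfsg.Agent.Lib.helper93.Co0B6Tag

/-!
The class of 2025 vectors: the list and the table of descending words.
-/

set_option autoImplicit false
open Cfsg Cfsg.Agent.Lib.helper9

namespace Cfsg.Agent.Lib.helper93

/-- the packed vectors of the class -/
def LBb : List ℕ := LBb_0 ++ (LBb_1 ++ (LBb_2 ++ (LBb_3)))

set_option maxRecDepth 100000 in
set_option maxHeartbeats 0 in
theorem LBb_eq : LSBi 1 = LBb := by
  decide +kernel

set_option maxRecDepth 100000 in
set_option maxHeartbeats 0 in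
theorem LBb_len : LBb.length = 2025 := by
  decide +kernel

theorem LSBb_desc' : ∀ n ∈ LBb, ∃ w, descB actsM 8 217071509852121335728888545392434409 n w = true := by
  intro n hn
  simp only [LBb, List.mem_append] at hn
  rcases hn with h | h | h | h
  · exact allZ_spec _ _ _ LSBb_desc_0 n h
  · exact allZ_spec _ _ _ LSBb_desc_1 n h
  · exact allZ_spec _ _ _ LSBb_desc_2 n h
  · exact allZ_spec _ _ _ LSBb_desc_3 n h

end Cfsg.Agent.Lib.helper93
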