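import Cfsg.Agent.Lib.helper93.Co0B6Cc0
import Cfsg.Agent.Lib.helper93.Co0B6Cc1
import Cfsg.Agent.Lib.helper93.Co0B6Tag

/-!
The class of 7128 vectors: the list and the table of descending words.
-/

set_option autoImplicit false
open Cfsg Cfsg.Agent.Lib.helper9

namespace Cfsg.Agent.Lib.helper93

/-- the packed vectors of the class -/
def LBc : List ℕ := LBc_0 ++ (LBc_1 ++ (LBc_2 ++ (LBc_3 ++ (LBc_4 ++ (LBc_5 ++ (LBc_6 ++ (LBc_7 ++ (LBc_8 ++ (LBc_9 ++ (LBc_10 ++ (LBc_11)))))))))))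

set_option maxRecDepth 100000 in
set_option maxHeartbeats 0 in
theorem LBc_eq : LSBi 2 = LBc := by
  decide +kernel

set_option maxRecDepth 100000 in
set_option maxHeartbeats 0 in
theorem LBc_len : LBc.length = 7128 := by
  decide +kernel

theorem LSBc_desc' : ∀ n ∈ LBc, ∃ w, descB actsM 8 217071507453539386792015869026542887 n w = true := by
  intro n hn
  simp only [LBc, List.mem_append] at hn
  rcases hn with h | h | h | h | h | h | h | h | h | h | h | h
  · exact allZ_spec _ _ _ LSBc_desc_0 n h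
  · exact allZ_spec _ _ _ LSBc_desc_1 n h
  · exact allZ_spec _ _ _ LSBc_desc_2 n h
  · exact allZ_spec _ _ _ LSBc_desc_3 n h
  · exact allZ_spec _ _ _ LSBc_desc_4 n h
  · exact allZ_spec _ _ _ LSBc_desc_5 n h
  · exact allZ_spec _ _ _ LSBc_desc_6 n h
  · exact allZ_spec _ _ _ LSBc_desc_7 n h
  · exact allZ_spec _ _ _ LSBc_desc_8 n h
  · exact allZ_spec _ _ _ LSBc_desc_9 n h
  · exact allZ_spec _ _ _ LSBc_desc_10 n h
  · exact allZ_spec _ _ _ LSBc_desc_11 n h

end Cfsg.Agent.Lib.helper93
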