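import Cfsg.Agent.Lib.helper93.Co0B6Cd0
import Cfsg.Agent.Lib.helper93.Co0B6Cd1
import Cfsg.Agent.Lib.helper93.Co0B6Cd2
import Cfsg.Agent.Lib.helper93.Co0B6Tag

/-!
The class of 15400 vectors: the list and the table of descending words.
-/

set_option autoImplicit false
open Cfsg Cfsg.Agent.Lib.helper9

namespace Cfsg.Agent.Lib.helper93

/-- the packed vectors of the class -/
def LBd : List ℕ := LBd_0 ++ (LBd_1 ++ (LBd_2 ++ (LBd_3 ++ (LBd_4 ++ (LBd_5 ++ (LBd_6 ++ (LBd_7 ++ (LBd_8 ++ (LBd_9 ++ (LBd_10 ++ (LBd_11 ++ (LBd_12 ++ (LBd_13 ++ (LBd_14 ++ (LBd_15 ++ (LBd_16 ++ (LBd_17 ++ (LBd_18 ++ (LBd_19 ++ (LBd_20 ++ (LBd_21 ++ (LBd_22 ++ (LBd_23 ++ (LBd_24 ++ (LBd_25)))))))))))))))))))))))))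

set_option maxRecDepth 100000 in
set_option maxHeartbeats 0 in
theorem LBd_eq : LSBi 3 = LBd := by
  decide +kernel

set_option maxRecDepth 100000 in
set_option maxHeartbeats 0 in
theorem LBd_len : LBd.length = 15400 := by
  decide +kernel

theorem LSBd_desc' : ∀ n ∈ LBd, ∃ w, descB actsM 8 217071507378585909811031962104866025 n w = true := by
  intro n hn
  simp only [LBd, List.mem_append] at hn
  rcases hn with h | h | h | h | h | h | h | h | h | h | h | h | h | h | h | h | h | h | h | h | h | h | h | h | h | h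
  · exact allZ_spec _ _ _ LSBd_desc_0 n h
  · exact allZ_spec _ _ _ LSBd_desc_1 n h
  · exact allZ_spec _ _ _ LSBd_desc_2 n h
  · exact allZ_spec _ _ _ LSBd_desc_3 n h
  · exact allZ_spec _ _ _ LSBd_desc_4 n h
  · exact allZ_spec _ _ _ LSBd_desc_5 n h
  · exact allZ_spec _ _ _ LSBd_desc_6 n h
  · exact allZ_spec _ _ _ LSBd_desc_7 n h
  · exact allZ_spec _ _ _ LSBd_desc_8 n h
  · exact allZ_spec _ _ _ LSBd_desc_9 n h
  · exact allZ_spec _ _ _ LSBd_desc_10 n h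
  · exact allZ_spec _ _ _ LSBd_desc_11 n h
  · exact allZ_spec _ _ _ LSBd_desc_12 n h
  · exact allZ_spec _ _ _ LSBd_desc_13 n h
  · exact allZ_spec _ _ _ LSBd_desc_14 n h
  · exact allZ_spec _ _ _ LSBd_desc_15 n h
  · exact allZ_spec _ _ _ LSBd_desc_16 n h
  · exact allZ_spec _ _ _ LSBd_desc_17 n h
  · exact allZ_spec _ _ _ LSBd_desc_18 n h
  · exact allZ_spec _ _ _ LSBd_desc_19 n h
  · exact allZ_spec _ _ _ LSBd_desc_20 n h
  · exact allZ_spec _ _ _ LSBd_desc_21 n h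
  · exact allZ_spec _ _ _ LSBd_desc_22 n h
  · exact allZ_spec _ _ _ LSBd_desc_23 n h
  · exact allZ_spec _ _ _ LSBd_desc_24 n h
  · exact allZ_spec _ _ _ LSBd_desc_25 n h

end Cfsg.Agent.Lib.helper93
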