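import Cfsg.Agent.Lib.helper93.Co0B6Ce0
import Cfsg.Agent.Lib.helper93.Co0B6Ce1
import Cfsg.Agent.Lib.helper93.Co0B6Ce2
import Cfsg.Agent.Lib.helper93.Co0B6Ce3
import Cfsg.Agent.Lib.helper93.Co0B6Tag

/-!
The class of 22275 vectors: the list and the table of descending words.
-/

set_option autoImplicit false
open Cfsg Cfsg.Agent.Lib.helper9

namespace Cfsg.Agent.Lib.helper93

/-- the packed vectors of the class -/
def LBe : List ℕ := LBe_0 ++ (LBe_1 ++ (LBe_2 ++ (LBe_3 ++ (LBe_4 ++ (LBe_5 ++ (LBe_6 ++ (LBe_7 ++ (LBe_8 ++ (LBe_9 ++ (LBe_10 ++ (LBe_11 ++ (LBe_12 ++ (LBe_13 ++ (LBe_14 ++ (LBe_15 ++ (LBe_16 ++ (LBe_17 ++ (LBe_18 ++ (LBe_19 ++ (LBe_20 ++ (LBe_21 ++ (LBe_22 ++ (LBe_23 ++ (LBe_24 ++ (LBe_25 ++ (LBe_26 ++ (LBe_27 ++ (LBe_28 ++ (LBe_29 ++ (LBe_30 ++ (LBe_31 ++ (LBe_32 ++ (LBe_33 ++ (LBe_34 ++ (LBe_35 ++ (LBe_36 ++ (LBe_37)))))))))))))))))))))))))))))))))))))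

set_option maxRecDepth 100000 in
set_option maxHeartbeats 0 in
theorem LBe_eq : LSBi 4 = LBe := by
  decide +kernel

set_option maxRecDepth 100000 in
set_option maxHeartbeats 0 in
theorem LBe_len : LBe.length = 22275 := by
  decide +kernel

theorem LSBe_desc' : ∀ n ∈ LBe, ∃ w, descB actsM 8 217071507376165699364207875562183975 n w = true := by
  intro n hn
  simp only [LBe, List.mem_append] at hn
  rcases hn with h | h | h | h | h | h | h | h | h | h | h | h | h | h | h | h | h | h | h | h | h | h | h | h | h | h | h | h | h | h | h | h | h | h | h | h | h | h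
  · exact allZ_spec _ _ _ LSBe_desc_0 n h
  · exact allZ_spec _ _ _ LSBe_desc_1 n h
  · exact allZ_spec _ _ _ LSBe_desc_2 n h
  · exact allZ_spec _ _ _ LSBe_desc_3 n h
  · exact allZ_spec _ _ _ LSBe_desc_4 n h
  · exact allZ_spec _ _ _ LSBe_desc_5 n h
  · exact allZ_spec _ _ _ LSBe_desc_6 n h
  · exact allZ_spec _ _ _ LSBe_desc_7 n h
  · exact allZ_spec _ _ _ LSBe_desc_8 n h
  · exact allZ_spec _ _ _ LSBe_desc_9 n h
  · exact allZ_spec _ _ _ LSBe_desc_10 n h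
  · exact allZ_spec _ _ _ LSBe_desc_11 n h
  · exact allZ_spec _ _ _ LSBe_desc_12 n h
  · exact allZ_spec _ _ _ LSBe_desc_13 n h
  · exact allZ_spec _ _ _ LSBe_desc_14 n h
  · exact allZ_spec _ _ _ LSBe_desc_15 n h
  · exact allZ_spec _ _ _ LSBe_desc_16 n h
  · exact allZ_spec _ _ _ LSBe_desc_17 n h
  · exact allZ_spec _ _ _ LSBe_desc_18 n h
  · exact allZ_spec _ _ _ LSBe_desc_19 n h
  · exact allZ_spec _ _ _ LSBe_desc_20 n h
  · exact allZ_spec _ _ _ LSBe_desc_21 n h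
  · exact allZ_spec _ _ _ LSBe_desc_22 n h
  · exact allZ_spec _ _ _ LSBe_desc_23 n h
  · exact allZ_spec _ _ _ LSBe_desc_24 n h
  · exact allZ_spec _ _ _ LSBe_desc_25 n h
  · exact allZ_spec _ _ _ LSBe_desc_26 n h
  · exact allZ_spec _ _ _ LSBe_desc_27 n h
  · exact allZ_spec _ _ _ LSBe_desc_28 n h
  · exact allZ_spec _ _ _ LSBe_desc_29 n h
  · exact allZ_spec _ _ _ LSBe_desc_30 n h
  · exact allZ_spec _ _ _ LSBe_desc_31 n h
  · exact allZ_spec _ _ _ LSBe_desc_32 n h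
  · exact allZ_spec _ _ _ LSBe_desc_33 n h
  · exact allZ_spec _ _ _ LSBe_desc_34 n h
  · exact allZ_spec _ _ _ LSBe_desc_35 n h
  · exact allZ_spec _ _ _ LSBe_desc_36 n h
  · exact allZ_spec _ _ _ LSBe_desc_37 n h

end Cfsg.Agent.Lib.helper93
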