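import Cfsg.Agent.Lib.helper93.LeechTag

/-!
The list of the packed minimal vectors passing a test of the collected list is the list of all
packed minimal vectors filtered by the test: further tests are then counted on the short list.
-/

set_option autoImplicit false
open Cfsg Cfsg.Agent.Lib.helper9

namespace Cfsg.Agent.Lib.helper93

theorem filter_collect (qs : List (ℕ → Bool)) (i : ℕ) : ∀ (l : List ℕ), (∀ n ∈ l, n < 2 ^ 120) →
    ((collectL qs l).filter (selT i)).map valT = l.filter (qs.getD i (fun _ => false))
  | [], _ => rfl
  | m :: l, hl => by
    have hm : m < 2 ^ 120 := hl m (List.mem_cons_self ..)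
    have ih := filter_collect qs i l (fun k hk => hl k (List.mem_cons_of_mem _ hk))
    rw [collectL_cons]
    cases ht : Nat.beq (tagL qs m) 0
    · simp only [cond_false]
      rw [List.filter_cons, List.filter_cons, selT_entry qs i m hm]
      cases hq : (qs.getD i (fun _ => false)) m
      · simp only [Bool.false_eq_true, if_false]
        exact ih
      · simp only [if_true]
        rw [List.map_cons, valT_entry _ m hm, ih]
    · simp only [cond_true]
      rw [List.filter_cons, tag_zero qs i m (Nat.eq_of_beq_eq_true ht)]
      simp only [Bool.false_eq_true, if_false]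
      exact ih

theorem LSi_eq (i : ℕ) : LSi i = EL.filter (qsT.getD i (fun _ => false)) := by
  unfold LSi
  rw [← collect_EL_eq]
  exact filter_collect qsT i EL EL_lt

/-- the minimal vectors passing the test number `i` and a further test -/
theorem sub_cover (i : ℕ) (q : ℕ → Bool) (hq : qsT.getD i (fun _ => false) = q) (t : ℕ → Bool)
    (n : ℕ) (hn : n ∈ EL) (hqn : q n = true) (ht : t n = true) : n ∈ (LSi i).filter t :=
  List.mem_filter.2 ⟨tag_cover i q hq n hn hqn, ht⟩

theorem sub_count (i : ℕ) (q : ℕ → Bool) (hq : qsT.getD i (fun _ => false) = q) (t : ℕ → Bool) :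
    EL.countP (fun n => q n && t n) = (LSi i).countP t := by
  subst hq
  rw [LSi_eq, List.countP_filter]
  congr 1
  funext n
  exact Bool.and_comm _ _

end Cfsg.Agent.Lib.helper93
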