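import Cfsg.Agent.Lib.helper93.Co0B6Ca
import Cfsg.Agent.Lib.helper93.Co0B6Cb
import Cfsg.Agent.Lib.helper93.Co0B6Cc
import Cfsg.Agent.Lib.helper93.Co0B6Cd
import Cfsg.Agent.Lib.helper93.Co0B6Ce
import Cfsg.Agent.Lib.helper93.Co0McL
import Cfsg.Agent.Lib.helper93.LeechTagSub

/-!
For two minimal vectors `v`, `w` of `Cfsg.leechLattice` with inner product `-8`, the joint
stabiliser of `v` and `w` in `Cfsg.Co0` has five orbits, of 275, 2025, 7128, 15400 and 22275
vectors, on the minimal vectors other than `w` with inner product `-8` with `v`: the orbits are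
the classes of the inner product with `w`.
-/

set_option autoImplicit false
open Cfsg Cfsg.Agent.Lib.helper9

namespace Cfsg.Agent.Lib.helper93

/-! ### the classes of the base pair -/

/-- the class condition on the vectors -/
def PB (d : ℤ) (x : GolayPt → ℤ) : Prop :=
  dotInt (v0S : GolayPt → ℤ) x = -8 ∧ dotInt (u0S : GolayPt → ℤ) x = d

theorem tU_eq (k n : ℕ) : tU k n = true ↔ getN n 4 + k =
    2 * getN n 7 + (getN n 1 + (getN n 2 + (getN n 3 + (getN n 5 + (getN n 8 + (getN n 11 +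
      getN n 13)))))) :=
  nbeq_iff _ _

theorem tU_iff (k : ℕ) (x : GolayPt → ℤ) (hn : sqNorm x = 32) :
    tU k (packV x) = true ↔ dotInt (u0S : GolayPt → ℤ) x = 128 - 2 * k := by
  have hb : ∀ p, -8 ≤ x p ∧ x p ≤ 8 := coord_bound64 x (by rw [hn]; norm_num)
  rw [dot_u0S, tU_eq, dig_packV x hb 4 (by norm_num),
    dig_packV x hb 7 (by norm_num), dig_packV x hb 1 (by norm_num),
    dig_packV x hb 2 (by norm_num), dig_packV x hb 3 (by norm_num),
    dig_packV x hb 5 (by norm_num), dig_packV x hb 8 (by norm_num),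
    dig_packV x hb 11 (by norm_num), dig_packV x hb 13 (by norm_num)]
  omega

theorem qBU_iff (k : ℕ) (x : GolayPt → ℤ) (hn : sqNorm x = 32) :
    PB (128 - 2 * k) x ↔ qBU k (packV x) = true := by
  unfold PB qBU
  rw [Bool.and_eq_true, ← qB_iff x hn, tU_iff k x hn]

theorem PB_inv (d : ℤ) (g : ↥Co0) (hg : g ∈ HM) (v : ↥leechLattice)
    (h : PB d (v : GolayPt → ℤ)) : PB d ((g.1 v : ↥leechLattice) : GolayPt → ℤ) := by
  obtain ⟨h1, h2⟩ := HM_fix g hg
  exact ⟨by rw [inv_dot g v0S v h1]; exact h.1, by rw [inv_dot g u0S v h2]; exact h.2⟩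

theorem LSBi_eq (i : ℕ) : LSBi i = EL.filter (qsB.getD i (fun _ => false)) := by
  unfold LSBi
  rw [← collectB_EL_eq]
  exact filter_collect qsB i EL EL_lt

theorem B_trans (i k : ℕ) (hq : qsB.getD i (fun _ => false) = qBU k) (LS : List ℕ)
    (hLS : LSBi i = LS) (root : ℕ) (hdesc : ∀ n ∈ LS, ∃ w, descB actsM 8 root n w = true)
    (x x' : ↥leechLattice)
    (hx : sqNorm (x : GolayPt → ℤ) = 32 ∧ PB (128 - 2 * k) (x : GolayPt → ℤ))
    (hx' : sqNorm (x' : GolayPt → ℤ) = 32 ∧ PB (128 - 2 * k) (x' : GolayPt → ℤ)) :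
    ∃ g ∈ HM, (g : ↥Co0).1 x = x' :=
  trans_of_table HM actsM actsM_snd (PB (128 - 2 * k)) (qBU k) (fun x _ hn => qBU_iff k x hn)
    (fun g hg v _ h => PB_inv _ g hg v h) LS
    (fun n hn hq' => by
      rw [← hLS]
      exact tagB_cover i (qBU k) hq n hn hq') root 8 hdesc x x' hx hx'

theorem B_card (i k : ℕ) (hq : qsB.getD i (fun _ => false) = qBU k) (LS : List ℕ)
    (hLS : LSBi i = LS) (N : ℕ) (hN : LS.length = N) :
    {v : ↥leechLattice | sqNorm (v : GolayPt → ℤ) = 32 ∧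
      PB (128 - 2 * k) (v : GolayPt → ℤ)}.ncard = N :=
  ncard_sub_filter (PB (128 - 2 * k)) (qBU k) N (fun x _ hn => qBU_iff k x hn) (by
    rw [← hN, ← hLS, LSBi_eq, hq, ← List.countP_eq_length_filter])

/-- the sum of two packed vectors -/
theorem vecP_sum (a b c : ℕ) (h : ∀ i < 24, getN a i + getN b i = getN c i + 8) :
    vecP a + vecP b = vecP c := by
  funext p
  rw [Pi.add_apply, vecP_apply, vecP_apply, vecP_apply]
  have := h (idx p) (idx_lt p)
  omega

/-- the vector `u0S - v0S` -/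
def wB : ↥leechLattice := u0S - v0S

theorem wB_val : (wB : GolayPt → ℤ) = vecP nW0 := by
  show ((u0S - v0S : ↥leechLattice) : GolayPt → ℤ) = vecP nW0
  rw [AddSubgroup.coe_sub, u0S_val, v0S_val]
  have h : vecP n0S + vecP nW0 = vecP nU := vecP_sum n0S nW0 nU (by decide +kernel)
  rw [← h, add_sub_cancel_left]

theorem nW0_lt : nW0 < 32 ^ 24 := by decide +kernel

/-- the vectors with inner product `-8` with `v0S` other than `u0S - v0S` belong to the five
classes -/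
theorem B_all (x : ↥leechLattice) (hn : sqNorm (x : GolayPt → ℤ) = 32)
    (hx : dotInt (v0S : GolayPt → ℤ) (x : GolayPt → ℤ) = -8) :
    x = wB ∨ PB (-24) (x : GolayPt → ℤ) ∨ PB 8 (x : GolayPt → ℤ) ∨ PB (-16) (x : GolayPt → ℤ) ∨
      PB 0 (x : GolayPt → ℤ) ∨ PB (-8) (x : GolayPt → ℤ) := by
  have hmem := mem_EL _ x.2 hn
  have hqB := (qB_iff _ hn).1 hx
  have h0 : qBX (packV (x : GolayPt → ℤ)) = false := by
    have := List.countP_eq_zero.1 cntB_X _ hmem
    exact Bool.eq_false_iff.2 this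
  unfold qBX at h0
  rw [hqB, Bool.true_and] at h0
  have h1 : Nat.beq (packV (x : GolayPt → ℤ)) nW0 = true ∨
      tU 76 (packV (x : GolayPt → ℤ)) = true ∨ tU 60 (packV (x : GolayPt → ℤ)) = true ∨
      tU 72 (packV (x : GolayPt → ℤ)) = true ∨ tU 64 (packV (x : GolayPt → ℤ)) = true ∨
      tU 68 (packV (x : GolayPt → ℤ)) = true := by
    revert h0
    cases Nat.beq (packV (x : GolayPt → ℤ)) nW0 <;> cases tU 76 (packV (x : GolayPt → ℤ)) <;>
      cases tU 60 (packV (x : GolayPt → ℤ)) <;> cases tU 72 (packV (x : GolayPt → ℤ)) <;>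
      cases tU 64 (packV (x : GolayPt → ℤ)) <;> cases tU 68 (packV (x : GolayPt → ℤ)) <;> simp
  rcases h1 with h | h | h | h | h | h
  · left
    have hb := coord_bound64 (x : GolayPt → ℤ) (by rw [hn]; norm_num)
    have e := (packV_ne (x : GolayPt → ℤ) hb nW0 nW0_lt).2 (Nat.eq_of_beq_eq_true h)
    exact Subtype.ext (e.trans wB_val.symm)
  · right; left
    exact ⟨hx, by rw [(tU_iff 76 _ hn).1 h]; norm_num⟩
  · right; right; left
    exact ⟨hx, by rw [(tU_iff 60 _ hn).1 h]; norm_num⟩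
  · right; right; right; left
    exact ⟨hx, by rw [(tU_iff 72 _ hn).1 h]; norm_num⟩
  · right; right; right; right; left
    exact ⟨hx, by rw [(tU_iff 64 _ hn).1 h]; norm_num⟩
  · right; right; right; right; right
    exact ⟨hx, by rw [(tU_iff 68 _ hn).1 h]; norm_num⟩

/-! ### the classes of any pair -/

/-- the class of the inner product `d` with the first vector of a pair `(u, v)` -/
def ClsB (d : ℤ) (c : ↥leechLattice × ↥leechLattice) (y : ↥leechLattice) : Prop :=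
  sqNorm (y : GolayPt → ℤ) = 32 ∧ dotInt (c.2 : GolayPt → ℤ) (y : GolayPt → ℤ) = -8 ∧
    dotInt (c.1 : GolayPt → ℤ) (y : GolayPt → ℤ) = d

theorem ClsB_inv (d : ℤ) (h : ↥Co0) (c : ↥leechLattice × ↥leechLattice) (y : ↥leechLattice)
    (hy : ClsB d c y) : ClsB d (act2 h c) (h.1 y) := by
  obtain ⟨h1, h2, h3⟩ := hy
  exact ⟨by rw [co_norm]; exact h1,
    by show dotInt ((h.1 c.2 : ↥leechLattice) : GolayPt → ℤ) _ = -8; rw [co_dot]; exact h2,
    by show dotInt ((h.1 c.1 : ↥leechLattice) : GolayPt → ℤ) _ = d; rw [co_dot]; exact h3⟩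

/-- the orbit of a vector under a subgroup is a set on which the subgroup is transitive -/
theorem orbit_eq_set (K : Subgroup ↥Co0) (y : ↥leechLattice) (C : Set ↥leechLattice)
    (hy : y ∈ C) (hinv : ∀ g ∈ K, ∀ z ∈ C, (g : ↥Co0).1 z ∈ C)
    (htr : ∀ z ∈ C, ∃ g ∈ K, (g : ↥Co0).1 y = z) : MulAction.orbit ↥K y = C := by
  ext z
  constructor
  · rintro ⟨⟨g, hg⟩, rfl⟩
    exact hinv g hg y hy
  · intro hz
    obtain ⟨g, hg, h3⟩ := htr z hz
    exact ⟨⟨g, hg⟩, h3⟩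

/-- a class of a pair is an orbit of the stabiliser of the pair, of the size of the class of the
base pair -/
theorem classB_orbit (i k : ℕ) (hq : qsB.getD i (fun _ => false) = qBU k) (LS : List ℕ)
    (hLS : LSBi i = LS) (root : ℕ) (hdesc : ∀ n ∈ LS, ∃ w, descB actsM 8 root n w = true)
    (N : ℕ) (hN : LS.length = N) (hN0 : N ≠ 0) (h : ↥Co0) (K : Subgroup ↥Co0)
    (hK : ∀ g : ↥Co0, g ∈ K ↔ act2 g (act2 h cM) = act2 h cM) :
    ∃ y, ClsB (128 - 2 * k) (act2 h cM) y ∧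
      MulAction.orbit ↥K y = {z | ClsB (128 - 2 * k) (act2 h cM) z} ∧
      {z | ClsB (128 - 2 * k) (act2 h cM) z}.ncard = N := by
  have hc : {z | ClsB (128 - 2 * k) (act2 h cM) z}.ncard = N :=
    (ncard_map act2_isAct (ClsB (128 - 2 * k)) (ClsB_inv _) h cM).trans
      (B_card i k hq LS hLS N hN)
  obtain ⟨y, hy⟩ := Set.nonempty_of_ncard_ne_zero (by rw [hc]; exact hN0)
  refine ⟨y, hy, ?_, hc⟩
  exact orbit_eq_set K y {z | ClsB (128 - 2 * k) (act2 h cM) z} hy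
    (fun g hg z hz => by
      have := ClsB_inv (128 - 2 * k) g _ z hz
      rw [(hK g).1 hg] at this
      exact this)
    (fun z hz => by
      obtain ⟨g, hg, hgy⟩ := trans_map act2_isAct
        (fun c y y' => ClsB (128 - 2 * k) c y ∧ ClsB (128 - 2 * k) c y')
        (fun h c y y' hyy => ⟨ClsB_inv _ h c y hyy.1, ClsB_inv _ h c y' hyy.2⟩) cM
        (fun y y' hyy => by
          obtain ⟨g, hg, hgx⟩ := B_trans i k hq LS hLS root hdesc y y' hyy.1 hyy.2
          exact ⟨g, HM_act g hg, hgx⟩) h y z ⟨hy, hz⟩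
      exact ⟨g, (hK g).2 hg, hgy⟩)

theorem ClsB_all (h : ↥Co0) (y : ↥leechLattice) (hn : sqNorm (y : GolayPt → ℤ) = 32)
    (hy : dotInt ((act2 h cM).2 : GolayPt → ℤ) (y : GolayPt → ℤ) = -8) :
    y = h.1 wB ∨ ClsB (-24) (act2 h cM) y ∨ ClsB 8 (act2 h cM) y ∨ ClsB (-16) (act2 h cM) y ∨
      ClsB 0 (act2 h cM) y ∨ ClsB (-8) (act2 h cM) y := by
  have hn' : sqNorm (((h⁻¹ : ↥Co0).1 y : ↥leechLattice) : GolayPt → ℤ) = 32 := by
    rw [co_norm]
    exact hn
  have hy' : dotInt (v0S : GolayPt → ℤ)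
      (((h⁻¹ : ↥Co0).1 y : ↥leechLattice) : GolayPt → ℤ) = -8 := by
    have := co_dot h⁻¹ (h.1 v0S) y
    rw [co_inv_apply] at this
    rw [this]
    exact hy
  have hb : ∀ d : ℤ, PB d (((h⁻¹ : ↥Co0).1 y : ↥leechLattice) : GolayPt → ℤ) →
      ClsB d (act2 h cM) y := by
    intro d hd
    have := ClsB_inv d h cM ((h⁻¹ : ↥Co0).1 y) ⟨hn', hd.1, hd.2⟩
    rw [co_apply_inv] at this
    exact this
  rcases B_all _ hn' hy' with h0 | h0 | h0 | h0 | h0 | h0
  · left
    have := congrArg h.1 h0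
    rw [co_apply_inv] at this
    exact this
  · exact Or.inr (Or.inl (hb _ h0))
  · exact Or.inr (Or.inr (Or.inl (hb _ h0)))
  · exact Or.inr (Or.inr (Or.inr (Or.inl (hb _ h0))))
  · exact Or.inr (Or.inr (Or.inr (Or.inr (Or.inl (hb _ h0)))))
  · exact Or.inr (Or.inr (Or.inr (Or.inr (Or.inr (hb _ h0)))))

/-- the minimal vectors with inner product `-8` with `v` -/
def PhiB (v x : ↥leechLattice) : Prop :=
  sqNorm (x : GolayPt → ℤ) = 32 ∧ dotInt (v : GolayPt → ℤ) (x : GolayPt → ℤ) = -8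

/-- the orbits of the joint stabiliser of two minimal vectors `v`, `w` with inner product `-8`
on the minimal vectors with inner product `-8` with `v` -/
theorem Co2_rank6 (v w : ↥leechLattice) (hv : sqNorm (v : GolayPt → ℤ) = 32)
    (hw : sqNorm (w : GolayPt → ℤ) = 32)
    (hvw : dotInt (v : GolayPt → ℤ) (w : GolayPt → ℤ) = -8) :
    ∃ y₁ y₂ y₃ y₄ y₅ : ↥leechLattice, PhiB v y₁ ∧ PhiB v y₂ ∧ PhiB v y₃ ∧ PhiB v y₄ ∧
      PhiB v y₅ ∧
      (MulAction.orbit ↥(MulAction.stabilizer ↥Co0 v ⊓ MulAction.stabilizer ↥Co0 w) y₁).ncard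
        = 275 ∧
      (MulAction.orbit ↥(MulAction.stabilizer ↥Co0 v ⊓ MulAction.stabilizer ↥Co0 w) y₂).ncard
        = 2025 ∧
      (MulAction.orbit ↥(MulAction.stabilizer ↥Co0 v ⊓ MulAction.stabilizer ↥Co0 w) y₃).ncard
        = 7128 ∧
      (MulAction.orbit ↥(MulAction.stabilizer ↥Co0 v ⊓ MulAction.stabilizer ↥Co0 w) y₄).ncard
        = 15400 ∧
      (MulAction.orbit ↥(MulAction.stabilizer ↥Co0 v ⊓ MulAction.stabilizer ↥Co0 w) y₅).ncard
        = 22275 ∧
      {x | PhiB v x} = {w} ∪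
        MulAction.orbit ↥(MulAction.stabilizer ↥Co0 v ⊓ MulAction.stabilizer ↥Co0 w) y₁ ∪
        MulAction.orbit ↥(MulAction.stabilizer ↥Co0 v ⊓ MulAction.stabilizer ↥Co0 w) y₂ ∪
        MulAction.orbit ↥(MulAction.stabilizer ↥Co0 v ⊓ MulAction.stabilizer ↥Co0 w) y₃ ∪
        MulAction.orbit ↥(MulAction.stabilizer ↥Co0 v ⊓ MulAction.stabilizer ↥Co0 w) y₄ ∪
        MulAction.orbit ↥(MulAction.stabilizer ↥Co0 v ⊓ MulAction.stabilizer ↥Co0 w) y₅ := by
  have hu : sqNorm ((v + w : ↥leechLattice) : GolayPt → ℤ) = 48 := by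
    rw [AddSubgroup.coe_add, sqNorm_add, hv, hw, hvw]
    norm_num
  have hv' : sqNorm (v : GolayPt → ℤ) = 32 ∧
      sqNorm (((v + w : ↥leechLattice) : GolayPt → ℤ) - (v : GolayPt → ℤ)) = 32 := by
    refine ⟨hv, ?_⟩
    rw [AddSubgroup.coe_add, add_sub_cancel_left]
    exact hw
  have hfix : ∀ g : ↥Co0, g.1 (v + w) = v + w → g.1 v = v → g.1 w = w := by
    intro g h1 h2
    have h3 := g.2.1 v w
    rw [h1, h2] at h3
    exact (add_left_cancel h3).symm
  obtain ⟨h, hh⟩ := pair_to_base (v + w) v hu hv'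
  have e1 : h.1 u0S = v + w := congrArg Prod.fst hh
  have e2 : h.1 v0S = v := congrArg Prod.snd hh
  have hK : ∀ g : ↥Co0, g ∈ MulAction.stabilizer ↥Co0 v ⊓ MulAction.stabilizer ↥Co0 w ↔
      act2 g (act2 h cM) = act2 h cM := by
    intro g
    rw [hh]
    constructor
    · intro hg
      obtain ⟨hg1, hg2⟩ := Subgroup.mem_inf.1 hg
      have a1 := stab_apply g v hg1
      have a2 := stab_apply g w hg2
      show (g.1 (v + w), g.1 v) = (v + w, v)
      rw [g.2.1 v w, a1, a2]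
    · intro hg
      have b1 : g.1 (v + w) = v + w := congrArg Prod.fst hg
      have b2 : g.1 v = v := congrArg Prod.snd hg
      exact Subgroup.mem_inf.2 ⟨MulAction.mem_stabilizer_iff.2 b2,
        MulAction.mem_stabilizer_iff.2 (hfix g b1 b2)⟩
  obtain ⟨y₁, c1, o1, n1⟩ := classB_orbit 0 76 rfl LBa LBa_eq _ LSBa_desc' 275 LBa_len
    (by norm_num) h _ hK
  obtain ⟨y₂, c2, o2, n2⟩ := classB_orbit 1 60 rfl LBb LBb_eq _ LSBb_desc' 2025 LBb_len
    (by norm_num) h _ hK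
  obtain ⟨y₃, c3, o3, n3⟩ := classB_orbit 2 72 rfl LBc LBc_eq _ LSBc_desc' 7128 LBc_len
    (by norm_num) h _ hK
  obtain ⟨y₄, c4, o4, n4⟩ := classB_orbit 3 64 rfl LBd LBd_eq _ LSBd_desc' 15400 LBd_len
    (by norm_num) h _ hK
  obtain ⟨y₅, c5, o5, n5⟩ := classB_orbit 4 68 rfl LBe LBe_eq _ LSBe_desc' 22275 LBe_len
    (by norm_num) h _ hK
  have hall := ClsB_all h
  have hwB : h.1 wB = w := by
    unfold wB
    rw [co_map_sub, e1, e2, add_sub_cancel_left]
  rw [hwB] at hall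
  rw [hh] at c1 o1 n1 c2 o2 n2 c3 o3 n3 c4 o4 n4 c5 o5 n5 hall
  have hP : ∀ (d : ℤ) (z : ↥leechLattice), ClsB d (v + w, v) z → PhiB v z :=
    fun d z hz => ⟨hz.1, hz.2.1⟩
  refine ⟨y₁, y₂, y₃, y₄, y₅, hP _ _ c1, hP _ _ c2, hP _ _ c3, hP _ _ c4, hP _ _ c5, ?_, ?_, ?_,
    ?_, ?_, ?_⟩
  · rw [o1]; exact n1
  · rw [o2]; exact n2
  · rw [o3]; exact n3
  · rw [o4]; exact n4
  · rw [o5]; exact n5
  · rw [o1, o2, o3, o4, o5]
    ext z
    simp only [Set.mem_union, Set.mem_singleton_iff, Set.mem_ofPred_eq]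
    constructor
    · intro hz
      rcases hall z hz.1 hz.2 with h0 | h0 | h0 | h0 | h0 | h0
      · exact Or.inl (Or.inl (Or.inl (Or.inl (Or.inl h0))))
      · exact Or.inl (Or.inl (Or.inl (Or.inl (Or.inr h0))))
      · exact Or.inl (Or.inl (Or.inl (Or.inr h0)))
      · exact Or.inl (Or.inl (Or.inr h0))
      · exact Or.inl (Or.inr h0)
      · exact Or.inr h0
    · rintro (((((h0 | h0) | h0) | h0) | h0) | h0)
      · rw [h0]; exact ⟨hw, hvw⟩
      · exact hP _ _ h0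
      · exact hP _ _ h0
      · exact hP _ _ h0
      · exact hP _ _ h0
      · exact hP _ _ h0

end Cfsg.Agent.Lib.helper93
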