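import Cfsg.Agent.Lib.helper93.Co0Simple
import Cfsg.Agent.Lib.helper93.Co0B6

/-!
The stabiliser in `Cfsg.Co0` of a minimal vector of `Cfsg.leechLattice` is simple of order
42305421312000 as soon as the joint stabilisers of two minimal vectors with inner product `-8`
are simple of order 898128000.
-/

set_option autoImplicit false
open Cfsg MulAction

namespace Cfsg.Agent.Lib.helper93

theorem iUnion_fin5 {X : Type*} (O : X → Set X) (a b c d e : X) :
    (⋃ i : Fin 5, O (![a, b, c, d, e] i)) = O a ∪ O b ∪ O c ∪ O d ∪ O e := by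
  ext z
  rw [Set.mem_iUnion]
  constructor
  · rintro ⟨i, hi⟩
    fin_cases i
    · exact Or.inl (Or.inl (Or.inl (Or.inl hi)))
    · exact Or.inl (Or.inl (Or.inl (Or.inr hi)))
    · exact Or.inl (Or.inl (Or.inr hi))
    · exact Or.inl (Or.inr hi)
    · exact Or.inr hi
  · rintro ((((h | h) | h) | h) | h)
    · exact ⟨0, h⟩
    · exact ⟨1, h⟩
    · exact ⟨2, h⟩
    · exact ⟨3, h⟩
    · exact ⟨4, h⟩

/-- the stabiliser of a minimal vector is simple, given the simplicity and the order of the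
joint stabilisers of two minimal vectors with inner product `-8` -/
theorem Co2_of_McL
    (hMcL : ∀ v w : ↥leechLattice, sqNorm (v : GolayPt → ℤ) = 32 →
      sqNorm (w : GolayPt → ℤ) = 32 → dotInt (v : GolayPt → ℤ) (w : GolayPt → ℤ) = -8 →
      IsMcL ↥(stabilizer ↥Co0 v ⊓ stabilizer ↥Co0 w))
    (v : ↥leechLattice) (hv : sqNorm (v : GolayPt → ℤ) = 32) :
    IsCo2 ↥(stabilizer ↥Co0 v) := by
  obtain ⟨w, hw⟩ : {w : ↥leechLattice | sqNorm (w : GolayPt → ℤ) = 32 ∧
      dotInt (v : GolayPt → ℤ) (w : GolayPt → ℤ) = -8}.Nonempty :=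
    Set.nonempty_of_ncard_ne_zero (by rw [census_B v hv]; norm_num)
  obtain ⟨hwn, hvw⟩ := hw
  have hM := hMcL v w hv hwn hvw
  obtain ⟨y₁, y₂, y₃, y₄, y₅, -, -, -, -, -, n1, n2, n3, n4, n5, hcov⟩ :=
    Co2_rank6 v w hv hwn hvw
  have horb : orbit ↥(stabilizer ↥Co0 v) w = {z | PhiB v z} := by
    ext z
    constructor
    · rintro ⟨g, rfl⟩
      have h1 : (g : ↥Co0).1 v = v := g.2
      refine ⟨?_, ?_⟩
      · show sqNorm (((g : ↥Co0).1 w : ↥leechLattice) : GolayPt → ℤ) = 32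
        rw [co_norm]
        exact hwn
      · show dotInt (v : GolayPt → ℤ) (((g : ↥Co0).1 w : ↥leechLattice) : GolayPt → ℤ) = -8
        rw [inv_dot (g : ↥Co0) v w h1]
        exact hvw
    · intro hz
      obtain ⟨g, hg1, hg2⟩ := stab_trans (-8) (Or.inr (Or.inl rfl)) v w z hv hwn hz.1 hvw hz.2
      exact ⟨⟨g, hg1⟩, hg2⟩
  have hI := iUnion_fin5
    (fun y => orbit ↥(stabilizer ↥Co0 v ⊓ stabilizer ↥Co0 w) y) y₁ y₂ y₃ y₄ y₅
  have key := simple_of_suborbits_sub (stabilizer ↥Co0 v) w hM.1 ![y₁, y₂, y₃, y₄, y₅]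
    ![275, 2025, 7128, 15400, 22275]
    (fun i => by fin_cases i; exacts [n1, n2, n3, n4, n5])
    (by
      rw [horb, hcov, hI]
      simp only [Set.union_assoc])
    (by decide) (by decide) (by norm_num) (by decide) 23 (by norm_num) (by decide) (by decide)
    (by decide)
  refine ⟨key.1, ?_⟩
  rw [key.2, hM.2]
  decide

end Cfsg.Agent.Lib.helper93
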