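import Cfsg.Agent.Lib.helper93.Co0Norm64

/-!
The invariant quadratic form modulo 2 on `Cfsg.leechLattice` modulo twice the lattice is unique.
-/

set_option autoImplicit false
open Cfsg Cfsg.Agent.Lib.helper9

namespace Cfsg.Agent.Lib.helper93

/-- the sum of two packed vectors -/
theorem vecP_add (a b c : ℕ) (h : ∀ i < 24, getN a i + getN b i = getN c i + 8) :
    vecP a + vecP b = vecP c := by
  funext p
  rw [Pi.add_apply, vecP_apply, vecP_apply, vecP_apply]
  have := h (idx p) (idx_lt p)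
  omega

/-- the test of the norm of a packed vector -/
def normP (a N : ℕ) : Bool := normIs ((List.range 24).map (getN a)) N

/-- three vectors of the lattice and the norms of their sums, from packed numbers -/
theorem triple_spec (a b c ab ac bc abc n1 n2 n3 n4 n5 n6 n7 : ℕ)
    (hm : memP a = true ∧ memP b = true ∧ memP c = true)
    (hadd : ∀ i < 24, getN a i + getN b i = getN ab i + 8 ∧ getN a i + getN c i = getN ac i + 8 ∧
      getN b i + getN c i = getN bc i + 8 ∧ getN ab i + getN c i = getN abc i + 8)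
    (hn : normP a n1 = true ∧ normP b n2 = true ∧ normP c n3 = true ∧ normP ab n4 = true ∧
      normP ac n5 = true ∧ normP bc n6 = true ∧ normP abc n7 = true) :
    ∃ u v w : ↥leechLattice, sqNorm (u : GolayPt → ℤ) = n1 ∧ sqNorm (v : GolayPt → ℤ) = n2 ∧
      sqNorm (w : GolayPt → ℤ) = n3 ∧ sqNorm ((u + v : ↥leechLattice) : GolayPt → ℤ) = n4 ∧
      sqNorm ((u + w : ↥leechLattice) : GolayPt → ℤ) = n5 ∧
      sqNorm ((v + w : ↥leechLattice) : GolayPt → ℤ) = n6 ∧
      sqNorm ((u + v + w : ↥leechLattice) : GolayPt → ℤ) = n7 := by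
  obtain ⟨m1, m2, m3⟩ := hm
  obtain ⟨h1, h2, h3, h4, h5, h6, h7⟩ := hn
  have e1 : vecP a + vecP b = vecP ab := vecP_add a b ab (fun i hi => (hadd i hi).1)
  have e2 : vecP a + vecP c = vecP ac := vecP_add a c ac (fun i hi => (hadd i hi).2.1)
  have e3 : vecP b + vecP c = vecP bc := vecP_add b c bc (fun i hi => (hadd i hi).2.2.1)
  have e4 : vecP ab + vecP c = vecP abc := vecP_add ab c abc (fun i hi => (hadd i hi).2.2.2)
  refine ⟨⟨vecP a, vecP_mem a m1⟩, ⟨vecP b, vecP_mem b m2⟩, ⟨vecP c, vecP_mem c m3⟩,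
    vecP_norm a n1 h1, vecP_norm b n2 h2, vecP_norm c n3 h3, ?_, ?_, ?_, ?_⟩
  · show sqNorm (vecP a + vecP b) = n4
    rw [e1]
    exact vecP_norm ab n4 h4
  · show sqNorm (vecP a + vecP c) = n5
    rw [e2]
    exact vecP_norm ac n5 h5
  · show sqNorm (vecP b + vecP c) = n6
    rw [e3]
    exact vecP_norm bc n6 h6
  · show sqNorm (vecP a + vecP b + vecP c) = n7
    rw [e1, e4]
    exact vecP_norm abc n7 h7

theorem triple_one : ∃ u v w : ↥leechLattice, sqNorm (u : GolayPt → ℤ) = (32 : ℕ) ∧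
    sqNorm (v : GolayPt → ℤ) = (32 : ℕ) ∧ sqNorm (w : GolayPt → ℤ) = (32 : ℕ) ∧
    sqNorm ((u + v : ↥leechLattice) : GolayPt → ℤ) = (32 : ℕ) ∧
    sqNorm ((u + w : ↥leechLattice) : GolayPt → ℤ) = (64 : ℕ) ∧
    sqNorm ((v + w : ↥leechLattice) : GolayPt → ℤ) = (64 : ℕ) ∧
    sqNorm ((u + v + w : ↥leechLattice) : GolayPt → ℤ) = (64 : ℕ) :=
  triple_spec 343026579557397644620337305878798732 343026579557397644620337305878802692
    343026579557397644620337305883123976 343026579557397644620337305878802824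
    343026579557397644620337305883124108 343026579557397644620337305883128068
    343026579557397644620337305883128200 32 32 32 32 64 64 64 (by decide +kernel)
    (by decide +kernel) (by decide +kernel)

theorem triple_two : ∃ u v w : ↥leechLattice, sqNorm (u : GolayPt → ℤ) = (32 : ℕ) ∧
    sqNorm (v : GolayPt → ℤ) = (32 : ℕ) ∧ sqNorm (w : GolayPt → ℤ) = (32 : ℕ) ∧
    sqNorm ((u + v : ↥leechLattice) : GolayPt → ℤ) = (48 : ℕ) ∧
    sqNorm ((u + w : ↥leechLattice) : GolayPt → ℤ) = (48 : ℕ) ∧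
    sqNorm ((v + w : ↥leechLattice) : GolayPt → ℤ) = (32 : ℕ) ∧
    sqNorm ((u + v + w : ↥leechLattice) : GolayPt → ℤ) = (32 : ℕ) :=
  triple_spec 343026579557397646928432183627819338 343026579557397644620337305744580868
    343026579557397644620337306013016200 343026579557397646928432183493601606
    343026579557397646928432183762036938 343026579557397644620337305878798468
    343026579557397646928432183627819206 32 32 32 48 48 32 32 (by decide +kernel)
    (by decide +kernel) (by decide +kernel)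

theorem sqNorm_add_two (y z : GolayPt → ℤ) :
    sqNorm (y + (z + z)) = sqNorm y + 4 * sqNorm z + 4 * dotInt y z := by
  unfold sqNorm dotInt
  rw [Finset.mul_sum, Finset.mul_sum, ← Finset.sum_add_distrib, ← Finset.sum_add_distrib]
  refine Finset.sum_congr rfl fun i _ => ?_
  simp only [Pi.add_apply]
  ring

/-- inner products of vectors of the lattice are multiples of 8 -/
theorem leech_dot_dvd (y z : GolayPt → ℤ) (hy : y ∈ leechLattice) (hz : z ∈ leechLattice) :
    (8 : ℤ) ∣ dotInt y z := by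
  have h1 := leech_even (y + z) (leechLattice.add_mem hy hz)
  rw [sqNorm_add] at h1
  have h2 := leech_even y hy
  have h3 := leech_even z hz
  omega

/-- every vector of the lattice is a vector of norm at most 64 plus twice a vector -/
theorem leech_red (x : ↥leechLattice) : ∃ y z : ↥leechLattice, x = y + (z + z) ∧
    ((y : GolayPt → ℤ) = 0 ∨ sqNorm (y : GolayPt → ℤ) = 32 ∨ sqNorm (y : GolayPt → ℤ) = 48 ∨
      sqNorm (y : GolayPt → ℤ) = 64) ∧
    ∃ k : ℤ, sqNorm (x : GolayPt → ℤ) = sqNorm (y : GolayPt → ℤ) + 32 * k := by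
  obtain ⟨y, hy, hy64, z, hz, hxy⟩ := leech_pigeon.1 x.1 x.2
  have e : (x : GolayPt → ℤ) = y + (z + z) := by
    rw [two_smul] at hxy
    rw [← hxy]
    abel
  refine ⟨⟨y, hy⟩, ⟨z, hz⟩, Subtype.ext e, ?_, ?_⟩
  · show y = 0 ∨ sqNorm y = 32 ∨ sqNorm y = 48 ∨ sqNorm y = 64
    by_cases h0 : y = 0
    · exact Or.inl h0
    · right
      have h1 := leech_min_sqNorm y hy h0
      have h2 := leech_even y hy
      omega
  · show ∃ k : ℤ, sqNorm (x : GolayPt → ℤ) = sqNorm y + 32 * k
    rw [e, sqNorm_add_two]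
    obtain ⟨k1, hk1⟩ := leech_even z hz
    obtain ⟨k2, hk2⟩ := leech_dot_dvd y z hy hz
    exact ⟨2 * k1 + k2, by rw [hk1, hk2]; ring⟩

/-- the invariant quadratic form modulo 2 -/
theorem quad_unique (Q : ↥leechLattice → ZMod 2)
    (hcoset : ∀ v w : ↥leechLattice, Q (v + (w + w)) = Q v)
    (hquad : ∀ u v w : ↥leechLattice,
      Q (u + v + w) + Q u + Q v + Q w = Q (u + v) + Q (u + w) + Q (v + w))
    (hinv : ∀ (g : ↥Co0) (v : ↥leechLattice), Q (g.1 v) = Q v)
    (hne : ∃ v : ↥leechLattice, Q v ≠ 0) (v : ↥leechLattice) :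
    Q v = ((sqNorm (v : GolayPt → ℤ) / 16 : ℤ) : ZMod 2) := by
  have h32 : ∀ x y : ↥leechLattice, sqNorm (x : GolayPt → ℤ) = 32 →
      sqNorm (y : GolayPt → ℤ) = 32 → Q x = Q y := by
    intro x y hx hy
    obtain ⟨g, hg⟩ := Cfsg.Agent.S0400.result x y hx hy
    have e : g.1 x = y := hg
    rw [← e, hinv]
  have h48 : ∀ x y : ↥leechLattice, sqNorm (x : GolayPt → ℤ) = 48 →
      sqNorm (y : GolayPt → ℤ) = 48 → Q x = Q y := by
    intro x y hx hy
    obtain ⟨g, hg⟩ := mem_orb48 x hx
    obtain ⟨g', hg'⟩ := mem_orb48 y hy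
    rw [← hg, ← hg', hinv, hinv]
  have h64 : ∀ x y : ↥leechLattice, sqNorm (x : GolayPt → ℤ) = 64 →
      sqNorm (y : GolayPt → ℤ) = 64 → Q x = Q y := by
    intro x y hx hy
    obtain ⟨g, hg⟩ := trans64 x y hx hy
    rw [← hg, hinv]
  have Q0 : Q 0 = 0 := by
    have h := hquad 0 0 0
    simp only [add_zero] at h
    generalize Q 0 = t at h ⊢
    revert t
    decide
  -- the value on the vectors of norm 64
  have hc : ∀ x : ↥leechLattice, sqNorm (x : GolayPt → ℤ) = 64 → Q x = 0 := by
    intro x hx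
    obtain ⟨u, v', w, n1, n2, n3, n4, n5, n6, n7⟩ := triple_one
    have e := hquad u v' w
    rw [h64 (u + v' + w) x (by exact_mod_cast n7) hx,
      h32 v' u (by exact_mod_cast n2) (by exact_mod_cast n1),
      h32 w u (by exact_mod_cast n3) (by exact_mod_cast n1),
      h32 (u + v') u (by exact_mod_cast n4) (by exact_mod_cast n1),
      h64 (u + w) x (by exact_mod_cast n5) hx, h64 (v' + w) x (by exact_mod_cast n6) hx] at e
    generalize Q x = c at e ⊢
    generalize Q u = a at e
    revert a c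
    decide
  -- the value on the vectors of norm 32
  have ha : ∀ x : ↥leechLattice, sqNorm (x : GolayPt → ℤ) = 32 → Q x = 0 := by
    intro x hx
    obtain ⟨u, v', w, n1, n2, n3, n4, n5, n6, n7⟩ := triple_two
    have e := hquad u v' w
    rw [h32 (u + v' + w) u (by exact_mod_cast n7) (by exact_mod_cast n1),
      h32 v' u (by exact_mod_cast n2) (by exact_mod_cast n1),
      h32 w u (by exact_mod_cast n3) (by exact_mod_cast n1),
      h48 (u + w) (u + v') (by exact_mod_cast n5) (by exact_mod_cast n4),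
      h32 (v' + w) u (by exact_mod_cast n6) (by exact_mod_cast n1)] at e
    rw [h32 x u hx (by exact_mod_cast n1)]
    generalize Q (u + v') = b at e
    generalize Q u = a at e ⊢
    revert a b
    decide
  -- the value on the vectors of norm 48
  have hb : ∀ x : ↥leechLattice, sqNorm (x : GolayPt → ℤ) = 48 → Q x = 1 := by
    intro x hx
    obtain ⟨v0, hv0⟩ := hne
    obtain ⟨y, z, hyz, hy, -⟩ := leech_red v0
    rw [hyz, hcoset] at hv0
    rcases hy with hy | hy | hy | hy
    · exact absurd (by rw [show y = 0 from Subtype.ext hy]; exact Q0) hv0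
    · exact absurd (ha y hy) hv0
    · rw [h48 x y hx hy]
      exact zmod2_eq_one_of_ne_zero _ hv0
    · exact absurd (hc y hy) hv0
  obtain ⟨y, z, hyz, hy, k, hk⟩ := leech_red v
  have e2 : ((2 : ℤ) : ZMod 2) = 0 := by decide
  rw [hyz, hcoset, ← hyz, hk]
  rcases hy with hy | hy | hy | hy
  · have e0 : y = 0 := Subtype.ext hy
    have hd : (sqNorm (y : GolayPt → ℤ) + 32 * k) / 16 = 2 * k := by
      rw [e0]
      have : sqNorm ((0 : ↥leechLattice) : GolayPt → ℤ) = 0 := by
        unfold sqNorm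
        simp
      omega
    rw [hd, Int.cast_mul, e2, zero_mul, e0, Q0]
  · have hd : (sqNorm (y : GolayPt → ℤ) + 32 * k) / 16 = 2 * (1 + k) := by omega
    rw [hd, Int.cast_mul, e2, zero_mul, ha y hy]
  · have hd : (sqNorm (y : GolayPt → ℤ) + 32 * k) / 16 = 1 + 2 * (1 + k) := by omega
    rw [hd, Int.cast_add, Int.cast_mul, e2, zero_mul, add_zero, hb y hy, Int.cast_one]
  · have hd : (sqNorm (y : GolayPt → ℤ) + 32 * k) / 16 = 2 * (2 + k) := by omega
    rw [hd, Int.cast_mul, e2, zero_mul, hc y hy]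

end Cfsg.Agent.Lib.helper93
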