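import Cfsg.Agent.Lib.helper91.MonsterQ4Facts
import Cfsg.Agent.Lib.helper91.MonsterQ2Facts
import Cfsg.Agent.Lib.helper9.GolayGens
import Cfsg.Agent.Lib.helper93.LeechGolay

/-!
Facts on the Leech lattice and the second Conway group used for the groups of Baby Monster type:
the group `Spor.Co2` has no non-trivial normal 2-subgroup, it acts faithfully on the vectors
orthogonal to `u = (4, 4, 0, …, 0)` modulo 2 and `u`, and a sign change moving a vector of the
lattice by a short vector.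
-/

set_option autoImplicit false
open Cfsg

namespace Cfsg.Agent.Lib.helper93

open Cfsg.Agent.Lib.helper91 Cfsg.Agent.Lib.helper9

theorem bm_co2_le : Spor.Co2 ≤ Co0 := inf_le_left

/-- the inclusion of the second Conway group into the automorphism group of the lattice -/
def bmIncl : ↥Spor.Co2 →* ↥Co0 := Subgroup.inclusion bm_co2_le

theorem bmIncl_apply (g : ↥Spor.Co2) (v : ↥leechLattice) : (bmIncl g).1 v = g.1 v := rfl

theorem bm_co2_fix (g : ↥Spor.Co2) : g.1 Spor.leechU = Spor.leechU := g.2.2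

theorem bmIncl_injective : Function.Injective bmIncl := Subgroup.inclusion_injective bm_co2_le

/-- the stabilizer of `u` in the automorphism group of the lattice is the second Conway group -/
def bmStabEquiv : ↥(MulAction.stabilizer ↥Co0 Spor.leechU) ≃* ↥Spor.Co2 where
  toFun g := ⟨g.1.1, ⟨g.1.2, g.2⟩⟩
  invFun g := ⟨⟨g.1, g.2.1⟩, g.2.2⟩
  left_inv _ := rfl
  right_inv _ := rfl
  map_mul' _ _ := rfl

theorem bm_co2_simple : IsSimpleGroup ↥Spor.Co2 := by
  have h := (Co2_of_McL isMcL_of_pair Spor.leechU mcV_norm).1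
  have : Nontrivial ↥Spor.Co2 := bmStabEquiv.symm.toEquiv.nontrivial
  exact IsSimpleGroup.isSimpleGroup_of_surjective bmStabEquiv.toMonoidHom bmStabEquiv.surjective

/-- the second Conway group has no non-trivial normal 2-subgroup -/
theorem bm_hO2 (N : Subgroup ↥Spor.Co2) (hN : N.Normal) (hp : IsPGroup 2 N) : N = ⊥ := by
  have h1 : (N.comap bmStabEquiv.toMonoidHom).Normal := hN.comap _
  have h2 : IsPGroup 2 (N.comap bmStabEquiv.toMonoidHom) :=
    hp.comap_of_injective _ bmStabEquiv.injective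
  have h3 := mqFacts2.co2 Spor.leechU mcV_norm _ h1 h2
  rw [eq_bot_iff]
  intro x hx
  have h4 : bmStabEquiv.symm x ∈ N.comap bmStabEquiv.toMonoidHom := by
    show bmStabEquiv (bmStabEquiv.symm x) ∈ N
    rw [MulEquiv.apply_symm_apply]
    exact hx
  rw [h3, Subgroup.mem_bot] at h4
  rw [Subgroup.mem_bot]
  have h5 := congrArg bmStabEquiv h4
  rw [MulEquiv.apply_symm_apply, map_one] at h5
  exact h5

theorem bm_sqNorm_dbl (w : ↥leechLattice) :
    sqNorm ((w + w : ↥leechLattice) : GolayPt → ℤ) = 4 * sqNorm (w : GolayPt → ℤ) := by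
  show sqNorm ((w : GolayPt → ℤ) + (w : GolayPt → ℤ)) = 4 * sqNorm (w : GolayPt → ℤ)
  unfold sqNorm
  rw [Finset.mul_sum]
  refine Finset.sum_congr rfl fun i _ => ?_
  simp only [Pi.add_apply]
  ring

/-- a double has norm 0 or at least 128 -/
theorem bm_dbl_norm (v w : ↥leechLattice) (h : v = w + w)
    (h1 : sqNorm (v : GolayPt → ℤ) ≠ 0) : 128 ≤ sqNorm (v : GolayPt → ℤ) := by
  rw [h, bm_sqNorm_dbl] at h1 ⊢
  have hw : (w : GolayPt → ℤ) ≠ 0 := by
    intro h0
    apply h1
    rw [h0]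
    unfold sqNorm
    simp
  have := leech_min_sqNorm (w : GolayPt → ℤ) w.2 hw
  omega

/-- the second Conway group preserves the vectors orthogonal to `u` modulo 2 -/
theorem bm_perp_map (g : ↥Spor.Co2) (x : ↥leechPerpU) : g.1 (x : ↥leechLattice) ∈ leechPerpU := by
  show (16 : ℤ) ∣ dotInt ((g.1 (x : ↥leechLattice) : ↥leechLattice) : GolayPt → ℤ) Spor.vecU
  have h1 := dotInt_map g.1 g.2.1 (x : ↥leechLattice) Spor.leechU
  rw [bm_co2_fix g] at h1
  have h2 : (16 : ℤ) ∣ dotInt ((x : ↥leechLattice) : GolayPt → ℤ) Spor.vecU := x.2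
  have h3 : ((Spor.leechU : ↥leechLattice) : GolayPt → ℤ) = Spor.vecU := rfl
  rw [h3] at h1
  rw [h1]
  exact h2

/-- the vectors congruent to `0` or to `u` modulo twice the lattice -/
def bmS0 : AddSubgroup ↥leechLattice where
  carrier := {v | v ∈ mq3Dbl ∨ v + Spor.leechU ∈ mq3Dbl}
  zero_mem' := Or.inl mq3Dbl.zero_mem
  add_mem' := by
    have hu : Spor.leechU + Spor.leechU ∈ mq3Dbl := ⟨Spor.leechU, rfl⟩
    rintro a b (ha | ha) (hb | hb)
    · exact Or.inl (mq3Dbl.add_mem ha hb)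
    · right
      have e : a + b + Spor.leechU = a + (b + Spor.leechU) := by abel
      rw [e]
      exact mq3Dbl.add_mem ha hb
    · right
      have e : a + b + Spor.leechU = (a + Spor.leechU) + b := by abel
      rw [e]
      exact mq3Dbl.add_mem ha hb
    · left
      have e : a + b = (a + Spor.leechU) + (b + Spor.leechU) - (Spor.leechU + Spor.leechU) := by
        abel
      rw [e]
      exact mq3Dbl.sub_mem (mq3Dbl.add_mem ha hb) hu
  neg_mem' := by
    have hu : Spor.leechU + Spor.leechU ∈ mq3Dbl := ⟨Spor.leechU, rfl⟩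
    rintro a (ha | ha)
    · exact Or.inl (mq3Dbl.neg_mem ha)
    · right
      have e : -a + Spor.leechU = (Spor.leechU + Spor.leechU) - (a + Spor.leechU) := by abel
      rw [e]
      exact mq3Dbl.sub_mem hu ha

theorem mem_bmS0 (v : ↥leechLattice) : v ∈ bmS0 ↔ v ∈ mq3Dbl ∨ v + Spor.leechU ∈ mq3Dbl := Iff.rfl

theorem bm_dbl_le_S0 (v : ↥leechLattice) : v + v ∈ bmS0 := Or.inl ⟨v, rfl⟩

theorem bmS0_map (g : ↥Spor.Co2) (v : ↥leechLattice) (hv : v ∈ bmS0) : g.1 v ∈ bmS0 := by
  rcases hv with hv | hv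
  · exact Or.inl (mq3_map_dbl (bmIncl g) v hv)
  · right
    have h1 := mq3_map_dbl (bmIncl g) _ hv
    rw [bmIncl_apply, g.2.1.1, bm_co2_fix] at h1
    exact h1

/-- the elements of the second Conway group acting trivially on the vectors orthogonal to `u`
modulo 2 and `u` -/
def bmKer : Subgroup ↥Spor.Co2 where
  carrier := {g | ∀ x : ↥leechPerpU, g.1 (x : ↥leechLattice) + (x : ↥leechLattice) ∈ bmS0}
  one_mem' := fun x => bm_dbl_le_S0 _
  mul_mem' := by
    intro g h hg hh x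
    have h1 := hg ⟨h.1 (x : ↥leechLattice), bm_perp_map h x⟩
    have h2 := hh x
    have h3 := bm_dbl_le_S0 (h.1 (x : ↥leechLattice))
    have e : (g * h).1 (x : ↥leechLattice) + (x : ↥leechLattice) =
        (g.1 (h.1 (x : ↥leechLattice)) + h.1 (x : ↥leechLattice)) +
          (h.1 (x : ↥leechLattice) + (x : ↥leechLattice)) -
          (h.1 (x : ↥leechLattice) + h.1 (x : ↥leechLattice)) := by
      show g.1 (h.1 (x : ↥leechLattice)) + (x : ↥leechLattice) = _
      abel
    show (g * h).1 (x : ↥leechLattice) + (x : ↥leechLattice) ∈ bmS0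
    rw [e]
    exact bmS0.sub_mem (bmS0.add_mem h1 h2) h3
  inv_mem' := by
    intro g hg x
    have h1 := hg ⟨g⁻¹.1 (x : ↥leechLattice), bm_perp_map g⁻¹ x⟩
    have e : g.1 (g⁻¹.1 (x : ↥leechLattice)) = (x : ↥leechLattice) := by
      show (g * g⁻¹).1 (x : ↥leechLattice) = _
      rw [mul_inv_cancel]
      rfl
    show g⁻¹.1 (x : ↥leechLattice) + (x : ↥leechLattice) ∈ bmS0
    have h2 : g.1 (g⁻¹.1 (x : ↥leechLattice)) + g⁻¹.1 (x : ↥leechLattice) ∈ bmS0 := h1
    rw [e, add_comm] at h2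
    exact h2

theorem bmKer_normal : bmKer.Normal := by
  constructor
  intro g hg h x
  have h1 := hg ⟨h⁻¹.1 (x : ↥leechLattice), bm_perp_map h⁻¹ x⟩
  have h2 := bmS0_map h _ h1
  have e : h.1 (h⁻¹.1 (x : ↥leechLattice)) = (x : ↥leechLattice) := by
    show (h * h⁻¹).1 (x : ↥leechLattice) = _
    rw [mul_inv_cancel]
    rfl
  show (h * g * h⁻¹).1 (x : ↥leechLattice) + (x : ↥leechLattice) ∈ bmS0
  have e2 : (h * g * h⁻¹).1 (x : ↥leechLattice) + (x : ↥leechLattice) =
      h.1 (g.1 (h⁻¹.1 (x : ↥leechLattice)) + h⁻¹.1 (x : ↥leechLattice)) := by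
    rw [h.2.1.1, e]
    rfl
  rw [e2]
  exact h2

/-- multiplication by 4 on the residues modulo 23 -/
def bmU4 : (ZMod 23)ˣ := ⟨4, 6, by decide, by decide⟩

theorem bmU4_sq : IsSquare bmU4 := ⟨⟨2, 12, by decide, by decide⟩, by
  apply Units.ext
  decide⟩

/-- the coordinate permutation `x ↦ 4 x` -/
def bmSig : ↥Co0 := permCo (Equiv.optionCongr (Units.mulLeft bmU4)) (mulSquare_mem_M24 bmU4 bmU4_sq)

theorem bmSig_fix : bmSig.1 Spor.leechU = Spor.leechU := by
  apply Subtype.ext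
  show permZ (Equiv.optionCongr (Units.mulLeft bmU4)) Spor.vecU = Spor.vecU
  funext i
  rw [permZ_apply]
  revert i
  decide +kernel

/-- `x ↦ 4 x` as an element of the second Conway group -/
def bmSig2 : ↥Spor.Co2 := ⟨bmSig.1, ⟨bmSig.2, bmSig_fix⟩⟩

/-- the vector `4 e_1 + 4 e_2` -/
def bmX1 : ↥leechLattice :=
  ⟨Pi.single (some 1) (4 : ℤ) + Pi.single (some 2) (4 : ℤ), mq3_four_mem _ _⟩

theorem bmX1_perp : bmX1 ∈ leechPerpU := by
  show (16 : ℤ) ∣ dotInt (Pi.single (some 1) (4 : ℤ) + Pi.single (some 2) (4 : ℤ)) Spor.vecU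
  have : dotInt (Pi.single (some 1) (4 : ℤ) + Pi.single (some 2) (4 : ℤ) : GolayPt → ℤ)
      Spor.vecU = 0 := by decide +kernel
  rw [this]
  exact dvd_zero _

theorem bm_norm_a : sqNorm ((bmSig2.1 bmX1 + bmX1 : ↥leechLattice) : GolayPt → ℤ) = 64 := by
  show sqNorm (permZ (Equiv.optionCongr (Units.mulLeft bmU4))
    (Pi.single (some 1) (4 : ℤ) + Pi.single (some 2) (4 : ℤ)) +
    (Pi.single (some 1) (4 : ℤ) + Pi.single (some 2) (4 : ℤ))) = 64
  decide +kernel

theorem bm_norm_b :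
    sqNorm ((bmSig2.1 bmX1 + bmX1 + Spor.leechU : ↥leechLattice) : GolayPt → ℤ) = 96 := by
  show sqNorm (permZ (Equiv.optionCongr (Units.mulLeft bmU4))
    (Pi.single (some 1) (4 : ℤ) + Pi.single (some 2) (4 : ℤ)) +
    (Pi.single (some 1) (4 : ℤ) + Pi.single (some 2) (4 : ℤ)) + Spor.vecU) = 96
  decide +kernel

theorem bmSig2_not_mem : bmSig2 ∉ bmKer := by
  intro h
  rcases h ⟨bmX1, bmX1_perp⟩ with ⟨w, hw⟩ | ⟨w, hw⟩
  · have h1 := bm_dbl_norm _ w hw (by rw [bm_norm_a]; norm_num)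
    rw [bm_norm_a] at h1
    omega
  · have h1 := bm_dbl_norm _ w hw (by rw [bm_norm_b]; norm_num)
    rw [bm_norm_b] at h1
    omega

/-- the second Conway group acts faithfully on the vectors orthogonal to `u` modulo 2 and `u` -/
theorem bm_faithful (g : ↥Spor.Co2)
    (h : ∀ x : ↥leechPerpU, g.1 (x : ↥leechLattice) + (x : ↥leechLattice) ∈ bmS0) : g = 1 := by
  have := bm_co2_simple
  have hg : g ∈ bmKer := h
  rcases bmKer_normal.eq_bot_or_eq_top with h1 | h1
  · rw [h1, Subgroup.mem_bot] at hg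
    exact hg
  · exfalso
    apply bmSig2_not_mem
    rw [h1]
    exact Subgroup.mem_top _

/-! ### a sign change and a vector moved by a short vector -/

/-- the octad `{0, 1, 2, 6, 10, 16, 17, 18}` -/
def bmOct : Finset GolayPt :=
  {some 0, some 1, some 2, some 6, some 10, some 16, some 17, some 18}

theorem bmOct_ind : ind bmOct = qrWord 1 + qrWord 2 + qrWord 7 := by
  funext p
  revert p
  decide +kernel

theorem qrWord_mem (t : ZMod 23) : qrWord t ∈ golayCode :=
  Submodule.subset_span (Set.mem_union_left _ ⟨t, rfl⟩)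

theorem bmOct_mem : ind bmOct ∈ golayCode := by
  rw [bmOct_ind]
  exact golayCode.add_mem (golayCode.add_mem (qrWord_mem 1) (qrWord_mem 2)) (qrWord_mem 7)

/-- the vector with entries 2 on the octad -/
def bmV : ↥leechLattice := ⟨Cfsg.Agent.Lib.helper9.twoVec bmOct, Cfsg.Agent.Lib.helper9.twoVec_mem bmOct_mem⟩

/-- the code word of the squares -/
def bmW : ↥golayCode := ⟨qrWord 0, qrWord_mem 0⟩

/-- the vector `4 e_10 + 4 e_17` -/
def bmS : ↥leechLattice :=
  ⟨Pi.single (some 10) (4 : ℤ) + Pi.single (some 17) (4 : ℤ), mq3_four_mem _ _⟩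

theorem bmS_norm : sqNorm (bmS : GolayPt → ℤ) = 32 := by
  show sqNorm (Pi.single (some 10) (4 : ℤ) + Pi.single (some 17) (4 : ℤ) : GolayPt → ℤ) = 32
  decide +kernel

theorem bmV_dot : (16 : ℤ) ∣ dotInt (bmV : GolayPt → ℤ) (E none : GolayPt → ℤ) := by
  have : dotInt (Cfsg.Agent.Lib.helper9.twoVec bmOct) (eightE none) = 0 := by decide +kernel
  show (16 : ℤ) ∣ dotInt (Cfsg.Agent.Lib.helper9.twoVec bmOct) (eightE none)
  rw [this]
  exact dvd_zero _

theorem bmW_move : (monoCo 1 bmW).1 bmV + bmV = bmS := by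
  apply Subtype.ext
  have h1 := monoCo_apply 1 bmW bmV
  rw [co_smul_def] at h1
  rw [AddSubgroup.coe_add, h1]
  show signedPerm 1 (support₂ (qrWord 0)) (Cfsg.Agent.Lib.helper9.twoVec bmOct) + Cfsg.Agent.Lib.helper9.twoVec bmOct =
    Pi.single (some 10) (4 : ℤ) + Pi.single (some 17) (4 : ℤ)
  funext p
  revert p
  decide +kernel

end Cfsg.Agent.Lib.helper93
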