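/-
A totally singular sublattice of index 2^12 in the Leech lattice (statement S5553): the lattice
vectors whose coordinates are all divisible by 4, or all congruent to 2 modulo 4.
-/
import Mathlib
import Cfsg.Prelude.Def_Sporadic_a
import Cfsg.Prelude.Def_Spor_Conway
import Cfsg.Agent.Lib.helper93.Leech
import Cfsg.Agent.Lib.helper93.LeechGolay

set_option autoImplicit false

namespace Cfsg.Agent.Lib.helper93

open Cfsg

/-! ### integer lemmas -/

theorem sg_add00 (a b : ℤ) (ha : a ≡ 0 [ZMOD 4]) (hb : b ≡ 0 [ZMOD 4]) : a + b ≡ 0 [ZMOD 4] := by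
  unfold Int.ModEq at *; omega

theorem sg_add02 (a b : ℤ) (ha : a ≡ 0 [ZMOD 4]) (hb : b ≡ 2 [ZMOD 4]) : a + b ≡ 2 [ZMOD 4] := by
  unfold Int.ModEq at *; omega

theorem sg_add20 (a b : ℤ) (ha : a ≡ 2 [ZMOD 4]) (hb : b ≡ 0 [ZMOD 4]) : a + b ≡ 2 [ZMOD 4] := by
  unfold Int.ModEq at *; omega

theorem sg_add22 (a b : ℤ) (ha : a ≡ 2 [ZMOD 4]) (hb : b ≡ 2 [ZMOD 4]) : a + b ≡ 0 [ZMOD 4] := by
  unfold Int.ModEq at *; omega

theorem sg_neg0 (a : ℤ) (ha : a ≡ 0 [ZMOD 4]) : -a ≡ 0 [ZMOD 4] := by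
  unfold Int.ModEq at *; omega

theorem sg_neg2 (a : ℤ) (ha : a ≡ 2 [ZMOD 4]) : -a ≡ 2 [ZMOD 4] := by
  unfold Int.ModEq at *; omega

theorem sg_two0 (a : ℤ) (ha : a ≡ 0 [ZMOD 2]) : 2 * a ≡ 0 [ZMOD 4] := by
  unfold Int.ModEq at *; omega

theorem sg_two1 (a : ℤ) (ha : a ≡ 1 [ZMOD 2]) : 2 * a ≡ 2 [ZMOD 4] := by
  unfold Int.ModEq at *; omega

/-- the sublattice of the vectors of `leechSet` all of whose coordinates are divisible by 4, or all
of whose coordinates are congruent to 2 modulo 4 -/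
def singSub : AddSubgroup (GolayPt → ℤ) where
  carrier := {v | v ∈ leechSet ∧ ((∀ i, v i ≡ 0 [ZMOD 4]) ∨ (∀ i, v i ≡ 2 [ZMOD 4]))}
  add_mem' := by
    rintro a b ⟨ha, ha'⟩ ⟨hb, hb'⟩
    refine ⟨add_mem_leechSet a b ha hb, ?_⟩
    rcases ha' with ha' | ha' <;> rcases hb' with hb' | hb'
    · exact Or.inl fun i => sg_add00 _ _ (ha' i) (hb' i)
    · exact Or.inr fun i => sg_add02 _ _ (ha' i) (hb' i)
    · exact Or.inr fun i => sg_add20 _ _ (ha' i) (hb' i)
    · exact Or.inl fun i => sg_add22 _ _ (ha' i) (hb' i)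
  zero_mem' := ⟨zero_mem_leechSet, Or.inl fun i => rfl⟩
  neg_mem' := by
    rintro a ⟨ha, ha'⟩
    refine ⟨neg_mem_leechSet a ha, ?_⟩
    rcases ha' with ha' | ha'
    · exact Or.inl fun i => sg_neg0 _ (ha' i)
    · exact Or.inr fun i => sg_neg2 _ (ha' i)

theorem mem_singSub_iff (v : GolayPt → ℤ) :
    v ∈ singSub ↔ v ∈ leechSet ∧ ((∀ i, v i ≡ 0 [ZMOD 4]) ∨ (∀ i, v i ≡ 2 [ZMOD 4])) := Iff.rfl

theorem singSub_le : singSub ≤ leechLattice := by
  intro v hv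
  exact (mem_leechLattice_iff v).mpr hv.1

theorem two_smul_mem_singSub (v : GolayPt → ℤ) (hv : v ∈ leechLattice) :
    (2 : ℤ) • v ∈ singSub := by
  have hv' := (mem_leechLattice_iff v).mp hv
  have h2 : (2 : ℤ) • v = v + v := by rw [two_smul]
  refine ⟨by rw [h2]; exact add_mem_leechSet v v hv' hv', ?_⟩
  rcases leechSet_cases v hv' with ⟨h, -, -⟩ | ⟨h, -, -⟩
  · left
    intro i
    simp only [Pi.smul_apply, smul_eq_mul]
    exact sg_two0 _ (h i)
  · right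
    intro i
    simp only [Pi.smul_apply, smul_eq_mul]
    exact sg_two1 _ (h i)

/-! ### squared lengths -/

theorem sq_mod0 (a : ℤ) (ha : a ≡ 0 [ZMOD 4]) : (32 : ℤ) ∣ a ^ 2 - 4 * a := by
  unfold Int.ModEq at ha
  obtain ⟨k, rfl⟩ : ∃ k, a = 4 * k := ⟨a / 4, by omega⟩
  have h : (4 * k) ^ 2 - 4 * (4 * k) = 16 * (k * (k - 1)) := by ring
  rw [h]
  have h2 : (2 : ℤ) ∣ k * (k - 1) := by
    rcases Int.emod_two_eq_zero_or_one k with h | h
    · exact Dvd.dvd.mul_right (Int.dvd_of_emod_eq_zero h) _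
    · exact Dvd.dvd.mul_left (Int.dvd_of_emod_eq_zero (by omega)) _
  obtain ⟨c, hc⟩ := h2
  exact ⟨c, by rw [hc]; ring⟩

theorem sq_mod2 (a : ℤ) (ha : a ≡ 2 [ZMOD 4]) : (32 : ℤ) ∣ a ^ 2 - 4 := by
  unfold Int.ModEq at ha
  obtain ⟨k, rfl⟩ : ∃ k, a = 4 * k + 2 := ⟨a / 4, by omega⟩
  have h : (4 * k + 2) ^ 2 - 4 = 16 * (k * (k + 1)) := by ring
  rw [h]
  have h2 : (2 : ℤ) ∣ k * (k + 1) := by
    rcases Int.emod_two_eq_zero_or_one k with h | h
    · exact Dvd.dvd.mul_right (Int.dvd_of_emod_eq_zero h) _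
    · exact Dvd.dvd.mul_left (Int.dvd_of_emod_eq_zero (by omega)) _
  obtain ⟨c, hc⟩ := h2
  exact ⟨c, by rw [hc]; ring⟩

theorem sum_dvd_of_even_mem (v : GolayPt → ℤ) (hv : v ∈ leechSet) (h0 : ∀ i, v i ≡ 0 [ZMOD 2]) :
    (8 : ℤ) ∣ ∑ i, v i := by
  rcases leechSet_cases v hv with ⟨-, hs, -⟩ | ⟨h1, -, -⟩
  · exact Int.dvd_of_emod_eq_zero hs
  · exfalso
    have a := h0 none
    have b := h1 none
    unfold Int.ModEq at a b
    omega

theorem sqNorm_dvd_of_mem_singSub (v : GolayPt → ℤ) (hv : v ∈ singSub) : (32 : ℤ) ∣ sqNorm v := by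
  obtain ⟨hv1, hv2 | hv2⟩ := hv
  · have h8 : (8 : ℤ) ∣ ∑ i, v i :=
      sum_dvd_of_even_mem v hv1 fun i => (hv2 i).of_dvd (by norm_num)
    have h1 : sqNorm v = ∑ i, (v i ^ 2 - 4 * v i) + 4 * ∑ i, v i := by
      unfold sqNorm
      rw [Finset.sum_sub_distrib, ← Finset.mul_sum]
      ring
    rw [h1]
    apply dvd_add
    · exact Finset.dvd_sum fun i _ => sq_mod0 _ (hv2 i)
    · obtain ⟨c, hc⟩ := h8
      exact ⟨c, by rw [hc]; ring⟩
  · have h1 : sqNorm v = ∑ i, (v i ^ 2 - 4) + 96 := by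
      unfold sqNorm
      rw [Finset.sum_sub_distrib]
      simp
    rw [h1]
    apply dvd_add
    · exact Finset.dvd_sum fun i _ => sq_mod2 _ (hv2 i)
    · norm_num

/-! ### the index -/

/-- the map to binary words whose kernel is `singSub` -/
def phiFun (v : GolayPt → ℤ) : GolayPt → ZMod 2 :=
  fun i => (((v i - v none) / 2 : ℤ) : ZMod 2) + ((v none : ℤ) : ZMod 2)

theorem parity_of_mem (v : GolayPt → ℤ) (hv : v ∈ leechSet) (i j : GolayPt) :
    (v i - v j) % 2 = 0 := by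
  rw [mem_leechSet_iff] at hv
  obtain ⟨m, h2, -, -⟩ := hv
  have a := h2 i
  have b := h2 j
  unfold Int.ModEq at a b
  omega

theorem phiFun_add (v w : GolayPt → ℤ) (hv : v ∈ leechSet) (hw : w ∈ leechSet) :
    phiFun (v + w) = phiFun v + phiFun w := by
  funext i
  unfold phiFun
  simp only [Pi.add_apply]
  have a := parity_of_mem v hv i none
  have b := parity_of_mem w hw i none
  have h : (v i + w i - (v none + w none)) / 2 = (v i - v none) / 2 + (w i - w none) / 2 := by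
    omega
  rw [h]
  push_cast
  ring

/-- `phiFun` as an additive map on the lattice -/
def phi : ↥leechLattice →+ (GolayPt → ZMod 2) :=
  AddMonoidHom.mk' (fun v => phiFun v.1) (by
    intro a b
    exact phiFun_add a.1 b.1 ((mem_leechLattice_iff _).mp a.2) ((mem_leechLattice_iff _).mp b.2))

theorem phi_apply (v : ↥leechLattice) : phi v = phiFun v.1 := rfl

theorem cast_zmod2_eq_zero (a : ℤ) (h : a % 2 = 0) : ((a : ℤ) : ZMod 2) = 0 := by
  rw [ZMod.intCast_zmod_eq_zero_iff_dvd]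
  exact Int.dvd_of_emod_eq_zero h

theorem cast_zmod2_eq_one (a : ℤ) (h : a % 2 = 1) : ((a : ℤ) : ZMod 2) = 1 := by
  have h1 : ((a - 1 : ℤ) : ZMod 2) = 0 := cast_zmod2_eq_zero _ (by omega)
  push_cast at h1
  exact sub_eq_zero.mp h1

theorem mod_of_cast_zmod2_eq_zero (a : ℤ) (h : ((a : ℤ) : ZMod 2) = 0) : a % 2 = 0 := by
  rw [ZMod.intCast_zmod_eq_zero_iff_dvd] at h
  exact Int.emod_eq_zero_of_dvd h

theorem half_mm (a b m : ℤ) (ha : a ≡ m [ZMOD 4]) (hb : b ≡ m [ZMOD 4]) :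
    (a - b) / 2 % 2 = 0 := by
  unfold Int.ModEq at *; omega

theorem half_mn (a b m : ℤ) (h2 : b ≡ m [ZMOD 2]) (ha : a ≡ m [ZMOD 4])
    (hb : ¬ b ≡ m [ZMOD 4]) : (a - b) / 2 % 2 = 1 := by
  unfold Int.ModEq at *; omega

theorem half_nm (a b m : ℤ) (h2 : a ≡ m [ZMOD 2]) (ha : ¬ a ≡ m [ZMOD 4])
    (hb : b ≡ m [ZMOD 4]) : (a - b) / 2 % 2 = 1 := by
  unfold Int.ModEq at *; omega

theorem half_nn (a b m : ℤ) (h2 : a ≡ m [ZMOD 2]) (h2' : b ≡ m [ZMOD 2])
    (ha : ¬ a ≡ m [ZMOD 4]) (hb : ¬ b ≡ m [ZMOD 4]) : (a - b) / 2 % 2 = 0 := by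
  unfold Int.ModEq at *; omega

/-- `phiFun` in terms of the word of a vector -/
theorem phiFun_eq (v : GolayPt → ℤ) (m : ℤ) (h2 : ∀ i, v i ≡ m [ZMOD 2]) :
    phiFun v = wd m v + (wd m v none + ((m : ℤ) : ZMod 2)) • (1 : GolayPt → ZMod 2) := by
  funext i
  have hm : ((v none : ℤ) : ZMod 2) = ((m : ℤ) : ZMod 2) := by
    rw [ZMod.intCast_eq_intCast_iff]
    exact h2 none
  unfold phiFun
  simp only [Pi.add_apply, Pi.smul_apply, Pi.one_apply, smul_eq_mul, mul_one]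
  rw [hm, ← add_assoc]
  congr 1
  unfold wd
  by_cases a1 : v i ≡ m [ZMOD 4] <;> by_cases a2 : v none ≡ m [ZMOD 4]
  · rw [if_pos a1, if_pos a2, cast_zmod2_eq_zero _ (half_mm _ _ m a1 a2)]; rfl
  · rw [if_pos a1, if_neg a2, cast_zmod2_eq_one _ (half_mn _ _ m (h2 none) a1 a2)]; rfl
  · rw [if_neg a1, if_pos a2, cast_zmod2_eq_one _ (half_nm _ _ m (h2 i) a1 a2)]; rfl
  · rw [if_neg a1, if_neg a2, cast_zmod2_eq_zero _ (half_nn _ _ m (h2 i) (h2 none) a1 a2)]; rfl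

theorem phiFun_mem (v : GolayPt → ℤ) (hv : v ∈ leechSet) : phiFun v ∈ golayCode := by
  rw [mem_leechSet_iff] at hv
  obtain ⟨m, h2, -, hw⟩ := hv
  rw [phiFun_eq v m h2]
  exact golayCode.add_mem hw (golayCode.smul_mem _ one_mem_golayCode)

theorem ker_a (a b : ℤ) (h1 : b % 2 = 0) (h2 : (a - b) % 2 = 0) (h3 : (a - b) / 2 % 2 = 0)
    (hb : b % 4 = 0) : a ≡ 0 [ZMOD 4] := by
  unfold Int.ModEq; omega

theorem ker_b (a b : ℤ) (h1 : b % 2 = 0) (h2 : (a - b) % 2 = 0) (h3 : (a - b) / 2 % 2 = 0)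
    (hb : ¬ b % 4 = 0) : a ≡ 2 [ZMOD 4] := by
  unfold Int.ModEq; omega

theorem ker_c (a b : ℤ) (ha : a ≡ 0 [ZMOD 4]) (hb : b ≡ 0 [ZMOD 4]) :
    (a - b) / 2 % 2 = 0 ∧ b % 2 = 0 := by
  unfold Int.ModEq at *; omega

theorem ker_d (a b : ℤ) (ha : a ≡ 2 [ZMOD 4]) (hb : b ≡ 2 [ZMOD 4]) :
    (a - b) / 2 % 2 = 0 ∧ b % 2 = 0 := by
  unfold Int.ModEq at *; omega

theorem phiFun_eq_zero_iff (v : GolayPt → ℤ) (hv : v ∈ leechSet) :
    phiFun v = 0 ↔ v ∈ singSub := by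
  constructor
  · intro h
    refine ⟨hv, ?_⟩
    have hn : v none % 2 = 0 := by
      have h0 := congrFun h none
      unfold phiFun at h0
      simp only [sub_self, Int.zero_ediv, Int.cast_zero, zero_add, Pi.zero_apply] at h0
      exact mod_of_cast_zmod2_eq_zero _ h0
    have hi : ∀ i, (v i - v none) / 2 % 2 = 0 := by
      intro i
      have h0 := congrFun h i
      unfold phiFun at h0
      rw [cast_zmod2_eq_zero _ hn, add_zero] at h0
      exact mod_of_cast_zmod2_eq_zero _ h0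
    by_cases hb : v none % 4 = 0
    · exact Or.inl fun i => ker_a _ _ hn (parity_of_mem v hv i none) (hi i) hb
    · exact Or.inr fun i => ker_b _ _ hn (parity_of_mem v hv i none) (hi i) hb
  · rintro ⟨-, h | h⟩
    · funext i
      unfold phiFun
      obtain ⟨h1, h2⟩ := ker_c _ _ (h i) (h none)
      rw [cast_zmod2_eq_zero _ h1, cast_zmod2_eq_zero _ h2]
      rfl
    · funext i
      unfold phiFun
      obtain ⟨h1, h2⟩ := ker_d _ _ (h i) (h none)
      rw [cast_zmod2_eq_zero _ h1, cast_zmod2_eq_zero _ h2]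
      rfl

theorem phi_ker : phi.ker = singSub.addSubgroupOf leechLattice := by
  ext v
  rw [AddMonoidHom.mem_ker, AddSubgroup.mem_addSubgroupOf, phi_apply]
  exact phiFun_eq_zero_iff v.1 ((mem_leechLattice_iff _).mp v.2)

/-- twice the `0/1` lift of a binary word -/
def lift2 (c : GolayPt → ZMod 2) : GolayPt → ℤ := fun i => if c i = 0 then 0 else 2

theorem wd_lift2 (c : GolayPt → ZMod 2) : wd 0 (lift2 c) = c := by
  funext i
  unfold wd lift2
  by_cases h : c i = 0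
  · rw [if_pos h, if_pos (Int.ModEq.refl 0), h]
  · rw [if_neg h, if_neg (by decide), zmod2_eq_one_of_ne_zero _ h]

theorem sum_lift2 (c : GolayPt → ZMod 2) : ∑ i, lift2 c i = 2 * (hammingNorm c : ℤ) := by
  unfold lift2 hammingNorm
  rw [Finset.card_filter]
  push_cast
  rw [Finset.mul_sum]
  apply Finset.sum_congr rfl
  intro i _
  by_cases h : c i = 0
  · simp [h]
  · simp [h]

theorem lift2_mem (c : GolayPt → ZMod 2) (hc : c ∈ golayCode) : lift2 c ∈ leechSet := by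
  rw [mem_leechSet_iff]
  refine ⟨0, ?_, ?_, ?_⟩
  · intro i
    unfold lift2
    by_cases h : c i = 0
    · rw [if_pos h]
    · rw [if_neg h]; decide
  · rw [sum_lift2]
    obtain ⟨k, hk⟩ := golay_dvd_four c hc
    rw [hk]
    push_cast
    have : (2 : ℤ) * (4 * (k : ℤ)) = 8 * k := by ring
    rw [this]
    unfold Int.ModEq
    omega
  · rw [wd_lift2]; exact hc

theorem lift2_even (c : GolayPt → ZMod 2) (i : GolayPt) : lift2 c i ≡ 0 [ZMOD 2] := by
  unfold lift2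
  by_cases h : c i = 0
  · rw [if_pos h]
  · rw [if_neg h]; decide

theorem phiFun_lift2 (c : GolayPt → ZMod 2) :
    phiFun (lift2 c) = c + c none • (1 : GolayPt → ZMod 2) := by
  rw [phiFun_eq (lift2 c) 0 (lift2_even c), wd_lift2]
  simp

theorem phiFun_vecV : phiFun Spor.vecV = 1 := by
  funext i
  unfold phiFun Spor.vecV
  by_cases h : i = none
  · subst h
    simp only [if_true, sub_self, Int.zero_ediv, Int.cast_zero, zero_add, Pi.one_apply]
    decide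
  · rw [if_neg h, if_pos rfl]
    simp only [Pi.one_apply]
    decide

theorem phi_range (c : GolayPt → ZMod 2) : c ∈ phi.range ↔ c ∈ golayCode := by
  constructor
  · rintro ⟨v, rfl⟩
    exact phiFun_mem v.1 ((mem_leechLattice_iff _).mp v.2)
  · intro hc
    by_cases h : c none = 0
    · refine ⟨⟨lift2 c, (mem_leechLattice_iff _).mpr (lift2_mem c hc)⟩, ?_⟩
      rw [phi_apply, phiFun_lift2, h, zero_smul, add_zero]
    · have h1 : c none = 1 := zmod2_eq_one_of_ne_zero _ h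
      have hm : lift2 c + Spor.vecV ∈ leechSet :=
        add_mem_leechSet _ _ (lift2_mem c hc) Spor.vecV_mem_leechSet
      refine ⟨⟨lift2 c + Spor.vecV, (mem_leechLattice_iff _).mpr hm⟩, ?_⟩
      rw [phi_apply, phiFun_add _ _ (lift2_mem c hc) Spor.vecV_mem_leechSet, phiFun_lift2,
        phiFun_vecV, h1, one_smul, add_assoc]
      have : (1 : GolayPt → ZMod 2) + 1 = 0 := by
        funext i; simp only [Pi.add_apply, Pi.one_apply, Pi.zero_apply]; decide
      rw [this, add_zero]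

theorem natCard_phi_range : Nat.card phi.range = 2 ^ 12 := by
  have h : (phi.range : Set (GolayPt → ZMod 2)) = (golayCode : Set (GolayPt → ZMod 2)) := by
    ext c
    exact phi_range c
  have h1 : Nat.card phi.range = Set.ncard (phi.range : Set (GolayPt → ZMod 2)) := rfl
  have h2 : Nat.card golayCode = Set.ncard (golayCode : Set (GolayPt → ZMod 2)) := rfl
  rw [h1, h, ← h2, Cfsg.Agent.Lib.helper9.natCard_golayCode]
  norm_num

theorem index_singSub : (singSub.addSubgroupOf leechLattice).index = 2 ^ 12 := by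
  rw [← phi_ker, AddSubgroup.index_ker, natCard_phi_range]

/-- statement S5553 -/
theorem exists_singular_sublattice : ∃ A : AddSubgroup (GolayPt → ℤ), A ≤ leechLattice ∧
    (∀ v ∈ leechLattice, (2 : ℤ) • v ∈ A) ∧ (A.addSubgroupOf leechLattice).index = 2 ^ 12 ∧
    ∀ v ∈ A, (32 : ℤ) ∣ sqNorm v :=
  ⟨singSub, singSub_le, two_smul_mem_singSub, index_singSub, sqNorm_dvd_of_mem_singSub⟩

end Cfsg.Agent.Lib.helper93
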