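/-
The index of the Leech lattice (in the scaling of the definitions) in the lattice of all integer
vectors is 2^36 (statement S0393).
-/
import Mathlib
import Cfsg.Prelude.Def_Sporadic_a
import Cfsg.Prelude.Def_Spor_Conway
import Cfsg.Agent.Lib.helper93.Leech
import Cfsg.Agent.Lib.helper93.LeechGolay
import Cfsg.Agent.Lib.helper93.LeechSingular

set_option autoImplicit false

namespace Cfsg.Agent.Lib.helper93

open Cfsg

/-- the number of elements of the range of an additive map with exactly two values -/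
theorem natCard_range_two {G H : Type*} [AddGroup G] [AddGroup H] (f : G →+ H) (a : H)
    (ha : a ≠ 0) (h1 : ∀ g, f g = 0 ∨ f g = a) (h2 : ∃ g, f g = a) : Nat.card f.range = 2 := by
  have h : (f.range : Set H) = {0, a} := by
    ext x
    constructor
    · rintro ⟨g, rfl⟩
      rcases h1 g with h | h
      · left; exact h
      · right; exact h
    · rintro (rfl | rfl)
      · exact ⟨0, map_zero f⟩
      · exact h2
  have h3 : Nat.card f.range = Set.ncard (f.range : Set H) := rfl
  rw [h3, h, Set.ncard_pair ha.symm]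

/-! ### the vectors divisible by 4 -/

/-- reduction of integer vectors modulo 4 -/
def red4 : (GolayPt → ℤ) →+ (GolayPt → ZMod 4) :=
  AddMonoidHom.compLeft (Int.castAddHom (ZMod 4)) GolayPt

theorem red4_apply (x : GolayPt → ℤ) (i : GolayPt) : red4 x i = ((x i : ℤ) : ZMod 4) := rfl

/-- the integer vectors with all coordinates divisible by 4 -/
def fourZ : AddSubgroup (GolayPt → ℤ) := red4.ker

theorem mem_fourZ (x : GolayPt → ℤ) : x ∈ fourZ ↔ ∀ i, x i ≡ 0 [ZMOD 4] := by
  unfold fourZ
  rw [AddMonoidHom.mem_ker]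
  constructor
  · intro h i
    have h1 := congrFun h i
    rw [red4_apply, Pi.zero_apply, ZMod.intCast_zmod_eq_zero_iff_dvd] at h1
    exact Int.modEq_zero_iff_dvd.2 h1
  · intro h
    funext i
    rw [red4_apply, Pi.zero_apply, ZMod.intCast_zmod_eq_zero_iff_dvd]
    exact Int.modEq_zero_iff_dvd.1 (h i)

theorem red4_surjective : Function.Surjective red4 := by
  intro u
  refine ⟨fun i => ((u i).val : ℤ), ?_⟩
  funext i
  rw [red4_apply]
  simp

theorem index_fourZ : fourZ.index = 4 ^ 24 := by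
  unfold fourZ
  rw [AddSubgroup.index_ker, AddMonoidHom.range_eq_top.2 red4_surjective]
  have h : Nat.card (⊤ : AddSubgroup (GolayPt → ZMod 4)) = Nat.card (GolayPt → ZMod 4) :=
    Nat.card_congr AddSubgroup.topEquiv.toEquiv
  rw [h, Nat.card_eq_fintype_card, Fintype.card_pi]
  simp

/-! ### the vectors divisible by 4 with coordinate sum divisible by 8 -/

/-- the coordinate sum modulo 8 -/
def sum8 : (GolayPt → ℤ) →+ ZMod 8 where
  toFun x := ((∑ i, x i : ℤ) : ZMod 8)
  map_zero' := by simp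
  map_add' x y := by
    simp only [Pi.add_apply, Finset.sum_add_distrib]
    push_cast
    rfl

theorem sum8_apply (x : GolayPt → ℤ) : sum8 x = ((∑ i, x i : ℤ) : ZMod 8) := rfl

/-- the vectors divisible by 4 with coordinate sum divisible by 8 -/
def subA0 : AddSubgroup (GolayPt → ℤ) := fourZ ⊓ sum8.ker

theorem mem_subA0 (x : GolayPt → ℤ) :
    x ∈ subA0 ↔ (∀ i, x i ≡ 0 [ZMOD 4]) ∧ (∑ i, x i ≡ 0 [ZMOD 8]) := by
  unfold subA0
  rw [AddSubgroup.mem_inf, mem_fourZ, AddMonoidHom.mem_ker, sum8_apply,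
    ZMod.intCast_zmod_eq_zero_iff_dvd]
  constructor
  · rintro ⟨h1, h2⟩
    exact ⟨h1, Int.modEq_zero_iff_dvd.2 h2⟩
  · rintro ⟨h1, h2⟩
    exact ⟨h1, Int.modEq_zero_iff_dvd.1 h2⟩

theorem subA0_le_fourZ : subA0 ≤ fourZ := inf_le_left

theorem four_dvd_sum (x : GolayPt → ℤ) (hx : ∀ i, x i ≡ 0 [ZMOD 4]) : (4 : ℤ) ∣ ∑ i, x i :=
  Finset.dvd_sum fun i _ => Int.modEq_zero_iff_dvd.1 (hx i)

theorem cast8_of_four_dvd (s : ℤ) (h : (4 : ℤ) ∣ s) :
    ((s : ℤ) : ZMod 8) = 0 ∨ ((s : ℤ) : ZMod 8) = 4 := by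
  obtain ⟨k, rfl⟩ := h
  rcases Int.emod_two_eq_zero_or_one k with h2 | h2
  · left
    rw [ZMod.intCast_zmod_eq_zero_iff_dvd]
    exact ⟨k / 2, by push_cast; omega⟩
  · right
    have h3 : ((4 * k - 4 : ℤ) : ZMod 8) = 0 := by
      rw [ZMod.intCast_zmod_eq_zero_iff_dvd]
      exact ⟨k / 2, by push_cast; omega⟩
    push_cast at h3
    push_cast
    exact sub_eq_zero.1 h3

/-- the unit vector at the extra point, times `c` -/
def unitVec (c : ℤ) : GolayPt → ℤ := fun i => if i = none then c else 0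

theorem sum_unitVec (c : ℤ) : ∑ i, unitVec c i = c := by
  unfold unitVec
  simp

theorem relIndex_subA0_fourZ : subA0.relIndex fourZ = 2 := by
  have hker : (sum8.comp fourZ.subtype).ker = subA0.addSubgroupOf fourZ := by
    ext x
    rw [AddMonoidHom.mem_ker, AddSubgroup.mem_addSubgroupOf]
    unfold subA0
    rw [AddSubgroup.mem_inf, AddMonoidHom.mem_ker]
    constructor
    · intro h; exact ⟨x.2, h⟩
    · intro h; exact h.2
  unfold AddSubgroup.relIndex
  rw [← hker, AddSubgroup.index_ker]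
  apply natCard_range_two _ (4 : ZMod 8) (by decide)
  · intro x
    exact cast8_of_four_dvd _ (four_dvd_sum _ ((mem_fourZ _).1 x.2))
  · have hm : unitVec 4 ∈ fourZ := by
      rw [mem_fourZ]
      intro i
      unfold unitVec
      by_cases h : i = none
      · rw [if_pos h]; decide
      · rw [if_neg h]
    refine ⟨⟨unitVec 4, hm⟩, ?_⟩
    show sum8 (unitVec 4) = 4
    rw [sum8_apply, sum_unitVec]
    rfl

theorem index_subA0 : subA0.index = 2 * 4 ^ 24 := by
  rw [← AddSubgroup.relIndex_mul_index subA0_le_fourZ, relIndex_subA0_fourZ, index_fourZ]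

/-! ### inside the lattice -/

theorem subA0_le_singSub : subA0 ≤ singSub := by
  intro x hx
  rw [mem_subA0] at hx
  rw [mem_singSub_iff]
  refine ⟨?_, Or.inl hx.1⟩
  exact Spor.mem_leechSet_of_const_mod_four x 0 0 (Int.ModEq.refl 0) hx.1 (by simpa using hx.2)

/-- the coordinate at the extra point modulo 4 -/
def coord4 : (GolayPt → ℤ) →+ ZMod 4 where
  toFun x := ((x none : ℤ) : ZMod 4)
  map_zero' := by simp
  map_add' x y := by simp

theorem coord4_apply (x : GolayPt → ℤ) : coord4 x = ((x none : ℤ) : ZMod 4) := rfl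

theorem cast4_zero (a : ℤ) (h : a ≡ 0 [ZMOD 4]) : ((a : ℤ) : ZMod 4) = 0 := by
  rw [ZMod.intCast_zmod_eq_zero_iff_dvd]
  exact Int.modEq_zero_iff_dvd.1 h

theorem cast4_two (a : ℤ) (h : a ≡ 2 [ZMOD 4]) : ((a : ℤ) : ZMod 4) = 2 := by
  have h1 : ((a - 2 : ℤ) : ZMod 4) = 0 := by
    rw [ZMod.intCast_zmod_eq_zero_iff_dvd]
    unfold Int.ModEq at h
    omega
  push_cast at h1
  exact sub_eq_zero.1 h1

theorem not_both (a : ℤ) (h0 : a ≡ 0 [ZMOD 4]) (h2 : a ≡ 2 [ZMOD 4]) : False := by
  unfold Int.ModEq at h0 h2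
  omega

/-- the constant vector `2` -/
def twoVec : GolayPt → ℤ := fun _ => 2

theorem twoVec_mem : twoVec ∈ singSub := by
  rw [mem_singSub_iff]
  refine ⟨?_, Or.inr fun i => Int.ModEq.refl 2⟩
  exact Spor.mem_leechSet_of_const_mod_four twoVec 0 2 (by decide) (fun i => Int.ModEq.refl 2)
    (by decide)

theorem relIndex_subA0_singSub : subA0.relIndex singSub = 2 := by
  have hker : (coord4.comp singSub.subtype).ker = subA0.addSubgroupOf singSub := by
    ext x
    rw [AddMonoidHom.mem_ker, AddSubgroup.mem_addSubgroupOf, mem_subA0]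
    have hx := (mem_singSub_iff _).1 x.2
    constructor
    · intro h
      have h' : ((x.1 none : ℤ) : ZMod 4) = 0 := h
      rcases hx.2 with h0 | h2
      · exact ⟨h0, Int.modEq_zero_iff_dvd.2
          (sum_dvd_of_even_mem x.1 hx.1 fun i => (h0 i).of_dvd (by norm_num))⟩
      · exfalso
        rw [cast4_two _ (h2 none)] at h'
        exact absurd h' (by decide)
    · intro h
      exact cast4_zero _ (h.1 none)
  unfold AddSubgroup.relIndex
  rw [← hker, AddSubgroup.index_ker]
  apply natCard_range_two _ (2 : ZMod 4) (by decide)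
  · intro x
    have hx := (mem_singSub_iff _).1 x.2
    rcases hx.2 with h0 | h2
    · left; exact cast4_zero _ (h0 none)
    · right; exact cast4_two _ (h2 none)
  · exact ⟨⟨twoVec, twoVec_mem⟩, cast4_two _ (Int.ModEq.refl 2)⟩

theorem relIndex_subA0_leech : subA0.relIndex leechLattice = 2 * 2 ^ 12 := by
  rw [← AddSubgroup.relIndex_mul_relIndex subA0 singSub leechLattice subA0_le_singSub singSub_le,
    relIndex_subA0_singSub]
  congr 1
  exact index_singSub

/-- statement S0393 -/
theorem index_leechLattice : leechLattice.index = 2 ^ 36 := by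
  have h := AddSubgroup.relIndex_mul_index (le_trans subA0_le_singSub singSub_le)
  rw [relIndex_subA0_leech, index_subA0] at h
  have h2 : (2 : ℕ) * 4 ^ 24 = 2 * 2 ^ 12 * 2 ^ 36 := by norm_num
  rw [h2] at h
  exact Nat.eq_of_mul_eq_mul_left (by norm_num) h

end Cfsg.Agent.Lib.helper93
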