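import Cfsg.Agent.Lib.helper95.B2B

/-!
# S1083 piece FIN, core (helper93): the commutator subgroup of `O5` lies in `E5`

Proved here against the statements of the pieces CH (`O5_decomp`) and AN (`dg_conj`) as explicit
hypotheses (piece B, `E5_le_O5`, `N5_add`, `N5_zero`, is imported): `E5` is normalised by `O5` and
`O5 / E5` is abelian, because every element of `O5` is an element of `E5` times a diagonal matrix
`dg ε 1 c`.
-/

set_option autoImplicit false

namespace Cfsg.Agent.Lib.helper95.B2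

open Matrix Cfsg Cfsg.Lie

variable {F : Type*} [Field F]

/-- the unit of `GL₅(F)` with matrix `N5 r t` -/
def helper93_N5u (r : Fin 8) (t : F) : GL (Fin 5) F :=
  ⟨N5 r t, N5 r (-t), by rw [N5_add, add_neg_cancel, N5_zero],
    by rw [N5_add, neg_add_cancel, N5_zero]⟩

theorem helper93_N5u_val (r : Fin 8) (t : F) :
    ((helper93_N5u r t : GL (Fin 5) F) : Matrix (Fin 5) (Fin 5) F) = N5 r t := rfl

theorem helper93_N5u_mem (r : Fin 8) (t : F) : helper93_N5u r t ∈ E5 F :=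
  Subgroup.subset_closure ⟨r, t, rfl⟩

/-- conjugation by a "diagonal" element preserves `E5` -/
theorem helper93_fin_conj_diag
    (hconj : ∀ (ε c : F), ε * ε = 1 → c ≠ 0 → ∀ (r : Fin 8) (t : F),
      ∃ s : F, dg ε 1 c * N5 r t = N5 r s * dg ε 1 c)
    (d : GL (Fin 5) F) (ε c : F) (hε : ε * ε = 1) (hc : c ≠ 0)
    (hd : (d : Matrix (Fin 5) (Fin 5) F) = dg ε 1 c)
    (x : GL (Fin 5) F) (hx : x ∈ E5 F) : d * x * d⁻¹ ∈ E5 F := by
  unfold E5 at hx
  induction hx using Subgroup.closure_induction with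
  | mem y hy =>
    obtain ⟨r, t, hy⟩ := hy
    obtain ⟨s, hs⟩ := hconj ε c hε hc r t
    have h1 : d * y = helper93_N5u r s * d := by
      apply Units.ext
      rw [Units.val_mul, Units.val_mul, hd, hy, helper93_N5u_val]
      exact hs
    rw [h1, mul_inv_cancel_right]
    exact helper93_N5u_mem r s
  | one =>
    rw [mul_one, mul_inv_cancel]
    exact one_mem _
  | mul y z _ _ ihy ihz =>
    have : d * (y * z) * d⁻¹ = (d * y * d⁻¹) * (d * z * d⁻¹) := by group
    rw [this]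
    exact mul_mem ihy ihz
  | inv y _ ihy =>
    have : d * y⁻¹ * d⁻¹ = (d * y * d⁻¹)⁻¹ := by group
    rw [this]
    exact inv_mem ihy

/-- `O5` normalises `E5` -/
theorem helper93_fin_conj
    (hdec : ∀ (g : GL (Fin 5) F), g ∈ O5 F → ∃ e ∈ E5 F, ∃ ε c : F, ε * ε = 1 ∧ c ≠ 0 ∧
      ((e * g : GL (Fin 5) F) : Matrix (Fin 5) (Fin 5) F) = dg ε 1 c)
    (hconj : ∀ (ε c : F), ε * ε = 1 → c ≠ 0 → ∀ (r : Fin 8) (t : F),
      ∃ s : F, dg ε 1 c * N5 r t = N5 r s * dg ε 1 c)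
    (g : GL (Fin 5) F) (hg : g ∈ O5 F) (x : GL (Fin 5) F) (hx : x ∈ E5 F) :
    g * x * g⁻¹ ∈ E5 F := by
  obtain ⟨e, he, ε, c, hε, hc, hd⟩ := hdec g hg
  have h1 := helper93_fin_conj_diag hconj (e * g) ε c hε hc hd x hx
  have h2 : g * x * g⁻¹ = e⁻¹ * ((e * g) * x * (e * g)⁻¹) * e := by group
  rw [h2]
  exact mul_mem (mul_mem (inv_mem he) h1) he

/-- piece FIN against the statements of CH and AN as hypotheses -/
theorem helper93_comm_le_E5_of
    (hdec : ∀ (g : GL (Fin 5) F), g ∈ O5 F → ∃ e ∈ E5 F, ∃ ε c : F, ε * ε = 1 ∧ c ≠ 0 ∧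
      ((e * g : GL (Fin 5) F) : Matrix (Fin 5) (Fin 5) F) = dg ε 1 c)
    (hconj : ∀ (ε c : F), ε * ε = 1 → c ≠ 0 → ∀ (r : Fin 8) (t : F),
      ∃ s : F, dg ε 1 c * N5 r t = N5 r s * dg ε 1 c)
    (x : ↥(O5 F)) (hx : x ∈ commutator ↥(O5 F)) : (x : GL (Fin 5) F) ∈ E5 F := by
  classical
  set N : Subgroup ↥(O5 F) := (E5 F).subgroupOf (O5 F) with hN
  have hNn : N.Normal := by
    refine ⟨fun n hn g => ?_⟩
    rw [hN, Subgroup.mem_subgroupOf] at hn ⊢
    have := helper93_fin_conj hdec hconj (g : GL (Fin 5) F) g.2 (n : GL (Fin 5) F) hn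
    simpa using this
  have key : ∀ g h : ↥(O5 F),
      (QuotientGroup.mk' N g) * (QuotientGroup.mk' N h) =
        (QuotientGroup.mk' N h) * (QuotientGroup.mk' N g) := by
    intro g h
    obtain ⟨e₁, he₁, ε₁, c₁, hε₁, hc₁, hd₁⟩ := hdec (g : GL (Fin 5) F) g.2
    obtain ⟨e₂, he₂, ε₂, c₂, hε₂, hc₂, hd₂⟩ := hdec (h : GL (Fin 5) F) h.2
    set E1 : ↥(O5 F) := ⟨e₁, E5_le_O5 he₁⟩ with hE1
    set E2 : ↥(O5 F) := ⟨e₂, E5_le_O5 he₂⟩ with hE2
    have hE1N : QuotientGroup.mk' N E1 = 1 := by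
      rw [QuotientGroup.mk'_apply, QuotientGroup.eq_one_iff, hN, Subgroup.mem_subgroupOf]
      exact he₁
    have hE2N : QuotientGroup.mk' N E2 = 1 := by
      rw [QuotientGroup.mk'_apply, QuotientGroup.eq_one_iff, hN, Subgroup.mem_subgroupOf]
      exact he₂
    have hg' : QuotientGroup.mk' N g = QuotientGroup.mk' N (E1 * g) := by
      rw [map_mul, hE1N, one_mul]
    have hh' : QuotientGroup.mk' N h = QuotientGroup.mk' N (E2 * h) := by
      rw [map_mul, hE2N, one_mul]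
    have hcomm : (E1 * g) * (E2 * h) = (E2 * h) * (E1 * g) := by
      apply Subtype.ext
      apply Units.ext
      have e1 : (((E1 * g : ↥(O5 F)) : GL (Fin 5) F) : Matrix (Fin 5) (Fin 5) F) = dg ε₁ 1 c₁ := hd₁
      have e2 : (((E2 * h : ↥(O5 F)) : GL (Fin 5) F) : Matrix (Fin 5) (Fin 5) F) = dg ε₂ 1 c₂ := hd₂
      show ((((E1 * g : ↥(O5 F)) : GL (Fin 5) F) * ((E2 * h : ↥(O5 F)) : GL (Fin 5) F) :
          GL (Fin 5) F) : Matrix (Fin 5) (Fin 5) F) =
        ((((E2 * h : ↥(O5 F)) : GL (Fin 5) F) * ((E1 * g : ↥(O5 F)) : GL (Fin 5) F) :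
          GL (Fin 5) F) : Matrix (Fin 5) (Fin 5) F)
      rw [Units.val_mul, Units.val_mul, e1, e2]
      unfold dg
      rw [Matrix.diagonal_mul_diagonal, Matrix.diagonal_mul_diagonal]
      congr 1
      funext i
      exact mul_comm _ _
    rw [hg', hh', ← map_mul, ← map_mul, hcomm]
  have hle' : commutator ↥(O5 F) ≤ N := by
    rw [commutator_def, Subgroup.commutator_le]
    intro g _ h _
    rw [← QuotientGroup.eq_one_iff, ← QuotientGroup.mk'_apply, map_commutatorElement,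
      commutatorElement_eq_one_iff_mul_comm]
    exact key g h
  have := hle' hx
  rwa [hN, Subgroup.mem_subgroupOf] at this

end Cfsg.Agent.Lib.helper95.B2
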