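import Cfsg.Agent.Lib.helper32.B2T1

/-!
# S1083 piece T2, spare copy (helper93; the piece used is helper32's `T2`): reduction step in `O5`

`T2` : a singular vector `u` with `u 3 = 1` is moved to `e₃` by an element of `E5` fixing `e₁`.
-/

set_option autoImplicit false

namespace Cfsg.Agent.Lib.helper95.B2

open Matrix Cfsg Cfsg.Lie

variable {F : Type*} [Field F]

theorem helper93_T2 (u : Fin 5 → F) (hQ : Q5 u = 0) (h3 : u 3 = 1) :
    ∃ g ∈ E5 F, (g : Matrix (Fin 5) (Fin 5) F) *ᵥ Pi.single 1 1 = Pi.single 1 1 ∧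
      (g : Matrix (Fin 5) (Fin 5) F) *ᵥ u = Pi.single 3 1 := by
  refine ⟨helper32_N5u 4 (-(u 4)) * helper32_N5u 7 (-(u 2)) * helper32_N5u 6 (u 0),
    mul_mem (mul_mem (helper32_N5u_mem _ _) (helper32_N5u_mem _ _)) (helper32_N5u_mem _ _), ?_, ?_⟩
  · rw [Units.val_mul, Units.val_mul, ← Matrix.mulVec_mulVec, ← Matrix.mulVec_mulVec]
    simp only [helper32_N5u_val]
    rw [helper32_N5_mv6, helper32_N5_mv7, helper32_N5_mv4]
    funext i; fin_cases i <;> simp
  · rw [Units.val_mul, Units.val_mul, ← Matrix.mulVec_mulVec, ← Matrix.mulVec_mulVec]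
    simp only [helper32_N5u_val]
    rw [helper32_N5_mv6, helper32_N5_mv7, helper32_N5_mv4]
    simp only [Q5] at hQ
    rw [h3] at hQ
    funext i; fin_cases i
    · simp [h3]
    · simp [h3]
      linear_combination hQ
    · simp [h3]
    · simp [h3]
    · simp [h3]

end Cfsg.Agent.Lib.helper95.B2
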