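import Cfsg.Agent.Lib.helper93.BMMain
import Cfsg.Agent.Lib.helper91.BMN
import Cfsg.Agent.Lib.helper52.BMG

/-!
# `S5412`: the assembly

A group of Monster type at `(z, Q)` and an involution `t` of `Q` not conjugate to `z`: the
quotient `C_G(t) / ⟨t⟩` is of Baby Monster type.  The Monster-side data (`BMMain`), the fact that
`z` is not weakly closed in `Q` with respect to `C_G(t)` (`helper91.bm_nwc`) and the transfer to
`C_G(t) / ⟨t⟩` (`helper52.bm_cent`, on top of `helper13.bm_quot`).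
-/

set_option autoImplicit false
open Cfsg

namespace Cfsg.Agent.Lib.helper93

open Cfsg.Agent.Lib.helper91 Cfsg.Agent.Lib.helper9

/-- the assembly: a group of Monster type and an involution `t` of `Q` not conjugate to `z`;
`C_G(t) / ⟨t⟩` is of Baby Monster type, given that `z` is not weakly closed in `Q` with respect
to `C_G(t)` -/
theorem bm_main {G : Type*} [Group G] [Finite G] (z : G)
    (Q : Subgroup (Subgroup.centralizer ({z} : Set G))) [Q.Normal]
    (hM : Cfsg.IsOfMonsterType z Q) (t : G)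
    (htQ : ∃ htc : t ∈ Subgroup.centralizer ({z} : Set G),
      (⟨t, htc⟩ : Subgroup.centralizer ({z} : Set G)) ∈ Q)
    (ht2 : orderOf t = 2) (ht : ¬ IsConj z t)
    [hn : ((Subgroup.zpowers t).subgroupOf (Subgroup.centralizer ({t} : Set G))).Normal]
    (hnwc : ∃ k : G, k * t = t * k ∧
      (∃ hc : k * z * k⁻¹ ∈ Subgroup.centralizer ({z} : Set G),
        (⟨k * z * k⁻¹, hc⟩ : Subgroup.centralizer ({z} : Set G)) ∈ Q) ∧ k * z * k⁻¹ ≠ z) :
    Cfsg.IsOfBabyMonsterType (↥(Subgroup.centralizer ({t} : Set G)) ⧸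
      (Subgroup.zpowers t).subgroupOf (Subgroup.centralizer ({t} : Set G))) := by
  obtain ⟨htc, htQ'⟩ := htQ
  have hS := hM.1
  obtain ⟨zQ, hzQ, hzc, hzQ1, hzall⟩ := mq_center_cases z Q hS
  have hzo : orderOf z = 2 := hS.1
  have hzz : z * z = 1 := by rw [← pow_two, ← hzo, pow_orderOf_eq_one]
  have hz1 : z ≠ 1 := by
    intro h
    rw [h, orderOf_one] at hzo
    omega
  have htt : t * t = 1 := by rw [← pow_two, ← ht2, pow_orderOf_eq_one]
  have ht1 : t ≠ 1 := by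
    intro h
    rw [h, orderOf_one] at ht2
    omega
  have hzt : z ≠ t := fun h => ht (h ▸ IsConj.refl z)
  have hzzQ : zQ * zQ = 1 := by
    apply Subtype.ext
    apply Subtype.ext
    show ((zQ : Subgroup.centralizer ({z} : Set G)) : G) *
      ((zQ : Subgroup.centralizer ({z} : Set G)) : G) = 1
    rw [hzQ, hzz]
  have htcen : (⟨⟨t, htc⟩, htQ'⟩ : Q) ∉ Subgroup.center Q := by
    intro h
    rcases hzall _ h with h1 | h1
    · exact ht1 (congrArg (fun q : Q => ((q : Subgroup.centralizer ({z} : Set G)) : G)) h1)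
    · have h2 : t = ((zQ : Subgroup.centralizer ({z} : Set G)) : G) :=
        congrArg (fun q : Q => ((q : Subgroup.centralizer ({z} : Set G)) : G)) h1
      exact hzt (hzQ.symm.trans h2.symm)
  have httQ : (⟨⟨t, htc⟩, htQ'⟩ : Q) * ⟨⟨t, htc⟩, htQ'⟩ = 1 :=
    Subtype.ext (Subtype.ext htt)
  obtain ⟨e, ψ, hψ, hu⟩ := bm_normalize Q hM ⟨⟨t, htc⟩, htQ'⟩ htcen httQ ht
  have hcard := bmR_card Q e ψ hS hψ zQ hzc hzzQ hzall ⟨⟨t, htc⟩, htQ'⟩ htcen
  have hcent := bmR_cent Q e ψ hψ zQ hzc hzzQ hzall ⟨⟨t, htc⟩, htQ'⟩ htcen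
  have hztC : (zQ : Subgroup.centralizer ({z} : Set G)) * (⟨t, htc⟩ : Subgroup.centralizer ({z} : Set G)) =
      (⟨t, htc⟩ : Subgroup.centralizer ({z} : Set G)) * (zQ : Subgroup.centralizer ({z} : Set G)) :=
    congrArg Subtype.val (Subgroup.mem_center_iff.mp hzc ⟨⟨t, htc⟩, htQ'⟩).symm
  refine Cfsg.Agent.Lib.helper52.bm_cent z t hzz hz1 htt ht1 hzt ?_
    (zQ : Subgroup.centralizer ({z} : Set G)) (⟨t, htc⟩ : Subgroup.centralizer ({z} : Set G))
    hzQ rfl (bmR Q ⟨⟨t, htc⟩, htQ'⟩) ?_ ?_ ?_ ?_ hcard ?_ ?_ hcent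
    (bm_nonab _ _ _ _ _ hcard hcent)
    (bmRho Q e ψ hψ ⟨⟨t, htc⟩, htQ'⟩ hu)
    (bmRho_surjective Q e ψ hS hψ ⟨⟨t, htc⟩, htQ'⟩ htcen hu) ?_ bm_hO2
    (bmPsi Q ψ) (bmPsi_mem Q e ψ hS hψ ⟨⟨t, htc⟩, htQ'⟩ hu)
    (bmPsi_add Q e ψ hψ zQ hzc hzzQ hzall ⟨⟨t, htc⟩, htQ'⟩)
    (bmPsi_surj Q e ψ hS hψ zQ hzc hzzQ hzall ⟨⟨t, htc⟩, htQ'⟩ hu)
    (bmPsi_ker Q e ψ hψ zQ hzc hzzQ hzall ⟨⟨t, htc⟩, htQ'⟩ hu)
    (bmPsi_equiv Q e ψ hψ zQ hzc hzzQ hzall ⟨⟨t, htc⟩, htQ'⟩ hu)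
    (bm_CQ Q e ψ hS hψ ⟨⟨t, htc⟩, htQ'⟩ hu) ?_
  · -- `z` is not conjugate to `z t` under the centralizer of `t`
    intro x _ hx
    obtain ⟨q, hq⟩ := mq_swap Q e ψ hψ zQ hzall ⟨⟨t, htc⟩, htQ'⟩ htcen
    have hq' : ((q : Subgroup.centralizer ({z} : Set G)) : G) * t *
        ((q : Subgroup.centralizer ({z} : Set G)) : G)⁻¹ = t * z := by
      have := congrArg (fun q : Q => ((q : Subgroup.centralizer ({z} : Set G)) : G)) hq
      simpa [hzQ] using this
    have hzt' : z * t = t * z := by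
      have := Subgroup.mem_centralizer_singleton_iff.mp htc
      exact this.symm
    apply ht
    rw [isConj_iff]
    refine ⟨((q : Subgroup.centralizer ({z} : Set G)) : G)⁻¹ * x, ?_⟩
    calc ((q : Subgroup.centralizer ({z} : Set G)) : G)⁻¹ * x * z *
          (((q : Subgroup.centralizer ({z} : Set G)) : G)⁻¹ * x)⁻¹
        = ((q : Subgroup.centralizer ({z} : Set G)) : G)⁻¹ * (x * z * x⁻¹) *
          ((q : Subgroup.centralizer ({z} : Set G)) : G) := by group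
      _ = ((q : Subgroup.centralizer ({z} : Set G)) : G)⁻¹ *
          (((q : Subgroup.centralizer ({z} : Set G)) : G) * t *
            ((q : Subgroup.centralizer ({z} : Set G)) : G)⁻¹) *
          ((q : Subgroup.centralizer ({z} : Set G)) : G) := by rw [hx, hq', hzt']
      _ = t := by group
  · -- `t ∈ R`
    exact (mem_bmR Q _ _).mpr ⟨htQ', rfl⟩
  · -- `z ∈ R`
    exact (mem_bmR Q _ _).mpr ⟨zQ.2, hztC⟩
  · -- `R` centralizes `t`
    intro r hr
    exact ((mem_bmR Q _ _).mp hr).2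
  · -- the centralizer of `t` normalizes `R`
    intro h hh r hr
    exact bmR_conj Q ⟨⟨t, htc⟩, htQ'⟩ h hh r hr
  · -- squares
    intro r hr
    exact bmR_sq Q e ψ hψ zQ hzall ⟨⟨t, htc⟩, htQ'⟩ r hr
  · -- commutators
    intro r hr s hs
    exact bmR_comm Q e ψ hψ zQ hzall ⟨⟨t, htc⟩, htQ'⟩ r s hr hs
  · -- the kernel of `ρ`
    intro h
    rw [bmRho_eq_one_iff, mem_bmR]
    constructor
    · intro hq
      exact ⟨hq, Subgroup.mem_centralizer_singleton_iff.mp h.2⟩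
    · intro hq
      exact hq.1
  · -- `z` is not weakly closed
    obtain ⟨k, hk1, ⟨hc, hk2⟩, hk3⟩ := hnwc
    refine ⟨k, hk1, ⟨hc, ?_⟩, hk3⟩
    rw [mem_bmR]
    refine ⟨hk2, ?_⟩
    apply Subtype.ext
    show k * z * k⁻¹ * t = t * (k * z * k⁻¹)
    have hzt' : z * t = t * z := by
      have := Subgroup.mem_centralizer_singleton_iff.mp htc
      exact this.symm
    have hk1' : k⁻¹ * t = t * k⁻¹ := by
      calc k⁻¹ * t = k⁻¹ * (t * k) * k⁻¹ := by group
        _ = k⁻¹ * (k * t) * k⁻¹ := by rw [hk1]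
        _ = t * k⁻¹ := by group
    calc k * z * k⁻¹ * t = k * z * (k⁻¹ * t) := by group
      _ = k * (z * t) * k⁻¹ := by rw [hk1']; group
      _ = (k * t) * z * k⁻¹ := by rw [hzt']; group
      _ = t * (k * z * k⁻¹) := by rw [hk1]; group


/-- a group of Monster type and an involution `t` of `Q` not conjugate to `z`:
`C_G(t) / ⟨t⟩` is of Baby Monster type -/
theorem bm_final {G : Type*} [Group G] [Finite G] (z : G)
    (Q : Subgroup (Subgroup.centralizer ({z} : Set G))) [Q.Normal]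
    (hM : Cfsg.IsOfMonsterType z Q) (t : G)
    (htQ : ∃ htc : t ∈ Subgroup.centralizer ({z} : Set G),
      (⟨t, htc⟩ : Subgroup.centralizer ({z} : Set G)) ∈ Q)
    (ht2 : orderOf t = 2) (ht : ¬ IsConj z t)
    [hn : ((Subgroup.zpowers t).subgroupOf (Subgroup.centralizer ({t} : Set G))).Normal] :
    Cfsg.IsOfBabyMonsterType (↥(Subgroup.centralizer ({t} : Set G)) ⧸
      (Subgroup.zpowers t).subgroupOf (Subgroup.centralizer ({t} : Set G))) :=
  bm_main z Q hM t htQ ht2 ht (Cfsg.Agent.Lib.helper91.bm_nwc z Q hM t htQ ht2 ht)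

end Cfsg.Agent.Lib.helper93
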