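import Cfsg.Agent.Lib.helper93.BMRho

/-!
# The Monster-side data for `S5412`

For a group of Monster type at `(z, Q)` and an involution `t` of `Q` not conjugate to `z`, with the
identification normalised so that `t` corresponds to the short vector `u`: the subgroup
`R = C_Q(t)`, the lifts of the vectors orthogonal to `u`, and the hypotheses of the transfer
theorem.
-/

set_option autoImplicit false
set_option linter.unusedSectionVars false
open Cfsg

namespace Cfsg.Agent.Lib.helper93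

open Cfsg.Agent.Lib.helper91 Cfsg.Agent.Lib.helper9

section main

variable {G : Type*} [Group G] [Finite G] {z : G}
  (Q : Subgroup (Subgroup.centralizer ({z} : Set G))) [Q.Normal]
  (e : (Subgroup.centralizer ({z} : Set G)) ⧸ Q ≃* Spor.Co1)
  (ψ : leechLattice → Q ⧸ Subgroup.center Q)

/-- the subgroup `R = C_Q(t)` of the centralizer of `z` -/
def bmR (tQ : Q) : Subgroup (Subgroup.centralizer ({z} : Set G)) :=
  Q ⊓ Subgroup.centralizer ({(tQ : Subgroup.centralizer ({z} : Set G))} :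
    Set (Subgroup.centralizer ({z} : Set G)))

theorem mem_bmR (tQ : Q) (r : Subgroup.centralizer ({z} : Set G)) :
    r ∈ bmR Q tQ ↔ r ∈ Q ∧ r * (tQ : Subgroup.centralizer ({z} : Set G)) =
      (tQ : Subgroup.centralizer ({z} : Set G)) * r := by
  rw [bmR, Subgroup.mem_inf, Subgroup.mem_centralizer_singleton_iff]

/-- a chosen lift to `Q` of the image of a lattice vector -/
noncomputable def bmLift (v : ↥leechLattice) : Q :=
  Classical.choose (QuotientGroup.mk_surjective (ψ v))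

theorem bmLift_spec (v : ↥leechLattice) : ψ v = QuotientGroup.mk (bmLift Q ψ v) :=
  (Classical.choose_spec (QuotientGroup.mk_surjective (ψ v))).symm

/-- two elements of `Q` with the same image modulo the centre differ by a central element -/
theorem bm_mk_eq (zQ : Q) (hzc : zQ ∈ Subgroup.center Q) (hzz : zQ * zQ = 1)
    (hzall : ∀ x ∈ Subgroup.center Q, x = 1 ∨ x = zQ) (a b : Q)
    (h : (QuotientGroup.mk a : Q ⧸ Subgroup.center Q) = QuotientGroup.mk b) :
    a = b ∨ a = zQ * b := by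
  have h2 : a⁻¹ * b ∈ Subgroup.center Q := QuotientGroup.eq.mp h
  rcases hzall _ h2 with h3 | h3
  · left
    have : b = a := by
      calc b = a * (a⁻¹ * b) := by group
        _ = a := by rw [h3, mul_one]
    exact this.symm
  · right
    have h4 : b = a * zQ := by
      calc b = a * (a⁻¹ * b) := by group
        _ = a * zQ := by rw [h3]
    have h5 : zQ * a = a * zQ := (Subgroup.mem_center_iff.mp hzc a).symm
    calc a = zQ * zQ * a := by rw [hzz, one_mul]
      _ = zQ * (a * zQ) := by rw [mul_assoc, h5]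
      _ = zQ * b := by rw [h4]

/-- the lift of a vector orthogonal to `u`, as an element of the centralizer of `z` -/
noncomputable def bmPsi (x : ↥leechPerpU) : Subgroup.centralizer ({z} : Set G) :=
  ((bmLift Q ψ (x : ↥leechLattice) : Q) : Subgroup.centralizer ({z} : Set G))

/-- an element of `Q` commutes with `t` exactly when its vector is orthogonal to `u` -/
theorem bm_perp_iff (hS : IsExtraspecialCentralizerSetting z Q 12) (hψ : IsLeechModTwoIso Q e ψ)
    (tQ : Q) (hu : ψ Spor.leechU = QuotientGroup.mk tQ) (v : ↥leechLattice) (q : Q)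
    (hq : ψ v = QuotientGroup.mk q) : q * tQ = tQ * q ↔ v ∈ leechPerpU :=
  bm_pair Q e ψ hS hψ v Spor.leechU q tQ hq hu

theorem bmPsi_mem (hS : IsExtraspecialCentralizerSetting z Q 12) (hψ : IsLeechModTwoIso Q e ψ)
    (tQ : Q) (hu : ψ Spor.leechU = QuotientGroup.mk tQ) (x : ↥leechPerpU) :
    bmPsi Q ψ x ∈ bmR Q tQ := by
  rw [mem_bmR]
  refine ⟨(bmLift Q ψ (x : ↥leechLattice)).2, ?_⟩
  have h1 := (bm_perp_iff Q e ψ hS hψ tQ hu x (bmLift Q ψ x) (bmLift_spec Q ψ x)).mpr x.2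
  exact congrArg Subtype.val h1

theorem bmPsi_add (hψ : IsLeechModTwoIso Q e ψ) (zQ : Q) (hzc : zQ ∈ Subgroup.center Q)
    (hzz : zQ * zQ = 1) (hzall : ∀ x ∈ Subgroup.center Q, x = 1 ∨ x = zQ) (tQ : Q)
    (x y : ↥leechPerpU) :
    ∃ c : Subgroup.centralizer ({z} : Set G),
      (c = 1 ∨ c = (zQ : Subgroup.centralizer ({z} : Set G)) ∨
        c = (tQ : Subgroup.centralizer ({z} : Set G)) ∨
        c = (zQ : Subgroup.centralizer ({z} : Set G)) *
          (tQ : Subgroup.centralizer ({z} : Set G))) ∧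
      bmPsi Q ψ (x + y) = c * (bmPsi Q ψ x * bmPsi Q ψ y) := by
  have h1 : (QuotientGroup.mk (bmLift Q ψ ((x + y : ↥leechPerpU) : ↥leechLattice)) :
      Q ⧸ Subgroup.center Q) = QuotientGroup.mk (bmLift Q ψ x * bmLift Q ψ y) := by
    rw [← bmLift_spec, QuotientGroup.mk_mul, ← bmLift_spec, ← bmLift_spec]
    exact hψ.1 x y
  rcases bm_mk_eq Q zQ hzc hzz hzall _ _ h1 with h2 | h2
  · exact ⟨1, Or.inl rfl, by rw [one_mul]; exact congrArg Subtype.val h2⟩
  · exact ⟨zQ, Or.inr (Or.inl rfl), congrArg Subtype.val h2⟩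

theorem bmPsi_surj (hS : IsExtraspecialCentralizerSetting z Q 12) (hψ : IsLeechModTwoIso Q e ψ)
    (zQ : Q) (hzc : zQ ∈ Subgroup.center Q)
    (hzz : zQ * zQ = 1) (hzall : ∀ x ∈ Subgroup.center Q, x = 1 ∨ x = zQ) (tQ : Q)
    (hu : ψ Spor.leechU = QuotientGroup.mk tQ)
    (r : Subgroup.centralizer ({z} : Set G)) (hr : r ∈ bmR Q tQ) :
    ∃ (x : ↥leechPerpU) (c : Subgroup.centralizer ({z} : Set G)),
      (c = 1 ∨ c = (zQ : Subgroup.centralizer ({z} : Set G)) ∨
        c = (tQ : Subgroup.centralizer ({z} : Set G)) ∨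
        c = (zQ : Subgroup.centralizer ({z} : Set G)) *
          (tQ : Subgroup.centralizer ({z} : Set G))) ∧
      r = c * bmPsi Q ψ x := by
  rw [mem_bmR] at hr
  obtain ⟨v, hv⟩ := hψ.2.1 (QuotientGroup.mk (⟨r, hr.1⟩ : Q))
  have hvp : v ∈ leechPerpU :=
    (bm_perp_iff Q e ψ hS hψ tQ hu v ⟨r, hr.1⟩ hv).mp (Subtype.ext hr.2)
  have h1 : (QuotientGroup.mk (⟨r, hr.1⟩ : Q) : Q ⧸ Subgroup.center Q) =
      QuotientGroup.mk (bmLift Q ψ v) := by
    rw [← hv, ← bmLift_spec]
  rcases bm_mk_eq Q zQ hzc hzz hzall _ _ h1 with h2 | h2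
  · exact ⟨⟨v, hvp⟩, 1, Or.inl rfl, by rw [one_mul]; exact congrArg Subtype.val h2⟩
  · exact ⟨⟨v, hvp⟩, zQ, Or.inr (Or.inl rfl), congrArg Subtype.val h2⟩

theorem bmPsi_ker (hψ : IsLeechModTwoIso Q e ψ) (zQ : Q) (hzc : zQ ∈ Subgroup.center Q)
    (hzz : zQ * zQ = 1) (hzall : ∀ x ∈ Subgroup.center Q, x = 1 ∨ x = zQ) (tQ : Q)
    (hu : ψ Spor.leechU = QuotientGroup.mk tQ) (x : ↥leechPerpU) :
    (bmPsi Q ψ x = 1 ∨ bmPsi Q ψ x = (zQ : Subgroup.centralizer ({z} : Set G)) ∨
      bmPsi Q ψ x = (tQ : Subgroup.centralizer ({z} : Set G)) ∨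
      bmPsi Q ψ x = (zQ : Subgroup.centralizer ({z} : Set G)) *
        (tQ : Subgroup.centralizer ({z} : Set G))) ↔
      ((∃ w : ↥leechLattice, (x : ↥leechLattice) = w + w) ∨
       ∃ w : ↥leechLattice, (x : ↥leechLattice) = Spor.leechU + (w + w)) := by
  have hspec := bmLift_spec Q ψ (x : ↥leechLattice)
  have hzm : (QuotientGroup.mk zQ : Q ⧸ Subgroup.center Q) = 1 :=
    (QuotientGroup.eq_one_iff _).mpr hzc
  constructor
  · intro h
    have hcases : ψ x = 1 ∨ ψ x = ψ Spor.leechU := by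
      rcases h with h | h | h | h
      · left
        have h' : bmLift Q ψ x = 1 := Subtype.ext h
        rw [hspec, h']
        rfl
      · left
        have h' : bmLift Q ψ x = zQ := Subtype.ext h
        rw [hspec, h']
        exact hzm
      · right
        have h' : bmLift Q ψ x = tQ := Subtype.ext h
        rw [hspec, hu, h']
      · right
        have h' : bmLift Q ψ x = zQ * tQ := Subtype.ext h
        rw [hspec, hu, h', QuotientGroup.mk_mul, hzm, one_mul]
    rcases hcases with h1 | h1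
    · left
      exact (hψ.2.2.1 _).mp h1
    · right
      have h2 : ψ ((x : ↥leechLattice) + Spor.leechU) = 1 := by
        rw [hψ.1, h1, ← hψ.1]
        exact mq_dbl Q e ψ hψ Spor.leechU
      obtain ⟨w, hw⟩ := (hψ.2.2.1 _).mp h2
      refine ⟨w - Spor.leechU, ?_⟩
      have h3 : (x : ↥leechLattice) = w + w - Spor.leechU := by
        rw [← hw]
        abel
      rw [h3]
      abel
  · rintro (⟨w, hw⟩ | ⟨w, hw⟩)
    · have h1 : ψ x = 1 := by
        rw [hw]
        exact mq_dbl Q e ψ hψ w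
      rw [hspec] at h1
      have h2 := (QuotientGroup.eq_one_iff _).mp h1
      rcases hzall _ h2 with h3 | h3
      · left
        exact congrArg Subtype.val h3
      · right
        left
        exact congrArg Subtype.val h3
    · have h1 : ψ x = QuotientGroup.mk tQ := by
        rw [hw, hψ.1, mq_dbl Q e ψ hψ w, mul_one, hu]
      rw [hspec] at h1
      rcases bm_mk_eq Q zQ hzc hzz hzall _ _ h1 with h2 | h2
      · right
        right
        left
        exact congrArg Subtype.val h2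
      · right
        right
        right
        exact congrArg Subtype.val h2

theorem bmPsi_equiv (hψ : IsLeechModTwoIso Q e ψ) (zQ : Q) (hzc : zQ ∈ Subgroup.center Q)
    (hzz : zQ * zQ = 1) (hzall : ∀ x ∈ Subgroup.center Q, x = 1 ∨ x = zQ) (tQ : Q)
    (hu : ψ Spor.leechU = QuotientGroup.mk tQ)
    (h : Subgroup.centralizer ({(tQ : Subgroup.centralizer ({z} : Set G))} :
      Set (Subgroup.centralizer ({z} : Set G))))
    (x y : ↥leechPerpU)
    (hxy : (bmRho Q e ψ hψ tQ hu h) • (x : ↥leechLattice) = (y : ↥leechLattice)) :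
    ∃ c : Subgroup.centralizer ({z} : Set G),
      (c = 1 ∨ c = (zQ : Subgroup.centralizer ({z} : Set G)) ∨
        c = (tQ : Subgroup.centralizer ({z} : Set G)) ∨
        c = (zQ : Subgroup.centralizer ({z} : Set G)) *
          (tQ : Subgroup.centralizer ({z} : Set G))) ∧
      (h : Subgroup.centralizer ({z} : Set G)) * bmPsi Q ψ x *
        (h : Subgroup.centralizer ({z} : Set G))⁻¹ = c * bmPsi Q ψ y := by
  have h1 := bmRho_equiv Q e ψ hψ tQ hu h (x : ↥leechLattice) (bmLift Q ψ x) (bmLift_spec Q ψ x)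
  have h2 : (bmRho Q e ψ hψ tQ hu h).1 (x : ↥leechLattice) = (y : ↥leechLattice) := hxy
  rw [h2, bmLift_spec Q ψ (y : ↥leechLattice)] at h1
  rcases bm_mk_eq Q zQ hzc hzz hzall _ _ h1 with h3 | h3
  · exact ⟨1, Or.inl rfl, by rw [one_mul]; exact (congrArg Subtype.val h3).symm⟩
  · refine ⟨zQ, Or.inr (Or.inl rfl), ?_⟩
    have h4 : bmPsi Q ψ y = (zQ : Subgroup.centralizer ({z} : Set G)) *
        ((h : Subgroup.centralizer ({z} : Set G)) * bmPsi Q ψ x *
          (h : Subgroup.centralizer ({z} : Set G))⁻¹) := congrArg Subtype.val h3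
    have hzzC : (zQ : Subgroup.centralizer ({z} : Set G)) *
        (zQ : Subgroup.centralizer ({z} : Set G)) = 1 := congrArg Subtype.val hzz
    rw [h4, ← mul_assoc, hzzC, one_mul]

theorem bm_CQ (hS : IsExtraspecialCentralizerSetting z Q 12) (hψ : IsLeechModTwoIso Q e ψ)
    (tQ : Q) (hu : ψ Spor.leechU = QuotientGroup.mk tQ)
    (h : Subgroup.centralizer ({z} : Set G))
    (hh : h * (tQ : Subgroup.centralizer ({z} : Set G)) =
      (tQ : Subgroup.centralizer ({z} : Set G)) * h)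
    (hr : ∀ r ∈ bmR Q tQ, h * r * h⁻¹ * r⁻¹ = 1 ∨
      h * r * h⁻¹ * r⁻¹ = (tQ : Subgroup.centralizer ({z} : Set G))) : h ∈ bmR Q tQ := by
  rw [mem_bmR]
  refine ⟨?_, hh⟩
  have hd : h ∈ Subgroup.centralizer ({(tQ : Subgroup.centralizer ({z} : Set G))} :
      Set (Subgroup.centralizer ({z} : Set G))) :=
    Subgroup.mem_centralizer_singleton_iff.mpr hh
  rw [← bmRho_eq_one_iff Q e ψ hψ tQ hu ⟨h, hd⟩]
  apply bm_faithful
  intro x
  have h1 := bmRho_equiv Q e ψ hψ tQ hu ⟨h, hd⟩ (x : ↥leechLattice) (bmLift Q ψ x)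
    (bmLift_spec Q ψ x)
  have hxx : ψ (x : ↥leechLattice) * ψ (x : ↥leechLattice) = 1 := by
    rw [← hψ.1]
    exact mq_dbl Q e ψ hψ _
  have huu : ψ Spor.leechU * ψ Spor.leechU = 1 := by
    rw [← hψ.1]
    exact mq_dbl Q e ψ hψ _
  rw [mem_bmS0]
  rcases hr _ (bmPsi_mem Q e ψ hS hψ tQ hu x) with h2 | h2
  · left
    have h3 : ψ ((bmRho Q e ψ hψ tQ hu ⟨h, hd⟩).1 (x : ↥leechLattice)) = ψ x := by
      rw [h1, bmLift_spec Q ψ x]
      congr 1
      apply Subtype.ext
      show h * bmPsi Q ψ x * h⁻¹ = bmPsi Q ψ x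
      calc h * bmPsi Q ψ x * h⁻¹
          = (h * bmPsi Q ψ x * h⁻¹ * (bmPsi Q ψ x)⁻¹) * bmPsi Q ψ x := by group
        _ = bmPsi Q ψ x := by rw [h2, one_mul]
    rw [mem_mq3Dbl]
    apply (hψ.2.2.1 _).mp
    rw [hψ.1, h3, hxx]
  · right
    have h3 : ψ ((bmRho Q e ψ hψ tQ hu ⟨h, hd⟩).1 (x : ↥leechLattice)) =
        ψ Spor.leechU * ψ x := by
      rw [h1, bmLift_spec Q ψ x, hu, ← QuotientGroup.mk_mul]
      congr 1
      apply Subtype.ext
      show h * bmPsi Q ψ x * h⁻¹ = (tQ : Subgroup.centralizer ({z} : Set G)) * bmPsi Q ψ x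
      calc h * bmPsi Q ψ x * h⁻¹
          = (h * bmPsi Q ψ x * h⁻¹ * (bmPsi Q ψ x)⁻¹) * bmPsi Q ψ x := by group
        _ = (tQ : Subgroup.centralizer ({z} : Set G)) * bmPsi Q ψ x := by rw [h2]
    rw [mem_mq3Dbl]
    apply (hψ.2.2.1 _).mp
    rw [hψ.1, hψ.1, h3, mul_assoc (ψ Spor.leechU), hxx, mul_one, huu]


theorem bmR_card (hS : IsExtraspecialCentralizerSetting z Q 12) (hψ : IsLeechModTwoIso Q e ψ)
    (zQ : Q) (hzc : zQ ∈ Subgroup.center Q)
    (hzz : zQ * zQ = 1) (hzall : ∀ x ∈ Subgroup.center Q, x = 1 ∨ x = zQ) (tQ : Q)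
    (ht : tQ ∉ Subgroup.center Q) : Nat.card (bmR Q tQ) = 2 ^ 24 := by
  have hcm := mq_comm_mem Q e ψ hψ
  have h1 := mq_index_centralizer zQ hzc hzz hzall hcm tQ ht
  have h2 := Subgroup.card_mul_index (Subgroup.centralizer ({tQ} : Set Q))
  have h3 : Nat.card Q = 2 ^ 25 := hS.2.2.2.1
  have h4 : bmR Q tQ = (Subgroup.centralizer ({tQ} : Set Q)).map Q.subtype := by
    ext r
    rw [mem_bmR, Subgroup.mem_map]
    constructor
    · rintro ⟨hr, hc⟩
      exact ⟨⟨r, hr⟩, Subgroup.mem_centralizer_singleton_iff.mpr (Subtype.ext hc), rfl⟩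
    · rintro ⟨q, hq, rfl⟩
      exact ⟨q.2, congrArg Subtype.val (Subgroup.mem_centralizer_singleton_iff.mp hq)⟩
  rw [h4, Subgroup.card_map_of_injective Q.subtype_injective]
  rw [h1, h3] at h2
  omega

theorem bmR_sq (hψ : IsLeechModTwoIso Q e ψ) (zQ : Q)
    (hzall : ∀ x ∈ Subgroup.center Q, x = 1 ∨ x = zQ) (tQ : Q)
    (r : Subgroup.centralizer ({z} : Set G)) (hr : r ∈ bmR Q tQ) :
    r * r = 1 ∨ r * r = (zQ : Subgroup.centralizer ({z} : Set G)) := by
  rw [mem_bmR] at hr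
  rcases hzall _ (mq_sq_mem Q e ψ hψ ⟨r, hr.1⟩) with h | h
  · left
    exact congrArg Subtype.val h
  · right
    exact congrArg Subtype.val h

theorem bmR_comm (hψ : IsLeechModTwoIso Q e ψ) (zQ : Q)
    (hzall : ∀ x ∈ Subgroup.center Q, x = 1 ∨ x = zQ) (tQ : Q)
    (r s : Subgroup.centralizer ({z} : Set G)) (hr : r ∈ bmR Q tQ) (hs : s ∈ bmR Q tQ) :
    r * s = s * r ∨ r * s = (zQ : Subgroup.centralizer ({z} : Set G)) * (s * r) := by
  rw [mem_bmR] at hr hs
  rcases mq_comm_cases zQ hzall (mq_comm_mem Q e ψ hψ) ⟨r, hr.1⟩ ⟨s, hs.1⟩ with h | h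
  · left
    exact congrArg Subtype.val h
  · right
    have h' : r * s * r⁻¹ = (zQ : Subgroup.centralizer ({z} : Set G)) * s :=
      congrArg Subtype.val h
    calc r * s = (r * s * r⁻¹) * r := by group
      _ = (zQ : Subgroup.centralizer ({z} : Set G)) * (s * r) := by rw [h', mul_assoc]

theorem bmR_cent (hψ : IsLeechModTwoIso Q e ψ) (zQ : Q) (hzc : zQ ∈ Subgroup.center Q)
    (hzz : zQ * zQ = 1) (hzall : ∀ x ∈ Subgroup.center Q, x = 1 ∨ x = zQ) (tQ : Q)
    (ht : tQ ∉ Subgroup.center Q)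
    (x : Subgroup.centralizer ({z} : Set G)) (hx : x ∈ bmR Q tQ)
    (hc : ∀ r ∈ bmR Q tQ, r * x = x * r) :
    x = 1 ∨ x = (zQ : Subgroup.centralizer ({z} : Set G)) ∨
      x = (tQ : Subgroup.centralizer ({z} : Set G)) ∨
      x = (zQ : Subgroup.centralizer ({z} : Set G)) *
        (tQ : Subgroup.centralizer ({z} : Set G)) := by
  have hx' := (mem_bmR Q tQ x).mp hx
  have hm : ∀ r : Q, r * tQ = tQ * r → r * (⟨x, hx'.1⟩ : Q) = ⟨x, hx'.1⟩ * r := by
    intro r hr
    apply Subtype.ext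
    exact hc r ((mem_bmR Q tQ r).mpr ⟨r.2, congrArg Subtype.val hr⟩)
  rcases mq_double_centralizer zQ hzc hzz hzall (mq_comm_mem Q e ψ hψ) tQ ht ⟨x, hx'.1⟩ hm
    with h | h | h | h
  · left
    exact congrArg Subtype.val h
  · right
    left
    exact congrArg Subtype.val h
  · right
    right
    left
    exact congrArg Subtype.val h
  · right
    right
    right
    have h1 : x = (tQ : Subgroup.centralizer ({z} : Set G)) *
        (zQ : Subgroup.centralizer ({z} : Set G)) := congrArg Subtype.val h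
    have h2 : tQ * zQ = zQ * tQ := Subgroup.mem_center_iff.mp hzc tQ
    rw [h1]
    exact congrArg Subtype.val h2

theorem bmR_conj (tQ : Q) (h : Subgroup.centralizer ({z} : Set G))
    (hh : h * (tQ : Subgroup.centralizer ({z} : Set G)) =
      (tQ : Subgroup.centralizer ({z} : Set G)) * h)
    (r : Subgroup.centralizer ({z} : Set G)) (hr : r ∈ bmR Q tQ) :
    h * r * h⁻¹ ∈ bmR Q tQ := by
  rw [mem_bmR] at hr ⊢
  refine ⟨(inferInstance : Q.Normal).conj_mem r hr.1 h, ?_⟩
  have h1 : h⁻¹ * (tQ : Subgroup.centralizer ({z} : Set G)) =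
      (tQ : Subgroup.centralizer ({z} : Set G)) * h⁻¹ := by
    calc h⁻¹ * (tQ : Subgroup.centralizer ({z} : Set G))
        = h⁻¹ * ((tQ : Subgroup.centralizer ({z} : Set G)) * h) * h⁻¹ := by group
      _ = h⁻¹ * (h * (tQ : Subgroup.centralizer ({z} : Set G))) * h⁻¹ := by rw [hh]
      _ = (tQ : Subgroup.centralizer ({z} : Set G)) * h⁻¹ := by group
  calc h * r * h⁻¹ * (tQ : Subgroup.centralizer ({z} : Set G))
      = h * r * (h⁻¹ * (tQ : Subgroup.centralizer ({z} : Set G))) := by group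
    _ = h * (r * (tQ : Subgroup.centralizer ({z} : Set G))) * h⁻¹ := by rw [h1]; group
    _ = h * ((tQ : Subgroup.centralizer ({z} : Set G)) * r) * h⁻¹ := by rw [hr.2]
    _ = (h * (tQ : Subgroup.centralizer ({z} : Set G))) * r * h⁻¹ := by group
    _ = (tQ : Subgroup.centralizer ({z} : Set G)) * (h * r * h⁻¹) := by rw [hh]; group

end main

/-- a subgroup of order `2 ^ 24` whose self-centralizing elements are among four is not
abelian -/
theorem bm_nonab {P : Type*} [Group P] (R : Subgroup P) (a b c d : P)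
    (hcard : Nat.card R = 2 ^ 24)
    (hcent : ∀ x ∈ R, (∀ r ∈ R, r * x = x * r) → x = a ∨ x = b ∨ x = c ∨ x = d) :
    ∃ x ∈ R, ∃ y ∈ R, x * y ≠ y * x := by
  by_contra hcon
  have hcon' : ∀ x ∈ R, ∀ y ∈ R, x * y = y * x := by
    intro x hx y hy
    by_contra h
    exact hcon ⟨x, hx, y, hy, h⟩
  have h1 : Nat.card R ≤ 4 :=
    mq_card_le_four (fun m : R => (m : P)) Subtype.val_injective a b c d
      (fun m => hcent m.1 m.2 (fun r hr => hcon' r hr m.1 m.2))
  rw [hcard] at h1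
  norm_num at h1


end Cfsg.Agent.Lib.helper93
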