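import Cfsg.Agent.Lib.helper91.MonsterQFacts
import Cfsg.Agent.Lib.helper91.MonsterQ2Facts
import Cfsg.Agent.Lib.helper9.LeechEven
import Cfsg.Agent.Lib.helper91.MonsterQ3

/-!
Groups of Monster type: the commutator pairing of the extraspecial subgroup `Q` as the inner
product of the Leech lattice modulo 2, and the normalisation of the identification at an
involution of `Q` that is not conjugate to `z`.
-/

set_option autoImplicit false
open Cfsg

namespace Cfsg.Agent.Lib.helper93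

open Cfsg.Agent.Lib.helper91 Cfsg.Agent.Lib.helper9

section pairing

variable {G : Type*} [Group G] [Finite G] {z : G}
  (Q : Subgroup (Subgroup.centralizer ({z} : Set G))) [Q.Normal]
  (e : (Subgroup.centralizer ({z} : Set G)) ⧸ Q ≃* Spor.Co1)
  (ψ : leechLattice → Q ⧸ Subgroup.center Q)

/-- two elements of `Q` commute exactly when the inner product of their vectors is divisible
by 16 -/
theorem bm_pair (hS : IsExtraspecialCentralizerSetting z Q 12) (hψ : IsLeechModTwoIso Q e ψ)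
    (v w : ↥leechLattice) (q r : Q) (hq : ψ v = QuotientGroup.mk q)
    (hr : ψ w = QuotientGroup.mk r) :
    q * r = r * q ↔ (16 : ℤ) ∣ dotInt (v : GolayPt → ℤ) (w : GolayPt → ℤ) := by
  have hZ : Nat.card (Subgroup.center Q) = 2 := hS.2.2.1.2
  have hcard := mq_card_ne Q hS
  have hsq := mq_sq_mem Q e ψ hψ
  have hcm := mq_comm_mem Q e ψ hψ
  have h1 := mq_chi_eq Q e ψ mqFacts hZ hcard hψ v q hq
  have h2 := mq_chi_eq Q e ψ mqFacts hZ hcard hψ w r hr
  have hqr : ψ (v + w) = QuotientGroup.mk (q * r) := by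
    rw [hψ.1, hq, hr]
    rfl
  have h3 := mq_chi_eq Q e ψ mqFacts hZ hcard hψ (v + w) (q * r) hqr
  have h4 := mqChi_sq_mul hZ hsq hcm q r
  obtain ⟨a, ha⟩ := leech_even (v : GolayPt → ℤ) v.2
  obtain ⟨b, hb⟩ := leech_even (w : GolayPt → ℤ) w.2
  obtain ⟨c, hc⟩ := leech_dot_dvd (v : GolayPt → ℤ) (w : GolayPt → ℤ) v.2 w.2
  have hsum : sqNorm ((v + w : ↥leechLattice) : GolayPt → ℤ) = 16 * (a + b + c) := by
    rw [AddSubgroup.coe_add, sqNorm_add, ha, hb, hc]
    ring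
  rw [hsum] at h3
  rw [ha] at h1
  rw [hb] at h2
  have e1 : (16 * a / 16 : ℤ) = a := by omega
  have e2 : (16 * b / 16 : ℤ) = b := by omega
  have e3 : (16 * (a + b + c) / 16 : ℤ) = a + b + c := by omega
  rw [e1] at h1
  rw [e2] at h2
  rw [e3] at h3
  rw [h3, h1, h2] at h4
  have h5 : mqChi (r * q * r⁻¹ * q⁻¹) = ((c : ℤ) : ZMod 2) := by
    have h6 : ((a + b + c : ℤ) : ZMod 2) = (a : ZMod 2) + (b : ZMod 2) + (c : ZMod 2) := by
      push_cast
      ring
    rw [h6] at h4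
    have h7 : ∀ x y u k : ZMod 2, x + y + u = k + x + y → k = u := by decide
    exact h7 _ _ _ _ h4
  have h8 : (((c : ℤ) : ZMod 2) = 0) ↔ (16 : ℤ) ∣ dotInt (v : GolayPt → ℤ) (w : GolayPt → ℤ) := by
    rw [ZMod.intCast_zmod_eq_zero_iff_dvd, hc]
    constructor
    · rintro ⟨d, hd⟩
      exact ⟨d, by rw [hd]; push_cast; ring⟩
    · rintro ⟨d, hd⟩
      exact ⟨d, by push_cast; omega⟩
  rw [← h8, ← h5, mqChi_eq_zero_iff]
  constructor
  · intro h
    calc r * q * r⁻¹ * q⁻¹ = (q * r) * r⁻¹ * q⁻¹ := by rw [h]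
      _ = 1 := by group
  · intro h
    calc q * r = (r * q * r⁻¹ * q⁻¹)⁻¹ * (r * q) := by group
      _ = r * q := by rw [h, inv_one, one_mul]

/-- the identification can be chosen so that the involution `tQ` of `Q`, not conjugate to `z`,
corresponds to the vector `(4, 4, 0, …, 0)` -/
theorem bm_normalize (hM : IsOfMonsterType z Q) (tQ : Q) (ht1 : tQ ∉ Subgroup.center Q)
    (htt : tQ * tQ = 1)
    (hnc : ¬ IsConj z ((tQ : Subgroup.centralizer ({z} : Set G)) : G)) :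
    ∃ (e : (Subgroup.centralizer ({z} : Set G)) ⧸ Q ≃* Spor.Co1)
      (ψ : leechLattice → Q ⧸ Subgroup.center Q),
      IsLeechModTwoIso Q e ψ ∧ ψ Spor.leechU = QuotientGroup.mk tQ := by
  obtain ⟨hS, e, ψ, hψ⟩ := hM
  obtain ⟨zQ, hzQ, hzc, hz1, hzall⟩ := mq_center_cases z Q hS
  obtain ⟨y, hy, hn⟩ := mq_type Q e ψ mqFacts hS hψ tQ ht1 htt
  have hy32 : sqNorm (y : GolayPt → ℤ) = 32 := by
    rcases hn with hn | hn
    · exact hn
    · exfalso
      obtain ⟨g, ⟨hq, hqQ⟩, hne⟩ := hS.2.2.2.2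
      obtain ⟨hsc, v, hv64, hv⟩ := mq_conj_type Q e ψ mqFacts mqFacts2 hS hψ
        ⟨⟨g * z * g⁻¹, hq⟩, hqQ⟩ g rfl hne
      obtain ⟨h, hh⟩ := mq_conj_64 Q e ψ mqFacts hψ zQ hzall hzc ⟨⟨g * z * g⁻¹, hq⟩, hqQ⟩ tQ ht1
        v y hv hy hv64 hn
      apply hnc
      have h2 : (h : G) * (g * z * g⁻¹) * (h : G)⁻¹ =
          ((tQ : Subgroup.centralizer ({z} : Set G)) : G) := congrArg Subtype.val hh
      refine isConj_iff.mpr ⟨(h : G) * g, ?_⟩
      rw [← h2]
      group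
  obtain ⟨γ, hγ⟩ := mqFacts.t32 Spor.leechU y mcV_norm hy32
  refine ⟨_, _, mq_twist Q e ψ hψ γ, ?_⟩
  show ψ (γ.1 Spor.leechU) = QuotientGroup.mk tQ
  rw [hγ, hy]

end pairing

end Cfsg.Agent.Lib.helper93
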