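import Cfsg.Agent.Lib.helper93.BMPair
import Cfsg.Agent.Lib.helper93.BMLeech

/-!
Groups of Monster type: the homomorphism from the centralizer of an involution `t` of `Q`, with
vector `u = (4, 4, 0, …, 0)`, onto the second Conway group.
-/

set_option autoImplicit false
open Cfsg

namespace Cfsg.Agent.Lib.helper93

open Cfsg.Agent.Lib.helper91 Cfsg.Agent.Lib.helper9

/-- the map from the second Conway group to the first -/
def bmF : ↥Spor.Co2 →* Spor.Co1 := (QuotientGroup.mk' (Subgroup.center ↥Co0)).comp bmIncl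

theorem bmF_apply (g : ↥Spor.Co2) : bmF g = (QuotientGroup.mk (bmIncl g) : Spor.Co1) := rfl

theorem bm_leechU_ne_neg : Spor.leechU ≠ -Spor.leechU := by
  intro h
  have h1 := congrArg (fun v : ↥leechLattice => (v : GolayPt → ℤ) none) h
  have h2 : Spor.vecU none = -Spor.vecU none := h1
  have h3 : Spor.vecU none = 4 := by decide
  rw [h3] at h2
  omega

theorem bmF_injective : Function.Injective bmF := by
  rw [injective_iff_map_eq_one]
  intro g hg
  have h1 : bmIncl g ∈ Subgroup.center ↥Co0 := (QuotientGroup.eq_one_iff _).mp hg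
  rcases center_eq _ h1 with h | h
  · exact bmIncl_injective (by rw [h, map_one])
  · exfalso
    have h2 := bm_co2_fix g
    have h3 : (bmIncl g).1 Spor.leechU = -Spor.leechU := by rw [h, negCo_apply]
    rw [bmIncl_apply, h2] at h3
    exact bm_leechU_ne_neg h3

section rho

variable {G : Type*} [Group G] [Finite G] {z : G}
  (Q : Subgroup (Subgroup.centralizer ({z} : Set G))) [Q.Normal]
  (e : (Subgroup.centralizer ({z} : Set G)) ⧸ Q ≃* Spor.Co1)
  (ψ : leechLattice → Q ⧸ Subgroup.center Q)

/-- the image in the first Conway group of an element centralizing `t` comes from the second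
Conway group -/
theorem bm_range (hψ : IsLeechModTwoIso Q e ψ) (tQ : Q)
    (hu : ψ Spor.leechU = QuotientGroup.mk tQ)
    (d : Subgroup.centralizer ({(tQ : Subgroup.centralizer ({z} : Set G))} :
      Set (Subgroup.centralizer ({z} : Set G)))) :
    e (QuotientGroup.mk (d : Subgroup.centralizer ({z} : Set G))) ∈ bmF.range := by
  obtain ⟨g1, hg1⟩ := QuotientGroup.mk_surjective
    (e (QuotientGroup.mk (d : Subgroup.centralizer ({z} : Set G))))
  have h1 := hψ.2.2.2 (d : Subgroup.centralizer ({z} : Set G)) g1 hg1 Spor.leechU tQ hu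
  have hd : (d : Subgroup.centralizer ({z} : Set G)) * (tQ : Subgroup.centralizer ({z} : Set G)) =
      (tQ : Subgroup.centralizer ({z} : Set G)) * (d : Subgroup.centralizer ({z} : Set G)) :=
    Subgroup.mem_centralizer_singleton_iff.mp d.2
  have h3 : (⟨(d : Subgroup.centralizer ({z} : Set G)) * (tQ : Subgroup.centralizer ({z} : Set G)) *
      (d : Subgroup.centralizer ({z} : Set G))⁻¹, (inferInstance : Q.Normal).conj_mem
      (tQ : Subgroup.centralizer ({z} : Set G)) tQ.2 (d : Subgroup.centralizer ({z} : Set G))⟩ : Q) =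
      tQ := by
    apply Subtype.ext
    show (d : Subgroup.centralizer ({z} : Set G)) * (tQ : Subgroup.centralizer ({z} : Set G)) *
      (d : Subgroup.centralizer ({z} : Set G))⁻¹ = (tQ : Subgroup.centralizer ({z} : Set G))
    rw [hd]
    group
  have h2 : g1 • Spor.leechU = g1.1 Spor.leechU := rfl
  rw [h2, h3, ← hu] at h1
  have h4 : ∃ w : ↥leechLattice, g1.1 Spor.leechU + Spor.leechU = w + w := by
    apply (hψ.2.2.1 _).mp
    rw [hψ.1, h1, ← hψ.1]
    exact mq_dbl Q e ψ hψ _
  rcases mqFacts2.short (g1.1 Spor.leechU) Spor.leechU (by rw [g1.2.2]; exact mcV_norm) mcV_norm h4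
    with h | h
  · refine ⟨⟨g1.1, g1.2, h.symm⟩, ?_⟩
    rw [← hg1]
    rfl
  · refine ⟨⟨(negCo * g1).1, (negCo * g1).2, ?_⟩, ?_⟩
    · show negCo.1 (g1.1 Spor.leechU) = Spor.leechU
      rw [negCo_apply, ← h]
    · rw [← hg1]
      show (QuotientGroup.mk (negCo * g1) : Spor.Co1) = QuotientGroup.mk g1
      rw [QuotientGroup.mk_mul, (QuotientGroup.eq_one_iff negCo).mpr negCo_mem_center, one_mul]

/-- the homomorphism from the centralizer of `t` in the centralizer of `z` to the second Conway
group -/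
noncomputable def bmRho (hψ : IsLeechModTwoIso Q e ψ) (tQ : Q)
    (hu : ψ Spor.leechU = QuotientGroup.mk tQ) :
    Subgroup.centralizer ({(tQ : Subgroup.centralizer ({z} : Set G))} :
      Set (Subgroup.centralizer ({z} : Set G))) →* ↥Spor.Co2 :=
  (MonoidHom.ofInjective bmF_injective).symm.toMonoidHom.comp
    (MonoidHom.codRestrict ((e.toMonoidHom.comp (QuotientGroup.mk' Q)).comp (Subgroup.subtype _))
      bmF.range (fun d => bm_range Q e ψ hψ tQ hu d))

theorem bmRho_spec (hψ : IsLeechModTwoIso Q e ψ) (tQ : Q)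
    (hu : ψ Spor.leechU = QuotientGroup.mk tQ)
    (d : Subgroup.centralizer ({(tQ : Subgroup.centralizer ({z} : Set G))} :
      Set (Subgroup.centralizer ({z} : Set G)))) :
    (QuotientGroup.mk (bmIncl (bmRho Q e ψ hψ tQ hu d)) : Spor.Co1) =
      e (QuotientGroup.mk (d : Subgroup.centralizer ({z} : Set G))) := by
  have h1 := MulEquiv.apply_symm_apply (MonoidHom.ofInjective bmF_injective)
    (MonoidHom.codRestrict ((e.toMonoidHom.comp (QuotientGroup.mk' Q)).comp (Subgroup.subtype _))
      bmF.range (fun d => bm_range Q e ψ hψ tQ hu d) d)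
  exact congrArg Subtype.val h1

theorem bmRho_eq_one_iff (hψ : IsLeechModTwoIso Q e ψ) (tQ : Q)
    (hu : ψ Spor.leechU = QuotientGroup.mk tQ)
    (d : Subgroup.centralizer ({(tQ : Subgroup.centralizer ({z} : Set G))} :
      Set (Subgroup.centralizer ({z} : Set G)))) :
    bmRho Q e ψ hψ tQ hu d = 1 ↔ (d : Subgroup.centralizer ({z} : Set G)) ∈ Q := by
  have h1 := bmRho_spec Q e ψ hψ tQ hu d
  constructor
  · intro h
    rw [h, map_one] at h1
    have h2 : e (QuotientGroup.mk (d : Subgroup.centralizer ({z} : Set G))) = 1 := by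
      rw [← h1]
      rfl
    rw [MulEquiv.map_eq_one_iff] at h2
    exact (QuotientGroup.eq_one_iff _).mp h2
  · intro h
    apply bmF_injective
    rw [map_one, bmF_apply, h1, (QuotientGroup.eq_one_iff _).mpr h, map_one]

theorem bmRho_surjective (hS : IsExtraspecialCentralizerSetting z Q 12)
    (hψ : IsLeechModTwoIso Q e ψ) (tQ : Q) (ht : tQ ∉ Subgroup.center Q)
    (hu : ψ Spor.leechU = QuotientGroup.mk tQ) :
    Function.Surjective (bmRho Q e ψ hψ tQ hu) := by
  intro g
  obtain ⟨zQ, hzQ, hzc, hz1, hzall⟩ := mq_center_cases z Q hS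
  obtain ⟨h, hh1, hh2⟩ := mq_fix_lift Q e ψ hψ zQ hzc hzall tQ ht Spor.leechU hu (bmIncl g)
    (by rw [bmIncl_apply, bm_co2_fix])
  have hmem : h ∈ Subgroup.centralizer ({(tQ : Subgroup.centralizer ({z} : Set G))} :
      Set (Subgroup.centralizer ({z} : Set G))) := by
    apply Subgroup.mem_centralizer_singleton_iff.mpr
    calc h * (tQ : Subgroup.centralizer ({z} : Set G))
        = (h * (tQ : Subgroup.centralizer ({z} : Set G)) * h⁻¹) * h := by group
      _ = (tQ : Subgroup.centralizer ({z} : Set G)) * h := by rw [hh2]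
  refine ⟨⟨h, hmem⟩, ?_⟩
  apply bmF_injective
  rw [bmF_apply, bmF_apply, bmRho_spec, hh1]

/-- the homomorphism intertwines conjugation with the action on the lattice -/
theorem bmRho_equiv (hψ : IsLeechModTwoIso Q e ψ) (tQ : Q)
    (hu : ψ Spor.leechU = QuotientGroup.mk tQ)
    (d : Subgroup.centralizer ({(tQ : Subgroup.centralizer ({z} : Set G))} :
      Set (Subgroup.centralizer ({z} : Set G))))
    (x : ↥leechLattice) (q : Q) (hq : ψ x = QuotientGroup.mk q) :
    ψ ((bmRho Q e ψ hψ tQ hu d).1 x) = QuotientGroup.mk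
      (⟨(d : Subgroup.centralizer ({z} : Set G)) * q * (d : Subgroup.centralizer ({z} : Set G))⁻¹,
        (inferInstance : Q.Normal).conj_mem (q : Subgroup.centralizer ({z} : Set G)) q.2
          (d : Subgroup.centralizer ({z} : Set G))⟩ : Q) :=
  hψ.2.2.2 (d : Subgroup.centralizer ({z} : Set G)) (bmIncl (bmRho Q e ψ hψ tQ hu d))
    (bmRho_spec Q e ψ hψ tQ hu d) x q hq

end rho

end Cfsg.Agent.Lib.helper93
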