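import Cfsg.Agent.Lib.helper93.Co0B6Ca0
import Cfsg.Agent.Lib.helper93.Co0B6Tag

/-!
The class of 275 vectors: the list and the table of descending words.
-/

set_option autoImplicit false
open Cfsg Cfsg.Agent.Lib.helper9

namespace Cfsg.Agent.Lib.helper93

/-- the packed vectors of the class -/
def LBa : List ℕ := LBa_0

set_option maxRecDepth 100000 in
set_option maxHeartbeats 0 in
theorem LBa_eq : LSBi 0 = LBa := by
  decide +kernel

set_option maxRecDepth 100000 in
set_option maxHeartbeats 0 in
theorem LBa_len : LBa.length = 275 := by
  decide +kernel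

theorem LSBa_desc' : ∀ n ∈ LBa, ∃ w, descB actsM 8 257356216692773445208389377595877704 n w = true := by
  intro n hn
  simp only [LBa] at hn
  have h := hn
  · exact allZ_spec _ _ _ LSBa_desc_0 n h

end Cfsg.Agent.Lib.helper93
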