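import Cfsg.Agent.Lib.helper93.LeechEnum

/-!
Collecting the packed vectors of norm 32 passing at least one of several tests, each with the
tag of the tests it passes: the members of the list of all vectors passing a given test are then
read from the collected list.
-/

set_option autoImplicit false
open Cfsg Cfsg.Agent.Lib.helper9

namespace Cfsg.Agent.Lib.helper93

/-- the tag of a packed number: the bit `i` is the test number `i` -/
def tagL : List (ℕ → Bool) → ℕ → ℕ
  | [], _ => 0
  | q :: qs, n => cond (q n) 1 0 + 2 * tagL qs n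

/-- the members of a list passing at least one test, with their tags above the bit 120 -/
def collectL (qs : List (ℕ → Bool)) : List ℕ → List ℕ
  | [] => []
  | n :: l => cond (Nat.beq (tagL qs n) 0) (collectL qs l)
      ((n + 2 ^ 120 * tagL qs n) :: collectL qs l)

/-- the collected members of the lists `gen c` -/
def collectK (qs : List (ℕ → Bool)) (gen : ℕ → List ℕ) (cs : List ℕ) : List ℕ :=
  cs.flatMap (fun c => collectL qs (gen c))

/-- the test number `i` of a collected member -/
def selT (i e : ℕ) : Bool := Nat.beq (Nat.mod (Nat.div e (Nat.pow 2 (Nat.add 120 i))) 2) 1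

/-- the packed number of a collected member -/
def valT (e : ℕ) : ℕ := Nat.mod e (Nat.pow 2 120)

theorem collectL_cons (qs : List (ℕ → Bool)) (n : ℕ) (l : List ℕ) :
    collectL qs (n :: l) = cond (Nat.beq (tagL qs n) 0) (collectL qs l)
      ((n + 2 ^ 120 * tagL qs n) :: collectL qs l) := rfl

theorem collectL_append (qs : List (ℕ → Bool)) : ∀ l l' : List ℕ,
    collectL qs (l ++ l') = collectL qs l ++ collectL qs l'
  | [], l' => rfl
  | n :: l, l' => by
    rw [List.cons_append, collectL_cons, collectL_cons, collectL_append qs l l']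
    cases Nat.beq (tagL qs n) 0 <;> rfl

theorem collectL_flatMap (qs : List (ℕ → Bool)) (gen : ℕ → List ℕ) : ∀ cs : List ℕ,
    collectL qs (cs.flatMap gen) = collectK qs gen cs
  | [] => rfl
  | c :: cs => by
    rw [List.flatMap_cons, collectL_append, collectL_flatMap qs gen cs]
    rfl

theorem collectK_append (qs : List (ℕ → Bool)) (gen : ℕ → List ℕ) (l l' : List ℕ) :
    collectK qs gen (l ++ l') = collectK qs gen l ++ collectK qs gen l' := by
  unfold collectK
  rw [List.flatMap_append]

/-- the concatenation of `K` lists `f j0`, `f (j0 + 1)`, … -/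
def chunksF (f : ℕ → List ℕ) : ℕ → ℕ → List ℕ
  | 0, _ => []
  | K + 1, j0 => f j0 ++ chunksF f K (j0 + 1)

theorem collectK_chunks (qs : List (ℕ → Bool)) (gen : ℕ → List ℕ) (s : ℕ) (L : List ℕ) :
    ∀ (K j0 : ℕ), (L.drop (j0 * s)).length ≤ K * s →
      collectK qs gen (L.drop (j0 * s)) =
        chunksF (fun j => collectK qs gen ((L.drop (j * s)).take s)) K j0
  | 0, j0, h => by
    have : L.drop (j0 * s) = [] := List.length_eq_zero_iff.1 (by omega)
    rw [this]
    rfl
  | K + 1, j0, h => by
    have e : L.drop (j0 * s) = (L.drop (j0 * s)).take s ++ L.drop ((j0 + 1) * s) := by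
      rw [show (j0 + 1) * s = j0 * s + s by ring, ← List.drop_drop, List.take_append_drop]
    have ih := collectK_chunks qs gen s L K (j0 + 1) (by
      rw [List.length_drop] at h ⊢
      have : (K + 1) * s = K * s + s := by ring
      have : (j0 + 1) * s = j0 * s + s := by ring
      omega)
    conv_lhs => rw [e]
    rw [collectK_append, ih]
    rfl

theorem chunksF_8 (f : ℕ → List ℕ) : chunksF f 8 0 =
    f 0 ++ (f 1 ++ (f 2 ++ (f 3 ++ (f 4 ++ (f 5 ++ (f 6 ++ (f 7 ++ []))))))) := rfl

theorem chunksF_16 (f : ℕ → List ℕ) : chunksF f 16 0 =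
    f 0 ++ (f 1 ++ (f 2 ++ (f 3 ++ (f 4 ++ (f 5 ++ (f 6 ++ (f 7 ++ (f 8 ++ (f 9 ++ (f 10 ++
      (f 11 ++ (f 12 ++ (f 13 ++ (f 14 ++ (f 15 ++ []))))))))))))))) := rfl

/-- the collected members of the whole list, by chunks -/
theorem collectL_EL (qs : List (ℕ → Bool)) : collectL qs EL = collectL qs gen1 ++
    (chunksF (fun j => collectK qs gen2 (((wtList 8).drop (j * 100)).take 100)) 8 0 ++
      chunksF (fun j => collectK qs gen3 ((cwList.drop (j * 256)).take 256)) 16 0) := by
  unfold EL
  rw [collectL_append, collectL_append, collectL_flatMap, collectL_flatMap]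
  have h2 := collectK_chunks qs gen2 100 (wtList 8) 8 0 (by
    rw [zero_mul, List.drop_zero, wtList_8_length]; norm_num)
  have h3 := collectK_chunks qs gen3 256 cwList 16 0 (by
    rw [zero_mul, List.drop_zero, cwList_length])
  rw [zero_mul, List.drop_zero] at h2 h3
  rw [h2, h3]

/-! ### reading the tests from the tags -/

theorem tag_bit : ∀ (qs : List (ℕ → Bool)) (i n : ℕ),
    tagL qs n / 2 ^ i % 2 = cond ((qs.getD i (fun _ => false)) n) 1 0
  | [], i, n => by simp [tagL]
  | q :: qs, 0, n => by
    unfold tagL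
    rw [pow_zero, Nat.div_one, List.getD_cons_zero]
    cases q n <;> simp
  | q :: qs, i + 1, n => by
    unfold tagL
    have e : (cond (q n) 1 0 + 2 * tagL qs n) / 2 ^ (i + 1) = tagL qs n / 2 ^ i := by
      rw [pow_succ', ← Nat.div_div_eq_div_mul]
      congr 1
      cases q n
      · show (0 + 2 * tagL qs n) / 2 = tagL qs n
        omega
      · show (1 + 2 * tagL qs n) / 2 = tagL qs n
        omega
    rw [e, tag_bit qs i n, List.getD_cons_succ]

theorem selT_entry (qs : List (ℕ → Bool)) (i n : ℕ) (hn : n < 2 ^ 120) :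
    selT i (n + 2 ^ 120 * tagL qs n) = (qs.getD i (fun _ => false)) n := by
  unfold selT
  have e : (n + 2 ^ 120 * tagL qs n) / 2 ^ (120 + i) = tagL qs n / 2 ^ i := by
    rw [pow_add, ← Nat.div_div_eq_div_mul, Nat.add_mul_div_left _ _ (by positivity),
      Nat.div_eq_of_lt hn, zero_add]
  show Nat.beq ((n + 2 ^ 120 * tagL qs n) / 2 ^ (120 + i) % 2) 1 = _
  rw [e, tag_bit]
  cases (qs.getD i (fun _ => false)) n <;> rfl

theorem valT_entry (t n : ℕ) (hn : n < 2 ^ 120) : valT (n + 2 ^ 120 * t) = n := by
  show (n + 2 ^ 120 * t) % 2 ^ 120 = n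
  rw [Nat.add_mul_mod_self_left, Nat.mod_eq_of_lt hn]

theorem tag_zero (qs : List (ℕ → Bool)) (i n : ℕ) (h : tagL qs n = 0) :
    (qs.getD i (fun _ => false)) n = false := by
  have h1 := tag_bit qs i n
  rw [h, Nat.zero_div, Nat.zero_mod] at h1
  cases hq : (qs.getD i (fun _ => false)) n
  · rfl
  · rw [hq] at h1
    exact absurd h1 (by decide)

/-- the members passing the test number `i` are among the collected members -/
theorem mem_collect (qs : List (ℕ → Bool)) (i : ℕ) : ∀ (l : List ℕ), (∀ n ∈ l, n < 2 ^ 120) →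
    ∀ n ∈ l, (qs.getD i (fun _ => false)) n = true →
      n ∈ ((collectL qs l).filter (selT i)).map valT
  | [], _, n, hn, _ => absurd hn (by simp)
  | m :: l, hl, n, hn, hq => by
    have hm : m < 2 ^ 120 := hl m (List.mem_cons_self ..)
    have ih := mem_collect qs i l (fun k hk => hl k (List.mem_cons_of_mem _ hk))
    rw [collectL_cons]
    rcases List.mem_cons.1 hn with rfl | hn'
    · cases ht : Nat.beq (tagL qs n) 0
      · simp only [cond_false]
        refine List.mem_map.2 ⟨n + 2 ^ 120 * tagL qs n, List.mem_filter.2 ⟨List.mem_cons_self .., ?_⟩,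
          valT_entry _ n hm⟩
        rw [selT_entry qs i n hm, hq]
      · have h0 := tag_zero qs i n (Nat.eq_of_beq_eq_true ht)
        rw [hq] at h0
        exact absurd h0 (by decide)
    · have h1 := ih n hn' hq
      cases ht : Nat.beq (tagL qs m) 0
      · simp only [cond_false]
        obtain ⟨e, he, hv⟩ := List.mem_map.1 h1
        obtain ⟨he1, he2⟩ := List.mem_filter.1 he
        exact List.mem_map.2 ⟨e, List.mem_filter.2 ⟨List.mem_cons_of_mem _ he1, he2⟩, hv⟩
      · simp only [cond_true]
        exact h1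

/-- the number of members passing the test number `i` -/
theorem count_collect (qs : List (ℕ → Bool)) (i : ℕ) : ∀ (l : List ℕ), (∀ n ∈ l, n < 2 ^ 120) →
    l.countP (qs.getD i (fun _ => false)) = (collectL qs l).countP (selT i)
  | [], _ => rfl
  | m :: l, hl => by
    have hm : m < 2 ^ 120 := hl m (List.mem_cons_self ..)
    have ih := count_collect qs i l (fun k hk => hl k (List.mem_cons_of_mem _ hk))
    rw [collectL_cons, List.countP_cons, ih]
    cases ht : Nat.beq (tagL qs m) 0
    · simp only [cond_false]
      rw [List.countP_cons, selT_entry qs i m hm]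
    · simp only [cond_true]
      rw [tag_zero qs i m (Nat.eq_of_beq_eq_true ht)]
      simp

theorem EL_lt (n : ℕ) (hn : n ∈ EL) : n < 2 ^ 120 := by
  obtain ⟨h1, h2, h3⟩ := EL_bij.2 n hn
  rw [← h3]
  have hb := coord_bound64 (vecP n) (by rw [h2]; norm_num)
  have := packV_lt (vecP n) hb
  norm_num at this ⊢
  exact this

end Cfsg.Agent.Lib.helper93
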