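import Cfsg.Agent.Lib.helper93.LeechCntDefs
import Cfsg.Agent.Lib.helper93.LeechTagLib

/-!
Tests on the packed vectors of norm 32 with inner product `-8` with `v0S`, by their inner
product with `u0S`.
-/

set_option autoImplicit false
open Cfsg Cfsg.Agent.Lib.helper9

namespace Cfsg.Agent.Lib.helper93

/-- the packed vector `u0S - v0S` -/
def nW0 : ℕ := 343026579557397570761301217910134984

/-- the test of the inner product with `u0S`: it is `128 - 2 k` -/
def tU (k n : ℕ) : Bool :=
  Nat.beq (Nat.add (getN n 4) k) (Nat.add (Nat.mul 2 (getN n 7)) (Nat.add (getN n 1) (Nat.add (getN n 2) (Nat.add (getN n 3) (Nat.add (getN n 5) (Nat.add (getN n 8) (Nat.add (getN n 11) (getN n 13))))))))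

/-- inner product `-8` with `v0S` and `128 - 2 k` with `u0S` -/
def qBU (k n : ℕ) : Bool := qB n && tU k n

/-- the other vectors with inner product `-8` with `v0S`, except `u0S - v0S` -/
def qBX (n : ℕ) : Bool :=
  qB n && (!(Nat.beq n nW0) && (!(tU 76 n) && (!(tU 60 n) && (!(tU 72 n) && (!(tU 64 n) &&
    !(tU 68 n))))))

/-- the six tests -/
def qsB : List (ℕ → Bool) := [qBU 76, qBU 60, qBU 72, qBU 64, qBU 68, qBX]

/-- the collected members of a chunk of octads -/
def cB2 (j : ℕ) : List ℕ := collectK qsB gen2 (((wtList 8).drop (j * 100)).take 100)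

/-- the collected members of a chunk of codewords -/
def cB3 (j : ℕ) : List ℕ := collectK qsB gen3 ((cwList.drop (j * 256)).take 256)

theorem collectB_EL' : collectL qsB EL = collectL qsB gen1 ++
    (chunksF cB2 8 0 ++ chunksF cB3 16 0) := collectL_EL qsB

end Cfsg.Agent.Lib.helper93
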