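import Cfsg.Agent.Lib.helper93.Co0Norm64

/-!
`Cfsg.Co0` is finite: an automorphism is determined by the images of the 24 vectors `8 e_p`,
which are among the finitely many vectors of norm 64.
-/

set_option autoImplicit false
open Cfsg

namespace Cfsg.Agent.Lib.helper93

instance Co0_finite : Finite ↥Co0 := by
  have : Finite {u : ↥leechLattice // sqNorm (u : GolayPt → ℤ) = 64} := norm64_finite.to_subtype
  refine Finite.of_injective (fun (g : ↥Co0) (q : GolayPt) =>
    (⟨g.1 (E q), (g.2.2 (E q)).trans (sqNorm_E q)⟩ :
      {u : ↥leechLattice // sqNorm (u : GolayPt → ℤ) = 64})) ?_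
  intro f g hfg
  exact co_ext f g (fun q => congrArg Subtype.val (congrFun hfg q))

end Cfsg.Agent.Lib.helper93
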