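import Cfsg.Agent.Lib.helper93.Co0HS

/-!
An involution of the stabiliser of the base pair of vectors of norm 48 with inner product `-32`
that moves each of the 100 points.
-/

set_option autoImplicit false
open Cfsg Cfsg.Agent.Lib.helper9

namespace Cfsg.Agent.Lib.helper93

/-- the packed vector `8 e_i` -/
def nE (i : ℕ) : ℕ := digSum (fun k => cond (Nat.beq k i) 16 8) 24

theorem E_val (q : GolayPt) : (E q : GolayPt → ℤ) = vecP (nE (idx q)) := by
  funext p
  rw [E_apply, vecP_apply]
  unfold nE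
  rw [getN_digSum' _ 24 _ (fun j _ => by rw [cond_beq]; split_ifs <;> norm_num) (idx_lt p),
    cond_beq]
  by_cases h : p = q
  · rw [if_pos h, if_pos (congrArg idx h)]
    norm_num
  · rw [if_neg h, if_neg (fun h' => h (idx_injective h'))]
    norm_num

/-- packed numbers of equal vectors agree on the first 24 digits -/
theorem mod_of_vecP_eq (a b : ℕ) (h : vecP a = vecP b) : a % 32 ^ 24 = b % 32 ^ 24 := by
  rw [← digSum_getN a 24, ← digSum_getN b 24]
  refine digSum_congr _ _ 24 (fun i hi => ?_)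
  have h1 := congrFun h (pt i)
  rw [vecP_pt a i hi, vecP_pt b i hi] at h1
  omega

/-- the packed involution -/
def aI : ℕ → ℕ := runW actsH 9 14515835745

theorem aI_snd : Snd HH aI := snd_runW HH actsH actsH_snd 9 14515835745

/-- the test that `a` moves the packed vector `n` -/
def movB (a : ℕ → ℕ) (n : ℕ) : Bool :=
  not (Nat.beq (Nat.mod (a n) (Nat.pow 32 24)) (Nat.mod n (Nat.pow 32 24)))

theorem movB_spec (a : ℕ → ℕ) (n : ℕ) (h : movB a n = true) : vecP (a n) ≠ vecP n := by
  intro h1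
  have h2 := mod_of_vecP_eq _ _ h1
  unfold movB at h
  have h3 : Nat.beq (Nat.mod (a n) (Nat.pow 32 24)) (Nat.mod n (Nat.pow 32 24)) = true :=
    beq_t _ _ h2
  rw [h3] at h
  exact Bool.noConfusion h

set_option maxRecDepth 100000 in
set_option maxHeartbeats 0 in
theorem aI_sq : (List.range 24).all (fun i => Nat.beq (aI (aI (nE i))) (nE i)) = true := by
  decide +kernel

set_option maxRecDepth 100000 in
set_option maxHeartbeats 0 in
theorem aI_mov0 : ((LSi 6).take 50).all (movB aI) = true := by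
  decide +kernel

set_option maxRecDepth 100000 in
set_option maxHeartbeats 0 in
theorem aI_mov1 : ((LSi 6).drop 50).all (movB aI) = true := by
  decide +kernel

theorem aI_mov : ∀ n ∈ LSi 6, vecP (aI n) ≠ vecP n := by
  intro n hn
  rw [← List.take_append_drop 50 (LSi 6), List.mem_append] at hn
  rcases hn with hn | hn
  · exact movB_spec aI n (List.all_eq_true.1 aI_mov0 n hn)
  · exact movB_spec aI n (List.all_eq_true.1 aI_mov1 n hn)

theorem aI_frame (i : ℕ) (hi : i < 24) : aI (aI (nE i)) = nE i := by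
  have h := List.all_eq_true.1 aI_sq i (List.mem_range.2 hi)
  exact Nat.eq_of_beq_eq_true h

/-- an involution of the stabiliser of the base pair without fixed points on the 100 points -/
theorem HS_inv_base : ∃ g ∈ HH, orderOf g = 2 ∧ ∀ x, Phi100 cH x → (g : ↥Co0).1 x ≠ x := by
  obtain ⟨g, hg, hs⟩ := aI_snd
  have fpf : ∀ x, Phi100 cH x → g.1 x ≠ x := by
    intro x hx hfix
    have hb := coord_bound64 (x : GolayPt → ℤ) (by rw [hx.1]; norm_num)
    have hxv : (x : GolayPt → ℤ) = vecP (packV (x : GolayPt → ℤ)) := (vecP_packV _ hb).symm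
    have h1 := hs x _ hxv (by rw [hx.1]; norm_num)
    rw [hfix] at h1
    have hmem : packV (x : GolayPt → ℤ) ∈ LSi 6 :=
      tag_cover 6 q100 rfl _ (mem_EL _ x.2 hx.1) ((q100_iff _ hx.1).1 ⟨hx.2.1, hx.2.2⟩)
    exact aI_mov _ hmem (h1.symm.trans hxv)
  have hsq : g * g = 1 := by
    apply co_ext
    intro q
    rw [co_mul_apply]
    have h1 := hs (E q) (nE (idx q)) (E_val q) (by rw [sqNorm_E])
    have h2 := hs (g.1 (E q)) (aI (nE (idx q))) h1 (by rw [g.2.2, sqNorm_E])
    rw [aI_frame _ (idx_lt q), ← E_val] at h2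
    exact Subtype.ext h2
  have hne : g ≠ 1 := by
    intro h1
    exact fpf wSS wSS_Phi (by rw [h1]; rfl)
  have : Fact (Nat.Prime 2) := ⟨Nat.prime_two⟩
  exact ⟨g, hg, orderOf_eq_prime (by rw [pow_two]; exact hsq) hne, fpf⟩

/-- an involution of the stabiliser of a pair of vectors of norm 48 with inner product `-32`
without fixed points on the 100 points of the pair -/
theorem HS_inv (v w : ↥leechLattice) (hv : sqNorm (v : GolayPt → ℤ) = 48)
    (hw : sqNorm (w : GolayPt → ℤ) = 48)
    (hvw : dotInt (v : GolayPt → ℤ) (w : GolayPt → ℤ) = -32) :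
    ∃ g : ↥Co0, g.1 v = v ∧ g.1 w = w ∧ orderOf g = 2 ∧ ∀ x, Phi100 (v, w) x → g.1 x ≠ x := by
  obtain ⟨h, hh⟩ := hs_pair_to_base v w hv hw hvw
  obtain ⟨rfl, rfl⟩ := Prod.ext_iff.1 hh
  obtain ⟨g, hg, ho, hf⟩ := HS_inv_base
  obtain ⟨g1, g2⟩ := HH_fix g hg
  refine ⟨h * g * h⁻¹, conj_apply h g _ _ g1, conj_apply h g _ _ g2, ?_, ?_⟩
  · have e : h * g * h⁻¹ = MulAut.conj h g := rfl
    rw [e, MulEquiv.orderOf_eq]
    exact ho
  · intro x hx hfix
    have hx' : Phi100 cH ((h⁻¹ : ↥Co0).1 x) := by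
      have := Phi100_inv h⁻¹ _ x hx
      have e : act2 h⁻¹ (act2 h cH) = cH := by
        show ((h⁻¹ : ↥Co0).1 (h.1 u0S), (h⁻¹ : ↥Co0).1 (h.1 w0S)) = cH
        rw [co_inv_apply, co_inv_apply]
        rfl
      rw [e] at this
      exact this
    apply hf _ hx'
    rw [co_mul_apply, co_mul_apply] at hfix
    have := congrArg (h⁻¹ : ↥Co0).1 hfix
    rw [co_inv_apply] at this
    exact this

end Cfsg.Agent.Lib.helper93
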