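import Cfsg.Agent.Lib.helper93.Co0TowerPts

/-!
`Cfsg.Co0` is transitive on the vectors of norm 64 of `Cfsg.leechLattice`: the orbit of `8 e_0` is
counted by its pairs with the minimal vectors at minimal distance (46 for each vector of the orbit,
93150 for each minimal vector).
-/

set_option autoImplicit false
open Cfsg Cfsg.Agent.Lib.helper9

namespace Cfsg.Agent.Lib.helper93

/-- the packed vector `8 e_0` -/
def n64 : ℕ := 343026579557397644620337305878798608

theorem n64_mem : memP n64 = true := by decide +kernel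

/-- the vector `8 e_0` of the lattice -/
def e64 : ↥leechLattice := ⟨vecP n64, vecP_mem n64 n64_mem⟩

theorem e64_val : (e64 : GolayPt → ℤ) = vecP n64 := rfl

theorem e64_norm : sqNorm (e64 : GolayPt → ℤ) = 64 := by
  rw [e64_val]
  exact_mod_cast vecP_norm n64 64 (by decide +kernel)

theorem n64_dig : ∀ i < 24, getN n64 i =
    cond (Nat.beq i 0) 16 (8) := by
  decide +kernel

theorem n64_pt (i : ℕ) (hi : i < 24) :
    vecP n64 (pt i) = if i = 0 then 8 else 0 := by
  rw [vecP_pt n64 i hi, n64_dig i hi, cond_beq]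
  split_ifs <;> norm_num

/-- the inner product with `e64` -/
theorem dot_e64 (w : GolayPt → ℤ) :
    dotInt (e64 : GolayPt → ℤ) w = 8 * w (pt 0) := by
  rw [e64_val]
  unfold dotInt
  rw [sum_vecP_eq (fun p => vecP n64 p * w p),
    Finset.sum_congr rfl (fun i hi => by rw [n64_pt i (Finset.mem_range.1 hi)])]
  simp

theorem q46_iff (x : GolayPt → ℤ) (hn : sqNorm x = 32) :
    sqNorm ((e64 : GolayPt → ℤ) - x) = 32 ↔ q46 (packV x) = true := by
  have hb : ∀ p, -8 ≤ x p ∧ x p ≤ 8 := coord_bound64 x (by rw [hn]; norm_num)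
  rw [sqNorm_sub_eq, e64_norm, hn, dot_e64, dig_packV x hb 0 (by norm_num)]
  unfold q46
  rw [nbeq_iff]
  omega

theorem nbr_e64 : (nbr e64).ncard = 46 := by
  unfold nbr
  rw [ncard_subtype (fun x => sqNorm x = 32 ∧ sqNorm ((e64 : GolayPt → ℤ) - x) = 32),
    ncard_min_filter (fun x => sqNorm ((e64 : GolayPt → ℤ) - x) = 32) q46
      (fun x _ hn => q46_iff x hn), cnt_q46]

/-- the packed vectors `4 e_0 + 4 e_1` and `4 e_0 - 4 e_1` -/
def nA64 : ℕ := 343026579557397644620337305878798732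

def nB64 : ℕ := 343026579557397644620337305878798476

theorem nA64_mem : memP nA64 = true := by decide +kernel

theorem nB64_mem : memP nB64 = true := by decide +kernel

def a64 : ↥leechLattice := ⟨vecP nA64, vecP_mem nA64 nA64_mem⟩

def b64 : ↥leechLattice := ⟨vecP nB64, vecP_mem nB64 nB64_mem⟩

theorem a64_norm : sqNorm (a64 : GolayPt → ℤ) = 32 := by
  show sqNorm (vecP nA64) = 32
  exact_mod_cast vecP_norm nA64 32 (by decide +kernel)

theorem b64_norm : sqNorm (b64 : GolayPt → ℤ) = 32 := by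
  show sqNorm (vecP nB64) = 32
  exact_mod_cast vecP_norm nB64 32 (by decide +kernel)

theorem ab64_dig : ∀ i < 24, getN nA64 i + getN nB64 i = getN n64 i + 8 := by decide +kernel

theorem ab64_sum : a64 + b64 = e64 := by
  apply Subtype.ext
  funext p
  show vecP nA64 p + vecP nB64 p = vecP n64 p
  rw [vecP_apply, vecP_apply, vecP_apply]
  have h := ab64_dig (idx p) (idx_lt p)
  omega

theorem ab64_dot : dotInt (a64 : GolayPt → ℤ) (b64 : GolayPt → ℤ) = 0 := by
  have h : sqNorm ((a64 + b64 : ↥leechLattice) : GolayPt → ℤ) = 64 := by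
    rw [ab64_sum]
    exact e64_norm
  rw [AddSubgroup.coe_add, sqNorm_add, a64_norm, b64_norm] at h
  linarith

/-- the orbit of `e64` -/
def orb64 : Set ↥leechLattice := {u | ∃ g : ↥Co0, g.1 e64 = u}

theorem orb64_norm (u : ↥leechLattice) (hu : u ∈ orb64) : sqNorm (u : GolayPt → ℤ) = 64 := by
  obtain ⟨g, rfl⟩ := hu
  rw [g.2.2]
  exact e64_norm

theorem orb64_nbr (u : ↥leechLattice) (hu : u ∈ orb64) : (nbr u).ncard = 46 := by
  obtain ⟨g, rfl⟩ := hu
  rw [nbr_ncard_map, nbr_e64]

/-- the sum of two orthogonal minimal vectors is in the orbit -/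
theorem sum_mem_orb64 (v w : ↥leechLattice) (hv : sqNorm (v : GolayPt → ℤ) = 32)
    (hw : sqNorm (w : GolayPt → ℤ) = 32)
    (hd : dotInt (v : GolayPt → ℤ) (w : GolayPt → ℤ) = 0) : v + w ∈ orb64 := by
  obtain ⟨h, hh⟩ := Cfsg.Agent.S0400.result a64 v a64_norm hv
  have hh' : h.1 a64 = v := hh
  obtain ⟨g, hg1, hg2⟩ := stab_trans 0 (Or.inr (Or.inr rfl)) v (h.1 b64) w hv
    (by rw [h.2.2]; exact b64_norm) hw (by rw [← hh', dotInt_map h.1 h.2]; exact ab64_dot) hd
  refine ⟨g * h, ?_⟩
  rw [co_mul_apply, ← ab64_sum, h.2.1, g.2.1, hh', hg1, hg2]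

/-- the vectors of the orbit at minimal distance of a minimal vector -/
theorem fib64_ncard (v : ↥leechLattice) (hv : sqNorm (v : GolayPt → ℤ) = 32) :
    {u : ↥leechLattice | u ∈ orb64 ∧
      sqNorm ((u : GolayPt → ℤ) - (v : GolayPt → ℤ)) = 32}.ncard = 93150 := by
  rw [← census_C v hv, ← Set.ncard_image_of_injective _ (sub_left_injective (b := v))]
  congr 1
  ext w
  constructor
  · rintro ⟨u, ⟨hu, hd⟩, rfl⟩
    refine ⟨by rw [AddSubgroup.coe_sub]; exact hd, ?_⟩
    have h1 := dot_sub_eq (u : GolayPt → ℤ) (v : GolayPt → ℤ)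
    rw [orb64_norm u hu, hv, hd] at h1
    rw [AddSubgroup.coe_sub]
    linarith
  · rintro ⟨hn, hd⟩
    refine ⟨v + w, ⟨sum_mem_orb64 v w hv hn hd, ?_⟩, add_sub_cancel_left v w⟩
    rw [AddSubgroup.coe_add, add_sub_cancel_left]
    exact hn

theorem norm64_finite : {u : ↥leechLattice | sqNorm (u : GolayPt → ℤ) = 64}.Finite :=
  Set.finite_of_ncard_ne_zero (by
    rw [ncard_subtype (fun x => sqNorm x = 64), leech_count_64]
    norm_num)

theorem orb64_sub : orb64 ⊆ {u : ↥leechLattice | sqNorm (u : GolayPt → ℤ) = 64} :=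
  fun u hu => orb64_norm u hu

theorem orb64_arith (n : ℕ) (h : n * 46 = 196560 * 93150) : n = 398034000 := by
  omega

/-- the size of the orbit, by counting pairs -/
theorem orb64_ncard : orb64.ncard = 398034000 := by
  classical
  have hOf : orb64.Finite := norm64_finite.subset orb64_sub
  have hM := norm32_finite
  have key := Finset.sum_card_bipartiteAbove_eq_sum_card_bipartiteBelow (s := hOf.toFinset)
    (t := hM.toFinset)
    (r := fun u v : ↥leechLattice => sqNorm ((u : GolayPt → ℤ) - (v : GolayPt → ℤ)) = 32)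
  have h1 : ∀ u ∈ hOf.toFinset, (hM.toFinset.bipartiteAbove
      (fun u v : ↥leechLattice => sqNorm ((u : GolayPt → ℤ) - (v : GolayPt → ℤ)) = 32) u).card
        = 46 := by
    intro u hu
    rw [← orb64_nbr u ((Set.Finite.mem_toFinset hOf).1 hu), ← Set.ncard_coe_finset]
    congr 1
    ext v
    simp [Finset.bipartiteAbove, nbr]
  have h2 : ∀ v ∈ hM.toFinset, (hOf.toFinset.bipartiteBelow
      (fun u v : ↥leechLattice => sqNorm ((u : GolayPt → ℤ) - (v : GolayPt → ℤ)) = 32) v).card
        = 93150 := by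
    intro v hv
    rw [← fib64_ncard v ((Set.Finite.mem_toFinset hM).1 hv), ← Set.ncard_coe_finset]
    congr 1
    ext u
    simp [Finset.bipartiteBelow]
  rw [Finset.sum_congr rfl h1, Finset.sum_congr rfl h2, Finset.sum_const, Finset.sum_const,
    smul_eq_mul, smul_eq_mul] at key
  have hMc : hM.toFinset.card = 196560 := by
    rw [← Set.ncard_eq_toFinset_card _ hM, ncard_subtype (fun x => sqNorm x = 32), leech_count_32]
  rw [hMc, ← Set.ncard_eq_toFinset_card _ hOf] at key
  exact orb64_arith _ key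

/-- every vector of norm 64 is in the orbit -/
theorem mem_orb64 (u : ↥leechLattice) (hu : sqNorm (u : GolayPt → ℤ) = 64) : u ∈ orb64 := by
  have h := Set.eq_of_subset_of_ncard_le orb64_sub (by
    rw [orb64_ncard, ncard_subtype (fun x => sqNorm x = 64), leech_count_64]) norm64_finite
  rw [h]
  exact hu

/-- `Cfsg.Co0` is transitive on the vectors of norm 64 -/
theorem trans64 (x y : ↥leechLattice) (hx : sqNorm (x : GolayPt → ℤ) = 64)
    (hy : sqNorm (y : GolayPt → ℤ) = 64) : ∃ g : ↥Co0, g.1 x = y := by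
  obtain ⟨g1, h1⟩ := mem_orb64 x hx
  obtain ⟨g2, h2⟩ := mem_orb64 y hy
  refine ⟨g2 * g1⁻¹, ?_⟩
  rw [co_mul_apply, ← h1, ← h2]
  exact congrArg g2.1 (g1.1.symm_apply_apply e64)

end Cfsg.Agent.Lib.helper93
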