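import Cfsg.Agent.Lib.helper93.Co0S

/-!
`Cfsg.Co0` is transitive on the pairs of minimal vectors with a given inner product `-16`, `-8` or
`0`; consequences for the decompositions of a vector of norm 48 as a sum of two minimal vectors.
-/

set_option autoImplicit false
open Cfsg Cfsg.Agent.Lib.helper9

namespace Cfsg.Agent.Lib.helper93

theorem dot_sub_eq (x y : GolayPt → ℤ) :
    2 * dotInt y (x - y) = sqNorm x - sqNorm y - sqNorm (x - y) := by
  unfold dotInt sqNorm
  rw [Finset.mul_sum, ← Finset.sum_sub_distrib, ← Finset.sum_sub_distrib]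
  refine Finset.sum_congr rfl fun i _ => ?_
  simp only [Pi.sub_apply]
  ring

/-- the stabiliser of a vector `u` of norm 48 is transitive on the minimal vectors `v` with
`u - v` minimal -/
theorem pair_trans (u v v' : ↥leechLattice) (hu : sqNorm (u : GolayPt → ℤ) = 48)
    (hv : sqNorm (v : GolayPt → ℤ) = 32 ∧
      sqNorm ((u : GolayPt → ℤ) - (v : GolayPt → ℤ)) = 32)
    (hv' : sqNorm (v' : GolayPt → ℤ) = 32 ∧
      sqNorm ((u : GolayPt → ℤ) - (v' : GolayPt → ℤ)) = 32) :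
    ∃ g : ↥Co0, g.1 u = u ∧ g.1 v = v' := by
  obtain ⟨h, hh⟩ := Cfsg.Agent.S0400.result v v' hv.1 hv'.1
  have hh' : h.1 v = v' := hh
  have d1 : dotInt (v : GolayPt → ℤ) ((u - v : ↥leechLattice) : GolayPt → ℤ) = -8 := by
    have h1 := dot_sub_eq (u : GolayPt → ℤ) (v : GolayPt → ℤ)
    rw [hu, hv.1, hv.2] at h1
    rw [AddSubgroup.coe_sub]
    linarith
  have d2 : dotInt (v' : GolayPt → ℤ) ((u - v' : ↥leechLattice) : GolayPt → ℤ) = -8 := by
    have h1 := dot_sub_eq (u : GolayPt → ℤ) (v' : GolayPt → ℤ)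
    rw [hu, hv'.1, hv'.2] at h1
    rw [AddSubgroup.coe_sub]
    linarith
  have n1 : sqNorm ((u - v : ↥leechLattice) : GolayPt → ℤ) = 32 := by
    rw [AddSubgroup.coe_sub]
    exact hv.2
  have n2 : sqNorm ((u - v' : ↥leechLattice) : GolayPt → ℤ) = 32 := by
    rw [AddSubgroup.coe_sub]
    exact hv'.2
  obtain ⟨g, hg1, hg2⟩ := stab_trans (-8) (Or.inr (Or.inl rfl)) v' (h.1 (u - v)) (u - v') hv'.1
    (by rw [h.2.2]; exact n1) n2 (by rw [← hh', dotInt_map h.1 h.2]; exact d1) d2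
  refine ⟨g * h, ?_, ?_⟩
  · have e : u = v + (u - v) := by abel
    rw [co_mul_apply]
    conv_lhs => rw [e]
    rw [h.2.1, g.2.1, hh', hg1, hg2]
    abel
  · rw [co_mul_apply, hh', hg1]

end Cfsg.Agent.Lib.helper93
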