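import Cfsg.Agent.Lib.helper93.Co0TwH
import Cfsg.Agent.Lib.helper93.LeechTagSub

/-!
The classes of the 11178 minimal vectors with inner product 16 with `u0S` by their inner product
with `m0S`.
-/

set_option autoImplicit false
open Cfsg Cfsg.Agent.Lib.helper9

namespace Cfsg.Agent.Lib.helper93

/-- the test of the inner product with `m0S` -/
def tD (s n : ℕ) : Bool := Nat.beq (Nat.add (getN n 7) (getN n 23)) s

theorem LR_all : (LSi 5).all (fun n => Nat.beq n nM0 || tD 18 n || tD 12 n || tD 16 n || tD 14 n) =
    true := by
  decide +kernel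

end Cfsg.Agent.Lib.helper93
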