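import Cfsg.Agent.Lib.helper93.Co0T4C0
import Cfsg.Agent.Lib.helper93.Co0T4C1
import Cfsg.Agent.Lib.helper93.Co0T4C2
import Cfsg.Agent.Lib.helper93.Co0T4C3
import Cfsg.Agent.Lib.helper93.Co0T4C4

/-! Every vector of norm 32 other than the root has a descending word. -/

set_option autoImplicit false
open Cfsg Cfsg.Agent.Lib.helper9 Cfsg.Agent.Lib.helper33

namespace Cfsg.Agent.Lib.helper93

theorem t4_all (x : GolayPt → ℤ) (hx : x ∈ leechLattice) (hn : sqNorm x = 32) :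
    packV x = root4 ∨ ∃ w, runW acts4 10 w (packV x) < packV x := by
  have key : ∃ w, f4 (packV x) w = true := by
    rcases cover x hx hn with h | ⟨c, hc, h⟩ | ⟨c, hc, h⟩
    · obtain ⟨j, hj⟩ := allI_spec _ _ _ t4c1 _ h
      exact ⟨_, hj⟩
    · obtain ⟨j, hj, hcj⟩ := mem_chunk (wtList 8) 100 (by norm_num) c hc
      rw [wtList_8_length] at hj
      have hj8 : j < 8 := by omega
      interval_cases j
      · exact chkC_spec _ _ _ _ t4c2_0 c hcj _ h
      · exact chkC_spec _ _ _ _ t4c2_1 c hcj _ h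
      · exact chkC_spec _ _ _ _ t4c2_2 c hcj _ h
      · exact chkC_spec _ _ _ _ t4c2_3 c hcj _ h
      · exact chkC_spec _ _ _ _ t4c2_4 c hcj _ h
      · exact chkC_spec _ _ _ _ t4c2_5 c hcj _ h
      · exact chkC_spec _ _ _ _ t4c2_6 c hcj _ h
      · exact chkC_spec _ _ _ _ t4c2_7 c hcj _ h
    · obtain ⟨j, hj, hcj⟩ := mem_chunk cwList 256 (by norm_num) c hc
      rw [cwList_length] at hj
      have hj16 : j < 16 := by omega
      interval_cases j
      · exact chkC_spec _ _ _ _ t4c3_0 c hcj _ h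
      · exact chkC_spec _ _ _ _ t4c3_1 c hcj _ h
      · exact chkC_spec _ _ _ _ t4c3_2 c hcj _ h
      · exact chkC_spec _ _ _ _ t4c3_3 c hcj _ h
      · exact chkC_spec _ _ _ _ t4c3_4 c hcj _ h
      · exact chkC_spec _ _ _ _ t4c3_5 c hcj _ h
      · exact chkC_spec _ _ _ _ t4c3_6 c hcj _ h
      · exact chkC_spec _ _ _ _ t4c3_7 c hcj _ h
      · exact chkC_spec _ _ _ _ t4c3_8 c hcj _ h
      · exact chkC_spec _ _ _ _ t4c3_9 c hcj _ h
      · exact chkC_spec _ _ _ _ t4c3_10 c hcj _ h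
      · exact chkC_spec _ _ _ _ t4c3_11 c hcj _ h
      · exact chkC_spec _ _ _ _ t4c3_12 c hcj _ h
      · exact chkC_spec _ _ _ _ t4c3_13 c hcj _ h
      · exact chkC_spec _ _ _ _ t4c3_14 c hcj _ h
      · exact chkC_spec _ _ _ _ t4c3_15 c hcj _ h
  obtain ⟨w, hw⟩ := key
  exact descB_spec _ _ _ _ _ hw


end Cfsg.Agent.Lib.helper93
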