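import Cfsg.Agent.Lib.helper93.Co0SC0
import Cfsg.Agent.Lib.helper93.Co0SC1
import Cfsg.Agent.Lib.helper93.Co0SC2
import Cfsg.Agent.Lib.helper93.Co0SC3
import Cfsg.Agent.Lib.helper93.Co0SC4
import Cfsg.Agent.S0400

/-!
The stabiliser of a minimal vector in `Cfsg.Co0` is transitive on the minimal vectors of each of the
inner products `-16`, `-8` and `0` with it.
-/

set_option autoImplicit false
open Cfsg Cfsg.Agent.Lib.helper9 Cfsg.Agent.Lib.helper33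

namespace Cfsg.Agent.Lib.helper93

theorem tS_all (x : GolayPt → ℤ) (hx : x ∈ leechLattice) (hn : sqNorm x = 32) :
    ∃ w, fS (packV x) w = true := by
  rcases cover x hx hn with h | ⟨c, hc, h⟩ | ⟨c, hc, h⟩
  · obtain ⟨j, hj⟩ := allI_spec _ _ _ tSc1 _ h
    exact ⟨_, hj⟩
  · obtain ⟨j, hj, hcj⟩ := mem_chunk (wtList 8) 100 (by norm_num) c hc
    rw [wtList_8_length] at hj
    have hj8 : j < 8 := by omega
    interval_cases j
    · exact chkC_spec _ _ _ _ tSc2_0 c hcj _ h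
    · exact chkC_spec _ _ _ _ tSc2_1 c hcj _ h
    · exact chkC_spec _ _ _ _ tSc2_2 c hcj _ h
    · exact chkC_spec _ _ _ _ tSc2_3 c hcj _ h
    · exact chkC_spec _ _ _ _ tSc2_4 c hcj _ h
    · exact chkC_spec _ _ _ _ tSc2_5 c hcj _ h
    · exact chkC_spec _ _ _ _ tSc2_6 c hcj _ h
    · exact chkC_spec _ _ _ _ tSc2_7 c hcj _ h
  · obtain ⟨j, hj, hcj⟩ := mem_chunk cwList 256 (by norm_num) c hc
    rw [cwList_length] at hj
    have hj16 : j < 16 := by omega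
    interval_cases j
    · exact chkC_spec _ _ _ _ tSc3_0 c hcj _ h
    · exact chkC_spec _ _ _ _ tSc3_1 c hcj _ h
    · exact chkC_spec _ _ _ _ tSc3_2 c hcj _ h
    · exact chkC_spec _ _ _ _ tSc3_3 c hcj _ h
    · exact chkC_spec _ _ _ _ tSc3_4 c hcj _ h
    · exact chkC_spec _ _ _ _ tSc3_5 c hcj _ h
    · exact chkC_spec _ _ _ _ tSc3_6 c hcj _ h
    · exact chkC_spec _ _ _ _ tSc3_7 c hcj _ h
    · exact chkC_spec _ _ _ _ tSc3_8 c hcj _ h
    · exact chkC_spec _ _ _ _ tSc3_9 c hcj _ h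
    · exact chkC_spec _ _ _ _ tSc3_10 c hcj _ h
    · exact chkC_spec _ _ _ _ tSc3_11 c hcj _ h
    · exact chkC_spec _ _ _ _ tSc3_12 c hcj _ h
    · exact chkC_spec _ _ _ _ tSc3_13 c hcj _ h
    · exact chkC_spec _ _ _ _ tSc3_14 c hcj _ h
    · exact chkC_spec _ _ _ _ tSc3_15 c hcj _ h

/-- the digits 4 and 7 of the packed number of a vector, and its inner product with `v0S` -/
theorem dot_dig (x : GolayPt → ℤ) (hn : sqNorm x = 32) :
    dotInt (v0S : GolayPt → ℤ) x =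
      4 * ((getN (packV x) 4 : ℤ) - (getN (packV x) 7 : ℤ)) := by
  have hb : ∀ p, -8 ≤ x p ∧ x p ≤ 8 := coord_bound64 x (by rw [hn]; norm_num)
  rw [dot_v0S, getN_packV x hb 4 (by norm_num), getN_packV x hb 7 (by norm_num)]
  have h4 := hb (pt 4)
  have h7 := hb (pt 7)
  omega

/-- the descent for the three classes -/
theorem tS_desc (c : ℤ) (r : ℕ) (hr : (c = -16 ∧ r = rootA) ∨ (c = -8 ∧ r = rootB) ∨
    (c = 0 ∧ r = rootC)) (x : GolayPt → ℤ) (hx : x ∈ leechLattice) (hn : sqNorm x = 32)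
    (hd : dotInt (v0S : GolayPt → ℤ) x = c) :
    packV x = r ∨ ∃ w, runW actsS 10 w (packV x) < packV x := by
  obtain ⟨w, hw⟩ := tS_all x hx hn
  rw [dot_dig x hn] at hd
  rcases hr with ⟨rfl, rfl⟩ | ⟨rfl, rfl⟩ | ⟨rfl, rfl⟩
  · exact fS_A _ w hw (by omega)
  · exact fS_B _ w hw (by omega)
  · exact fS_C _ w hw (by omega)

/-- the stabiliser of `v0S` is transitive on the minimal vectors of each of the three classes -/
theorem stab_v0S_trans (c : ℤ) (hc : c = -16 ∨ c = -8 ∨ c = 0) (u u' : ↥leechLattice)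
    (hu : sqNorm (u : GolayPt → ℤ) = 32) (hu' : sqNorm (u' : GolayPt → ℤ) = 32)
    (hd : dotInt (v0S : GolayPt → ℤ) (u : GolayPt → ℤ) = c)
    (hd' : dotInt (v0S : GolayPt → ℤ) (u' : GolayPt → ℤ) = c) :
    ∃ g ∈ MulAction.stabilizer ↥Co0 v0S, (g : ↥Co0).1 u = u' := by
  obtain ⟨r, hr⟩ : ∃ r : ℕ, (c = -16 ∧ r = rootA) ∨ (c = -8 ∧ r = rootB) ∨ (c = 0 ∧ r = rootC) := by
    rcases hc with rfl | rfl | rfl
    · exact ⟨rootA, Or.inl ⟨rfl, rfl⟩⟩
    · exact ⟨rootB, Or.inr (Or.inl ⟨rfl, rfl⟩)⟩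
    · exact ⟨rootC, Or.inr (Or.inr ⟨rfl, rfl⟩)⟩
  refine trans_of_descent (MulAction.stabilizer ↥Co0 v0S) actsS actsS_snd
    {u : ↥leechLattice | sqNorm (u : GolayPt → ℤ) = 32 ∧
      dotInt (v0S : GolayPt → ℤ) (u : GolayPt → ℤ) = c}
    (fun g hg v hv => ?_) (fun v hv => ?_) r 10 (fun v hv => ?_) u u' ⟨hu, hd⟩ ⟨hu', hd'⟩
  · obtain ⟨h1, h2⟩ := hv
    refine ⟨by rw [g.2.2]; exact h1, ?_⟩
    have hfix : g.1 v0S = v0S := MulAction.mem_stabilizer_iff.1 hg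
    have h3 := dotInt_map g.1 g.2 v0S v
    rw [hfix] at h3
    rw [h3]
    exact h2
  · have h : sqNorm (v : GolayPt → ℤ) = 32 := hv.1
    rw [h]
    norm_num
  · exact tS_desc c r hr (v : GolayPt → ℤ) v.2 hv.1 hv.2

/-- the stabiliser of any minimal vector is transitive on the minimal vectors of each of the three
classes -/
theorem stab_trans (c : ℤ) (hc : c = -16 ∨ c = -8 ∨ c = 0) (v w w' : ↥leechLattice)
    (hv : sqNorm (v : GolayPt → ℤ) = 32) (hw : sqNorm (w : GolayPt → ℤ) = 32)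
    (hw' : sqNorm (w' : GolayPt → ℤ) = 32)
    (hd : dotInt (v : GolayPt → ℤ) (w : GolayPt → ℤ) = c)
    (hd' : dotInt (v : GolayPt → ℤ) (w' : GolayPt → ℤ) = c) :
    ∃ g : ↥Co0, g.1 v = v ∧ g.1 w = w' := by
  obtain ⟨h, hh⟩ := Cfsg.Agent.S0400.result v v0S hv v0S_norm
  have hh' : h.1 v = v0S := hh
  have e1 : dotInt (v0S : GolayPt → ℤ) ((h.1 w : ↥leechLattice) : GolayPt → ℤ) = c := by
    rw [← hh', dotInt_map h.1 h.2]
    exact hd
  have e2 : dotInt (v0S : GolayPt → ℤ) ((h.1 w' : ↥leechLattice) : GolayPt → ℤ) = c := by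
    rw [← hh', dotInt_map h.1 h.2]
    exact hd'
  obtain ⟨g, hg, hgw⟩ := stab_v0S_trans c hc (h.1 w) (h.1 w') (by rw [h.2.2]; exact hw)
    (by rw [h.2.2]; exact hw') e1 e2
  have hfix : g.1 v0S = v0S := MulAction.mem_stabilizer_iff.1 hg
  refine ⟨h⁻¹ * g * h, ?_, ?_⟩
  · rw [co_mul_apply, co_mul_apply, hh', hfix, ← hh']
    exact h.1.symm_apply_apply v
  · rw [co_mul_apply, co_mul_apply, hgw]
    exact h.1.symm_apply_apply w'

end Cfsg.Agent.Lib.helper93
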