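import Cfsg.Agent.Lib.helper93.LeechDesc

/-!
Generators of the stabiliser in `Cfsg.Co0` of the minimal vector `4 e_4 - 4 e_7`, with their action
on packed vectors.
-/

set_option autoImplicit false
open Cfsg Cfsg.Agent.Lib.helper9 Cfsg.Agent.Lib.helper33

namespace Cfsg.Agent.Lib.helper93

/-- the packed vector `4 e_4 - 4 e_7` -/
def n0S : ℕ := 343026579557397644620337168444039432

theorem n0S_mem : memP n0S = true := by decide +kernel

/-- the vector `4 e_4 - 4 e_7` of the lattice -/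
def v0S : ↥leechLattice := ⟨vecP n0S, vecP_mem n0S n0S_mem⟩

theorem v0S_val : (v0S : GolayPt → ℤ) = vecP n0S := rfl

theorem v0S_norm : sqNorm (v0S : GolayPt → ℤ) = 32 := by
  rw [v0S_val, vecP_eq_vecL]
  have h := sqNorm_vecL ((List.range 24).map (getN n0S)) (by decide) 32 (by decide +kernel)
  exact_mod_cast h

theorem n0S_dig : ∀ i < 24, getN n0S i = cond (Nat.beq i 4) 12 (cond (Nat.beq i 7) 4 8) := by
  decide +kernel

theorem v0S_pt (i : ℕ) (hi : i < 24) :
    vecP n0S (pt i) = if i = 4 then 4 else if i = 7 then -4 else 0 := by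
  rw [vecP_pt n0S i hi, n0S_dig i hi, cond_beq, cond_beq]
  split_ifs <;> norm_num

/-- the inner product with `4 e_4 - 4 e_7` -/
theorem dot_v0S (w : GolayPt → ℤ) :
    dotInt (v0S : GolayPt → ℤ) w = 4 * w (pt 4) - 4 * w (pt 7) := by
  rw [v0S_val]
  unfold dotInt
  rw [sum_vecP_eq (fun p => vecP n0S p * w p),
    Finset.sum_congr rfl (fun i hi => by rw [v0S_pt i (Finset.mem_range.1 hi)])]
  simp [Finset.sum_range_succ]
  ring

def tSi0 : List ℕ := [20, 9, 21, 22, 4, 11, 8, 7, 16, 23, 0, 5, 1, 2, 6, 19, 14, 13, 10, 17, 12, 3, 15, 18]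

def tSt0 : List ℕ := [10, 12, 13, 21, 4, 11, 14, 7, 6, 1, 18, 5, 20, 17, 16, 22, 8, 19, 23, 15, 0, 2, 3, 9]

theorem tSok0 : validTbl tSi0 tSt0 = true ∧ chkTbl tSi0 = true := by decide +kernel

def tSi1 : List ℕ := [22, 23, 18, 1, 4, 2, 0, 7, 15, 5, 12, 6, 19, 3, 9, 10, 16, 17, 14, 8, 11, 13, 20, 21]

def tSt1 : List ℕ := [6, 3, 5, 13, 4, 9, 11, 7, 19, 14, 15, 20, 10, 21, 18, 8, 16, 17, 2, 12, 22, 23, 0, 1]

theorem tSok1 : validTbl tSi1 tSt1 = true ∧ chkTbl tSi1 = true := by decide +kernel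

def tSi2 : List ℕ := [2, 20, 8, 5, 4, 0, 3, 7, 18, 14, 9, 21, 10, 11, 19, 17, 15, 13, 6, 1, 12, 22, 16, 23]

def tSt2 : List ℕ := [5, 19, 0, 6, 4, 3, 18, 7, 2, 10, 12, 13, 20, 17, 9, 16, 22, 15, 8, 14, 1, 11, 21, 23]

theorem tSok2 : validTbl tSi2 tSt2 = true ∧ chkTbl tSi2 = true := by decide +kernel

def tSi4 : List ℕ := [23, 10, 13, 0, 4, 16, 17, 7, 6, 21, 19, 12, 9, 14, 18, 1, 3, 11, 5, 8, 22, 15, 2, 20]

def tSt4 : List ℕ := [3, 15, 22, 16, 4, 18, 8, 7, 19, 12, 1, 17, 11, 2, 13, 21, 5, 6, 14, 10, 23, 9, 20, 0]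

theorem tSok4 : validTbl tSi4 tSt4 = true ∧ chkTbl tSi4 = true := by decide +kernel

def cSs5 : ℕ := 705094

theorem cSok5 : syn cSs5 = true := by decide +kernel

def tSi6 : List ℕ := [1, 10, 14, 22, 4, 11, 20, 7, 19, 3, 13, 16, 8, 23, 9, 5, 18, 15, 6, 17, 12, 2, 0, 21]

def tSt6 : List ℕ := [22, 0, 21, 9, 4, 15, 18, 7, 12, 14, 1, 5, 20, 10, 2, 17, 11, 19, 16, 8, 6, 23, 3, 13]

theorem tSok6 : validTbl tSi6 tSt6 = true ∧ chkTbl tSi6 = true := by decide +kernel

def tSi7 : List ℕ := [15, 13, 11, 8, 4, 23, 22, 7, 14, 1, 9, 0, 21, 17, 6, 16, 3, 5, 12, 10, 2, 19, 20, 18]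

def tSt7 : List ℕ := [11, 9, 20, 16, 4, 17, 14, 7, 3, 10, 19, 2, 18, 1, 8, 0, 15, 13, 23, 21, 22, 12, 6, 5]

theorem tSok7 : validTbl tSi7 tSt7 = true ∧ chkTbl tSi7 = true := by decide +kernel

def cSs8 : ℕ := 7145475

theorem cSok8 : syn cSs8 = true := by decide +kernel

def tSi9 : List ℕ := [19, 2, 6, 14, 4, 13, 8, 7, 15, 3, 10, 11, 18, 22, 21, 1, 9, 12, 0, 17, 5, 16, 23, 20]

def tSt9 : List ℕ := [18, 15, 1, 9, 4, 20, 2, 7, 6, 16, 10, 11, 17, 5, 3, 8, 21, 19, 12, 0, 23, 14, 13, 22]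

theorem tSok9 : validTbl tSi9 tSt9 = true ∧ chkTbl tSi9 = true := by decide +kernel

def tSi10 : List ℕ := [8, 20, 6, 22, 4, 13, 17, 7, 3, 10, 15, 1, 18, 12, 23, 0, 21, 14, 11, 19, 5, 2, 9, 16]

def tSt10 : List ℕ := [15, 11, 21, 8, 4, 20, 2, 7, 0, 22, 9, 18, 13, 5, 17, 10, 23, 6, 12, 19, 1, 16, 3, 14]

theorem tSok10 : validTbl tSi10 tSt10 = true ∧ chkTbl tSi10 = true := by decide +kernel

def cSs11 : ℕ := 10554382

theorem cSok11 : syn cSs11 = true := by decide +kernel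

def cSs12 : ℕ := 9112069

theorem cSok12 : syn cSs12 = true := by decide +kernel

def tSi13 : List ℕ := [10, 3, 8, 18, 7, 13, 0, 4, 15, 21, 11, 12, 23, 1, 22, 6, 17, 20, 2, 19, 9, 14, 16, 5]

def tSt13 : List ℕ := [6, 13, 18, 1, 7, 23, 15, 4, 2, 20, 0, 10, 11, 5, 21, 8, 22, 16, 3, 19, 17, 9, 14, 12]

theorem tSok13 : validTbl tSi13 tSt13 = true ∧ chkTbl tSi13 = true := by decide +kernel

def cSs13 : ℕ := 5279

theorem cSok13 : syn cSs13 = true := by decide +kernel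

def cSs14 : ℕ := 12126304

theorem cSok14 : syn cSs14 = true := by decide +kernel

/-- the generators -/
def actsS : List (ℕ → ℕ) :=
  [permP (packT tSi0),
    permP (packT tSi1),
    permP (packT tSi2),
    xiP,
    permP (packT tSi4),
    signP cSs5,
    permP (packT tSi6),
    permP (packT tSi7),
    signP cSs8,
    permP (packT tSi9),
    permP (packT tSi10),
    signP cSs11,
    signP cSs12,
    fun n => signP cSs13 (permP (packT tSi13) n),
    signP cSs14]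

theorem actsS_top : ∀ a ∈ actsS, Snd ⊤ a := by
  intro a ha
  simp only [actsS, List.mem_cons, List.not_mem_nil, or_false] at ha
  rcases ha with rfl | rfl | rfl | rfl | rfl | rfl | rfl | rfl | rfl | rfl | rfl | rfl | rfl | rfl | rfl
  · exact snd_perm _ _ tSok0.1 tSok0.2
  · exact snd_perm _ _ tSok1.1 tSok1.2
  · exact snd_perm _ _ tSok2.1 tSok2.2
  · exact snd_xi
  · exact snd_perm _ _ tSok4.1 tSok4.2
  · exact snd_sign _ cSok5
  · exact snd_perm _ _ tSok6.1 tSok6.2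
  · exact snd_perm _ _ tSok7.1 tSok7.2
  · exact snd_sign _ cSok8
  · exact snd_perm _ _ tSok9.1 tSok9.2
  · exact snd_perm _ _ tSok10.1 tSok10.2
  · exact snd_sign _ cSok11
  · exact snd_sign _ cSok12
  · exact snd_comp _ _ _ (snd_perm _ _ tSok13.1 tSok13.2) (snd_sign _ cSok13)
  · exact snd_sign _ cSok14

theorem actsS_fix : ∀ a ∈ actsS, a n0S = n0S := by
  intro a ha
  simp only [actsS, List.mem_cons, List.not_mem_nil, or_false] at ha
  rcases ha with rfl | rfl | rfl | rfl | rfl | rfl | rfl | rfl | rfl | rfl | rfl | rfl | rfl | rfl | rfl <;> decide +kernel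

theorem actsS_snd : ∀ a ∈ actsS, Snd (MulAction.stabilizer ↥Co0 v0S) a := fun a ha =>
  snd_stab a v0S n0S v0S_val (by rw [v0S_norm]; norm_num) (actsS_top a ha) (actsS_fix a ha)

/-- the packed root vectors of the three classes -/
def rootA : ℕ := 176873080084283160507361423339561224

def rootB : ℕ := 217071507376165699364207875562183975

def rootC : ℕ := 171680783225748332878830927014535432

/-- the test of a descending word, by the inner product with `4 e_4 - 4 e_7` -/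
def fS (n w : ℕ) : Bool :=
  cond (Nat.beq (Nat.add (getN n 4) 4) (getN n 7)) (descB actsS 10 rootA n w)
    (cond (Nat.beq (Nat.add (getN n 4) 2) (getN n 7)) (descB actsS 10 rootB n w)
      (cond (Nat.beq (getN n 4) (getN n 7)) (descB actsS 10 rootC n w) true))

theorem fS_A (n w : ℕ) (h : fS n w = true) (hd : getN n 4 + 4 = getN n 7) :
    n = rootA ∨ ∃ w, runW actsS 10 w n < n := by
  unfold fS at h
  rw [beq_t _ _ hd] at h
  exact descB_spec _ _ _ _ _ h

theorem fS_B (n w : ℕ) (h : fS n w = true) (hd : getN n 4 + 2 = getN n 7) :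
    n = rootB ∨ ∃ w, runW actsS 10 w n < n := by
  unfold fS at h
  rw [beq_f (Nat.add (getN n 4) 4) (getN n 7) (by show getN n 4 + 4 ≠ getN n 7; omega),
    beq_t _ _ hd] at h
  exact descB_spec _ _ _ _ _ h

theorem fS_C (n w : ℕ) (h : fS n w = true) (hd : getN n 4 = getN n 7) :
    n = rootC ∨ ∃ w, runW actsS 10 w n < n := by
  unfold fS at h
  rw [beq_f (Nat.add (getN n 4) 4) (getN n 7) (by show getN n 4 + 4 ≠ getN n 7; omega),
    beq_f (Nat.add (getN n 4) 2) (getN n 7) (by show getN n 4 + 2 ≠ getN n 7; omega),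
    beq_t _ _ hd] at h
  exact descB_spec _ _ _ _ _ h


end Cfsg.Agent.Lib.helper93
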