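import Cfsg.Agent.Lib.helper93.SimpleRank
import Cfsg.Agent.Lib.helper93.Co0Rk5
import Cfsg.Agent.Lib.helper93.Co0Fin
import Cfsg.Prelude.Def_Sporadic

/-!
The stabiliser in `Cfsg.Co0` of a vector of norm 48 of
`Cfsg.leechLattice` is simple of order 495766656000 as soon as the joint stabilisers of two such
vectors with inner product `-32` are simple of order 44352000.
-/

set_option autoImplicit false
open Cfsg MulAction

namespace Cfsg.Agent.Lib.helper93

theorem iUnion_fin4 {X : Type*} (O : X → Set X) (a b c d : X) :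
    (⋃ i : Fin 4, O (![a, b, c, d] i)) = O a ∪ O b ∪ O c ∪ O d := by
  ext z
  rw [Set.mem_iUnion]
  constructor
  · rintro ⟨i, hi⟩
    fin_cases i
    · exact Or.inl (Or.inl (Or.inl hi))
    · exact Or.inl (Or.inl (Or.inr hi))
    · exact Or.inl (Or.inr hi)
    · exact Or.inr hi
  · rintro (((h | h) | h) | h)
    · exact ⟨0, h⟩
    · exact ⟨1, h⟩
    · exact ⟨2, h⟩
    · exact ⟨3, h⟩

/-- the joint stabiliser of `u` and `x` is the joint stabiliser of `u` and `-(u + x)` -/
theorem stab_neg_add (u x : ↥leechLattice) :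
    stabilizer ↥Co0 u ⊓ stabilizer ↥Co0 x = stabilizer ↥Co0 u ⊓ stabilizer ↥Co0 (-(u + x)) := by
  ext g
  simp only [Subgroup.mem_inf, mem_stabilizer_iff]
  constructor
  · rintro ⟨h1, h2⟩
    refine ⟨h1, ?_⟩
    have h1' : g.1 u = u := h1
    have h2' : g.1 x = x := h2
    show g.1 (-(u + x)) = -(u + x)
    rw [co_map_neg, g.2.1, h1', h2']
  · rintro ⟨h1, h2⟩
    refine ⟨h1, ?_⟩
    have h1' : g.1 u = u := h1
    have h2' : g.1 (-(u + x)) = -(u + x) := h2
    rw [co_map_neg, g.2.1, h1'] at h2'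
    show g.1 x = x
    exact add_left_cancel (neg_injective h2')

/-- the stabiliser of a vector of norm 48 is simple, given the simplicity and the order of the
joint stabilisers of two vectors of norm 48 with inner product `-32` -/
theorem Co3_of_HS
    (hHS : ∀ v w : ↥leechLattice, sqNorm (v : GolayPt → ℤ) = 48 →
      sqNorm (w : GolayPt → ℤ) = 48 → dotInt (v : GolayPt → ℤ) (w : GolayPt → ℤ) = -32 →
      IsHS ↥(stabilizer ↥Co0 v ⊓ stabilizer ↥Co0 w))
    (u : ↥leechLattice) (hu : sqNorm (u : GolayPt → ℤ) = 48) :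
    IsCo3 ↥(stabilizer ↥Co0 u) := by
  obtain ⟨hcard, htrans⟩ := N_conf u hu
  obtain ⟨x, hx⟩ : {x | PhiN u x}.Nonempty :=
    Set.nonempty_of_ncard_ne_zero (by rw [hcard]; norm_num)
  have hx' : PhiN u x := hx
  have hw1 : sqNorm ((-(u + x) : ↥leechLattice) : GolayPt → ℤ) = 48 := by
    rw [AddSubgroup.coe_neg, sqNorm_neg', AddSubgroup.coe_add, sqNorm_add, hu, hx'.1, hx'.2]
    norm_num
  have hw2 : dotInt (u : GolayPt → ℤ) ((-(u + x) : ↥leechLattice) : GolayPt → ℤ) = -32 := by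
    rw [AddSubgroup.coe_neg, dot_neg_right, AddSubgroup.coe_add, dot_add_right, dot_self_eq, hu,
      hx'.2]
    norm_num
  have hHS' : IsHS ↥(stabilizer ↥Co0 u ⊓ stabilizer ↥Co0 x) := by
    rw [stab_neg_add u x]
    exact hHS u (-(u + x)) hu hw1 hw2
  obtain ⟨y₁, y₂, y₃, y₄, -, -, -, -, n1, n2, n3, n4, hcov⟩ := rank5 u x hu hx'
  have horb : orbit ↥(stabilizer ↥Co0 u) x = {z | PhiN u z} := by
    ext z
    constructor
    · rintro ⟨g, rfl⟩
      have h1 : (g : ↥Co0).1 u = u := g.2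
      have h2 := PhiN_inv (g : ↥Co0) u x hx'
      unfold act1 at h2
      rw [h1] at h2
      exact h2
    · intro hz
      obtain ⟨g, hg1, hg2⟩ := htrans x z hx' hz
      exact ⟨⟨g, hg1⟩, hg2⟩
  have hI := iUnion_fin4
    (fun y => orbit ↥(stabilizer ↥Co0 u ⊓ stabilizer ↥Co0 x) y) y₁ y₂ y₃ y₄
  have key := simple_of_suborbits_sub (stabilizer ↥Co0 u) x hHS'.1 ![y₁, y₂, y₃, y₄]
    ![352, 1100, 4125, 5600]
    (fun i => by fin_cases i; exacts [n1, n2, n3, n4])
    (by
      rw [horb, hcov, hI]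
      simp only [Set.union_assoc])
    (by decide) (by decide) (by norm_num) (by decide) 23 (by norm_num) (by decide) (by decide)
    (by decide)
  refine ⟨key.1, ?_⟩
  rw [key.2, hHS'.2]
  decide

end Cfsg.Agent.Lib.helper93
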