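import Cfsg.Agent.Lib.helper93.LeechDesc

/-!
Generators of `Cfsg.Co0` used for the transitivity on the vectors of norm 32, with their action
on packed vectors.
-/

set_option autoImplicit false
open Cfsg Cfsg.Agent.Lib.helper9 Cfsg.Agent.Lib.helper33

namespace Cfsg.Agent.Lib.helper93

def t4i0 : List ℕ := [22, 0, 1, 2, 3, 4, 5, 6, 7, 8, 9, 10, 11, 12, 13, 14, 15, 16, 17, 18, 19, 20, 21, 23]

def t4t0 : List ℕ := [1, 2, 3, 4, 5, 6, 7, 8, 9, 10, 11, 12, 13, 14, 15, 16, 17, 18, 19, 20, 21, 22, 0, 23]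

theorem t4ok0 : validTbl t4i0 t4t0 = true ∧ chkTbl t4i0 = true := by decide +kernel

def t4i1 : List ℕ := [1, 2, 3, 4, 5, 6, 7, 8, 9, 10, 11, 12, 13, 14, 15, 16, 17, 18, 19, 20, 21, 22, 0, 23]

def t4t1 : List ℕ := [22, 0, 1, 2, 3, 4, 5, 6, 7, 8, 9, 10, 11, 12, 13, 14, 15, 16, 17, 18, 19, 20, 21, 23]

theorem t4ok1 : validTbl t4i1 t4t1 = true ∧ chkTbl t4i1 = true := by decide +kernel

def t4i2 : List ℕ := [0, 6, 4, 3, 18, 7, 2, 10, 12, 13, 20, 17, 9, 16, 22, 15, 8, 14, 1, 11, 21, 5, 19, 23]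

def t4t2 : List ℕ := [0, 18, 6, 3, 2, 21, 1, 5, 16, 12, 7, 19, 8, 9, 17, 15, 13, 11, 4, 22, 10, 20, 14, 23]

theorem t4ok2 : validTbl t4i2 t4t2 = true ∧ chkTbl t4i2 = true := by decide +kernel

def t4i3 : List ℕ := [23, 22, 11, 15, 17, 9, 19, 13, 20, 5, 16, 2, 21, 7, 18, 3, 10, 4, 14, 6, 8, 12, 1, 0]

def t4t3 : List ℕ := [23, 22, 11, 15, 17, 9, 19, 13, 20, 5, 16, 2, 21, 7, 18, 3, 10, 4, 14, 6, 8, 12, 1, 0]

theorem t4ok3 : validTbl t4i3 t4t3 = true ∧ chkTbl t4i3 = true := by decide +kernel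

def t4i4 : List ℕ := [0, 18, 6, 3, 2, 21, 1, 5, 16, 12, 7, 19, 8, 9, 17, 15, 13, 11, 4, 22, 10, 20, 14, 23]

def t4t4 : List ℕ := [0, 6, 4, 3, 18, 7, 2, 10, 12, 13, 20, 17, 9, 16, 22, 15, 8, 14, 1, 11, 21, 5, 19, 23]

theorem t4ok4 : validTbl t4i4 t4t4 = true ∧ chkTbl t4i4 = true := by decide +kernel

def t4i5 : List ℕ := [1, 11, 7, 5, 12, 22, 14, 23, 16, 13, 3, 17, 6, 19, 18, 20, 0, 8, 21, 2, 10, 4, 15, 9]

def t4t5 : List ℕ := [16, 0, 19, 10, 21, 3, 12, 2, 17, 23, 20, 1, 4, 9, 6, 22, 8, 11, 14, 13, 15, 18, 5, 7]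

theorem t4ok5 : validTbl t4i5 t4t5 = true ∧ chkTbl t4i5 = true := by decide +kernel

def t4i7 : List ℕ := [23, 11, 20, 7, 6, 14, 10, 9, 22, 12, 0, 19, 8, 1, 3, 5, 13, 16, 18, 4, 15, 21, 2, 17]

def t4t7 : List ℕ := [10, 13, 22, 14, 19, 15, 4, 3, 12, 7, 6, 1, 9, 16, 5, 20, 17, 23, 18, 11, 2, 21, 8, 0]

theorem t4ok7 : validTbl t4i7 t4t7 = true ∧ chkTbl t4i7 = true := by decide +kernel

def c4s8 : ℕ := 5279

theorem c4ok8 : syn c4s8 = true := by decide +kernel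

def t4i9 : List ℕ := [0, 4, 12, 1, 14, 20, 8, 5, 9, 21, 11, 19, 22, 10, 18, 23, 6, 15, 3, 17, 7, 2, 13, 16]

def t4t9 : List ℕ := [0, 3, 21, 18, 1, 7, 16, 20, 6, 8, 13, 10, 2, 22, 4, 17, 23, 19, 14, 11, 5, 9, 12, 15]

theorem t4ok9 : validTbl t4i9 t4t9 = true ∧ chkTbl t4i9 = true := by decide +kernel

def t4i10 : List ℕ := [21, 11, 4, 0, 15, 5, 22, 17, 19, 3, 1, 13, 2, 16, 20, 9, 6, 8, 23, 14, 12, 7, 10, 18]

def t4t10 : List ℕ := [3, 10, 12, 9, 2, 5, 16, 21, 17, 15, 22, 1, 20, 11, 19, 4, 13, 7, 23, 8, 14, 0, 6, 18]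

theorem t4ok10 : validTbl t4i10 t4t10 = true ∧ chkTbl t4i10 = true := by decide +kernel

def c4s11 : ℕ := 668866

theorem c4ok11 : syn c4s11 = true := by decide +kernel

def t4i12 : List ℕ := [8, 22, 18, 23, 0, 2, 17, 13, 3, 20, 21, 19, 7, 10, 4, 12, 6, 5, 16, 9, 1, 15, 11, 14]

def t4t12 : List ℕ := [4, 20, 5, 8, 14, 17, 16, 12, 0, 19, 13, 22, 15, 7, 23, 21, 18, 6, 2, 11, 9, 10, 1, 3]

theorem t4ok12 : validTbl t4i12 t4t12 = true ∧ chkTbl t4i12 = true := by decide +kernel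

def c4s13 : ℕ := 3237906

theorem c4ok13 : syn c4s13 = true := by decide +kernel

def c4s14 : ℕ := 7622914

theorem c4ok14 : syn c4s14 = true := by decide +kernel

/-- the generators -/
def acts4 : List (ℕ → ℕ) :=
  [permP (packT t4i0),
    permP (packT t4i1),
    permP (packT t4i2),
    permP (packT t4i3),
    permP (packT t4i4),
    permP (packT t4i5),
    xiP,
    permP (packT t4i7),
    signP c4s8,
    permP (packT t4i9),
    permP (packT t4i10),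
    signP c4s11,
    permP (packT t4i12),
    signP c4s13,
    signP c4s14]

theorem acts4_snd : ∀ a ∈ acts4, Snd ⊤ a := by
  intro a ha
  simp only [acts4, List.mem_cons, List.not_mem_nil, or_false] at ha
  rcases ha with rfl | rfl | rfl | rfl | rfl | rfl | rfl | rfl | rfl | rfl | rfl | rfl | rfl | rfl | rfl
  · exact snd_perm _ _ t4ok0.1 t4ok0.2
  · exact snd_perm _ _ t4ok1.1 t4ok1.2
  · exact snd_perm _ _ t4ok2.1 t4ok2.2
  · exact snd_perm _ _ t4ok3.1 t4ok3.2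
  · exact snd_perm _ _ t4ok4.1 t4ok4.2
  · exact snd_perm _ _ t4ok5.1 t4ok5.2
  · exact snd_xi
  · exact snd_perm _ _ t4ok7.1 t4ok7.2
  · exact snd_sign _ c4ok8
  · exact snd_perm _ _ t4ok9.1 t4ok9.2
  · exact snd_perm _ _ t4ok10.1 t4ok10.2
  · exact snd_sign _ c4ok11
  · exact snd_perm _ _ t4ok12.1 t4ok12.2
  · exact snd_sign _ c4ok13
  · exact snd_sign _ c4ok14

/-- the packed root vector `(0, …, 0, -4, -4)` -/
def root4 : ℕ := 171680783225748332878830927014535432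

/-- the test of a descending word -/
def f4 (n w : ℕ) : Bool := descB acts4 10 root4 n w


end Cfsg.Agent.Lib.helper93
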