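import Cfsg.Agent.Lib.helper93.Co0Norm48

/-!
Tools for the transitivity of stabilisers in `Cfsg.Co0` on small sets of minimal vectors: sound
packed generators of joint stabilisers, and the transitivity from a list of the packed members of
the set with a table of descending words.
-/

set_option autoImplicit false
open Cfsg Cfsg.Agent.Lib.helper9

namespace Cfsg.Agent.Lib.helper93

theorem snd_mono {H K : Subgroup ↥Co0} (h : H ≤ K) (a : ℕ → ℕ) (ha : Snd H a) : Snd K a := by
  obtain ⟨g, hg, hh⟩ := ha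
  exact ⟨g, h hg, hh⟩

/-- an action of `H` fixing a packed vector comes from the stabiliser of the vector in `H` -/
theorem snd_inf (H : Subgroup ↥Co0) (a : ℕ → ℕ) (v0 : ↥leechLattice) (n0 : ℕ)
    (hv0 : (v0 : GolayPt → ℤ) = vecP n0) (h64 : sqNorm (v0 : GolayPt → ℤ) ≤ 64) (ha : Snd H a)
    (hfix : a n0 = n0) : Snd (H ⊓ MulAction.stabilizer ↥Co0 v0) a := by
  obtain ⟨g, hg, h⟩ := ha
  refine ⟨g, Subgroup.mem_inf.2 ⟨hg, ?_⟩, h⟩
  rw [MulAction.mem_stabilizer_iff]
  apply Subtype.ext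
  have h1 := h v0 n0 hv0 h64
  rw [hfix, ← hv0] at h1
  exact h1

theorem stab_apply (g : ↥Co0) (v : ↥leechLattice) (h : g ∈ MulAction.stabilizer ↥Co0 v) :
    g.1 v = v := MulAction.mem_stabilizer_iff.1 h

/-- the norm of a packed vector -/
theorem vecP_norm (n N : ℕ) (h : normIs ((List.range 24).map (getN n)) N = true) :
    sqNorm (vecP n) = N := by
  rw [vecP_eq_vecL]
  exact sqNorm_vecL ((List.range 24).map (getN n)) (by simp) N h

/-- the number of minimal vectors with a property, on the elements of the lattice -/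
theorem ncard_sub_filter (P : (GolayPt → ℤ) → Prop) (q : ℕ → Bool) (N : ℕ)
    (hPq : ∀ x ∈ leechLattice, sqNorm x = 32 → (P x ↔ q (packV x) = true))
    (hN : EL.countP q = N) :
    {v : ↥leechLattice | sqNorm (v : GolayPt → ℤ) = 32 ∧ P (v : GolayPt → ℤ)}.ncard = N := by
  rw [ncard_subtype (fun x => sqNorm x = 32 ∧ P x), ncard_min_filter P q hPq, hN]

/-- transitivity of a subgroup on a set of minimal vectors, from a table of descending words -/
theorem trans_of_table (H : Subgroup ↥Co0) (acts : List (ℕ → ℕ)) (hsnd : ∀ a ∈ acts, Snd H a)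
    (P : (GolayPt → ℤ) → Prop) (q : ℕ → Bool)
    (hPq : ∀ x ∈ leechLattice, sqNorm x = 32 → (P x ↔ q (packV x) = true))
    (hinv : ∀ g ∈ H, ∀ v : ↥leechLattice, sqNorm (v : GolayPt → ℤ) = 32 →
      P (v : GolayPt → ℤ) → P (((g : ↥Co0).1 v : ↥leechLattice) : GolayPt → ℤ))
    (LS : List ℕ) (hcov : ∀ n ∈ EL, q n = true → n ∈ LS) (root k : ℕ)
    (hd : ∀ n ∈ LS, ∃ w, descB acts k root n w = true)
    (v v' : ↥leechLattice) (hv : sqNorm (v : GolayPt → ℤ) = 32 ∧ P (v : GolayPt → ℤ))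
    (hv' : sqNorm (v' : GolayPt → ℤ) = 32 ∧ P (v' : GolayPt → ℤ)) :
    ∃ g ∈ H, (g : ↥Co0).1 v = v' := by
  refine trans_of_descent H acts hsnd
    {u : ↥leechLattice | sqNorm (u : GolayPt → ℤ) = 32 ∧ P (u : GolayPt → ℤ)}
    (fun g hg u hu => ⟨by rw [g.2.2]; exact hu.1, hinv g hg u hu.1 hu.2⟩)
    (fun u hu => ?_) root k (fun u hu => ?_) v v' hv hv'
  · have h : sqNorm (u : GolayPt → ℤ) = 32 := hu.1
    rw [h]
    norm_num
  · have hm := mem_EL (u : GolayPt → ℤ) u.2 hu.1
    have hq := (hPq (u : GolayPt → ℤ) u.2 hu.1).1 hu.2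
    obtain ⟨w, hw⟩ := hd _ (hcov _ hm hq)
    exact descB_spec acts k root _ w hw

/-! ### invariance of the conditions -/

theorem inv_dot (g : ↥Co0) (b v : ↥leechLattice) (hb : g.1 b = b) :
    dotInt (b : GolayPt → ℤ) ((g.1 v : ↥leechLattice) : GolayPt → ℤ) =
      dotInt (b : GolayPt → ℤ) (v : GolayPt → ℤ) := by
  have h := dotInt_map g.1 g.2 b v
  rw [hb] at h
  exact h

theorem inv_dist (g : ↥Co0) (b v : ↥leechLattice) (hb : g.1 b = b) :
    sqNorm ((b : GolayPt → ℤ) - ((g.1 v : ↥leechLattice) : GolayPt → ℤ)) =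
      sqNorm ((b : GolayPt → ℤ) - (v : GolayPt → ℤ)) := by
  have h := g.2.2 (b - v)
  rw [co_map_sub, hb, AddSubgroup.coe_sub, AddSubgroup.coe_sub] at h
  exact h

theorem inv_eq (g : ↥Co0) (b v : ↥leechLattice) (hb : g.1 b = b) :
    ((g.1 v : ↥leechLattice) : GolayPt → ℤ) = (b : GolayPt → ℤ) ↔
      (v : GolayPt → ℤ) = (b : GolayPt → ℤ) := by
  constructor
  · intro h
    have h1 : g.1 v = g.1 b := by rw [hb]; exact Subtype.ext h
    exact congrArg Subtype.val (g.1.injective h1)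
  · intro h
    have h1 : v = b := Subtype.ext h
    rw [h1, hb]

/-- conjugation of an element by another -/
theorem conj_apply (h g : ↥Co0) (a b : ↥leechLattice) (hab : g.1 a = b) :
    (h * g * h⁻¹).1 (h.1 a) = h.1 b := by
  rw [co_mul_apply, co_mul_apply]
  have e : (h⁻¹ : ↥Co0).1 (h.1 a) = a := h.1.symm_apply_apply a
  rw [e, hab]

/-- the digits of the packed number of a vector with small coordinates -/
theorem packV_ne (x : GolayPt → ℤ) (hb : ∀ p, -8 ≤ x p ∧ x p ≤ 8) (n : ℕ) (hn : n < 32 ^ 24) :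
    x = vecP n ↔ packV x = n := by
  constructor
  · intro h
    rw [h, packV_vecP n hn]
  · intro h
    rw [← h, vecP_packV x hb]

end Cfsg.Agent.Lib.helper93
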