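import Cfsg.Agent.Lib.helper93.LeechTagC0
import Cfsg.Agent.Lib.helper93.LeechTagC1
import Cfsg.Agent.Lib.helper93.LeechTagC2
import Cfsg.Agent.Lib.helper93.LeechTagC3

/-!
The list of the minimal vectors of `Cfsg.leechLattice` passing one of the nine tests of
`LeechTagDefs`, with their tags; the numbers of vectors passing each test.
-/

set_option autoImplicit false
open Cfsg Cfsg.Agent.Lib.helper9

namespace Cfsg.Agent.Lib.helper93

/-- the tagged minimal vectors -/
def TAG : List ℕ := TAG1 ++ ((TAG2_0 ++ (TAG2_1 ++ (TAG2_2 ++ (TAG2_3 ++ (TAG2_4 ++ (TAG2_5 ++ (TAG2_6 ++ (TAG2_7 ++ [])))))))) ++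
  (TAG3_0 ++ (TAG3_1 ++ (TAG3_2 ++ (TAG3_3 ++ (TAG3_4 ++ (TAG3_5 ++ (TAG3_6 ++ (TAG3_7 ++ (TAG3_8 ++ (TAG3_9 ++ (TAG3_10 ++ (TAG3_11 ++ (TAG3_12 ++ (TAG3_13 ++ (TAG3_14 ++ (TAG3_15 ++ [])))))))))))))))))

theorem collect_EL_eq : collectL qsT EL = TAG := by
  rw [collect_EL', chunksF_8 cT2, chunksF_16 cT3, cT1_eq, cT2_0, cT2_1, cT2_2, cT2_3, cT2_4, cT2_5, cT2_6, cT2_7,
    cT3_0, cT3_1, cT3_2, cT3_3, cT3_4, cT3_5, cT3_6, cT3_7, cT3_8, cT3_9, cT3_10, cT3_11, cT3_12, cT3_13, cT3_14, cT3_15]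
  rfl

/-- the packed minimal vectors passing the test number `i` -/
def LSi (i : ℕ) : List ℕ := (TAG.filter (selT i)).map valT

/-- every minimal vector passing the test number `i` is in the list -/
theorem tag_cover (i : ℕ) (q : ℕ → Bool) (hq : qsT.getD i (fun _ => false) = q) (n : ℕ)
    (hn : n ∈ EL) (hqn : q n = true) : n ∈ LSi i := by
  subst hq
  unfold LSi
  rw [← collect_EL_eq]
  exact mem_collect qsT i EL EL_lt n hn hqn

theorem tag_count (i : ℕ) (q : ℕ → Bool) (hq : qsT.getD i (fun _ => false) = q) :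
    EL.countP q = TAG.countP (selT i) := by
  subst hq
  rw [← collect_EL_eq]
  exact count_collect qsT i EL EL_lt

theorem cnt_q46 : EL.countP q46 = 46 := by
  rw [tag_count 0 q46 rfl]
  decide +kernel

theorem cnt_q275 : EL.countP q275 = 275 := by
  rw [tag_count 1 q275 rfl]
  decide +kernel

theorem cnt_q112 : EL.countP q112 = 112 := by
  rw [tag_count 2 q112 rfl]
  decide +kernel

theorem cnt_q162 : EL.countP q162 = 162 := by
  rw [tag_count 3 q162 rfl]
  decide +kernel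

theorem cnt_qX : EL.countP qX = 0 := by
  rw [tag_count 4 qX rfl]
  decide +kernel

theorem cnt_qH : EL.countP qH = 11178 := by
  rw [tag_count 5 qH rfl]
  decide +kernel

theorem cnt_q100 : EL.countP q100 = 100 := by
  rw [tag_count 6 q100 rfl]
  decide +kernel

theorem cnt_q22 : EL.countP q22 = 22 := by
  rw [tag_count 7 q22 rfl]
  decide +kernel

theorem cnt_q77 : EL.countP q77 = 77 := by
  rw [tag_count 8 q77 rfl]
  decide +kernel

end Cfsg.Agent.Lib.helper93
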