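import Cfsg.Agent.Lib.helper93.Co0Tower
import Cfsg.Agent.Lib.helper93.LeechTag

/-!
Base points of the configurations in the stabilisers of vectors of norm 48 of `Cfsg.leechLattice`,
their inner products on packed vectors, and the packed forms of the conditions defining the sets
of 275, 112, 162, 11178, 100, 22 and 77 minimal vectors.
-/

set_option autoImplicit false
open Cfsg Cfsg.Agent.Lib.helper9

namespace Cfsg.Agent.Lib.helper93

/-! ### lists of actions fixing a packed vector -/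

/-- every action of the list fixes the packed vector -/
def fixB (l : List (ℕ → ℕ)) (n : ℕ) : Bool := l.all (fun a => Nat.beq (a n) n)

theorem fixB_spec (l : List (ℕ → ℕ)) (n : ℕ) (h : fixB l n = true) : ∀ a ∈ l, a n = n :=
  fun a ha => Nat.eq_of_beq_eq_true (List.all_eq_true.1 h a ha)

theorem snd_words (H : Subgroup ↥Co0) (l : List (ℕ → ℕ)) (hl : ∀ a ∈ l, Snd H a) (k : ℕ)
    (ws : List ℕ) : ∀ a ∈ ws.map (runW l k), Snd H a := by
  intro a ha
  obtain ⟨w, _, rfl⟩ := List.mem_map.1 ha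
  exact snd_runW H l hl k w

theorem snd_fix (H : Subgroup ↥Co0) (l : List (ℕ → ℕ)) (hl : ∀ a ∈ l, Snd H a)
    (v0 : ↥leechLattice) (n0 : ℕ) (hv0 : (v0 : GolayPt → ℤ) = vecP n0)
    (h64 : sqNorm (v0 : GolayPt → ℤ) ≤ 64) (hfix : fixB l n0 = true) :
    ∀ a ∈ l, Snd (H ⊓ MulAction.stabilizer ↥Co0 v0) a :=
  fun a ha => snd_inf H a v0 n0 hv0 h64 (hl a ha) (fixB_spec l n0 hfix a ha)

theorem nbne_iff (a b : ℕ) : (!(Nat.beq a b)) = true ↔ a ≠ b := by
  rw [Bool.not_eq_true', ← Bool.not_eq_true, nbeq_iff]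

/-! ### the base points -/

/-- the packed vector `-4 e_7 - 4 e_23` -/
def nM0 : ℕ := 176873080084283160507361285904802056

theorem nX0_mem : memP nX0 = true := by decide +kernel

theorem nX0_lt : nX0 < 32 ^ 24 := by decide +kernel

/-- the root of the 275 points -/
def x0S : ↥leechLattice := ⟨vecP nX0, vecP_mem nX0 nX0_mem⟩

theorem x0S_val : (x0S : GolayPt → ℤ) = vecP nX0 := rfl

theorem x0S_norm : sqNorm (x0S : GolayPt → ℤ) = 32 := by
  rw [x0S_val]
  exact_mod_cast vecP_norm nX0 32 (by decide +kernel)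

theorem x0S_pack : packV (x0S : GolayPt → ℤ) = nX0 := by
  rw [x0S_val, packV_vecP nX0 nX0_lt]

theorem nM0_mem : memP nM0 = true := by decide +kernel

theorem nM0_lt : nM0 < 32 ^ 24 := by decide +kernel

/-- the vector `-4 e_7 - 4 e_23` -/
def m0S : ↥leechLattice := ⟨vecP nM0, vecP_mem nM0 nM0_mem⟩

theorem m0S_val : (m0S : GolayPt → ℤ) = vecP nM0 := rfl

theorem m0S_norm : sqNorm (m0S : GolayPt → ℤ) = 32 := by
  rw [m0S_val]
  exact_mod_cast vecP_norm nM0 32 (by decide +kernel)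

theorem m0S_pack : packV (m0S : GolayPt → ℤ) = nM0 := by
  rw [m0S_val, packV_vecP nM0 nM0_lt]

theorem nW_mem : memP nW = true := by decide +kernel

theorem nW_lt : nW < 32 ^ 24 := by decide +kernel

/-- the vector `-2` on an octad -/
def wSS : ↥leechLattice := ⟨vecP nW, vecP_mem nW nW_mem⟩

theorem wSS_val : (wSS : GolayPt → ℤ) = vecP nW := rfl

theorem wSS_norm : sqNorm (wSS : GolayPt → ℤ) = 32 := by
  rw [wSS_val]
  exact_mod_cast vecP_norm nW 32 (by decide +kernel)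

theorem wSS_pack : packV (wSS : GolayPt → ℤ) = nW := by
  rw [wSS_val, packV_vecP nW nW_lt]

theorem nX0_dig : ∀ i < 24, getN nX0 i =
    cond (Nat.beq i 4) 10 (cond (Nat.beq i 5) 6 (cond (Nat.beq i 7) 6 (cond (Nat.beq i 11) 6 (cond (Nat.beq i 13) 6 (cond (Nat.beq i 20) 10 (cond (Nat.beq i 22) 6 (cond (Nat.beq i 23) 6 (8)))))))) := by
  decide +kernel

theorem nX0_pt (i : ℕ) (hi : i < 24) :
    vecP nX0 (pt i) = if i = 4 then 2 else if i = 5 then -2 else if i = 7 then -2 else if i = 11 then -2 else if i = 13 then -2 else if i = 20 then 2 else if i = 22 then -2 else if i = 23 then -2 else 0 := by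
  rw [vecP_pt nX0 i hi, nX0_dig i hi, cond_beq, cond_beq, cond_beq, cond_beq, cond_beq, cond_beq, cond_beq, cond_beq]
  split_ifs <;> norm_num

/-- the inner product with `x0S` -/
theorem dot_x0S (w : GolayPt → ℤ) :
    dotInt (x0S : GolayPt → ℤ) w = 2 * w (pt 4) + (-2) * w (pt 5) + (-2) * w (pt 7) + (-2) * w (pt 11) + (-2) * w (pt 13) + 2 * w (pt 20) + (-2) * w (pt 22) + (-2) * w (pt 23) := by
  rw [x0S_val]
  unfold dotInt
  rw [sum_vecP_eq (fun p => vecP nX0 p * w p),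
    Finset.sum_congr rfl (fun i hi => by rw [nX0_pt i (Finset.mem_range.1 hi)])]
  simp [Finset.sum_range_succ]

theorem nM0_dig : ∀ i < 24, getN nM0 i =
    cond (Nat.beq i 7) 4 (cond (Nat.beq i 23) 4 (8)) := by
  decide +kernel

theorem nM0_pt (i : ℕ) (hi : i < 24) :
    vecP nM0 (pt i) = if i = 7 then -4 else if i = 23 then -4 else 0 := by
  rw [vecP_pt nM0 i hi, nM0_dig i hi, cond_beq, cond_beq]
  split_ifs <;> norm_num

/-- the inner product with `m0S` -/
theorem dot_m0S (w : GolayPt → ℤ) :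
    dotInt (m0S : GolayPt → ℤ) w = (-4) * w (pt 7) + (-4) * w (pt 23) := by
  rw [m0S_val]
  unfold dotInt
  rw [sum_vecP_eq (fun p => vecP nM0 p * w p),
    Finset.sum_congr rfl (fun i hi => by rw [nM0_pt i (Finset.mem_range.1 hi)])]
  simp [Finset.sum_range_succ]

theorem nW_dig : ∀ i < 24, getN nW i =
    cond (Nat.beq i 1) 6 (cond (Nat.beq i 2) 6 (cond (Nat.beq i 3) 6 (cond (Nat.beq i 4) 6 (cond (Nat.beq i 5) 6 (cond (Nat.beq i 8) 6 (cond (Nat.beq i 11) 6 (cond (Nat.beq i 13) 6 (8)))))))) := by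
  decide +kernel

theorem nW_pt (i : ℕ) (hi : i < 24) :
    vecP nW (pt i) = if i = 1 then -2 else if i = 2 then -2 else if i = 3 then -2 else if i = 4 then -2 else if i = 5 then -2 else if i = 8 then -2 else if i = 11 then -2 else if i = 13 then -2 else 0 := by
  rw [vecP_pt nW i hi, nW_dig i hi, cond_beq, cond_beq, cond_beq, cond_beq, cond_beq, cond_beq, cond_beq, cond_beq]
  split_ifs <;> norm_num

/-- the inner product with `wSS` -/
theorem dot_wSS (w : GolayPt → ℤ) :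
    dotInt (wSS : GolayPt → ℤ) w = (-2) * w (pt 1) + (-2) * w (pt 2) + (-2) * w (pt 3) + (-2) * w (pt 4) + (-2) * w (pt 5) + (-2) * w (pt 8) + (-2) * w (pt 11) + (-2) * w (pt 13) := by
  rw [wSS_val]
  unfold dotInt
  rw [sum_vecP_eq (fun p => vecP nW p * w p),
    Finset.sum_congr rfl (fun i hi => by rw [nW_pt i (Finset.mem_range.1 hi)])]
  simp [Finset.sum_range_succ]

/-! ### the packed forms of the conditions -/

theorem dotu_iff (x : GolayPt → ℤ) (hn : sqNorm x = 32) :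
    sqNorm ((u0S : GolayPt → ℤ) - x) = 32 ↔ dotInt (u0S : GolayPt → ℤ) x = 24 := by
  rw [sqNorm_sub_eq, u0S_norm, hn]
  constructor <;> intro h <;> linarith

theorem dot_sub_left (a b x : GolayPt → ℤ) : dotInt (a - b) x = dotInt a x - dotInt b x := by
  unfold dotInt
  rw [← Finset.sum_sub_distrib]
  refine Finset.sum_congr rfl fun i _ => ?_
  simp only [Pi.sub_apply]
  ring

/-- the 275 points -/
theorem q275_iff (x : GolayPt → ℤ) (hn : sqNorm x = 32) :
    (sqNorm ((u0S : GolayPt → ℤ) - x) = 32 ∧ dotInt (v0S : GolayPt → ℤ) x = 16) ↔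
      q275 (packV x) = true := by
  unfold q275
  rw [Bool.and_eq_true, ← qD_iff x hn, nbeq_iff, dot_dig x hn, Nat.add_eq]
  constructor
  · rintro ⟨h1, h2⟩
    exact ⟨h1, by omega⟩
  · rintro ⟨h1, h2⟩
    exact ⟨h1, by omega⟩

theorem dx0_iff (x : GolayPt → ℤ) (hn : sqNorm x = 32) (k : ℕ) :
    dotInt (x0S : GolayPt → ℤ) x = 2 * (k : ℤ) ↔ dx0L (packV x) = dx0R (packV x) + k := by
  have hb : ∀ p, -8 ≤ x p ∧ x p ≤ 8 := coord_bound64 x (by rw [hn]; norm_num)
  rw [dot_x0S, dig_packV x hb 4 (by norm_num), dig_packV x hb 20 (by norm_num),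
    dig_packV x hb 5 (by norm_num), dig_packV x hb 7 (by norm_num),
    dig_packV x hb 11 (by norm_num), dig_packV x hb 13 (by norm_num),
    dig_packV x hb 22 (by norm_num), dig_packV x hb 23 (by norm_num)]
  unfold dx0L dx0R
  simp only [Nat.add_eq]
  omega

theorem dx0_8 (x : GolayPt → ℤ) (hn : sqNorm x = 32) :
    dotInt (x0S : GolayPt → ℤ) x = 8 ↔ dx0L (packV x) = dx0R (packV x) + 4 := by
  have h := dx0_iff x hn 4
  norm_num at h
  exact h

theorem dx0_16 (x : GolayPt → ℤ) (hn : sqNorm x = 32) :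
    dotInt (x0S : GolayPt → ℤ) x = 16 ↔ dx0L (packV x) = dx0R (packV x) + 8 := by
  have h := dx0_iff x hn 8
  norm_num at h
  exact h

theorem ne_x0S_iff (x : GolayPt → ℤ) (hn : sqNorm x = 32) :
    x ≠ (x0S : GolayPt → ℤ) ↔ packV x ≠ nX0 := by
  have hb : ∀ p, -8 ≤ x p ∧ x p ≤ 8 := coord_bound64 x (by rw [hn]; norm_num)
  rw [x0S_val]
  exact not_congr (packV_ne x hb nX0 nX0_lt)

theorem ne_wSS_iff (x : GolayPt → ℤ) (hn : sqNorm x = 32) :
    x ≠ (wSS : GolayPt → ℤ) ↔ packV x ≠ nW := by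
  have hb : ∀ p, -8 ≤ x p ∧ x p ≤ 8 := coord_bound64 x (by rw [hn]; norm_num)
  rw [wSS_val]
  exact not_congr (packV_ne x hb nW nW_lt)

/-- the 112 points -/
theorem q112_iff (x : GolayPt → ℤ) (hn : sqNorm x = 32) :
    ((sqNorm ((u0S : GolayPt → ℤ) - x) = 32 ∧ dotInt (v0S : GolayPt → ℤ) x = 16) ∧
      dotInt (x0S : GolayPt → ℤ) x = 8) ↔ q112 (packV x) = true := by
  unfold q112
  rw [Bool.and_eq_true, ← q275_iff x hn, nbeq_iff, Nat.add_eq, ← dx0_8 x hn]

/-- the 162 points -/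
theorem q162_iff (x : GolayPt → ℤ) (hn : sqNorm x = 32) :
    ((sqNorm ((u0S : GolayPt → ℤ) - x) = 32 ∧ dotInt (v0S : GolayPt → ℤ) x = 16) ∧
      x ≠ (x0S : GolayPt → ℤ) ∧ dotInt (x0S : GolayPt → ℤ) x = 16) ↔ q162 (packV x) = true := by
  unfold q162
  rw [Bool.and_eq_true, Bool.and_eq_true, ← q275_iff x hn, nbeq_iff, Nat.add_eq, ← dx0_16 x hn,
    nbne_iff, ← ne_x0S_iff x hn]

/-- a point other than `x0S` has inner product 8 or 16 with it -/
theorem x0_dots (x : GolayPt → ℤ) (hx : x ∈ leechLattice) (hn : sqNorm x = 32)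
    (hP : sqNorm ((u0S : GolayPt → ℤ) - x) = 32 ∧ dotInt (v0S : GolayPt → ℤ) x = 16)
    (hne : x ≠ (x0S : GolayPt → ℤ)) :
    dotInt (x0S : GolayPt → ℤ) x = 8 ∨ dotInt (x0S : GolayPt → ℤ) x = 16 := by
  have h0 := List.countP_eq_zero.1 cnt_qX _ (mem_EL x hx hn)
  by_contra hc
  rw [not_or] at hc
  apply h0
  unfold qX
  rw [Bool.and_eq_true, Bool.and_eq_true, Bool.and_eq_true, nbne_iff, nbne_iff, nbne_iff,
    Nat.add_eq, Nat.add_eq]
  exact ⟨(q275_iff x hn).1 hP, (ne_x0S_iff x hn).1 hne, fun h => hc.1 ((dx0_8 x hn).2 h),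
    fun h => hc.2 ((dx0_16 x hn).2 h)⟩

theorem qH_eq (n : ℕ) : qH n = true ↔ getN n 4 + 56 =
    2 * getN n 7 + (getN n 1 + (getN n 2 + (getN n 3 + (getN n 5 + (getN n 8 + (getN n 11 +
      getN n 13)))))) :=
  nbeq_iff _ _

/-- the 11178 minimal vectors with inner product 16 with `u0S` -/
theorem qH_iff (x : GolayPt → ℤ) (hn : sqNorm x = 32) :
    dotInt (u0S : GolayPt → ℤ) x = 16 ↔ qH (packV x) = true := by
  have hb : ∀ p, -8 ≤ x p ∧ x p ≤ 8 := coord_bound64 x (by rw [hn]; norm_num)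
  rw [dot_u0S, qH_eq, dig_packV x hb 4 (by norm_num),
    dig_packV x hb 7 (by norm_num), dig_packV x hb 1 (by norm_num),
    dig_packV x hb 2 (by norm_num), dig_packV x hb 3 (by norm_num),
    dig_packV x hb 5 (by norm_num), dig_packV x hb 8 (by norm_num),
    dig_packV x hb 11 (by norm_num), dig_packV x hb 13 (by norm_num)]
  omega

/-- the second vector of norm 48 -/
def w0S : ↥leechLattice := m0S - u0S

theorem w0S_val : (w0S : GolayPt → ℤ) = (m0S : GolayPt → ℤ) - (u0S : GolayPt → ℤ) :=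
  AddSubgroup.coe_sub _ _ _

theorem dm0_iff (x : GolayPt → ℤ) (hn : sqNorm x = 32) :
    dotInt (m0S : GolayPt → ℤ) x = 0 ↔ getN (packV x) 7 + getN (packV x) 23 = 16 := by
  have hb : ∀ p, -8 ≤ x p ∧ x p ≤ 8 := coord_bound64 x (by rw [hn]; norm_num)
  rw [dot_m0S, dig_packV x hb 7 (by norm_num), dig_packV x hb 23 (by norm_num)]
  omega

/-- the 100 points -/
theorem q100_iff (x : GolayPt → ℤ) (hn : sqNorm x = 32) :
    (dotInt (u0S : GolayPt → ℤ) x = 24 ∧ dotInt (w0S : GolayPt → ℤ) x = -24) ↔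
      q100 (packV x) = true := by
  unfold q100
  rw [Bool.and_eq_true, ← qD_iff x hn, nbeq_iff, Nat.add_eq, ← dm0_iff x hn, dotu_iff x hn,
    w0S_val, dot_sub_left]
  constructor
  · rintro ⟨h1, h2⟩
    exact ⟨h1, by linarith⟩
  · rintro ⟨h1, h2⟩
    exact ⟨h1, by linarith⟩

theorem dwS_iff (x : GolayPt → ℤ) (hn : sqNorm x = 32) :
    dotInt (wSS : GolayPt → ℤ) x = 8 ↔ sO (packV x) = 60 := by
  have hb : ∀ p, -8 ≤ x p ∧ x p ≤ 8 := coord_bound64 x (by rw [hn]; norm_num)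
  rw [dot_wSS, dig_packV x hb 1 (by norm_num), dig_packV x hb 2 (by norm_num),
    dig_packV x hb 3 (by norm_num), dig_packV x hb 4 (by norm_num),
    dig_packV x hb 5 (by norm_num), dig_packV x hb 8 (by norm_num),
    dig_packV x hb 11 (by norm_num), dig_packV x hb 13 (by norm_num)]
  unfold sO
  simp only [Nat.add_eq]
  omega

/-- the 22 points -/
theorem q22_iff (x : GolayPt → ℤ) (hn : sqNorm x = 32) :
    ((dotInt (u0S : GolayPt → ℤ) x = 24 ∧ dotInt (w0S : GolayPt → ℤ) x = -24) ∧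
      dotInt (wSS : GolayPt → ℤ) x = 8) ↔ q22 (packV x) = true := by
  unfold q22
  rw [Bool.and_eq_true, ← q100_iff x hn, nbeq_iff, ← dwS_iff x hn]

/-- the 77 points -/
theorem q77_iff (x : GolayPt → ℤ) (hn : sqNorm x = 32) :
    ((dotInt (u0S : GolayPt → ℤ) x = 24 ∧ dotInt (w0S : GolayPt → ℤ) x = -24) ∧
      x ≠ (wSS : GolayPt → ℤ) ∧ dotInt (wSS : GolayPt → ℤ) x ≠ 8) ↔ q77 (packV x) = true := by
  unfold q77
  rw [Bool.and_eq_true, Bool.and_eq_true, ← q100_iff x hn, nbne_iff, nbne_iff,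
    ← ne_wSS_iff x hn]
  exact and_congr Iff.rfl (and_congr Iff.rfl (not_congr (dwS_iff x hn)))

/-! ### the base points belong to the sets -/

theorem x0S_275 : sqNorm ((u0S : GolayPt → ℤ) - (x0S : GolayPt → ℤ)) = 32 ∧
    dotInt (v0S : GolayPt → ℤ) (x0S : GolayPt → ℤ) = 16 := by
  rw [q275_iff _ x0S_norm, x0S_pack]
  decide +kernel

theorem m0S_H : dotInt (u0S : GolayPt → ℤ) (m0S : GolayPt → ℤ) = 16 := by
  rw [qH_iff _ m0S_norm, m0S_pack]
  decide +kernel

theorem wSS_100 : dotInt (u0S : GolayPt → ℤ) (wSS : GolayPt → ℤ) = 24 ∧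
    dotInt (w0S : GolayPt → ℤ) (wSS : GolayPt → ℤ) = -24 := by
  rw [q100_iff _ wSS_norm, wSS_pack]
  decide +kernel

end Cfsg.Agent.Lib.helper93
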