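import Cfsg.Agent.Lib.helper93.Co0Tw3

/-!
Generators of the joint stabiliser of two vectors of norm 48 with inner product -32, and the table
of descending words for its 100 points.
-/

set_option autoImplicit false
open Cfsg Cfsg.Agent.Lib.helper9

namespace Cfsg.Agent.Lib.helper93

/-- words of the generators of the stabiliser of `u0S` and `m0S` -/
def wsH : List ℕ := [148137, 90897, 353, 387, 1558, 791]

/-- the generators of the stabiliser of `u0S` and `m0S` -/
def actsH : List (ℕ → ℕ) := wsH.map (runW acts3 8)

theorem actsH_fix : fixB actsH nM0 = true := by decide +kernel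

def WSC : List ℕ := [
  0, 74321, 74518, 1118993, 74514, 4657, 1119073, 70177, 74017, 69972, 5729, 1118482,
  70465, 69905, 5665, 69938, 91667, 74049, 69922, 90646, 70934, 74001, 69923, 4370,
  4433, 1118483, 71201, 4373, 69940, 4371, 69937, 70497, 69942, 273, 70931, 1118497,
  70454, 4403, 4627, 4641, 277, 355, 70178, 4389, 4626, 4450, 69906, 4659,
  4436, 4625, 4369, 293, 70162, 4385, 275, 291, 278, 4386, 4645, 306,
  4404, 289, 90673, 22, 71189, 4658, 4689, 325, 70179, 70180, 69907, 274,
  4402, 5218, 4449, 20, 4406, 17, 18, 5206, 354, 4628, 358, 290,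
  294, 326, 71188, 5138, 69908, 321, 19, 4643, 4453, 357, 4901, 4675,
  4660, 1, 292, 5667]

set_option maxRecDepth 100000 in
set_option maxHeartbeats 0 in
theorem LSC_desc : allZ (descB actsH 8 nW) (LSi 6) WSC = true := by
  decide +kernel

theorem LSC_desc' : ∀ n ∈ LSi 6, ∃ w, descB actsH 8 nW n w = true :=
  fun n hn => allZ_spec _ _ _ LSC_desc n hn

end Cfsg.Agent.Lib.helper93
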