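import Cfsg.Agent.Lib.helper93.Co0TwH

/-!
Generators of the stabiliser of a point in the joint stabiliser of two vectors of norm 48, and the
tables of descending words for its orbits of 22 and 77 points.
-/

set_option autoImplicit false
open Cfsg Cfsg.Agent.Lib.helper9

namespace Cfsg.Agent.Lib.helper93

/-- words of the generators of the stabiliser of `u0S`, `m0S` and `wSS` -/
def wsJ : List ℕ := [2, 3, 5217]

/-- the generators of the stabiliser of `u0S`, `m0S` and `wSS` -/
def actsJ : List (ℕ → ℕ) := wsJ.map (runW actsH 8)

theorem actsJ_fix : fixB actsJ nW = true := by decide +kernel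

def WSJ8 : List ℕ := [
  4883, 19, 4657, 78113, 819, 51, 307, 4881, 35, 817, 291, 4882,
  562, 305, 17, 1, 33, 34, 18, 3, 2, 0]

set_option maxRecDepth 100000 in
set_option maxHeartbeats 0 in
theorem LSJ8_desc : allZ (descB actsJ 8 383227544706225378087208437866011879) (LSi 7) WSJ8 = true := by
  decide +kernel

theorem LSJ8_desc' : ∀ n ∈ LSi 7, ∃ w, descB actsJ 8 383227544706225378087208437866011879 n w = true :=
  fun n hn => allZ_spec _ _ _ LSJ8_desc n hn

def WSJ16 : List ℕ := [
  0, 1, 289, 18, 305, 19, 17, 12835, 817, 209426, 51, 205362,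
  12819, 200979, 1192241, 818, 209427, 209170, 13089, 13073, 74515, 74513, 4915, 4657,
  201523, 78642, 786, 275, 12851, 201489, 12579, 819, 78641, 1192482, 13106, 13075,
  74530, 4403, 801, 4401, 803, 205330, 201521, 12594, 12593, 49, 12817, 205073,
  307, 12850, 205617, 74035, 70418, 12578, 3, 787, 13091, 70451, 200977, 785,
  291, 12577, 201491, 3219746, 12833, 4658, 201251, 12595, 12561, 1127219, 13105, 74034,
  802, 201234, 201522, 50, 4627]

set_option maxRecDepth 100000 in
set_option maxHeartbeats 0 in
theorem LSJ16_desc : allZ (descB actsJ 8 343026579557397570761301217914329416) (LSi 8) WSJ16 = true := by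
  decide +kernel

theorem LSJ16_desc' : ∀ n ∈ LSi 8, ∃ w, descB actsJ 8 343026579557397570761301217914329416 n w = true :=
  fun n hn => allZ_spec _ _ _ LSJ16_desc n hn

end Cfsg.Agent.Lib.helper93
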