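import Cfsg.Agent.Lib.helper93.Co0TowerPts

/-!
Generators of the joint stabiliser of a vector of norm 48 and a minimal vector at minimal distance,
and the table of descending words for its 275 points.
-/

set_option autoImplicit false
open Cfsg Cfsg.Agent.Lib.helper9

namespace Cfsg.Agent.Lib.helper93

/-- words of the generators of the stabiliser of `u0S` and `v0S` -/
def wsM : List ℕ := [59, 3478, 4785, 803402, 875, 42914, 8563, 4917]

/-- the generators of the stabiliser of `u0S` and `v0S` -/
def actsM : List (ℕ → ℕ) := wsM.map (runW actsS 8)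

theorem actsM_fix : fixB actsM nU = true := by decide +kernel

def WSM : List ℕ := [
  214598, 1279060, 13412, 213588, 86340, 214595, 214593, 1079, 19, 115, 531, 309,
  305, 51, 563, 376, 131, 1927, 100, 6, 71, 610, 38, 21,
  113, 17, 117, 787, 582, 901, 851, 389, 887, 104, 616, 67,
  872, 392, 1059, 359, 56, 898, 568, 312, 129, 1046, 116, 23,
  356, 119, 370, 3, 4948, 1078, 35, 1075, 1604, 823, 1608, 65,
  132, 69, 328, 49, 4950, 903, 53, 579, 360, 868, 4435, 280,
  344, 310, 373, 642, 130, 8, 40, 339, 275, 1811, 856, 530,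
  1, 7, 33, 278, 342, 1112, 788, 2165, 2161, 1553, 1557, 103,
  817, 899, 615, 577, 881, 5393, 327, 1073, 375, 824, 5927, 1655,
  22, 118, 534, 1141, 135, 97, 101, 4406, 4968, 4403, 5976, 337,
  36, 55, 277, 70, 1843, 307, 20, 343, 374, 279, 1601, 54,
  24, 120, 536, 4, 1076, 136, 66, 353, 1889, 357, 855, 0,
  819, 2065, 2, 9797, 6216, 1556, 13350, 71750, 5396, 86337, 5508, 13400,
  4484, 79204, 99394, 6211, 13347, 33604, 833, 1093, 8518, 8484, 14404, 8515,
  13620, 17538, 17204, 13331, 8520, 33601, 88134, 83779, 8517, 95809, 13336, 17474,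
  86292, 13333, 5236, 835, 14402, 14407, 388, 33603, 4996, 24899, 834, 532,
  14146, 5988, 13368, 13413, 9794, 17268, 9316, 8500, 17220, 1091, 71752, 68,
  13127, 83781, 17544, 2068, 6209, 99412, 13121, 17489, 1090, 6214, 6228, 837,
  86341, 5924, 4404, 612, 5700, 14405, 13700, 13367, 17479, 9793, 71749, 5748,
  1924, 900, 17542, 6210, 79941, 13445, 13128, 1092, 33605, 95810, 213332, 884,
  1089, 13411, 52, 9799, 9796, 6215, 13396, 13126, 838, 24901, 17796, 17464,
  12612, 13332, 17496, 2100, 1096, 1095, 30836, 17491, 6213, 13125, 13172, 840,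
  5252, 537649, 13330, 6212, 25620, 9764, 13363, 820, 13409, 13349, 4884]

set_option maxRecDepth 100000 in
set_option maxHeartbeats 0 in
theorem LSM_desc : allZ (descB actsM 8 nX0) (LSi 1) WSM = true := by
  decide +kernel

theorem LSM_desc' : ∀ n ∈ LSi 1, ∃ w, descB actsM 8 nX0 n w = true :=
  fun n hn => allZ_spec _ _ _ LSM_desc n hn

end Cfsg.Agent.Lib.helper93
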