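import Cfsg.Agent.Lib.helper93.Co0TwM

/-!
Generators of the stabiliser of a point in the joint stabiliser of `u0S` and `v0S`, and the tables of
descending words for its orbits of 112 and 162 points.
-/

set_option autoImplicit false
open Cfsg Cfsg.Agent.Lib.helper9

namespace Cfsg.Agent.Lib.helper93

/-- words of the generators of the stabiliser of `u0S`, `v0S` and `x0S` -/
def wsU : List ℕ := [340, 2069, 16737]

/-- the generators of the stabiliser of `u0S`, `v0S` and `x0S` -/
def actsU : List (ℕ → ℕ) := wsU.map (runW actsM 8)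

theorem actsU_fix : fixB actsU nX0 = true := by decide +kernel

def WSU8 : List ℕ := [
  2171410, 135713, 8995, 13105, 817, 209170, 4913, 74513, 70162, 4401, 74258, 8466,
  529, 4385, 4641, 8465, 70194, 802, 12562, 1118770, 205090, 78625, 786, 4657,
  273, 17, 70449, 13074, 13073, 1192210, 70450, 4627, 4403, 201235, 50, 4387,
  9011, 4386, 78354, 12818, 49, 12561, 785, 69923, 3, 74514, 274, 4370,
  4897, 801, 3346723, 78611, 74033, 209187, 74515, 12834, 34, 209697, 531, 306,
  545, 78114, 4371, 4402, 4658, 135457, 12577, 209202, 563, 291, 275, 69921,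
  4914, 8994, 530, 4643, 290, 819, 78369, 70451, 69938, 13075, 803, 1119009,
  4625, 74529, 12849, 135715, 78642, 74003, 2, 33, 4882, 307, 18, 561,
  70193, 19, 562, 289, 305, 8482, 51, 8722, 13106, 35, 4898, 1,
  1118739, 4915, 8723, 0]

set_option maxRecDepth 100000 in
set_option maxHeartbeats 0 in
theorem LSU8_desc : allZ (descB actsU 8 302744405541990355237283096048147687) (LSi 2) WSU8 = true := by
  decide +kernel

theorem LSU8_desc' : ∀ n ∈ LSi 2, ∃ w, descB actsU 8 302744405541990355237283096048147687 n w = true :=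
  fun n hn => allZ_spec _ _ _ LSU8_desc n hn

def WSU16 : List ℕ := [
  4386, 274, 17, 12818, 1123122, 8466, 74515, 12835, 139826, 4641, 1258275, 135442,
  70195, 801, 529, 8979, 4899, 74035, 209682, 205362, 1254177, 8483, 2171443, 74513,
  4882, 306, 78642, 4898, 78114, 8739, 1122579, 49, 8497, 8465, 8753, 135729,
  3285793, 78386, 139571, 70449, 4643, 33, 8754, 4883, 70161, 8498, 34, 8978,
  4913, 4915, 8737, 305, 19, 819, 13105, 135697, 78115, 563, 4657, 70433,
  545, 4627, 8499, 205091, 78098, 139809, 8738, 817, 561, 12850, 4914, 2,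
  531, 547, 8482, 135970, 546, 74257, 143650, 307, 803, 530, 140066, 4881,
  78097, 0, 51, 802, 3, 50, 1192737, 143665, 74274, 1127202, 4402, 1118770,
  1192498, 18, 1258002, 74546, 1118769, 135475, 8481, 70419, 1249555, 2171153, 4385, 4370,
  1118738, 1184274, 35, 74289, 290, 1127185, 1249827, 18035234, 78371, 4387, 205361, 4403,
  2298642, 9009, 78131, 70434, 12849, 69922, 70162, 4401, 291, 8723, 1122866, 4626,
  135969, 8467, 289, 74018, 74017, 144146, 205585, 205089, 69921, 69923, 78625, 74531,
  275, 205601, 1127187, 2175506, 135715, 135474, 1184289, 70179, 139570, 70450, 4658, 1,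
  4642, 273, 4659, 74273, 74259, 17969955]

set_option maxRecDepth 100000 in
set_option maxHeartbeats 0 in
theorem LSU16_desc : allZ (descB actsU 8 259868700259796974550513479231676616) (LSi 3) WSU16 = true := by
  decide +kernel

theorem LSU16_desc' : ∀ n ∈ LSi 3, ∃ w, descB actsU 8 259868700259796974550513479231676616 n w = true :=
  fun n hn => allZ_spec _ _ _ LSU16_desc n hn

end Cfsg.Agent.Lib.helper93
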