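import Cfsg.Agent.Lib.helper93.Co0TwM
import Cfsg.Agent.Lib.helper93.LeechTagSub

/-!
A point of the 2025 minimal vectors with inner products 16 and 0 with `u0S` and `v0S`, and
generators of its stabiliser in the joint stabiliser of `u0S` and `v0S`.
-/

set_option autoImplicit false
open Cfsg Cfsg.Agent.Lib.helper9

namespace Cfsg.Agent.Lib.helper93

/-- the packed vector `-4 e_1 - 4 e_2` -/
def nP : ℕ := 343026579557397644620337305878794376

theorem nP_mem : memP nP = true := by decide +kernel

theorem nP_lt : nP < 32 ^ 24 := by decide +kernel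

/-- the vector `-4 e_1 - 4 e_2` -/
def pS : ↥leechLattice := ⟨vecP nP, vecP_mem nP nP_mem⟩

theorem pS_val : (pS : GolayPt → ℤ) = vecP nP := rfl

theorem pS_norm : sqNorm (pS : GolayPt → ℤ) = 32 := by
  rw [pS_val]
  exact_mod_cast vecP_norm nP 32 (by decide +kernel)

theorem pS_pack : packV (pS : GolayPt → ℤ) = nP := by
  rw [pS_val, packV_vecP nP nP_lt]

theorem nP_dig : ∀ i < 24, getN nP i =
    cond (Nat.beq i 1) 4 (cond (Nat.beq i 2) 4 (8)) := by
  decide +kernel

theorem nP_pt (i : ℕ) (hi : i < 24) :
    vecP nP (pt i) = if i = 1 then -4 else if i = 2 then -4 else 0 := by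
  rw [vecP_pt nP i hi, nP_dig i hi, cond_beq, cond_beq]
  split_ifs <;> norm_num

/-- the inner product with `pS` -/
theorem dot_pS (w : GolayPt → ℤ) :
    dotInt (pS : GolayPt → ℤ) w = (-4) * w (pt 1) + (-4) * w (pt 2) := by
  rw [pS_val]
  unfold dotInt
  rw [sum_vecP_eq (fun p => vecP nP p * w p),
    Finset.sum_congr rfl (fun i hi => by rw [nP_pt i (Finset.mem_range.1 hi)])]
  simp [Finset.sum_range_succ]

/-- the test of the inner product 0 with `v0S` -/
def tE (n : ℕ) : Bool := Nat.beq (getN n 4) (getN n 7)

/-- the test of the inner product with `pS` -/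
def tF (s n : ℕ) : Bool := Nat.beq (Nat.add (getN n 1) (getN n 2)) s

/-- the test of the inner products with `v0S` and `pS` -/
def tG (s n : ℕ) : Bool := tE n && tF s n

/-- words of the generators of the stabiliser of `u0S`, `v0S` and `pS` -/
def wsK : List ℕ := [3, 2, 24, 74805574, 88, 305, 2065]

/-- the generators of the stabiliser of `u0S`, `v0S` and `pS` -/
def actsK : List (ℕ → ℕ) := wsK.map (runW actsM 8)

theorem actsK_fix : fixB actsK nP = true := by decide +kernel

end Cfsg.Agent.Lib.helper93
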