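import Cfsg.Agent.Lib.helper93.Co0Simple2
import Cfsg.Agent.Lib.helper93.LeechQuad

/-!
The quotient of `Cfsg.Co0` by its centre acts on the vectors of `Cfsg.leechLattice` up to sign; on
the 98280 classes of minimal vectors the stabiliser of a class is the stabiliser of a minimal
vector, with orbits of 4600, 47104 and 46575 classes on the other classes.  So the quotient is
simple of order 4157776806543360000 as soon as the stabilisers of the minimal vectors are simple
of order 42305421312000.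
-/

set_option autoImplicit false
open Cfsg MulAction

namespace Cfsg.Agent.Lib.helper93

/-- two vectors are equal up to sign -/
def pmSetoid : Setoid ↥leechLattice where
  r a b := a = b ∨ a = -b
  iseqv :=
    { refl := fun a => Or.inl rfl
      symm := fun {a b} h => by
        rcases h with h | h
        · exact Or.inl h.symm
        · exact Or.inr (by rw [h, neg_neg])
      trans := fun {a b c} h1 h2 => by
        rcases h1 with h1 | h1 <;> rcases h2 with h2 | h2
        · exact Or.inl (h1.trans h2)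
        · exact Or.inr (h1.trans h2)
        · exact Or.inr (by rw [h1, h2])
        · exact Or.inl (by rw [h1, h2, neg_neg]) }

/-- the vectors of the lattice up to sign -/
def PmL : Type := Quotient pmSetoid

/-- the class of a vector -/
def pmMk (a : ↥leechLattice) : PmL := Quotient.mk pmSetoid a

theorem pmMk_eq (a b : ↥leechLattice) : pmMk a = pmMk b ↔ a = b ∨ a = -b :=
  ⟨fun h => Quotient.exact h, fun h => Quotient.sound h⟩

theorem pmMk_surj (x : PmL) : ∃ a, pmMk a = x := Quotient.exists_rep x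

theorem pmMk_neg (a : ↥leechLattice) : pmMk (-a) = pmMk a :=
  (pmMk_eq _ _).2 (Or.inr rfl)

/-- the action of an automorphism on the classes -/
def pmMap (g : ↥Co0) (x : PmL) : PmL :=
  Quotient.liftOn x (fun a => pmMk (g.1 a)) (fun a b h => by
    have h' : a = b ∨ a = -b := h
    rcases h' with h' | h'
    · rw [h']
    · exact (pmMk_eq _ _).2 (Or.inr (by rw [h', co_map_neg])))

instance pmAction : MulAction ↥Co0 PmL where
  smul := pmMap
  one_smul x := by
    obtain ⟨a, rfl⟩ := pmMk_surj x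
    rfl
  mul_smul g h x := by
    obtain ⟨a, rfl⟩ := pmMk_surj x
    rfl

theorem smul_pmMk (g : ↥Co0) (a : ↥leechLattice) : g • pmMk a = pmMk (g.1 a) := rfl

theorem pmHom_center (z : ↥Co0) (hz : z ∈ Subgroup.center ↥Co0) :
    MulAction.toPermHom ↥Co0 PmL z = 1 := by
  ext x
  obtain ⟨a, rfl⟩ := pmMk_surj x
  show z • pmMk a = pmMk a
  rcases center_eq z hz with rfl | rfl
  · exact one_smul _ _
  · rw [smul_pmMk, negCo_apply]
    exact pmMk_neg a

/-- the action of the quotient by the centre, as a homomorphism -/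
def pmLift : ↥Co0 ⧸ Subgroup.center ↥Co0 →* Equiv.Perm PmL :=
  QuotientGroup.lift (Subgroup.center ↥Co0) (MulAction.toPermHom ↥Co0 PmL)
    (fun z hz => MonoidHom.mem_ker.2 (pmHom_center z hz))

instance pmActionQ : MulAction (↥Co0 ⧸ Subgroup.center ↥Co0) PmL := MulAction.compHom PmL pmLift

theorem mk_smul_pmMk (g : ↥Co0) (a : ↥leechLattice) :
    (QuotientGroup.mk g : ↥Co0 ⧸ Subgroup.center ↥Co0) • pmMk a = pmMk (g.1 a) := rfl

/-- a minimal vector is not its opposite -/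
theorem min_ne_neg (x : ↥leechLattice) (h : sqNorm (x : GolayPt → ℤ) = 32) : x ≠ -x := by
  intro e
  have h0 : (x : GolayPt → ℤ) = 0 := by
    funext p
    have h1 := congrFun (congrArg Subtype.val e) p
    rw [AddSubgroup.coe_neg, Pi.neg_apply] at h1
    show (x : GolayPt → ℤ) p = 0
    omega
  rw [h0] at h
  unfold sqNorm at h
  simp at h

/-- the inner products of two minimal vectors -/
theorem min_dot_cases (v x : ↥leechLattice) (hv : sqNorm (v : GolayPt → ℤ) = 32)
    (hx : sqNorm (x : GolayPt → ℤ) = 32) :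
    x = v ∨ x = -v ∨ dotInt (v : GolayPt → ℤ) (x : GolayPt → ℤ) = -16 ∨
      dotInt (v : GolayPt → ℤ) (x : GolayPt → ℤ) = -8 ∨
      dotInt (v : GolayPt → ℤ) (x : GolayPt → ℤ) = 0 ∨
      dotInt (v : GolayPt → ℤ) (x : GolayPt → ℤ) = 8 ∨
      dotInt (v : GolayPt → ℤ) (x : GolayPt → ℤ) = 16 := by
  by_cases h1 : x = v
  · exact Or.inl h1
  by_cases h2 : x = -v
  · exact Or.inr (Or.inl h2)
  right
  right
  obtain ⟨k, hk⟩ := leech_dot_dvd (v : GolayPt → ℤ) (x : GolayPt → ℤ) v.2 x.2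
  have hs : 32 ≤ sqNorm ((v : GolayPt → ℤ) - (x : GolayPt → ℤ)) := by
    apply leech_min_sqNorm _ (leechLattice.sub_mem v.2 x.2)
    intro h0
    exact h1 (Subtype.ext (sub_eq_zero.1 h0).symm)
  have ha : 32 ≤ sqNorm ((v : GolayPt → ℤ) + (x : GolayPt → ℤ)) := by
    apply leech_min_sqNorm _ (leechLattice.add_mem v.2 x.2)
    intro h0
    apply h2
    apply Subtype.ext
    rw [AddSubgroup.coe_neg]
    exact eq_neg_of_add_eq_zero_right h0
  rw [sqNorm_sub_eq, hv, hx] at hs
  rw [sqNorm_add, hv, hx] at ha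
  omega

/-- an element of the quotient fixing the class of `v` comes from an element fixing `v` -/
theorem stab_pm_surj (v : ↥leechLattice) (q : ↥Co0 ⧸ Subgroup.center ↥Co0)
    (hq : q • pmMk v = pmMk v) : ∃ g : ↥Co0, g.1 v = v ∧ QuotientGroup.mk g = q := by
  obtain ⟨g, rfl⟩ := QuotientGroup.mk_surjective q
  rw [mk_smul_pmMk, pmMk_eq] at hq
  rcases hq with h | h
  · exact ⟨g, h, rfl⟩
  · refine ⟨negCo * g, ?_, ?_⟩
    · rw [co_mul_apply, negCo_apply, h, neg_neg]
    · rw [QuotientGroup.mk_mul, (QuotientGroup.eq_one_iff negCo).2 negCo_mem_center, one_mul]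

/-- from the stabiliser of a vector to the stabiliser of its class -/
def stabPmHom (v : ↥leechLattice) :
    ↥(stabilizer ↥Co0 v) →* ↥(stabilizer (↥Co0 ⧸ Subgroup.center ↥Co0) (pmMk v)) where
  toFun g := ⟨QuotientGroup.mk (g : ↥Co0), by
    show (QuotientGroup.mk (g : ↥Co0) : ↥Co0 ⧸ Subgroup.center ↥Co0) • pmMk v = pmMk v
    rw [mk_smul_pmMk]
    exact congrArg pmMk g.2⟩
  map_one' := rfl
  map_mul' _ _ := rfl

theorem stabPmHom_bij (v : ↥leechLattice) (hv : sqNorm (v : GolayPt → ℤ) = 32) :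
    Function.Bijective (stabPmHom v) := by
  constructor
  · intro g g' h
    have h1 : (QuotientGroup.mk (g : ↥Co0) : ↥Co0 ⧸ Subgroup.center ↥Co0) =
        QuotientGroup.mk (g' : ↥Co0) := congrArg Subtype.val h
    rw [QuotientGroup.eq] at h1
    have a1 : (g' : ↥Co0).1 v = v := g'.2
    have a2 : (g : ↥Co0).1 v = v := g.2
    have a3 : ((g : ↥Co0)⁻¹).1 ((g : ↥Co0).1 v) = ((g : ↥Co0)⁻¹).1 v := congrArg _ a2
    have hfix : ((g : ↥Co0)⁻¹ * (g' : ↥Co0)).1 v = v := by
      rw [co_mul_apply, a1]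
      exact a3.symm.trans (co_inv_apply (g : ↥Co0) v)
    rcases center_eq _ h1 with h2 | h2
    · exact Subtype.ext (inv_mul_eq_one.1 h2)
    · exfalso
      rw [h2, negCo_apply] at hfix
      exact min_ne_neg v hv hfix.symm
  · intro q
    obtain ⟨g, hg, hgq⟩ := stab_pm_surj v q.1 q.2
    exact ⟨⟨g, hg⟩, Subtype.ext hgq⟩

theorem orbit_pm (v y : ↥leechLattice) :
    orbit ↥(stabilizer (↥Co0 ⧸ Subgroup.center ↥Co0) (pmMk v)) (pmMk y) =
      pmMk '' (orbit ↥(stabilizer ↥Co0 v) y) := by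
  ext z
  constructor
  · rintro ⟨q, rfl⟩
    obtain ⟨g, hg, hgq⟩ := stab_pm_surj v q.1 q.2
    refine ⟨g.1 y, ⟨⟨g, hg⟩, rfl⟩, ?_⟩
    show pmMk (g.1 y) = (q : ↥Co0 ⧸ Subgroup.center ↥Co0) • pmMk y
    rw [← hgq, mk_smul_pmMk]
  · rintro ⟨_, ⟨g, rfl⟩, rfl⟩
    exact ⟨stabPmHom v g, rfl⟩

/-- the minimal vectors with a given inner product with `v` -/
def ClsC (v : ↥leechLattice) (c : ℤ) : Set ↥leechLattice :=
  {x | sqNorm (x : GolayPt → ℤ) = 32 ∧ dotInt (v : GolayPt → ℤ) (x : GolayPt → ℤ) = c}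

theorem orbit_ClsC (c : ℤ) (hc : c = -16 ∨ c = -8 ∨ c = 0) (v y : ↥leechLattice)
    (hv : sqNorm (v : GolayPt → ℤ) = 32) (hy : y ∈ ClsC v c) :
    orbit ↥(stabilizer ↥Co0 v) y = ClsC v c := by
  ext z
  constructor
  · rintro ⟨g, rfl⟩
    have h1 : (g : ↥Co0).1 v = v := g.2
    exact ⟨(co_norm (g : ↥Co0) y).trans hy.1, (inv_dot (g : ↥Co0) v y h1).trans hy.2⟩
  · intro hz
    obtain ⟨g, hg1, hg2⟩ := stab_trans c hc v y z hv hy.1 hz.1 hy.2 hz.2
    exact ⟨⟨g, hg1⟩, hg2⟩

theorem neg_mem_ClsC (v x : ↥leechLattice) (c : ℤ) (hx : x ∈ ClsC v c) : -x ∈ ClsC v (-c) := by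
  refine ⟨?_, ?_⟩
  · rw [AddSubgroup.coe_neg, sqNorm_neg']
    exact hx.1
  · rw [AddSubgroup.coe_neg, dot_neg_right, hx.2]

theorem ncard_pm_inj (v : ↥leechLattice) (c : ℤ) (hc : c ≠ 0) :
    (pmMk '' ClsC v c).ncard = (ClsC v c).ncard := by
  apply Set.InjOn.ncard_image
  intro x hx x' hx' h
  rcases (pmMk_eq x x').1 h with h | h
  · exact h
  · exfalso
    have h1 := hx.2
    rw [h, AddSubgroup.coe_neg, dot_neg_right, hx'.2] at h1
    omega

theorem ncard_pm_two (v : ↥leechLattice) :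
    (ClsC v 0).ncard = 2 * (pmMk '' ClsC v 0).ncard := by
  classical
  have hfin : (ClsC v 0).Finite := norm32_finite.subset (fun x hx => hx.1)
  have e1 : (ClsC v 0).ncard = hfin.toFinset.card := Set.ncard_eq_toFinset_card _ hfin
  have e2 : (pmMk '' ClsC v 0).ncard = (hfin.toFinset.image pmMk).card := by
    rw [← Set.ncard_coe_finset, Finset.coe_image, Set.Finite.coe_toFinset]
  rw [e1, e2, Finset.card_eq_sum_card_fiberwise (f := pmMk) (t := hfin.toFinset.image pmMk)
    (fun x hx => Finset.mem_image_of_mem _ hx)]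
  have hfib : ∀ b ∈ hfin.toFinset.image pmMk,
      (hfin.toFinset.filter (fun x => pmMk x = b)).card = 2 := by
    intro b hb
    obtain ⟨a, ha, rfl⟩ := Finset.mem_image.1 hb
    have haC : a ∈ ClsC v 0 := (Set.Finite.mem_toFinset hfin).1 ha
    have hne : a ≠ -a := min_ne_neg a haC.1
    have hF : hfin.toFinset.filter (fun x => pmMk x = pmMk a) = {a, -a} := by
      ext x
      rw [Finset.mem_filter, Set.Finite.mem_toFinset, Finset.mem_insert, Finset.mem_singleton,
        pmMk_eq]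
      constructor
      · rintro ⟨-, h | h⟩
        · exact Or.inl h
        · exact Or.inr h
      · rintro (h | h)
        · exact ⟨h ▸ haC, Or.inl h⟩
        · refine ⟨?_, Or.inr h⟩
          rw [h]
          have h2 := neg_mem_ClsC v a 0 haC
          rw [neg_zero] at h2
          exact h2
    rw [hF, Finset.card_pair hne]
  rw [Finset.sum_congr rfl hfib, Finset.sum_const, smul_eq_mul, mul_comm]

theorem orbit_Q (v : ↥leechLattice) (hv : sqNorm (v : GolayPt → ℤ) = 32) :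
    orbit (↥Co0 ⧸ Subgroup.center ↥Co0) (pmMk v) =
      {pmMk v} ∪ (pmMk '' ClsC v (-16) ∪ (pmMk '' ClsC v (-8) ∪ pmMk '' ClsC v 0)) := by
  ext z
  constructor
  · rintro ⟨q, rfl⟩
    obtain ⟨g, rfl⟩ := QuotientGroup.mk_surjective q
    show (QuotientGroup.mk g : ↥Co0 ⧸ Subgroup.center ↥Co0) • pmMk v ∈ _
    rw [mk_smul_pmMk]
    have hx : sqNorm ((g.1 v : ↥leechLattice) : GolayPt → ℤ) = 32 := (co_norm g v).trans hv
    rcases min_dot_cases v (g.1 v) hv hx with h | h | h | h | h | h | h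
    · left
      rw [h]
      rfl
    · left
      rw [h, pmMk_neg]
      rfl
    · right
      left
      exact ⟨_, ⟨hx, h⟩, rfl⟩
    · right
      right
      left
      exact ⟨_, ⟨hx, h⟩, rfl⟩
    · right
      right
      right
      exact ⟨_, ⟨hx, h⟩, rfl⟩
    · right
      right
      left
      exact ⟨-(g.1 v), neg_mem_ClsC v (g.1 v) 8 ⟨hx, h⟩, pmMk_neg _⟩
    · right
      left
      exact ⟨-(g.1 v), neg_mem_ClsC v (g.1 v) 16 ⟨hx, h⟩, pmMk_neg _⟩
  · have key : ∀ x : ↥leechLattice, sqNorm (x : GolayPt → ℤ) = 32 →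
        pmMk x ∈ orbit (↥Co0 ⧸ Subgroup.center ↥Co0) (pmMk v) := by
      intro x hx
      obtain ⟨g, hg⟩ := Cfsg.Agent.S0400.result v x hv hx
      have hg' : g.1 v = x := hg
      exact ⟨QuotientGroup.mk g, by
        show (QuotientGroup.mk g : ↥Co0 ⧸ Subgroup.center ↥Co0) • pmMk v = pmMk x
        rw [mk_smul_pmMk, hg']⟩
    rintro (h | ⟨x, hx, rfl⟩ | ⟨x, hx, rfl⟩ | ⟨x, hx, rfl⟩)
    · rw [Set.mem_singleton_iff.1 h]
      exact mem_orbit_self _
    · exact key x hx.1
    · exact key x hx.1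
    · exact key x hx.1

theorem iUnion_fin3 {X : Type*} (O : X → Set X) (a b c : X) :
    (⋃ i : Fin 3, O (![a, b, c] i)) = O a ∪ O b ∪ O c := by
  ext z
  rw [Set.mem_iUnion]
  constructor
  · rintro ⟨i, hi⟩
    fin_cases i
    · exact Or.inl (Or.inl hi)
    · exact Or.inl (Or.inr hi)
    · exact Or.inr hi
  · rintro ((h | h) | h)
    · exact ⟨0, h⟩
    · exact ⟨1, h⟩
    · exact ⟨2, h⟩

/-- the quotient of `Co0` by its centre is simple, given the simplicity and the order of the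
stabilisers of the minimal vectors -/
theorem Co1_of_Co2
    (hCo2 : ∀ v : ↥leechLattice, sqNorm (v : GolayPt → ℤ) = 32 →
      IsCo2 ↥(stabilizer ↥Co0 v)) :
    IsCo1 (↥Co0 ⧸ Subgroup.center ↥Co0) := by
  have hv := v0S_norm
  have cA : (ClsC v0S (-16)).ncard = 4600 := census_A v0S hv
  have cB : (ClsC v0S (-8)).ncard = 47104 := census_B v0S hv
  have cC : (ClsC v0S 0).ncard = 93150 := census_C v0S hv
  obtain ⟨y₁, hy₁⟩ : (ClsC v0S (-16)).Nonempty :=
    Set.nonempty_of_ncard_ne_zero (by rw [cA]; norm_num)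
  obtain ⟨y₂, hy₂⟩ : (ClsC v0S (-8)).Nonempty :=
    Set.nonempty_of_ncard_ne_zero (by rw [cB]; norm_num)
  obtain ⟨y₃, hy₃⟩ : (ClsC v0S 0).Nonempty :=
    Set.nonempty_of_ncard_ne_zero (by rw [cC]; norm_num)
  have hC := hCo2 v0S hv
  have hs : IsSimpleGroup ↥(stabilizer (↥Co0 ⧸ Subgroup.center ↥Co0) (pmMk v0S)) :=
    haveI := hC.1
    (MulEquiv.ofBijective (stabPmHom v0S) (stabPmHom_bij v0S hv)).symm.isSimpleGroup
  have o1 := orbit_ClsC (-16) (Or.inl rfl) v0S y₁ hv hy₁
  have o2 := orbit_ClsC (-8) (Or.inr (Or.inl rfl)) v0S y₂ hv hy₂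
  have o3 := orbit_ClsC 0 (Or.inr (Or.inr rfl)) v0S y₃ hv hy₃
  have n1 : (orbit ↥(stabilizer (↥Co0 ⧸ Subgroup.center ↥Co0) (pmMk v0S)) (pmMk y₁)).ncard
      = 4600 := by
    rw [orbit_pm, o1, ncard_pm_inj v0S (-16) (by norm_num), cA]
  have n2 : (orbit ↥(stabilizer (↥Co0 ⧸ Subgroup.center ↥Co0) (pmMk v0S)) (pmMk y₂)).ncard
      = 47104 := by
    rw [orbit_pm, o2, ncard_pm_inj v0S (-8) (by norm_num), cB]
  have n3 : (orbit ↥(stabilizer (↥Co0 ⧸ Subgroup.center ↥Co0) (pmMk v0S)) (pmMk y₃)).ncard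
      = 46575 := by
    rw [orbit_pm, o3]
    have h2 := ncard_pm_two v0S
    omega
  have hI := iUnion_fin3
    (fun y => orbit ↥(stabilizer (↥Co0 ⧸ Subgroup.center ↥Co0) (pmMk v0S)) y)
    (pmMk y₁) (pmMk y₂) (pmMk y₃)
  have key := simple_of_suborbits (G := ↥Co0 ⧸ Subgroup.center ↥Co0) (pmMk v0S) hs
    ![pmMk y₁, pmMk y₂, pmMk y₃] ![4600, 47104, 46575]
    (fun i => by fin_cases i; exacts [n1, n2, n3])
    (by
      rw [orbit_Q v0S hv, hI]
      simp only [orbit_pm, o1, o2, o3, Set.union_assoc])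
    (by decide) (by decide) (by norm_num) (by decide) 13 (by norm_num) (by decide) (by decide)
    (by decide)
  refine ⟨key.1, ?_⟩
  rw [key.2, ← Nat.card_congr
    (MulEquiv.ofBijective (stabPmHom v0S) (stabPmHom_bij v0S hv)).toEquiv, hC.2]
  decide

end Cfsg.Agent.Lib.helper93
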