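import Cfsg.Agent.Lib.helper93.CrossCntDefs

/-! Packed counts of the eleven class tests (part 1). -/

set_option autoImplicit false
open Cfsg Cfsg.Agent.Lib.helper9

namespace Cfsg.Agent.Lib.helper93

set_option maxRecDepth 100000 in
set_option maxHeartbeats 0 in
theorem cXK2_4 : cXK2 4 = 9873027343927236252929815393091458039452021847640195957828616192 := by
  decide +kernel

set_option maxRecDepth 100000 in
set_option maxHeartbeats 0 in
theorem cXK2_5 : cXK2 5 = 8638898925936331721313588676314790880461030893465706354211553280 := by
  decide +kernel

set_option maxRecDepth 100000 in
set_option maxHeartbeats 0 in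
theorem cXK2_6 : cXK2 6 = 10284403483257537763468557646195459235761190577785917100192169984 := by
  decide +kernel

set_option maxRecDepth 100000 in
set_option maxHeartbeats 0 in
theorem cXK2_7 : cXK2 7 = 6582018229284824168619876900370747739677004407585014755207675904 := by
  decide +kernel


end Cfsg.Agent.Lib.helper93
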