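import Cfsg.Agent.Lib.helper93.CrossCntDefs

/-! Packed counts of the eleven class tests (part 2). -/

set_option autoImplicit false
open Cfsg Cfsg.Agent.Lib.helper9

namespace Cfsg.Agent.Lib.helper93

set_option maxRecDepth 100000 in
set_option maxHeartbeats 0 in
theorem cXK3_0 : cXK3 0 = 2057796267827488779525624699607734491486764987842560 := by
  decide +kernel

set_option maxRecDepth 100000 in
set_option maxHeartbeats 0 in
theorem cXK3_1 : cXK3 1 = 2057796267827488779525624699607734491486764987842560 := by
  decide +kernel

set_option maxRecDepth 100000 in
set_option maxHeartbeats 0 in
theorem cXK3_2 : cXK3 2 = 2057796267827488779525624699607734491486764987842560 := by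
  decide +kernel

set_option maxRecDepth 100000 in
set_option maxHeartbeats 0 in
theorem cXK3_3 : cXK3 3 = 2057796267827488779525624699607734491486764987842560 := by
  decide +kernel

set_option maxRecDepth 100000 in
set_option maxHeartbeats 0 in
theorem cXK3_4 : cXK3 4 = 2057796267827488779525624699607734491486764987842560 := by
  decide +kernel

set_option maxRecDepth 100000 in
set_option maxHeartbeats 0 in
theorem cXK3_5 : cXK3 5 = 2057796267827488779525624699607734491486764987842560 := by
  decide +kernel

set_option maxRecDepth 100000 in
set_option maxHeartbeats 0 in
theorem cXK3_6 : cXK3 6 = 2057796267827488779525624699607734491486764987842560 := by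
  decide +kernel

set_option maxRecDepth 100000 in
set_option maxHeartbeats 0 in
theorem cXK3_7 : cXK3 7 = 2057796267827488779525624699607734491486764987842560 := by
  decide +kernel


end Cfsg.Agent.Lib.helper93
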