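import Cfsg.Agent.Lib.helper93.CrossCntDefs

/-! Packed counts of the eleven class tests (part 3). -/

set_option autoImplicit false
open Cfsg Cfsg.Agent.Lib.helper9

namespace Cfsg.Agent.Lib.helper93

set_option maxRecDepth 100000 in
set_option maxHeartbeats 0 in
theorem cXK3_8 : cXK3 8 = 2057796267827488779525624699607734491486764987842560 := by
  decide +kernel

set_option maxRecDepth 100000 in
set_option maxHeartbeats 0 in
theorem cXK3_9 : cXK3 9 = 2057796267827488779525624699607734491486764987842560 := by
  decide +kernel

set_option maxRecDepth 100000 in
set_option maxHeartbeats 0 in
theorem cXK3_10 : cXK3 10 = 2057796267827488779525624699607734491486764987842560 := by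
  decide +kernel

set_option maxRecDepth 100000 in
set_option maxHeartbeats 0 in
theorem cXK3_11 : cXK3 11 = 2057796267827488779525624699607734491486764987842560 := by
  decide +kernel

set_option maxRecDepth 100000 in
set_option maxHeartbeats 0 in
theorem cXK3_12 : cXK3 12 = 2057796267827488779525624699607734491486764987842560 := by
  decide +kernel

set_option maxRecDepth 100000 in
set_option maxHeartbeats 0 in
theorem cXK3_13 : cXK3 13 = 2057796267827488779525624699607734491486764987842560 := by
  decide +kernel

set_option maxRecDepth 100000 in
set_option maxHeartbeats 0 in
theorem cXK3_14 : cXK3 14 = 2057796267827488779525624699607734491486764987842560 := by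
  decide +kernel

set_option maxRecDepth 100000 in
set_option maxHeartbeats 0 in
theorem cXK3_15 : cXK3 15 = 2057796267827488779525624699607734491486764987842560 := by
  decide +kernel


end Cfsg.Agent.Lib.helper93
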