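import Cfsg.Agent.Lib.helper93.LeechCntDefs

/-! Packed counts of the four tests (part 1). -/

set_option autoImplicit false
open Cfsg Cfsg.Agent.Lib.helper9

namespace Cfsg.Agent.Lib.helper93

set_option maxRecDepth 100000 in
set_option maxHeartbeats 0 in
theorem cK2_4 : cK2 4 = 9230620020524974304 := by
  decide +kernel

set_option maxRecDepth 100000 in
set_option maxHeartbeats 0 in
theorem cK2_5 : cK2 5 = 46123545218124874080 := by
  decide +kernel

set_option maxRecDepth 100000 in
set_option maxHeartbeats 0 in
theorem cK2_6 : cK2 6 = 9230831126690398400 := by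
  decide +kernel

set_option maxRecDepth 100000 in
set_option maxHeartbeats 0 in
theorem cK2_7 : cK2 7 = 9228157113002360960 := by
  decide +kernel


end Cfsg.Agent.Lib.helper93
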