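import Cfsg.Agent.Lib.helper93.LeechCntDefs

/-! Packed counts of the four tests (part 2). -/

set_option autoImplicit false
open Cfsg Cfsg.Agent.Lib.helper9

namespace Cfsg.Agent.Lib.helper93

set_option maxRecDepth 100000 in
set_option maxHeartbeats 0 in
theorem cK3_0 : cK3 0 = 18449840300063981696 := by
  decide +kernel

set_option maxRecDepth 100000 in
set_option maxHeartbeats 0 in
theorem cK3_1 : cK3 1 = 18449840300063981696 := by
  decide +kernel

set_option maxRecDepth 100000 in
set_option maxHeartbeats 0 in
theorem cK3_2 : cK3 2 = 18449840300063981696 := by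
  decide +kernel

set_option maxRecDepth 100000 in
set_option maxHeartbeats 0 in
theorem cK3_3 : cK3 3 = 18449840300063981696 := by
  decide +kernel

set_option maxRecDepth 100000 in
set_option maxHeartbeats 0 in
theorem cK3_4 : cK3 4 = 18449840300063981696 := by
  decide +kernel

set_option maxRecDepth 100000 in
set_option maxHeartbeats 0 in
theorem cK3_5 : cK3 5 = 18449840300063981696 := by
  decide +kernel

set_option maxRecDepth 100000 in
set_option maxHeartbeats 0 in
theorem cK3_6 : cK3 6 = 18449840300063981696 := by
  decide +kernel

set_option maxRecDepth 100000 in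
set_option maxHeartbeats 0 in
theorem cK3_7 : cK3 7 = 18449840300063981696 := by
  decide +kernel


end Cfsg.Agent.Lib.helper93
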