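import Cfsg.Agent.Lib.helper93.LeechCntDefs

/-! Packed counts of the four tests (part 3). -/

set_option autoImplicit false
open Cfsg Cfsg.Agent.Lib.helper9

namespace Cfsg.Agent.Lib.helper93

set_option maxRecDepth 100000 in
set_option maxHeartbeats 0 in
theorem cK3_8 : cK3 8 = 18449840300063981696 := by
  decide +kernel

set_option maxRecDepth 100000 in
set_option maxHeartbeats 0 in
theorem cK3_9 : cK3 9 = 18449840300063981696 := by
  decide +kernel

set_option maxRecDepth 100000 in
set_option maxHeartbeats 0 in
theorem cK3_10 : cK3 10 = 18449840300063981696 := by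
  decide +kernel

set_option maxRecDepth 100000 in
set_option maxHeartbeats 0 in
theorem cK3_11 : cK3 11 = 18449840300063981696 := by
  decide +kernel

set_option maxRecDepth 100000 in
set_option maxHeartbeats 0 in
theorem cK3_12 : cK3 12 = 18449840300063981696 := by
  decide +kernel

set_option maxRecDepth 100000 in
set_option maxHeartbeats 0 in
theorem cK3_13 : cK3 13 = 18449840300063981696 := by
  decide +kernel

set_option maxRecDepth 100000 in
set_option maxHeartbeats 0 in
theorem cK3_14 : cK3 14 = 18449840300063981696 := by
  decide +kernel

set_option maxRecDepth 100000 in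
set_option maxHeartbeats 0 in
theorem cK3_15 : cK3 15 = 18449840300063981696 := by
  decide +kernel


end Cfsg.Agent.Lib.helper93
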