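import Cfsg.Agent.Lib.helper93.LeechCntC0
import Cfsg.Agent.Lib.helper93.LeechCntC1
import Cfsg.Agent.Lib.helper93.LeechCntC2
import Cfsg.Agent.Lib.helper93.LeechCntC3
import Cfsg.Agent.Lib.helper93.Co0Pairs

/-!
Census of the minimal vectors of `Cfsg.leechLattice` by their inner product with a fixed minimal
vector (4600, 47104 and 93150 vectors with inner product `-16`, `-8` and `0`), and the 552 minimal
vectors at minimal distance of a vector of norm 48.
-/

set_option autoImplicit false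
open Cfsg Cfsg.Agent.Lib.helper9

namespace Cfsg.Agent.Lib.helper93

theorem sumR8 (f : ℕ → ℕ) : ∑ j ∈ Finset.range 8, f j =
    f 0 + f 1 + f 2 + f 3 + f 4 + f 5 + f 6 + f 7 := by
  simp only [Finset.sum_range_succ, Finset.sum_range_zero, zero_add]

theorem sumR16 (f : ℕ → ℕ) : ∑ j ∈ Finset.range 16, f j =
    f 0 + f 1 + f 2 + f 3 + f 4 + f 5 + f 6 + f 7 + f 8 + f 9 + f 10 + f 11 + f 12 + f 13 + f 14 +
      f 15 := by
  simp only [Finset.sum_range_succ, Finset.sum_range_zero, zero_add]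

theorem cnts_total : cntsL qsS EL = 636515090100498993656 := by
  rw [cntsL_EL', sumR8 cK2, sumR16 cK3, cK1_eq, cK2_0, cK2_1, cK2_2, cK2_3, cK2_4, cK2_5, cK2_6,
    cK2_7, cK3_0, cK3_1, cK3_2, cK3_3, cK3_4, cK3_5, cK3_6, cK3_7, cK3_8, cK3_9, cK3_10, cK3_11,
    cK3_12, cK3_13, cK3_14, cK3_15]

theorem cntsL_cons_q (q : ℕ → Bool) (qs : List (ℕ → Bool)) (l : List ℕ) :
    cntsL (q :: qs) l = l.countP q + 2 ^ 20 * cntsL qs l := rfl

theorem cntsL_nil_q (l : List ℕ) : cntsL [] l = 0 := rfl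

theorem qsS_eq : qsS = [qA, qB, qC, qD] := rfl

theorem extract4 (a b c d : ℕ) (ha : a ≤ 196560) (hb : b ≤ 196560) (hc : c ≤ 196560)
    (h : a + 2 ^ 20 * (b + 2 ^ 20 * (c + 2 ^ 20 * (d + 2 ^ 20 * 0))) = 636515090100498993656) :
    a = 4600 ∧ b = 47104 ∧ c = 93150 ∧ d = 552 := by
  omega

/-- the four counts -/
theorem counts4 : EL.countP qA = 4600 ∧ EL.countP qB = 47104 ∧ EL.countP qC = 93150 ∧
    EL.countP qD = 552 := by
  have h := cnts_total
  rw [qsS_eq, cntsL_cons_q, cntsL_cons_q, cntsL_cons_q, cntsL_cons_q, cntsL_nil_q] at h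
  have hl : ∀ q : ℕ → Bool, EL.countP q ≤ 196560 := fun q =>
    le_of_le_of_eq List.countP_le_length EL_length
  exact extract4 _ _ _ _ (hl qA) (hl qB) (hl qC) h

/-! ### the census for the vector `4 e_4 - 4 e_7` -/

theorem nbeq_iff (a b : ℕ) : Nat.beq a b = true ↔ a = b :=
  ⟨Nat.eq_of_beq_eq_true, fun h => by rw [h]; exact Nat.beq_refl b⟩

theorem qA_iff (x : GolayPt → ℤ) (hn : sqNorm x = 32) :
    dotInt (v0S : GolayPt → ℤ) x = -16 ↔ qA (packV x) = true := by
  have hb : ∀ p, -8 ≤ x p ∧ x p ≤ 8 := coord_bound64 x (by rw [hn]; norm_num)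
  rw [dot_dig x hn]
  unfold qA
  rw [nbeq_iff, Nat.add_eq]
  omega

theorem qB_iff (x : GolayPt → ℤ) (hn : sqNorm x = 32) :
    dotInt (v0S : GolayPt → ℤ) x = -8 ↔ qB (packV x) = true := by
  rw [dot_dig x hn]
  unfold qB
  rw [nbeq_iff, Nat.add_eq]
  omega

theorem qC_iff (x : GolayPt → ℤ) (hn : sqNorm x = 32) :
    dotInt (v0S : GolayPt → ℤ) x = 0 ↔ qC (packV x) = true := by
  rw [dot_dig x hn]
  unfold qC
  rw [nbeq_iff]
  omega

/-- the census for `v0S`, on vectors -/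
theorem census_v0S (c : ℤ) (q : ℕ → Bool) (N : ℕ) (hN : EL.countP q = N)
    (hq : ∀ x : GolayPt → ℤ, sqNorm x = 32 →
      (dotInt (v0S : GolayPt → ℤ) x = c ↔ q (packV x) = true)) :
    {x : GolayPt → ℤ | x ∈ leechLattice ∧ sqNorm x = 32 ∧
      dotInt (v0S : GolayPt → ℤ) x = c}.ncard = N := by
  rw [ncard_min_filter (fun x => dotInt (v0S : GolayPt → ℤ) x = c) q (fun x _ hn => hq x hn), hN]

/-- the census for any minimal vector, on elements of the lattice -/
theorem census (c : ℤ) (q : ℕ → Bool) (N : ℕ) (hN : EL.countP q = N)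
    (hq : ∀ x : GolayPt → ℤ, sqNorm x = 32 →
      (dotInt (v0S : GolayPt → ℤ) x = c ↔ q (packV x) = true))
    (v : ↥leechLattice) (hv : sqNorm (v : GolayPt → ℤ) = 32) :
    {w : ↥leechLattice | sqNorm (w : GolayPt → ℤ) = 32 ∧
      dotInt (v : GolayPt → ℤ) (w : GolayPt → ℤ) = c}.ncard = N := by
  obtain ⟨h, hh⟩ := Cfsg.Agent.S0400.result v v0S hv v0S_norm
  have hh' : h.1 v = v0S := hh
  rw [← census_v0S c q N hN hq,
    ← ncard_subtype (fun x => sqNorm x = 32 ∧ dotInt (v0S : GolayPt → ℤ) x = c),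
    ← Set.ncard_image_of_injective _ h.1.injective]
  congr 1
  ext w
  constructor
  · rintro ⟨w', ⟨hn, hd⟩, rfl⟩
    refine ⟨by rw [h.2.2]; exact hn, ?_⟩
    rw [← hh', dotInt_map h.1 h.2]
    exact hd
  · rintro ⟨hn, hd⟩
    refine ⟨h.1.symm w, ⟨?_, ?_⟩, h.1.apply_symm_apply w⟩
    · rw [← h.2.2, h.1.apply_symm_apply]
      exact hn
    · rw [← dotInt_map h.1 h.2, hh', h.1.apply_symm_apply]
      exact hd

theorem census_A (v : ↥leechLattice) (hv : sqNorm (v : GolayPt → ℤ) = 32) :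
    {w : ↥leechLattice | sqNorm (w : GolayPt → ℤ) = 32 ∧
      dotInt (v : GolayPt → ℤ) (w : GolayPt → ℤ) = -16}.ncard = 4600 :=
  census (-16) qA 4600 counts4.1 qA_iff v hv

theorem census_B (v : ↥leechLattice) (hv : sqNorm (v : GolayPt → ℤ) = 32) :
    {w : ↥leechLattice | sqNorm (w : GolayPt → ℤ) = 32 ∧
      dotInt (v : GolayPt → ℤ) (w : GolayPt → ℤ) = -8}.ncard = 47104 :=
  census (-8) qB 47104 counts4.2.1 qB_iff v hv

theorem census_C (v : ↥leechLattice) (hv : sqNorm (v : GolayPt → ℤ) = 32) :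
    {w : ↥leechLattice | sqNorm (w : GolayPt → ℤ) = 32 ∧
      dotInt (v : GolayPt → ℤ) (w : GolayPt → ℤ) = 0}.ncard = 93150 :=
  census 0 qC 93150 counts4.2.2.1 qC_iff v hv

/-! ### a vector of norm 48 -/

/-- the packed vector `2 e_4 - 4 e_7 - 2 (e_1 + e_2 + e_3 + e_5 + e_8 + e_11 + e_13)` -/
def nU : ℕ := 343026579557397570761301080475375816

theorem nU_mem : memP nU = true := by decide +kernel

/-- a vector of norm 48 of the lattice -/
def u0S : ↥leechLattice := ⟨vecP nU, vecP_mem nU nU_mem⟩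

theorem u0S_val : (u0S : GolayPt → ℤ) = vecP nU := rfl

theorem u0S_norm : sqNorm (u0S : GolayPt → ℤ) = 48 := by
  rw [u0S_val, vecP_eq_vecL]
  have h := sqNorm_vecL ((List.range 24).map (getN nU)) (by decide) 48 (by decide +kernel)
  exact_mod_cast h

theorem nU_dig : ∀ i < 24, getN nU i =
    cond (Nat.beq i 4) 10 (cond (Nat.beq i 7) 4 (cond (Nat.beq i 1) 6 (cond (Nat.beq i 2) 6
      (cond (Nat.beq i 3) 6 (cond (Nat.beq i 5) 6 (cond (Nat.beq i 8) 6 (cond (Nat.beq i 11) 6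
        (cond (Nat.beq i 13) 6 8)))))))) := by
  decide +kernel

theorem nU_pt (i : ℕ) (hi : i < 24) :
    vecP nU (pt i) = if i = 4 then 2 else if i = 7 then -4 else if i = 1 then -2 else
      if i = 2 then -2 else if i = 3 then -2 else if i = 5 then -2 else if i = 8 then -2 else
      if i = 11 then -2 else if i = 13 then -2 else 0 := by
  rw [vecP_pt nU i hi, nU_dig i hi, cond_beq, cond_beq, cond_beq, cond_beq, cond_beq, cond_beq,
    cond_beq, cond_beq, cond_beq]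
  split_ifs <;> norm_num

/-- the inner product with `u0S` -/
theorem dot_u0S (w : GolayPt → ℤ) :
    dotInt (u0S : GolayPt → ℤ) w = 2 * w (pt 4) - 4 * w (pt 7) -
      2 * (w (pt 1) + w (pt 2) + w (pt 3) + w (pt 5) + w (pt 8) + w (pt 11) + w (pt 13)) := by
  rw [u0S_val]
  unfold dotInt
  rw [sum_vecP_eq (fun p => vecP nU p * w p),
    Finset.sum_congr rfl (fun i hi => by rw [nU_pt i (Finset.mem_range.1 hi)])]
  simp [Finset.sum_range_succ]
  ring

theorem sqNorm_sub_eq (a b : GolayPt → ℤ) :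
    sqNorm (a - b) = sqNorm a + sqNorm b - 2 * dotInt a b := by
  unfold dotInt sqNorm
  rw [Finset.mul_sum, ← Finset.sum_add_distrib, ← Finset.sum_sub_distrib]
  refine Finset.sum_congr rfl fun i _ => ?_
  simp only [Pi.sub_apply]
  ring

theorem dig_packV (x : GolayPt → ℤ) (hb : ∀ p, -8 ≤ x p ∧ x p ≤ 8) (i : ℕ) (hi : i < 24) :
    x (pt i) = (getN (packV x) i : ℤ) - 8 := by
  rw [getN_packV x hb i hi]
  have := hb (pt i)
  omega

theorem qD_eq (n : ℕ) : qD n = true ↔ getN n 4 + 52 =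
    2 * getN n 7 + (getN n 1 + (getN n 2 + (getN n 3 + (getN n 5 + (getN n 8 + (getN n 11 +
      getN n 13)))))) :=
  nbeq_iff _ _

theorem qD_iff (x : GolayPt → ℤ) (hn : sqNorm x = 32) :
    sqNorm ((u0S : GolayPt → ℤ) - x) = 32 ↔ qD (packV x) = true := by
  have hb : ∀ p, -8 ≤ x p ∧ x p ≤ 8 := coord_bound64 x (by rw [hn]; norm_num)
  rw [sqNorm_sub_eq, u0S_norm, hn, dot_u0S, qD_eq, dig_packV x hb 4 (by norm_num),
    dig_packV x hb 7 (by norm_num), dig_packV x hb 1 (by norm_num),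
    dig_packV x hb 2 (by norm_num), dig_packV x hb 3 (by norm_num),
    dig_packV x hb 5 (by norm_num), dig_packV x hb 8 (by norm_num),
    dig_packV x hb 11 (by norm_num), dig_packV x hb 13 (by norm_num)]
  omega

/-- the minimal vectors at minimal distance of a vector of norm 48 -/
def nbr (u : ↥leechLattice) : Set ↥leechLattice :=
  {v : ↥leechLattice | sqNorm (v : GolayPt → ℤ) = 32 ∧
    sqNorm ((u : GolayPt → ℤ) - (v : GolayPt → ℤ)) = 32}

theorem nbr_u0S : (nbr u0S).ncard = 552 := by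
  unfold nbr
  rw [ncard_subtype (fun x => sqNorm x = 32 ∧ sqNorm ((u0S : GolayPt → ℤ) - x) = 32),
    ncard_min_filter (fun x => sqNorm ((u0S : GolayPt → ℤ) - x) = 32) qD
      (fun x _ hn => qD_iff x hn), counts4.2.2.2]

theorem co_map_sub (g : ↥Co0) (a b : ↥leechLattice) : g.1 (a - b) = g.1 a - g.1 b := by
  have h := g.2.1 (a - b) b
  rw [sub_add_cancel] at h
  rw [h, add_sub_cancel_right]

/-- the image of the set of neighbours -/
theorem nbr_map (g : ↥Co0) (u : ↥leechLattice) : nbr (g.1 u) = g.1 '' nbr u := by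
  ext w
  constructor
  · rintro ⟨hn, hd⟩
    refine ⟨g.1.symm w, ⟨?_, ?_⟩, g.1.apply_symm_apply w⟩
    · rw [← g.2.2, g.1.apply_symm_apply]
      exact hn
    · rw [← AddSubgroup.coe_sub, ← g.2.2, co_map_sub, g.1.apply_symm_apply, AddSubgroup.coe_sub]
      exact hd
  · rintro ⟨w', ⟨hn, hd⟩, rfl⟩
    refine ⟨by rw [g.2.2]; exact hn, ?_⟩
    rw [← AddSubgroup.coe_sub, ← co_map_sub, g.2.2, AddSubgroup.coe_sub]
    exact hd

theorem nbr_ncard_map (g : ↥Co0) (u : ↥leechLattice) : (nbr (g.1 u)).ncard = (nbr u).ncard := by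
  rw [nbr_map, Set.ncard_image_of_injective _ g.1.injective]

end Cfsg.Agent.Lib.helper93
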