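import Cfsg.Agent.Lib.helper93.CrossCntC0
import Cfsg.Agent.Lib.helper93.CrossCntC1
import Cfsg.Agent.Lib.helper93.CrossCntC2
import Cfsg.Agent.Lib.helper93.CrossCntC3
import Cfsg.Agent.Lib.helper93.LeechCnt

/-!
Census of the classes of the minimal vectors of `Cfsg.leechLattice` under the signed coordinate
permutations (1104, 97152 and 98304 vectors), and of the minimal vectors orthogonal to
`4 e_4 - 4 e_7` under the signed coordinate permutations fixing the coordinates `4` and `7`
(1, 1, 2464, 2464, 22528, 22528, 924 and 42240 vectors).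
-/

set_option autoImplicit false
open Cfsg Cfsg.Agent.Lib.helper9

namespace Cfsg.Agent.Lib.helper93

theorem cntsX_total : cntsL qsX EL =
    67877064405558553739259026999296676517730145992162327143703905360 := by
  rw [cntsXL_EL, sumR8 cXK2, sumR16 cXK3, cXK1_eq, cXK2_0, cXK2_1, cXK2_2, cXK2_3, cXK2_4, cXK2_5,
    cXK2_6, cXK2_7, cXK3_0, cXK3_1, cXK3_2, cXK3_3, cXK3_4, cXK3_5, cXK3_6, cXK3_7, cXK3_8, cXK3_9,
    cXK3_10, cXK3_11, cXK3_12, cXK3_13, cXK3_14, cXK3_15]

/-- the count of the test number `i` is a digit of the packed counts -/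
theorem cntsL_digit (l : List ℕ) (hl : l.length < 2 ^ 20) :
    ∀ (qs : List (ℕ → Bool)) (i : ℕ), i < qs.length →
      l.countP (qs.getD i (fun _ => false)) = cntsL qs l / 2 ^ (20 * i) % 2 ^ 20
  | [], i, hi => absurd hi (Nat.not_lt_zero i)
  | q :: qs, 0, _ => by
    have h : l.countP q < 2 ^ 20 := lt_of_le_of_lt List.countP_le_length hl
    rw [cntsL_cons_q, List.getD_cons_zero, Nat.mul_zero, pow_zero, Nat.div_one,
      Nat.add_mul_mod_self_left, Nat.mod_eq_of_lt h]
  | q :: qs, i + 1, hi => by
    have h : l.countP q < 2 ^ 20 := lt_of_le_of_lt List.countP_le_length hl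
    rw [cntsL_cons_q, List.getD_cons_succ,
      cntsL_digit l hl qs i (Nat.lt_of_succ_lt_succ hi),
      show 20 * (i + 1) = 20 + 20 * i by ring, pow_add, ← Nat.div_div_eq_div_mul,
      Nat.add_mul_div_left _ _ (by norm_num), Nat.div_eq_of_lt h, zero_add]

/-- the sizes of the eleven classes -/
def cntXL : List ℕ := [1104, 97152, 98304, 1, 1, 2464, 2464, 22528, 22528, 924, 42240]

theorem cntX (i : ℕ) (hi : i < 11) :
    EL.countP (qsX.getD i (fun _ => false)) = cntXL.getD i 0 := by
  rw [cntsL_digit EL (by rw [EL_length]; norm_num) qsX i hi, cntsX_total]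
  interval_cases i <;> rfl

theorem cntX1 (i : ℕ) (hi : i < 3) : EL.countP (cxT1 i) = cntXL.getD i 0 := by
  have h := cntX i (by omega)
  interval_cases i <;> exact h

theorem cntX2 (i : ℕ) (hi : i < 8) : EL.countP (cxT2 i) = cntXL.getD (3 + i) 0 := by
  have h := cntX (3 + i) (by omega)
  interval_cases i <;> exact h

end Cfsg.Agent.Lib.helper93
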