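import Cfsg.Agent.Lib.helper93.CrossCntDefs

/-! Packed counts of the eleven class tests (part 0). -/

set_option autoImplicit false
open Cfsg Cfsg.Agent.Lib.helper9

namespace Cfsg.Agent.Lib.helper93

set_option maxRecDepth 100000 in
set_option maxHeartbeats 0 in
theorem cXK1_eq : (gen1.map (kapL qsX)).sum = 1416025879760081305123112653086886894590687485031429964880 := by
  decide +kernel

set_option maxRecDepth 100000 in
set_option maxHeartbeats 0 in
theorem cXK2_0 : cXK2 0 = 6787706298949974923889248558614453712038029225941298125312360448 := by
  decide +kernel

set_option maxRecDepth 100000 in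
set_option maxHeartbeats 0 in
theorem cXK2_1 : cXK2 1 = 8021834716940879455505475232855784441092504943853113905455824896 := by
  decide +kernel

set_option maxRecDepth 100000 in
set_option maxHeartbeats 0 in
theorem cXK2_2 : cXK2 2 = 8844586995601482476582959824134459693583872876669903837130129408 := by
  decide +kernel

set_option maxRecDepth 100000 in
set_option maxHeartbeats 0 in
theorem cXK2_3 : cXK2 3 = 8844586995601482476582959824134459693583872876669903837130129408 := by
  decide +kernel


end Cfsg.Agent.Lib.helper93
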