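import Cfsg.Agent.Lib.helper93.LeechDesc

/-!
Packed actions of signed coordinate permutations: soundness for every subgroup of `Cfsg.Co0` that
contains the coordinate permutations of the code automorphisms and the sign changes on code words;
and the class tests on packed vectors used for the stabiliser of the standard cross.
-/

set_option autoImplicit false
open Cfsg Cfsg.Agent.Lib.helper9 Cfsg.Agent.Lib.helper33

namespace Cfsg.Agent.Lib.helper93

/-- `a` computes the action of a signed coordinate permutation: it is sound for every subgroup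
containing the coordinate permutations and the sign changes -/
def SndM (a : ℕ → ℕ) : Prop :=
  ∀ K : Subgroup ↥Co0, (∀ (τ : Equiv.Perm GolayPt) (hτ : τ ∈ M24), permCo τ hτ ∈ K) →
    (∀ (s : Finset GolayPt) (hs : s ∈ supports (golayCode : Set (GolayPt → ZMod 2))),
      signCo s hs ∈ K) → Snd K a

theorem sndM_perm (inv tbl : List ℕ) (hv : validTbl inv tbl = true) (hc : chkTbl inv = true) :
    SndM (permP (packT inv)) := by
  intro K hK _
  obtain ⟨τ, hτ, hlen, htab⟩ := exists_mem_of_tbl inv tbl hv hc
  have hlt : ∀ j < 24, inv.getD j 0 < 32 := by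
    intro j hj
    simp only [validTbl, Bool.and_eq_true, List.all_eq_true, List.mem_range] at hv
    have := (hv.2 j hj).1
    have h24 : inv.getD j 0 < 24 := by simpa [Nat.blt_eq] using this
    omega
  refine ⟨permCo τ⁻¹ (inv_mem hτ), hK _ _, fun v n hvn _ => ?_⟩
  rw [permCo_apply]
  funext p
  have e : permZ τ⁻¹ (v : GolayPt → ℤ) p = (v : GolayPt → ℤ) (τ p) := rfl
  rw [e, hvn, vecP_apply, vecP_apply, htab]
  unfold permP
  rw [getN_compN _ _ _ (idx_lt p)]
  unfold packT
  rw [getN_digSum' _ 24 _ hlt (idx_lt p)]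

theorem sndM_sign (c : ℕ) (hc : syn c = true) : SndM (signP c) := by
  intro K _ hK
  have hs : decSet c ∈ supports (golayCode : Set (GolayPt → ZMod 2)) :=
    ⟨dec c, (dec_mem_golayCode_iff c).2 hc, support₂_dec c⟩
  refine ⟨signCo (decSet c) hs, hK _ _, fun v n hvn h64 => ?_⟩
  rw [signCo_apply]
  funext p
  have hb := coord_bound64 _ h64 p
  rw [hvn, vecP_apply] at hb
  rw [signZ_apply, hvn, vecP_apply, vecP_apply]
  unfold signP
  rw [getN_digSum' _ 24 _ (fun j _ => by
    have := getN_lt n j
    rw [cond_beq]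
    split_ifs
    · show 16 - getN n j < 32
      omega
    · exact this) (idx_lt p), cond_beq, bitN_eq]
  by_cases hbit : c.testBit (idx p) = true
  · rw [if_pos (mem_decSet.2 hbit), hbit]
    show -((getN n (idx p) : ℤ) - 8) = ((16 - getN n (idx p) : ℕ) : ℤ) - 8
    omega
  · rw [if_neg (fun h => hbit (mem_decSet.1 h))]
    rw [Bool.not_eq_true] at hbit
    rw [hbit]
    rfl

theorem sndM_comp (a b : ℕ → ℕ) (ha : SndM a) (hb : SndM b) : SndM (fun n => b (a n)) :=
  fun K h1 h2 => snd_comp K a b (ha K h1 h2) (hb K h1 h2)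

theorem sndM_top (a : ℕ → ℕ) (ha : SndM a) : Snd ⊤ a :=
  ha ⊤ (fun _ _ => Subgroup.mem_top _) (fun _ _ => Subgroup.mem_top _)

/-! ### the class tests -/

/-- some digit among the first `k` is `10` or `6`: some coordinate is `2` or `-2` -/
def cxQB (n : ℕ) : ℕ → Bool
  | 0 => false
  | k + 1 => Nat.beq (getN n k) 10 || (Nat.beq (getN n k) 6 || cxQB n k)

/-- the class of a packed minimal vector under the signed permutations: `2` if the coordinates
are odd, `1` if some coordinate is `±2`, `0` otherwise -/
def cxCl1 (n : ℕ) : ℕ :=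
  cond (Nat.beq (Nat.mod (getN n 0) 2) 1) 2 (cond (cxQB n 24) 1 0)

/-- the class of a packed minimal vector under the signed permutations fixing the coordinates
`4` and `7`: by the coordinate `4`, and for `0` by the shape -/
def cxCl2 (n : ℕ) : ℕ :=
  cond (Nat.beq (getN n 4) 12) 0 (cond (Nat.beq (getN n 4) 4) 1 (cond (Nat.beq (getN n 4) 10) 2
    (cond (Nat.beq (getN n 4) 6) 3 (cond (Nat.beq (getN n 4) 9) 4 (cond (Nat.beq (getN n 4) 7) 5
      (cond (cxQB n 24) 7 6))))))

/-- the test of the class `i` of the first kind -/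
def cxT1 (i n : ℕ) : Bool := Nat.beq (cxCl1 n) i

/-- the test of the class `i` of the second kind, among the vectors with equal coordinates `4`
and `7` -/
def cxT2 (i n : ℕ) : Bool := Nat.beq (getN n 4) (getN n 7) && Nat.beq (cxCl2 n) i

end Cfsg.Agent.Lib.helper93
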