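import Cfsg.Agent.Lib.helper93.LeechEnum
import Cfsg.Agent.Lib.helper93.CrossSnd

/-!
The eleven class tests on the packed vectors of norm 32, for the census of the classes.
-/

set_option autoImplicit false
open Cfsg Cfsg.Agent.Lib.helper9

namespace Cfsg.Agent.Lib.helper93

/-- the eleven tests -/
def qsX : List (ℕ → Bool) :=
  [cxT1 0, cxT1 1, cxT1 2, cxT2 0, cxT2 1, cxT2 2, cxT2 3, cxT2 4, cxT2 5, cxT2 6, cxT2 7]

/-- the packed counts on a chunk of octads -/
def cXK2 (j : ℕ) : ℕ := cntK qsX gen2 (((wtList 8).drop (j * 100)).take 100)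

/-- the packed counts on a chunk of codewords -/
def cXK3 (j : ℕ) : ℕ := cntK qsX gen3 ((cwList.drop (j * 256)).take 256)

theorem cntsXL_EL : cntsL qsX EL = (gen1.map (kapL qsX)).sum +
    (∑ j ∈ Finset.range 8, cXK2 j + ∑ j ∈ Finset.range 16, cXK3 j) := by
  have h2 : ∀ j, cntK qsX gen2 (((wtList 8).drop (j * 100)).take 100) = cXK2 j := fun j => rfl
  have h3 : ∀ j, cntK qsX gen3 ((cwList.drop (j * 256)).take 256) = cXK3 j := fun j => rfl
  rw [cntsL_EL qsX]
  simp only [h2, h3]


end Cfsg.Agent.Lib.helper93
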