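import Cfsg.Agent.Lib.helper93.CrossGC0
import Cfsg.Agent.Lib.helper93.CrossGC1
import Cfsg.Agent.Lib.helper93.CrossGC2
import Cfsg.Agent.Lib.helper93.CrossGC3
import Cfsg.Agent.Lib.helper93.CrossGC4

/-! Table of descending words of signed permutations fixing the coordinates 4 and 7: every minimal vector passes the test. -/

set_option autoImplicit false
open Cfsg Cfsg.Agent.Lib.helper9 Cfsg.Agent.Lib.helper33

namespace Cfsg.Agent.Lib.helper93

theorem tXG_all (x : GolayPt → ℤ) (hx : x ∈ leechLattice) (hn : sqNorm x = 32) :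
    ∃ w, fXG (packV x) w = true := by
  rcases cover x hx hn with h | ⟨c, hc, h⟩ | ⟨c, hc, h⟩
  · obtain ⟨j, hj⟩ := allI_spec _ _ _ tXGc1 _ h
    exact ⟨_, hj⟩
  · obtain ⟨j, hj, hcj⟩ := mem_chunk (wtList 8) 100 (by norm_num) c hc
    rw [wtList_8_length] at hj
    have hj8 : j < 8 := by omega
    interval_cases j
    · exact chkC_spec _ _ _ _ tXGc2_0 c hcj _ h
    · exact chkC_spec _ _ _ _ tXGc2_1 c hcj _ h
    · exact chkC_spec _ _ _ _ tXGc2_2 c hcj _ h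
    · exact chkC_spec _ _ _ _ tXGc2_3 c hcj _ h
    · exact chkC_spec _ _ _ _ tXGc2_4 c hcj _ h
    · exact chkC_spec _ _ _ _ tXGc2_5 c hcj _ h
    · exact chkC_spec _ _ _ _ tXGc2_6 c hcj _ h
    · exact chkC_spec _ _ _ _ tXGc2_7 c hcj _ h
  · obtain ⟨j, hj, hcj⟩ := mem_chunk cwList 256 (by norm_num) c hc
    rw [cwList_length] at hj
    have hj16 : j < 16 := by omega
    interval_cases j
    · exact chkC_spec _ _ _ _ tXGc3_0 c hcj _ h
    · exact chkC_spec _ _ _ _ tXGc3_1 c hcj _ h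
    · exact chkC_spec _ _ _ _ tXGc3_2 c hcj _ h
    · exact chkC_spec _ _ _ _ tXGc3_3 c hcj _ h
    · exact chkC_spec _ _ _ _ tXGc3_4 c hcj _ h
    · exact chkC_spec _ _ _ _ tXGc3_5 c hcj _ h
    · exact chkC_spec _ _ _ _ tXGc3_6 c hcj _ h
    · exact chkC_spec _ _ _ _ tXGc3_7 c hcj _ h
    · exact chkC_spec _ _ _ _ tXGc3_8 c hcj _ h
    · exact chkC_spec _ _ _ _ tXGc3_9 c hcj _ h
    · exact chkC_spec _ _ _ _ tXGc3_10 c hcj _ h
    · exact chkC_spec _ _ _ _ tXGc3_11 c hcj _ h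
    · exact chkC_spec _ _ _ _ tXGc3_12 c hcj _ h
    · exact chkC_spec _ _ _ _ tXGc3_13 c hcj _ h
    · exact chkC_spec _ _ _ _ tXGc3_14 c hcj _ h
    · exact chkC_spec _ _ _ _ tXGc3_15 c hcj _ h


end Cfsg.Agent.Lib.helper93
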