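import Cfsg.Agent.Lib.helper93.CrossSnd
import Cfsg.Agent.Lib.helper93.Co0SGens

/-!
Signed coordinate permutations used for the stabiliser of the standard cross: generators of the
monomial group, and of its subgroup fixing the coordinates `4` and `7`, with their action on
packed vectors, the packed root vectors of their classes of minimal vectors and the tests of
descending words.
-/

set_option autoImplicit false
open Cfsg Cfsg.Agent.Lib.helper9 Cfsg.Agent.Lib.helper33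

namespace Cfsg.Agent.Lib.helper93

def tXHi0 : List ℕ := [22, 0, 1, 2, 3, 4, 5, 6, 7, 8, 9, 10, 11, 12, 13, 14, 15, 16, 17, 18, 19, 20, 21, 23]

def tXHt0 : List ℕ := [1, 2, 3, 4, 5, 6, 7, 8, 9, 10, 11, 12, 13, 14, 15, 16, 17, 18, 19, 20, 21, 22, 0, 23]

theorem tXHok0 : validTbl tXHi0 tXHt0 = true ∧ chkTbl tXHi0 = true := by
  decide +kernel

def tXHi1 : List ℕ := [1, 2, 3, 4, 5, 6, 7, 8, 9, 10, 11, 12, 13, 14, 15, 16, 17, 18, 19, 20, 21, 22, 0, 23]

def tXHt1 : List ℕ := [22, 0, 1, 2, 3, 4, 5, 6, 7, 8, 9, 10, 11, 12, 13, 14, 15, 16, 17, 18, 19, 20, 21, 23]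

theorem tXHok1 : validTbl tXHi1 tXHt1 = true ∧ chkTbl tXHi1 = true := by
  decide +kernel

def tXHi2 : List ℕ := [0, 6, 4, 3, 18, 7, 2, 10, 12, 13, 20, 17, 9, 16, 22, 15, 8, 14, 1, 11, 21, 5, 19, 23]

def tXHt2 : List ℕ := [0, 18, 6, 3, 2, 21, 1, 5, 16, 12, 7, 19, 8, 9, 17, 15, 13, 11, 4, 22, 10, 20, 14, 23]

theorem tXHok2 : validTbl tXHi2 tXHt2 = true ∧ chkTbl tXHi2 = true := by
  decide +kernel

def tXHi3 : List ℕ := [23, 22, 11, 15, 17, 9, 19, 13, 20, 5, 16, 2, 21, 7, 18, 3, 10, 4, 14, 6, 8, 12, 1, 0]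

def tXHt3 : List ℕ := [23, 22, 11, 15, 17, 9, 19, 13, 20, 5, 16, 2, 21, 7, 18, 3, 10, 4, 14, 6, 8, 12, 1, 0]

theorem tXHok3 : validTbl tXHi3 tXHt3 = true ∧ chkTbl tXHi3 = true := by
  decide +kernel

def tXHi4 : List ℕ := [0, 18, 6, 3, 2, 21, 1, 5, 16, 12, 7, 19, 8, 9, 17, 15, 13, 11, 4, 22, 10, 20, 14, 23]

def tXHt4 : List ℕ := [0, 6, 4, 3, 18, 7, 2, 10, 12, 13, 20, 17, 9, 16, 22, 15, 8, 14, 1, 11, 21, 5, 19, 23]

theorem tXHok4 : validTbl tXHi4 tXHt4 = true ∧ chkTbl tXHi4 = true := by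
  decide +kernel

def tXHi5 : List ℕ := [19, 2, 4, 14, 17, 1, 15, 11, 18, 23, 5, 12, 20, 13, 22, 7, 6, 21, 8, 10, 16, 9, 0, 3]

def tXHt5 : List ℕ := [22, 5, 1, 23, 2, 10, 16, 15, 18, 21, 19, 7, 11, 13, 3, 6, 20, 4, 8, 0, 12, 17, 14, 9]

theorem tXHok5 : validTbl tXHi5 tXHt5 = true ∧ chkTbl tXHi5 = true := by
  decide +kernel

def tXHi6 : List ℕ := [2, 5, 16, 14, 12, 22, 17, 11, 8, 18, 13, 9, 23, 10, 0, 20, 21, 19, 1, 3, 4, 15, 7, 6]

def tXHt6 : List ℕ := [14, 18, 0, 19, 20, 1, 23, 22, 8, 11, 13, 7, 4, 10, 3, 21, 2, 6, 9, 17, 15, 16, 5, 12]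

theorem tXHok6 : validTbl tXHi6 tXHt6 = true ∧ chkTbl tXHi6 = true := by
  decide +kernel

def cXHs7 : ℕ := 5279

theorem cXHok7 : syn cXHs7 = true := by decide +kernel

def tXHi8 : List ℕ := [0, 17, 7, 16, 6, 12, 21, 23, 4, 2, 13, 3, 5, 18, 10, 1, 19, 20, 11, 14, 8, 15, 22, 9]

def tXHt8 : List ℕ := [0, 15, 9, 11, 8, 12, 4, 2, 20, 23, 14, 18, 5, 10, 19, 21, 3, 1, 13, 16, 17, 6, 22, 7]

theorem tXHok8 : validTbl tXHi8 tXHt8 = true ∧ chkTbl tXHi8 = true := by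
  decide +kernel

def tXHi9 : List ℕ := [15, 13, 0, 10, 20, 11, 5, 3, 18, 22, 12, 23, 19, 16, 9, 4, 2, 6, 1, 8, 7, 21, 14, 17]

def tXHt9 : List ℕ := [2, 18, 16, 7, 15, 6, 17, 20, 19, 14, 3, 5, 10, 1, 22, 0, 13, 23, 8, 12, 4, 21, 9, 11]

theorem tXHok9 : validTbl tXHi9 tXHt9 = true ∧ chkTbl tXHi9 = true := by
  decide +kernel

def cXHs10 : ℕ := 668866

theorem cXHok10 : syn cXHs10 = true := by decide +kernel

def tXHi11 : List ℕ := [3, 18, 12, 4, 14, 21, 13, 15, 16, 23, 10, 5, 22, 19, 9, 17, 6, 11, 2, 7, 20, 8, 0, 1]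

def tXHt11 : List ℕ := [22, 23, 18, 0, 3, 11, 16, 19, 21, 14, 10, 17, 2, 6, 4, 7, 8, 15, 1, 13, 20, 5, 12, 9]

theorem tXHok11 : validTbl tXHi11 tXHt11 = true ∧ chkTbl tXHi11 = true := by
  decide +kernel

def cXHs12 : ℕ := 3237906

theorem cXHok12 : syn cXHs12 = true := by decide +kernel

def tXHi13 : List ℕ := [10, 19, 22, 21, 4, 15, 17, 18, 20, 6, 8, 11, 9, 12, 3, 23, 13, 16, 0, 1, 7, 14, 2, 5]

def tXHt13 : List ℕ := [18, 19, 22, 14, 4, 23, 9, 20, 10, 12, 0, 11, 13, 16, 21, 5, 17, 6, 7, 1, 8, 3, 2, 15]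

theorem tXHok13 : validTbl tXHi13 tXHt13 = true ∧ chkTbl tXHi13 = true := by
  decide +kernel

def cXHs14 : ℕ := 7622914

theorem cXHok14 : syn cXHs14 = true := by decide +kernel

/-- the generators -/
def actsXH : List (ℕ → ℕ) :=
  [permP (packT tXHi0),
    permP (packT tXHi1),
    permP (packT tXHi2),
    permP (packT tXHi3),
    permP (packT tXHi4),
    permP (packT tXHi5),
    permP (packT tXHi6),
    signP cXHs7,
    permP (packT tXHi8),
    permP (packT tXHi9),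
    signP cXHs10,
    permP (packT tXHi11),
    signP cXHs12,
    permP (packT tXHi13),
    signP cXHs14]

theorem actsXH_sndM : ∀ a ∈ actsXH, SndM a := by
  intro a ha
  simp only [actsXH, List.mem_cons, List.not_mem_nil, or_false] at ha
  rcases ha with rfl | rfl | rfl | rfl | rfl | rfl | rfl | rfl | rfl | rfl | rfl | rfl | rfl | rfl | rfl
  · exact sndM_perm _ _ tXHok0.1 tXHok0.2
  · exact sndM_perm _ _ tXHok1.1 tXHok1.2
  · exact sndM_perm _ _ tXHok2.1 tXHok2.2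
  · exact sndM_perm _ _ tXHok3.1 tXHok3.2
  · exact sndM_perm _ _ tXHok4.1 tXHok4.2
  · exact sndM_perm _ _ tXHok5.1 tXHok5.2
  · exact sndM_perm _ _ tXHok6.1 tXHok6.2
  · exact sndM_sign _ cXHok7
  · exact sndM_perm _ _ tXHok8.1 tXHok8.2
  · exact sndM_perm _ _ tXHok9.1 tXHok9.2
  · exact sndM_sign _ cXHok10
  · exact sndM_perm _ _ tXHok11.1 tXHok11.2
  · exact sndM_sign _ cXHok12
  · exact sndM_perm _ _ tXHok13.1 tXHok13.2
  · exact sndM_sign _ cXHok14

/-- the packed root vectors of the three classes -/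
def rootsXH : List ℕ := [171680783225748332878830927014535432, 257269937223795337555519645839270088, 217071507376165697060616597444732137]

theorem rootsXH_cl : ∀ r ∈ rootsXH, r = rootsXH.getD (cxCl1 r) 0 := by decide +kernel

/-- the test of a descending word -/
def fXH (n w : ℕ) : Bool := List.any rootsXH (Nat.beq n) || Nat.blt (runW actsXH 10 w n) n

theorem fXH_spec (n w : ℕ) (h : fXH n w = true) :
    n ∈ rootsXH ∨ ∃ w, runW actsXH 10 w n < n := by
  unfold fXH at h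
  rw [Bool.or_eq_true] at h
  rcases h with h | h
  · obtain ⟨r, hr, hb⟩ := List.any_eq_true.1 h
    rw [Nat.eq_of_beq_eq_true hb]
    exact Or.inl hr
  · exact Or.inr ⟨w, by simpa [Nat.blt_eq] using h⟩

def tXGi0 : List ℕ := [20, 9, 21, 22, 4, 11, 8, 7, 16, 23, 0, 5, 1, 2, 6, 19, 14, 13, 10, 17, 12, 3, 15, 18]

def tXGt0 : List ℕ := [10, 12, 13, 21, 4, 11, 14, 7, 6, 1, 18, 5, 20, 17, 16, 22, 8, 19, 23, 15, 0, 2, 3, 9]

theorem tXGok0 : validTbl tXGi0 tXGt0 = true ∧ chkTbl tXGi0 = true := by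
  decide +kernel

def tXGi1 : List ℕ := [22, 23, 18, 1, 4, 2, 0, 7, 15, 5, 12, 6, 19, 3, 9, 10, 16, 17, 14, 8, 11, 13, 20, 21]

def tXGt1 : List ℕ := [6, 3, 5, 13, 4, 9, 11, 7, 19, 14, 15, 20, 10, 21, 18, 8, 16, 17, 2, 12, 22, 23, 0, 1]

theorem tXGok1 : validTbl tXGi1 tXGt1 = true ∧ chkTbl tXGi1 = true := by
  decide +kernel

def tXGi2 : List ℕ := [2, 20, 8, 5, 4, 0, 3, 7, 18, 14, 9, 21, 10, 11, 19, 17, 15, 13, 6, 1, 12, 22, 16, 23]

def tXGt2 : List ℕ := [5, 19, 0, 6, 4, 3, 18, 7, 2, 10, 12, 13, 20, 17, 9, 16, 22, 15, 8, 14, 1, 11, 21, 23]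

theorem tXGok2 : validTbl tXGi2 tXGt2 = true ∧ chkTbl tXGi2 = true := by
  decide +kernel

def cXGs3 : ℕ := 705094

theorem cXGok3 : syn cXGs3 = true := by decide +kernel

def tXGi4 : List ℕ := [23, 10, 13, 0, 4, 16, 17, 7, 6, 21, 19, 12, 9, 14, 18, 1, 3, 11, 5, 8, 22, 15, 2, 20]

def tXGt4 : List ℕ := [3, 15, 22, 16, 4, 18, 8, 7, 19, 12, 1, 17, 11, 2, 13, 21, 5, 6, 14, 10, 23, 9, 20, 0]

theorem tXGok4 : validTbl tXGi4 tXGt4 = true ∧ chkTbl tXGi4 = true := by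
  decide +kernel

def cXGs5 : ℕ := 402026

theorem cXGok5 : syn cXGs5 = true := by decide +kernel

def tXGi6 : List ℕ := [1, 10, 14, 22, 4, 11, 20, 7, 19, 3, 13, 16, 8, 23, 9, 5, 18, 15, 6, 17, 12, 2, 0, 21]

def tXGt6 : List ℕ := [22, 0, 21, 9, 4, 15, 18, 7, 12, 14, 1, 5, 20, 10, 2, 17, 11, 19, 16, 8, 6, 23, 3, 13]

theorem tXGok6 : validTbl tXGi6 tXGt6 = true ∧ chkTbl tXGi6 = true := by
  decide +kernel

def cXGs7 : ℕ := 7145475

theorem cXGok7 : syn cXGs7 = true := by decide +kernel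

def tXGi8 : List ℕ := [15, 13, 11, 8, 4, 23, 22, 7, 14, 1, 9, 0, 21, 17, 6, 16, 3, 5, 12, 10, 2, 19, 20, 18]

def tXGt8 : List ℕ := [11, 9, 20, 16, 4, 17, 14, 7, 3, 10, 19, 2, 18, 1, 8, 0, 15, 13, 23, 21, 22, 12, 6, 5]

theorem tXGok8 : validTbl tXGi8 tXGt8 = true ∧ chkTbl tXGi8 = true := by
  decide +kernel

def cXGs9 : ℕ := 10554382

theorem cXGok9 : syn cXGs9 = true := by decide +kernel

def tXGi10 : List ℕ := [19, 2, 6, 14, 4, 13, 8, 7, 15, 3, 10, 11, 18, 22, 21, 1, 9, 12, 0, 17, 5, 16, 23, 20]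

def tXGt10 : List ℕ := [18, 15, 1, 9, 4, 20, 2, 7, 6, 16, 10, 11, 17, 5, 3, 8, 21, 19, 12, 0, 23, 14, 13, 22]

theorem tXGok10 : validTbl tXGi10 tXGt10 = true ∧ chkTbl tXGi10 = true := by
  decide +kernel

def tXGi11 : List ℕ := [8, 20, 6, 22, 4, 13, 17, 7, 3, 10, 15, 1, 18, 12, 23, 0, 21, 14, 11, 19, 5, 2, 9, 16]

def tXGt11 : List ℕ := [15, 11, 21, 8, 4, 20, 2, 7, 0, 22, 9, 18, 13, 5, 17, 10, 23, 6, 12, 19, 1, 16, 3, 14]

theorem tXGok11 : validTbl tXGi11 tXGt11 = true ∧ chkTbl tXGi11 = true := by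
  decide +kernel

def cXGs12 : ℕ := 9112069

theorem cXGok12 : syn cXGs12 = true := by decide +kernel

def cXGs13 : ℕ := 987906

theorem cXGok13 : syn cXGs13 = true := by decide +kernel

def cXGs14 : ℕ := 12126304

theorem cXGok14 : syn cXGs14 = true := by decide +kernel

/-- the generators -/
def actsXG : List (ℕ → ℕ) :=
  [permP (packT tXGi0),
    permP (packT tXGi1),
    permP (packT tXGi2),
    signP cXGs3,
    permP (packT tXGi4),
    signP cXGs5,
    permP (packT tXGi6),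
    signP cXGs7,
    permP (packT tXGi8),
    signP cXGs9,
    permP (packT tXGi10),
    permP (packT tXGi11),
    signP cXGs12,
    signP cXGs13,
    signP cXGs14]

theorem actsXG_sndM : ∀ a ∈ actsXG, SndM a := by
  intro a ha
  simp only [actsXG, List.mem_cons, List.not_mem_nil, or_false] at ha
  rcases ha with rfl | rfl | rfl | rfl | rfl | rfl | rfl | rfl | rfl | rfl | rfl | rfl | rfl | rfl | rfl
  · exact sndM_perm _ _ tXGok0.1 tXGok0.2
  · exact sndM_perm _ _ tXGok1.1 tXGok1.2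
  · exact sndM_perm _ _ tXGok2.1 tXGok2.2
  · exact sndM_sign _ cXGok3
  · exact sndM_perm _ _ tXGok4.1 tXGok4.2
  · exact sndM_sign _ cXGok5
  · exact sndM_perm _ _ tXGok6.1 tXGok6.2
  · exact sndM_sign _ cXGok7
  · exact sndM_perm _ _ tXGok8.1 tXGok8.2
  · exact sndM_sign _ cXGok9
  · exact sndM_perm _ _ tXGok10.1 tXGok10.2
  · exact sndM_perm _ _ tXGok11.1 tXGok11.2
  · exact sndM_sign _ cXGok12
  · exact sndM_sign _ cXGok13
  · exact sndM_sign _ cXGok14

/-- the packed vector `4 e_4 + 4 e_7` -/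
def nx1S : ℕ := 343026579557397644620337443321946376

/-- the packed vector `-4 e_4 - 4 e_7` -/
def nmx1S : ℕ := 343026579557397644620337168435650824

theorem actsXG_fix0 : ∀ a ∈ actsXG, a n0S = n0S := by
  intro a ha
  simp only [actsXG, List.mem_cons, List.not_mem_nil, or_false] at ha
  rcases ha with rfl | rfl | rfl | rfl | rfl | rfl | rfl | rfl | rfl | rfl | rfl | rfl | rfl | rfl | rfl <;> decide +kernel

theorem actsXG_fix1 : ∀ a ∈ actsXG, a nx1S = nx1S := by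
  intro a ha
  simp only [actsXG, List.mem_cons, List.not_mem_nil, or_false] at ha
  rcases ha with rfl | rfl | rfl | rfl | rfl | rfl | rfl | rfl | rfl | rfl | rfl | rfl | rfl | rfl | rfl <;> decide +kernel

/-- the packed root vectors of the eight classes -/
def rootsXG : List ℕ := [343026579557397644620337443321946376, 343026579557397644620337168435650824, 257272551753082824201910682025990408, 257272551753082824201910544582842632, 217071507376165773079128775320642791, 217071507376165770775537497199123753, 171680783225748332878830927014535432, 257269937223795337555519645839270088]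

theorem rootsXG_cl : ∀ r ∈ rootsXG, r = rootsXG.getD (cxCl2 r) 0 := by decide +kernel

/-- the test of a descending word, for the vectors with equal coordinates `4` and `7` -/
def fXG (n w : ℕ) : Bool :=
  cond (Nat.beq (getN n 4) (getN n 7))
    (List.any rootsXG (Nat.beq n) || Nat.blt (runW actsXG 10 w n) n) true

theorem fXG_spec (n w : ℕ) (h : fXG n w = true) (hd : getN n 4 = getN n 7) :
    n ∈ rootsXG ∨ ∃ w, runW actsXG 10 w n < n := by
  unfold fXG at h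
  rw [beq_t _ _ hd] at h
  change (List.any rootsXG (Nat.beq n) || Nat.blt (runW actsXG 10 w n) n) = true at h
  rw [Bool.or_eq_true] at h
  rcases h with h | h
  · obtain ⟨r, hr, hb⟩ := List.any_eq_true.1 h
    rw [Nat.eq_of_beq_eq_true hb]
    exact Or.inl hr
  · exact Or.inr ⟨w, by simpa [Nat.blt_eq] using h⟩

/-! ### a signed permutation fixing `4 e_4 - 4 e_7` and negating `4 e_4 + 4 e_7` -/

def tXSi : List ℕ := [10, 3, 8, 18, 7, 13, 0, 4, 15, 21, 11, 12, 23, 1, 22, 6, 17, 20, 2, 19, 9, 14, 16, 5]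

def tXSt : List ℕ := [6, 13, 18, 1, 7, 23, 15, 4, 2, 20, 0, 10, 11, 5, 21, 8, 22, 16, 3, 19, 17, 9, 14, 12]

theorem tXSok : validTbl tXSi tXSt = true ∧ chkTbl tXSi = true := by decide +kernel

def cXSs : ℕ := 5279

theorem cXSok : syn cXSs = true := by decide +kernel

def actXS : ℕ → ℕ := fun n => signP cXSs (permP (packT tXSi) n)

theorem actXS_sndM : SndM actXS := by
  show SndM (fun n => signP cXSs (permP (packT tXSi) n))
  exact sndM_comp (permP (packT tXSi)) (signP cXSs) (sndM_perm tXSi tXSt tXSok.1 tXSok.2)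
    (sndM_sign cXSs cXSok)

theorem actXS_fix0 : actXS n0S = n0S := by decide +kernel

theorem actXS_x1 : actXS nx1S = nmx1S := by decide +kernel


end Cfsg.Agent.Lib.helper93
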