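import Cfsg.Agent.Lib.helper93.LeechCount

/-!
The numbers of vectors of norm 32, 48 and 64 of `Cfsg.leechLattice`.
-/

set_option autoImplicit false
open Cfsg Cfsg.Agent.Lib.helper9

namespace Cfsg.Agent.Lib.helper93

set_option maxRecDepth 100000 in
theorem cK_0_0_32 : cKval (cPv 0) (cPv 2) 0 0 32 = 1104 := by decide +kernel

set_option maxRecDepth 100000 in
theorem cK_0_8_32 : cKval (cPv 0) (cPv 2) 0 8 32 = 128 := by decide +kernel

set_option maxRecDepth 100000 in
theorem cK_0_12_32 : cKval (cPv 0) (cPv 2) 0 12 32 = 0 := by decide +kernel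

set_option maxRecDepth 100000 in
theorem cK_0_16_32 : cKval (cPv 0) (cPv 2) 0 16 32 = 0 := by decide +kernel

set_option maxRecDepth 100000 in
theorem cK_0_24_32 : cKval (cPv 0) (cPv 2) 0 24 32 = 0 := by decide +kernel

set_option maxRecDepth 100000 in
theorem cK_1_0_32 : cKval (cPv 1) (cPv 3) 4 0 32 = 24 := by decide +kernel

set_option maxRecDepth 100000 in
theorem cK_1_8_32 : cKval (cPv 1) (cPv 3) 4 8 32 = 24 := by decide +kernel

set_option maxRecDepth 100000 in
theorem cK_1_12_32 : cKval (cPv 1) (cPv 3) 4 12 32 = 24 := by decide +kernel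

set_option maxRecDepth 100000 in
theorem cK_1_16_32 : cKval (cPv 1) (cPv 3) 4 16 32 = 24 := by decide +kernel

set_option maxRecDepth 100000 in
theorem cK_1_24_32 : cKval (cPv 1) (cPv 3) 4 24 32 = 24 := by decide +kernel

/-- the number of vectors of norm 32 -/
theorem leech_count_32 :
    {x : GolayPt → ℤ | x ∈ leechLattice ∧ sqNorm x = 32}.ncard = 196560 := by
  have h := ncard_leech_norm' 32 (by norm_num)
  rw [cK_0_0_32, cK_0_8_32, cK_0_12_32, cK_0_16_32, cK_0_24_32, cK_1_0_32, cK_1_8_32, cK_1_12_32, cK_1_16_32, cK_1_24_32] at h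
  exact h

set_option maxRecDepth 100000 in
theorem cK_0_0_48 : cKval (cPv 0) (cPv 2) 0 0 48 = 0 := by decide +kernel

set_option maxRecDepth 100000 in
theorem cK_0_8_48 : cKval (cPv 0) (cPv 2) 0 8 48 = 4096 := by decide +kernel

set_option maxRecDepth 100000 in
theorem cK_0_12_48 : cKval (cPv 0) (cPv 2) 0 12 48 = 2048 := by decide +kernel

set_option maxRecDepth 100000 in
theorem cK_0_16_48 : cKval (cPv 0) (cPv 2) 0 16 48 = 0 := by decide +kernel

set_option maxRecDepth 100000 in
theorem cK_0_24_48 : cKval (cPv 0) (cPv 2) 0 24 48 = 0 := by decide +kernel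

set_option maxRecDepth 100000 in
theorem cK_1_0_48 : cKval (cPv 1) (cPv 3) 4 0 48 = 2048 := by decide +kernel

set_option maxRecDepth 100000 in
theorem cK_1_8_48 : cKval (cPv 1) (cPv 3) 4 8 48 = 2048 := by decide +kernel

set_option maxRecDepth 100000 in
theorem cK_1_12_48 : cKval (cPv 1) (cPv 3) 4 12 48 = 2048 := by decide +kernel

set_option maxRecDepth 100000 in
theorem cK_1_16_48 : cKval (cPv 1) (cPv 3) 4 16 48 = 2048 := by decide +kernel

set_option maxRecDepth 100000 in
theorem cK_1_24_48 : cKval (cPv 1) (cPv 3) 4 24 48 = 2048 := by decide +kernel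

/-- the number of vectors of norm 48 -/
theorem leech_count_48 :
    {x : GolayPt → ℤ | x ∈ leechLattice ∧ sqNorm x = 48}.ncard = 16773120 := by
  have h := ncard_leech_norm' 48 (by norm_num)
  rw [cK_0_0_48, cK_0_8_48, cK_0_12_48, cK_0_16_48, cK_0_24_48, cK_1_0_48, cK_1_8_48, cK_1_12_48, cK_1_16_48, cK_1_24_48] at h
  exact h

set_option maxRecDepth 100000 in
theorem cK_0_0_64 : cKval (cPv 0) (cPv 2) 0 0 64 = 170064 := by decide +kernel

set_option maxRecDepth 100000 in
theorem cK_0_8_64 : cKval (cPv 0) (cPv 2) 0 8 64 = 62464 := by decide +kernel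

set_option maxRecDepth 100000 in
theorem cK_0_12_64 : cKval (cPv 0) (cPv 2) 0 12 64 = 49152 := by decide +kernel

set_option maxRecDepth 100000 in
theorem cK_0_16_64 : cKval (cPv 0) (cPv 2) 0 16 64 = 32768 := by decide +kernel

set_option maxRecDepth 100000 in
theorem cK_0_24_64 : cKval (cPv 0) (cPv 2) 0 24 64 = 0 := by decide +kernel

set_option maxRecDepth 100000 in
theorem cK_1_0_64 : cKval (cPv 1) (cPv 3) 4 0 64 = 48576 := by decide +kernel

set_option maxRecDepth 100000 in
theorem cK_1_8_64 : cKval (cPv 1) (cPv 3) 4 8 64 = 48576 := by decide +kernel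

set_option maxRecDepth 100000 in
theorem cK_1_12_64 : cKval (cPv 1) (cPv 3) 4 12 64 = 48576 := by decide +kernel

set_option maxRecDepth 100000 in
theorem cK_1_16_64 : cKval (cPv 1) (cPv 3) 4 16 64 = 48576 := by decide +kernel

set_option maxRecDepth 100000 in
theorem cK_1_24_64 : cKval (cPv 1) (cPv 3) 4 24 64 = 48576 := by decide +kernel

/-- the number of vectors of norm 64 -/
theorem leech_count_64 :
    {x : GolayPt → ℤ | x ∈ leechLattice ∧ sqNorm x = 64}.ncard = 398034000 := by
  have h := ncard_leech_norm' 64 (by norm_num)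
  rw [cK_0_0_64, cK_0_8_64, cK_0_12_64, cK_0_16_64, cK_0_24_64, cK_1_0_64, cK_1_8_64, cK_1_12_64, cK_1_16_64, cK_1_24_64] at h
  exact h

end Cfsg.Agent.Lib.helper93
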