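import Cfsg.Agent.Lib.helper93.Pigeon
import Cfsg.Agent.Lib.helper93.LeechCountNum
import Cfsg.Agent.Lib.helper93.LeechIndex
import Cfsg.Agent.Lib.helper9.LeechEven

/-!
The pigeonhole theorem for `Cfsg.leechLattice`: `[Λ : 2Λ] = 2^24`, every class modulo `2Λ`
contains a vector of norm at most 64, and the vectors of norm 64 fall into classes of 48.
-/

set_option autoImplicit false
open Cfsg Matrix

namespace Cfsg.Agent.Lib.helper93

theorem bq_one (x : GolayPt → ℤ) : bq (1 : Matrix GolayPt GolayPt ℤ) x = sqNorm x := by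
  unfold bq sqNorm
  rw [one_mulVec]
  unfold dotProduct
  exact Finset.sum_congr rfl fun i _ => (sq (x i)).symm

/-- reduction of integer vectors modulo 2 -/
def red2 : (GolayPt → ℤ) →+ (GolayPt → ZMod 2) :=
  AddMonoidHom.compLeft (Int.castAddHom (ZMod 2)) GolayPt

theorem red2_apply (x : GolayPt → ℤ) (i : GolayPt) : red2 x i = ((x i : ℤ) : ZMod 2) := rfl

theorem red2_surjective : Function.Surjective red2 := by
  intro u
  refine ⟨fun i => ((u i).val : ℤ), ?_⟩
  funext i
  rw [red2_apply]
  simp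

/-- doubling of integer vectors -/
def dbl : (GolayPt → ℤ) →+ (GolayPt → ℤ) := nsmulAddMonoidHom 2

theorem dbl_apply (x : GolayPt → ℤ) : dbl x = 2 • x := rfl

theorem dbl_injective : Function.Injective dbl := by
  intro x y h
  rw [dbl_apply, dbl_apply] at h
  funext i
  have := congrFun h i
  simp only [Pi.smul_apply, nsmul_eq_mul, Nat.cast_ofNat] at this
  omega

theorem dbl_range : dbl.range = red2.ker := by
  ext x
  rw [AddMonoidHom.mem_range, AddMonoidHom.mem_ker]
  constructor
  · rintro ⟨z, rfl⟩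
    funext i
    rw [red2_apply, dbl_apply, Pi.zero_apply, ZMod.intCast_zmod_eq_zero_iff_dvd]
    simp
  · intro h
    have h1 : ∀ i, (2 : ℤ) ∣ x i := by
      intro i
      have := congrFun h i
      rwa [red2_apply, Pi.zero_apply, ZMod.intCast_zmod_eq_zero_iff_dvd] at this
    refine ⟨fun i => x i / 2, ?_⟩
    funext i
    rw [dbl_apply]
    simp only [Pi.smul_apply, nsmul_eq_mul, Nat.cast_ofNat]
    have := h1 i
    omega

theorem index_dbl_range : dbl.range.index = 2 ^ 24 := by
  rw [dbl_range, AddSubgroup.index_ker, AddMonoidHom.range_eq_top.2 red2_surjective]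
  have h : Nat.card (⊤ : AddSubgroup (GolayPt → ZMod 2)) = Nat.card (GolayPt → ZMod 2) :=
    Nat.card_congr AddSubgroup.topEquiv.toEquiv
  rw [h, Nat.card_eq_fintype_card, Fintype.card_pi]
  simp

theorem map_dbl_le : leechLattice.map dbl ≤ leechLattice := by
  rintro x ⟨z, hz, rfl⟩
  rw [dbl_apply]
  exact leechLattice.nsmul_mem hz 2

/-- `[Λ : 2Λ] = 2^24` -/
theorem relIndex_two_leech : (leechLattice.map dbl).relIndex leechLattice = 2 ^ 24 := by
  have h1 : (leechLattice.map dbl).index = leechLattice.index * dbl.range.index :=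
    AddSubgroup.index_map_of_injective leechLattice dbl_injective
  rw [index_leechLattice, index_dbl_range] at h1
  have h2 := AddSubgroup.relIndex_mul_index map_dbl_le
  rw [h1, index_leechLattice] at h2
  have h3 : (2 : ℕ) ^ 36 * 2 ^ 24 = 2 ^ 24 * 2 ^ 36 := by ring
  rw [h3] at h2
  exact Nat.eq_of_mul_eq_mul_right (by norm_num) h2

/-- the subgroup `2Λ` of `Λ` -/
def twoL : AddSubgroup ↥leechLattice := (leechLattice.map dbl).addSubgroupOf leechLattice

theorem mem_twoL (x : ↥leechLattice) : x ∈ twoL ↔ ∃ z ∈ leechLattice, (x : GolayPt → ℤ) = 2 • z := by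
  unfold twoL
  rw [AddSubgroup.mem_addSubgroupOf, AddSubgroup.mem_map]
  constructor
  · rintro ⟨z, hz, h⟩
    exact ⟨z, hz, h.symm⟩
  · rintro ⟨z, hz, h⟩
    exact ⟨z, hz, h.symm⟩

theorem card_quot_twoL : Nat.card (↥leechLattice ⧸ twoL) = 2 ^ 24 := by
  rw [← AddSubgroup.index_eq_card]
  exact relIndex_two_leech

instance finite_quot_twoL : Finite (↥leechLattice ⧸ twoL) :=
  Nat.finite_of_card_ne_zero (by rw [card_quot_twoL]; norm_num)

open Classical in
/-- the class of a vector modulo `2Λ` -/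
noncomputable def clsL (x : GolayPt → ℤ) : ↥leechLattice ⧸ twoL :=
  if h : x ∈ leechLattice then QuotientAddGroup.mk ⟨x, h⟩ else 0

theorem clsL_eq_iff (x y : GolayPt → ℤ) (hx : x ∈ leechLattice) (hy : y ∈ leechLattice) :
    clsL x = clsL y ↔ ∃ z ∈ leechLattice, x - y = 2 • z := by
  unfold clsL
  rw [dif_pos hx, dif_pos hy, QuotientAddGroup.eq, mem_twoL]
  constructor
  · rintro ⟨z, hz, h⟩
    refine ⟨-z, leechLattice.neg_mem hz, ?_⟩
    have h' : -x + y = 2 • z := h
    rw [smul_neg, ← h']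
    abel
  · rintro ⟨z, hz, h⟩
    refine ⟨-z, leechLattice.neg_mem hz, ?_⟩
    show -x + y = 2 • -z
    rw [smul_neg, ← h]
    abel

theorem leech_pigeon :
    (∀ x ∈ leechLattice, ∃ y ∈ leechLattice, sqNorm y ≤ 64 ∧ ∃ z ∈ leechLattice, x - y = 2 • z) ∧
    (∀ x ∈ leechLattice, sqNorm x = 64 →
      {y | y ∈ leechLattice ∧ sqNorm y = 64 ∧ ∃ z ∈ leechLattice, x - y = 2 • z}.ncard = 48) := by
  have h := pigeon (1 : Matrix GolayPt GolayPt ℤ) isSymm_one card_golayPt leechLattice 32
    (by norm_num)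
    (fun x hx hx0 => by rw [bq_one]; exact leech_min_sqNorm x hx hx0)
    (fun x hx hq => by
      rw [bq_one] at hq ⊢
      by_cases hx0 : x = 0
      · exact Or.inl hx0
      · right
        have h1 := leech_min_sqNorm x hx hx0
        have h2 := Cfsg.Agent.Lib.helper9.leech_even x hx
        omega)
    (by
      have e : {x | x ∈ leechLattice ∧ bq (1 : Matrix GolayPt GolayPt ℤ) x = 32} =
          {x | x ∈ leechLattice ∧ sqNorm x = 32} := by
        ext x; simp only [Set.mem_ofPred_eq, bq_one]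
      rw [e]; exact leech_count_32)
    (by
      have e : {x | x ∈ leechLattice ∧ 2 * bq (1 : Matrix GolayPt GolayPt ℤ) x = 3 * 32} =
          {x | x ∈ leechLattice ∧ sqNorm x = 48} := by
        ext x; simp only [Set.mem_ofPred_eq, bq_one]
        constructor
        · rintro ⟨h1, h2⟩; exact ⟨h1, by omega⟩
        · rintro ⟨h1, h2⟩; exact ⟨h1, by omega⟩
      rw [e]; exact leech_count_48)
    (by
      have e : {x | x ∈ leechLattice ∧ bq (1 : Matrix GolayPt GolayPt ℤ) x = 2 * 32} =
          {x | x ∈ leechLattice ∧ sqNorm x = 64} := by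
        ext x; simp only [Set.mem_ofPred_eq, bq_one]
        norm_num
      rw [e]; exact leech_count_64)
    (Q := ↥leechLattice ⧸ twoL) (by rw [card_quot_twoL]) clsL (fun x hx y hy => clsL_eq_iff x y hx hy)
  constructor
  · intro x hx
    obtain ⟨y, hy, hq, hz⟩ := h.1 x hx
    rw [bq_one] at hq
    exact ⟨y, hy, by linarith, hz⟩
  · intro x hx hq
    have h2 := h.2 x hx (by rw [bq_one, hq]; norm_num)
    have e : {y | y ∈ leechLattice ∧ bq (1 : Matrix GolayPt GolayPt ℤ) y = 2 * 32 ∧
        ∃ z ∈ leechLattice, x - y = 2 • z} =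
        {y | y ∈ leechLattice ∧ sqNorm y = 64 ∧ ∃ z ∈ leechLattice, x - y = 2 • z} := by
      ext y; simp only [Set.mem_ofPred_eq, bq_one]
      norm_num
    rw [e] at h2
    exact h2

end Cfsg.Agent.Lib.helper93
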