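import Mathlib

/-!
A simplicity criterion for finite groups acting with a simple point stabiliser, from the sizes of
the orbits of the stabiliser.
-/

set_option autoImplicit false

namespace Cfsg.Agent.Lib.helper93

open MulAction

/-- In a finite group whose order is divisible by the prime `p` exactly once, the number of
elements of order `p` is `(p - 1) * m` with `m ≡ 1` modulo `p`. -/
theorem card_order_p {N : Type*} [Group N] [Finite N] (p : ℕ) (hp : p.Prime)
    (h1 : p ∣ Nat.card N) (h2 : ¬ p ^ 2 ∣ Nat.card N) :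
    ∃ m, m % p = 1 ∧ {x : N | orderOf x = p}.ncard = (p - 1) * m := by
  classical
  have : Fact p.Prime := ⟨hp⟩
  have : Fintype N := Fintype.ofFinite N
  have : Fintype (Sylow p N) := Fintype.ofFinite _
  have hfac : (Nat.card N).factorization p = 1 := by
    have hpos : Nat.card N ≠ 0 := Nat.card_pos.ne'
    have ha : 1 ≤ (Nat.card N).factorization p :=
      (hp.dvd_iff_one_le_factorization hpos).1 h1
    have hb : ¬ 2 ≤ (Nat.card N).factorization p := fun h =>
      h2 ((hp.pow_dvd_iff_le_factorization hpos).2 h)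
    omega
  have hP : ∀ P : Sylow p N, Nat.card P = p := by
    intro P
    rw [P.card_eq_multiplicity, hfac, pow_one]
  refine ⟨Nat.card (Sylow p N), ?_, ?_⟩
  · have h := card_sylow_modEq_one p N
    rw [Nat.ModEq, Nat.mod_eq_of_lt hp.one_lt] at h
    exact h
  · have hS : {x : N | orderOf x = p} = ↑(Finset.univ.filter fun x : N => orderOf x = p) := by
      ext x
      simp
    rw [hS, Set.ncard_coe_finset]
    have hmem : ∀ x ∈ Finset.univ.filter (fun x : N => orderOf x = p),
        Subgroup.zpowers x ∈ Finset.univ.image (fun P : Sylow p N => (P : Subgroup N)) := by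
      intro x hx
      have hx' : orderOf x = p := (Finset.mem_filter.1 hx).2
      have hc : Nat.card (Subgroup.zpowers x) = p ^ (Nat.card N).factorization p := by
        rw [Nat.card_zpowers, hx', hfac, pow_one]
      exact Finset.mem_image.2 ⟨Sylow.ofCard (Subgroup.zpowers x) hc, Finset.mem_univ _,
        Sylow.coe_ofCard _ hc⟩
    rw [Finset.card_eq_sum_card_fiberwise hmem]
    have hfib : ∀ b ∈ Finset.univ.image (fun P : Sylow p N => (P : Subgroup N)),
        ((Finset.univ.filter fun x : N => orderOf x = p).filter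
          fun x => Subgroup.zpowers x = b).card = p - 1 := by
      intro b hb
      obtain ⟨P, -, rfl⟩ := Finset.mem_image.1 hb
      have hfin : ((P : Subgroup N) : Set N).Finite := Set.toFinite _
      have he : ((Finset.univ.filter fun x : N => orderOf x = p).filter
          fun x => Subgroup.zpowers x = (P : Subgroup N)) = hfin.toFinset.erase 1 := by
        ext x
        rw [Finset.mem_filter, Finset.mem_filter, Finset.mem_erase, Set.Finite.mem_toFinset]
        constructor
        · rintro ⟨⟨-, ho⟩, hz⟩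
          refine ⟨?_, ?_⟩
          · rintro rfl
            rw [orderOf_one] at ho
            exact hp.one_lt.ne ho
          · have : x ∈ Subgroup.zpowers x := Subgroup.mem_zpowers x
            rw [hz] at this
            exact this
        · rintro ⟨hx1, hxP⟩
          have hxP' : x ∈ (P : Subgroup N) := hxP
          have hd : orderOf x ∣ p := by
            have := Subgroup.orderOf_dvd_natCard (P : Subgroup N) hxP'
            rw [hP P] at this
            exact this
          have ho : orderOf x = p := by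
            rcases (Nat.dvd_prime hp).1 hd with h | h
            · exact absurd (orderOf_eq_one_iff.1 h) hx1
            · exact h
          refine ⟨⟨Finset.mem_univ _, ho⟩, ?_⟩
          refine Subgroup.eq_of_le_of_card_ge ((Subgroup.zpowers_le).2 hxP') ?_
          rw [Nat.card_zpowers, ho]
          exact (hP P).le
      rw [he, Finset.card_erase_of_mem, ← Set.ncard_eq_toFinset_card _ hfin]
      · have : ((P : Subgroup N) : Set N).ncard = p :=
          (Nat.card_coe_set_eq _).symm.trans (hP P)
        rw [this]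
      · rw [Set.Finite.mem_toFinset]
        exact (P : Subgroup N).one_mem
    rw [Finset.sum_congr rfl hfib, Finset.sum_const, smul_eq_mul,
      Finset.card_image_of_injective _ (fun P Q h => Sylow.ext h), Finset.card_univ,
      Nat.card_eq_fintype_card, mul_comm]

theorem ncard_biUnion_disj {ι X : Type*} (O : ι → Set X) (hfin : ∀ i, (O i).Finite)
    (hdisj : ∀ i j, i ≠ j → Disjoint (O i) (O j)) (I : Finset ι) :
    (⋃ i ∈ I, O i).ncard = ∑ i ∈ I, (O i).ncard := by
  classical
  induction I using Finset.induction_on with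
  | empty => simp
  | insert a I ha ih =>
    have hd : Disjoint (O a) (⋃ i ∈ I, O i) := by
      rw [Set.disjoint_iUnion₂_right]
      intro i hi
      exact hdisj a i (fun h => ha (h ▸ hi))
    have hf : (⋃ i ∈ I, O i).Finite := Set.Finite.biUnion I.finite_toSet (fun i _ => hfin i)
    rw [Finset.set_biUnion_insert, Set.ncard_union_eq hd (hfin a) hf, ih, Finset.sum_insert ha]

/-- An invariant set inside the union of a fixed point and orbits of distinct sizes is, outside
the fixed point, a union of some of the orbits. -/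
theorem invariant_ncard {H X : Type*} [Group H] [Finite H] [MulAction H X] {k : ℕ} (ω : X)
    (y : Fin k → X) (s : Fin k → ℕ) (hy : ∀ i, (orbit H (y i)).ncard = s i)
    (hinj : Function.Injective s) (h1 : ∀ i, s i ≠ 1) (hω : ∀ h : H, h • ω = ω)
    (A : Set X) (hA : A ⊆ {ω} ∪ ⋃ i, orbit H (y i)) (hinv : ∀ h : H, ∀ a ∈ A, h • a ∈ A) :
    ∃ I : Finset (Fin k), (A \ {ω}).ncard = ∑ i ∈ I, s i ∧ ∀ i, i ∈ I ↔ y i ∈ A := by
  classical
  refine ⟨Finset.univ.filter (fun i => y i ∈ A), ?_, fun i => by simp⟩
  have hω' : ∀ i, ω ∉ orbit H (y i) := by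
    intro i hi
    have h2 : orbit H (y i) = {ω} := by
      rw [← orbit_eq_iff.2 hi]
      ext x
      constructor
      · rintro ⟨h, rfl⟩
        exact hω h
      · rintro rfl
        exact mem_orbit_self _
    exact h1 i (by rw [← hy i, h2, Set.ncard_singleton])
  have hdisj : ∀ i j, i ≠ j → Disjoint (orbit H (y i)) (orbit H (y j)) := by
    intro i j hij
    rw [Set.disjoint_left]
    intro x hxi hxj
    apply hij
    apply hinj
    rw [← hy i, ← hy j, ← orbit_eq_iff.2 hxi, ← orbit_eq_iff.2 hxj]
  have hU : A \ {ω} = ⋃ i ∈ Finset.univ.filter (fun i => y i ∈ A), orbit H (y i) := by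
    ext x
    simp only [Set.mem_sdiff, Set.mem_singleton_iff, Set.mem_iUnion, Finset.mem_filter,
      Finset.mem_univ, true_and, exists_prop]
    constructor
    · rintro ⟨hxA, hxω⟩
      rcases hA hxA with h | h
      · exact absurd h hxω
      · obtain ⟨i, hi⟩ := Set.mem_iUnion.1 h
        refine ⟨i, ?_, hi⟩
        obtain ⟨g, rfl⟩ := hi
        have h3 := hinv g⁻¹ _ hxA
        rwa [inv_smul_smul] at h3
    · rintro ⟨i, hiA, hxi⟩
      obtain ⟨g, rfl⟩ := hxi
      exact ⟨hinv g _ hiA, fun h => hω' i (h ▸ mem_orbit _ g)⟩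
  rw [hU, ncard_biUnion_disj (fun i => orbit H (y i)) (fun i => Set.finite_range _) hdisj]
  exact Finset.sum_congr rfl (fun i _ => hy i)

/-- A simplicity criterion for a finite group acting transitively with a simple point stabiliser
`H`: the stabiliser is a maximal subgroup when no proper union of a fixed point and orbits of `H`
has a size dividing the degree, and a regular normal subgroup is excluded by counting its
elements of order `p`, for a prime `p` dividing the degree exactly once. -/
theorem simple_of_suborbits {G X : Type*} [Group G] [Finite G] [MulAction G X] (ω : X)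
    (hs : IsSimpleGroup ↥(stabilizer G ω)) {k : ℕ} (y : Fin k → X) (s : Fin k → ℕ)
    (hy : ∀ i, (orbit ↥(stabilizer G ω) (y i)).ncard = s i)
    (hcov : orbit G ω = {ω} ∪ ⋃ i, orbit ↥(stabilizer G ω) (y i))
    (hinj : Function.Injective s) (h1 : ∀ i, s i ≠ 1) (hk : 0 < k)
    (hblock : ∀ I : Finset (Fin k), (1 + ∑ i ∈ I, s i) ∣ (1 + ∑ i, s i) →
      I = ∅ ∨ I = Finset.univ)
    (p : ℕ) (hp : p.Prime) (hpn : p ∣ 1 + ∑ i, s i) (hpp : ¬ p ^ 2 ∣ 1 + ∑ i, s i)
    (hcount : ∀ I : Finset (Fin k), (∑ i ∈ I, s i) % (p * (p - 1)) ≠ p - 1) :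
    IsSimpleGroup G ∧ Nat.card G = (1 + ∑ i, s i) * Nat.card ↥(stabilizer G ω) := by
  classical
  have hω : ∀ h : ↥(stabilizer G ω), h • ω = ω := fun h => h.2
  have hU : ∀ A : Set X, A ⊆ orbit G ω → (∀ h : ↥(stabilizer G ω), ∀ a ∈ A, h • a ∈ A) →
      ∃ I : Finset (Fin k), (A \ {ω}).ncard = ∑ i ∈ I, s i ∧ ∀ i, i ∈ I ↔ y i ∈ A := by
    intro A hA hinv
    exact invariant_ncard ω y s hy hinj h1 hω A (hcov ▸ hA) hinv
  have hfinO : (orbit G ω).Finite := Set.finite_range _
  have hidx : (stabilizer G ω).index = 1 + ∑ i, s i := by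
    rw [index_stabilizer]
    obtain ⟨I, hI, hI'⟩ := hU (orbit G ω) subset_rfl (fun h a ha => by
      obtain ⟨g, rfl⟩ := ha
      exact ⟨(h : G) * g, mul_smul _ _ _⟩)
    have hIu : I = Finset.univ := by
      rw [Finset.eq_univ_iff_forall]
      intro i
      rw [hI', hcov]
      exact Or.inr (Set.mem_iUnion.2 ⟨i, mem_orbit_self _⟩)
    rw [← Set.ncard_sdiff_singleton_add_one (mem_orbit_self ω) hfinO, hI, hIu, add_comm]
  have hmax : ∀ K : Subgroup G, stabilizer G ω ≤ K → K = stabilizer G ω ∨ K = ⊤ := by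
    intro K hHK
    have hst : stabilizer ↥K ω = (stabilizer G ω).subgroupOf K := by
      ext k
      rw [mem_stabilizer_iff, Subgroup.mem_subgroupOf, mem_stabilizer_iff]
      rfl
    have hrel : (stabilizer G ω).relIndex K = (orbit ↥K ω).ncard := by
      rw [← index_stabilizer, hst]
      rfl
    have hsub : orbit ↥K ω ⊆ orbit G ω := by
      rintro _ ⟨k, rfl⟩
      exact ⟨(k : G), rfl⟩
    obtain ⟨I, hI, -⟩ := hU (orbit ↥K ω) hsub (fun h a ha => by
      obtain ⟨k, rfl⟩ := ha
      exact ⟨⟨(h : G) * k, K.mul_mem (hHK h.2) k.2⟩, mul_smul (h : G) (k : G) ω⟩)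
    have hcard : (stabilizer G ω).relIndex K = 1 + ∑ i ∈ I, s i := by
      rw [hrel, ← Set.ncard_sdiff_singleton_add_one (mem_orbit_self ω) (Set.finite_range _), hI,
        add_comm]
    have hmul := Subgroup.relIndex_mul_index hHK
    rw [hidx, hcard] at hmul
    rcases hblock I (Dvd.intro _ hmul) with h | h
    · left
      rw [h, Finset.sum_empty, add_zero] at hcard
      exact le_antisymm (Subgroup.relIndex_eq_one.1 hcard) hHK
    · right
      rw [h] at hmul
      have hpos : 0 < 1 + ∑ i, s i := by omega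
      have h2 : K.index = 1 := Nat.eq_of_mul_eq_mul_left hpos (by rw [hmul, mul_one])
      exact Subgroup.index_eq_one.1 h2
  have hnt : Nontrivial G := by
    have h2 : Nontrivial ↥(stabilizer G ω) := hs.toNontrivial
    exact Function.Injective.nontrivial (f := fun x : ↥(stabilizer G ω) => (x : G))
      Subtype.coe_injective
  have hcardG : Nat.card G = (1 + ∑ i, s i) * Nat.card ↥(stabilizer G ω) := by
    rw [← hidx, Subgroup.index_mul_card]
  refine ⟨{ toNontrivial := hnt, eq_bot_or_eq_top_of_normal := fun N hN => ?_ }, hcardG⟩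
  have := hN
  rcases hmax (N ⊔ stabilizer G ω) le_sup_right with hK | hK
  · have hNH : N ≤ stabilizer G ω := hK ▸ le_sup_left
    rcases hs.eq_bot_or_eq_top_of_normal (N.subgroupOf (stabilizer G ω)) inferInstance with
      hM | hM
    · left
      exact (Subgroup.subgroupOf_eq_bot.1 hM).eq_bot_of_le hNH
    · exfalso
      have hHN : stabilizer G ω ≤ N := Subgroup.subgroupOf_eq_top.1 hM
      have hy0 : y ⟨0, hk⟩ ∈ orbit G ω := by
        rw [hcov]
        exact Or.inr (Set.mem_iUnion.2 ⟨⟨0, hk⟩, mem_orbit_self _⟩)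
      obtain ⟨g, hg⟩ := hy0
      have hg' : g • ω = y ⟨0, hk⟩ := hg
      have hfix : ∀ h : ↥(stabilizer G ω), h • y ⟨0, hk⟩ = y ⟨0, hk⟩ := by
        intro h
        have h2 : g⁻¹ * (h : G) * g ∈ stabilizer G ω := by
          have h3 := hN.conj_mem (h : G) (hHN h.2) g⁻¹
          rw [inv_inv] at h3
          exact hNH h3
        have h3 : (g⁻¹ * (h : G) * g) • ω = ω := h2
        rw [← hg']
        show (h : G) • g • ω = g • ω
        have h4 : (h : G) • g • ω = g • (g⁻¹ * (h : G) * g) • ω := by
          rw [smul_smul, smul_smul]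
          congr 1
          group
        rw [h4, h3]
      have h5 : orbit ↥(stabilizer G ω) (y ⟨0, hk⟩) = {y ⟨0, hk⟩} := by
        ext x
        constructor
        · rintro ⟨h, rfl⟩
          exact hfix h
        · rintro rfl
          exact mem_orbit_self _
      exact h1 ⟨0, hk⟩ (by rw [← hy ⟨0, hk⟩, h5, Set.ncard_singleton])
  · rcases hs.eq_bot_or_eq_top_of_normal (N.subgroupOf (stabilizer G ω)) inferInstance with
      hM | hM
    · exfalso
      have hbot : N ⊓ stabilizer G ω = ⊥ := disjoint_iff.1 (Subgroup.subgroupOf_eq_bot.1 hM)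
      have hcN : Nat.card ↥N = 1 + ∑ i, s i := by
        have e1 : N.relIndex (N ⊔ stabilizer G ω) = N.relIndex (stabilizer G ω) :=
          Subgroup.relIndex_sup_left (stabilizer G ω) N
        rw [hK, Subgroup.relIndex_top_right, ← Subgroup.inf_relIndex_right, hbot,
          Subgroup.relIndex_bot_left] at e1
        have e2 := Subgroup.card_mul_index N
        rw [e1, hcardG] at e2
        exact Nat.eq_of_mul_eq_mul_right Nat.card_pos e2
      obtain ⟨m, hm1, hm2⟩ := card_order_p (N := ↥N) p hp (hcN ▸ hpn) (hcN ▸ hpp)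
      have hreg : ∀ x : ↥N, (x : G) • ω = ω → x = 1 := by
        intro x hx
        have h2 : (x : G) ∈ N ⊓ stabilizer G ω := ⟨x.2, hx⟩
        rw [hbot, Subgroup.mem_bot] at h2
        exact Subtype.ext h2
      have hfinj : Function.Injective (fun x : ↥N => (x : G) • ω) := by
        intro x x' hxx
        have hxx' : (x : G) • ω = (x' : G) • ω := hxx
        have h2 : ((x⁻¹ * x' : ↥N) : G) • ω = ω := by
          show ((x : G)⁻¹ * (x' : G)) • ω = ω
          rw [mul_smul, ← hxx', inv_smul_smul]
        exact inv_mul_eq_one.1 (hreg _ h2)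
      have hAc : ((fun x : ↥N => (x : G) • ω) '' {x : ↥N | orderOf x = p}).ncard =
          (p - 1) * m := by
        rw [Set.ncard_image_of_injective _ hfinj, hm2]
      have hAω : ω ∉ (fun x : ↥N => (x : G) • ω) '' {x : ↥N | orderOf x = p} := by
        rintro ⟨x, hx, hxω⟩
        have h2 := hreg x hxω
        rw [h2] at hx
        have h3 : orderOf (1 : ↥N) = p := hx
        rw [orderOf_one] at h3
        exact hp.one_lt.ne h3
      have hAsub : (fun x : ↥N => (x : G) • ω) '' {x : ↥N | orderOf x = p} ⊆ orbit G ω := by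
        rintro _ ⟨x, -, rfl⟩
        exact ⟨(x : G), rfl⟩
      obtain ⟨I, hI, -⟩ := hU _ hAsub (by
        rintro h _ ⟨x, hx, rfl⟩
        have hx' : orderOf x = p := hx
        refine ⟨⟨(h : G) * x * (h : G)⁻¹, hN.conj_mem x x.2 h⟩, ?_, ?_⟩
        · show orderOf (⟨(h : G) * x * (h : G)⁻¹, hN.conj_mem x x.2 h⟩ : ↥N) = p
          rw [Subgroup.orderOf_mk, ← hx', ← Subgroup.orderOf_coe]
          have hsc : SemiconjBy (h : G) (x : G) ((h : G) * x * (h : G)⁻¹) := by
            unfold SemiconjBy
            group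
          exact (hsc.orderOf_eq).symm
        · show ((h : G) * x * (h : G)⁻¹) • ω = (h : G) • (x : G) • ω
          have h2 : (h : G)⁻¹ • ω = ω := by
            rw [inv_smul_eq_iff]
            exact (hω h).symm
          rw [mul_smul, mul_smul, h2])
      rw [Set.sdiff_singleton_eq_self hAω, hAc] at hI
      apply hcount I
      rw [← hI]
      obtain ⟨t, ht⟩ : ∃ t, m = p * t + 1 := ⟨m / p, by have := Nat.div_add_mod m p; omega⟩
      have h2 : (p - 1) * m = (p - 1) + p * (p - 1) * t := by
        rw [ht]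
        ring
      rw [h2, Nat.add_mul_mod_self_left]
      apply Nat.mod_eq_of_lt
      have h3 := hp.two_le
      have h4 : 1 ≤ p - 1 := by omega
      nlinarith
    · right
      have hHN : stabilizer G ω ≤ N := Subgroup.subgroupOf_eq_top.1 hM
      rw [sup_eq_left.2 hHN] at hK
      exact hK

/-- The stabiliser of a point in a subgroup `K`, as a subgroup of the ambient group. -/
def stabSubEquiv {G₀ X : Type*} [Group G₀] [MulAction G₀ X] (K : Subgroup G₀) (ω : X) :
    ↥(stabilizer ↥K ω) ≃* ↥(K ⊓ stabilizer G₀ ω) where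
  toFun h := ⟨((h : ↥K) : G₀), ⟨(h : ↥K).2, h.2⟩⟩
  invFun h := ⟨⟨(h : G₀), h.2.1⟩, h.2.2⟩
  left_inv _ := rfl
  right_inv _ := rfl
  map_mul' _ _ := rfl

theorem orbit_stabSub {G₀ X : Type*} [Group G₀] [MulAction G₀ X] (K : Subgroup G₀) (ω y : X) :
    orbit ↥(stabilizer ↥K ω) y = orbit ↥(K ⊓ stabilizer G₀ ω) y := by
  ext z
  constructor
  · rintro ⟨h, rfl⟩
    exact ⟨stabSubEquiv K ω h, rfl⟩
  · rintro ⟨h, rfl⟩
    exact ⟨(stabSubEquiv K ω).symm h, rfl⟩

/-- `simple_of_suborbits` for a subgroup `K` of a group acting on `X`, with the point stabiliser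
written as an intersection in the ambient group. -/
theorem simple_of_suborbits_sub {G₀ X : Type*} [Group G₀] [MulAction G₀ X] (K : Subgroup G₀)
    [Finite ↥K] (ω : X) (hs : IsSimpleGroup ↥(K ⊓ stabilizer G₀ ω)) {k : ℕ} (y : Fin k → X)
    (s : Fin k → ℕ) (hy : ∀ i, (orbit ↥(K ⊓ stabilizer G₀ ω) (y i)).ncard = s i)
    (hcov : orbit ↥K ω = {ω} ∪ ⋃ i, orbit ↥(K ⊓ stabilizer G₀ ω) (y i))
    (hinj : Function.Injective s) (h1 : ∀ i, s i ≠ 1) (hk : 0 < k)
    (hblock : ∀ I : Finset (Fin k), (1 + ∑ i ∈ I, s i) ∣ (1 + ∑ i, s i) →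
      I = ∅ ∨ I = Finset.univ)
    (p : ℕ) (hp : p.Prime) (hpn : p ∣ 1 + ∑ i, s i) (hpp : ¬ p ^ 2 ∣ 1 + ∑ i, s i)
    (hcount : ∀ I : Finset (Fin k), (∑ i ∈ I, s i) % (p * (p - 1)) ≠ p - 1) :
    IsSimpleGroup ↥K ∧ Nat.card ↥K = (1 + ∑ i, s i) * Nat.card ↥(K ⊓ stabilizer G₀ ω) := by
  have hs' : IsSimpleGroup ↥(stabilizer ↥K ω) := (stabSubEquiv K ω).isSimpleGroup
  have hcov' : orbit ↥K ω = {ω} ∪ ⋃ i, orbit ↥(stabilizer ↥K ω) (y i) := by
    rw [hcov]
    congr 1
    exact Set.iUnion_congr fun i => (orbit_stabSub K ω (y i)).symm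
  obtain ⟨h2, h3⟩ := simple_of_suborbits (G := ↥K) ω hs' y s
    (fun i => by rw [orbit_stabSub]; exact hy i) hcov' hinj h1 hk hblock p hp hpn hpp hcount
  exact ⟨h2, by rw [h3, Nat.card_congr (stabSubEquiv K ω).toEquiv]⟩

end Cfsg.Agent.Lib.helper93
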