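import Cfsg.Agent.Lib.helper93.CrossHT
import Cfsg.Agent.Lib.helper93.CrossGT
import Cfsg.Agent.Lib.helper93.CrossCnt
import Cfsg.Agent.Lib.helper93.LeechPigeon
import Cfsg.Agent.Lib.helper93.SimpleRank

/-!
The stabiliser of the standard cross is a maximal subgroup of `Cfsg.Co0`.

A subgroup `K` containing the stabiliser `H` of the standard cross is compared with `H` and with
`Cfsg.Co0` through the orbit of the minimal vector `4 e_4 - 4 e_7` and, in its stabiliser, the orbit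
of `4 e_4 + 4 e_7`: these orbits are unions of classes of `H` (three classes, of 1104, 97152 and
98304 vectors) and of the joint stabiliser of the two vectors (eight classes), and the only sizes
compatible with the theorem of Lagrange are those of `H` and of the whole group.
-/

set_option autoImplicit false
open Cfsg Cfsg.Agent.Lib.helper9 Cfsg.Agent.Lib.helper33 MulAction

namespace Cfsg.Agent.Lib.helper93

/-! ### the stabiliser of the standard cross -/

/-- the defining property of the stabiliser of the standard cross -/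
def IsCrossStab (H : Subgroup ↥Co0) : Prop :=
  (H : Set ↥Co0) = {g : ↥Co0 | ∀ v : ↥leechLattice, (v : GolayPt → ℤ) ∈ stdCross →
    ((g • v : ↥leechLattice) : GolayPt → ℤ) ∈ stdCross}

theorem mem_crossStab {H : Subgroup ↥Co0} (hH : IsCrossStab H) (g : ↥Co0) :
    g ∈ H ↔ ∀ v : ↥leechLattice, (v : GolayPt → ℤ) ∈ stdCross →
      ((g.1 v : ↥leechLattice) : GolayPt → ℤ) ∈ stdCross := by
  rw [← SetLike.mem_coe, hH]
  rfl

theorem E_coe (p : GolayPt) : (E p : GolayPt → ℤ) = Pi.single p 8 := by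
  funext q
  rw [E_apply, Pi.single_apply]

theorem negE_coe (p : GolayPt) : ((-E p : ↥leechLattice) : GolayPt → ℤ) = Pi.single p (-8) := by
  rw [AddSubgroup.coe_neg, E_coe, Pi.single_neg]

theorem E_mem_std (p : GolayPt) : (E p : GolayPt → ℤ) ∈ stdCross := ⟨p, 8, Or.inl rfl, E_coe p⟩

theorem negE_mem_std (p : GolayPt) : ((-E p : ↥leechLattice) : GolayPt → ℤ) ∈ stdCross :=
  ⟨p, -8, Or.inr rfl, negE_coe p⟩

theorem std_cases (v : ↥leechLattice) (hv : (v : GolayPt → ℤ) ∈ stdCross) :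
    ∃ p, v = E p ∨ v = -E p := by
  obtain ⟨i, s, hs, h⟩ := hv
  refine ⟨i, ?_⟩
  rcases hs with rfl | rfl
  · exact Or.inl (Subtype.ext (by rw [h, E_coe]))
  · exact Or.inr (Subtype.ext (by rw [h, negE_coe]))

theorem permCo_mem_cross {H : Subgroup ↥Co0} (hH : IsCrossStab H) (τ : Equiv.Perm GolayPt)
    (hτ : τ ∈ M24) : permCo τ hτ ∈ H := by
  rw [mem_crossStab hH]
  intro v hv
  obtain ⟨p, rfl | rfl⟩ := std_cases v hv
  · rw [permCo_E]
    exact E_mem_std _
  · rw [co_map_neg, permCo_E]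
    exact negE_mem_std _

theorem signCo_mem_cross {H : Subgroup ↥Co0} (hH : IsCrossStab H) (s : Finset GolayPt)
    (hs : s ∈ supports (golayCode : Set (GolayPt → ZMod 2))) : signCo s hs ∈ H := by
  rw [mem_crossStab hH]
  intro v hv
  obtain ⟨i, t, ht, h⟩ := hv
  refine ⟨i, if i ∈ s then -t else t, ?_, ?_⟩
  · split_ifs <;> rcases ht with rfl | rfl <;> simp
  · rw [signCo_apply, h]
    funext q
    rw [signZ_apply, Pi.single_apply, Pi.single_apply]
    by_cases hq : q = i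
    · subst hq
      rw [if_pos rfl, if_pos rfl]
    · rw [if_neg hq, if_neg hq]
      simp

theorem dot_E (p : GolayPt) (x : GolayPt → ℤ) : dotInt (E p : GolayPt → ℤ) x = 8 * x p := by
  unfold dotInt
  simp only [E_apply, ite_mul, zero_mul]
  rw [Finset.sum_ite_eq' Finset.univ p]
  simp

theorem dot_negE (p : GolayPt) (x : GolayPt → ℤ) :
    dotInt ((-E p : ↥leechLattice) : GolayPt → ℤ) x = -8 * x p := by
  have h := dot_E p x
  unfold dotInt at h ⊢
  rw [AddSubgroup.coe_neg]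
  simp only [Pi.neg_apply, neg_mul, Finset.sum_neg_distrib]
  rw [h]

/-! ### invariants of the stabiliser of the standard cross -/

/-- some vector of the standard cross has inner product `m` with `x` -/
def PXe (m : ℤ) (x : GolayPt → ℤ) : Prop :=
  ∃ c : ↥leechLattice, (c : GolayPt → ℤ) ∈ stdCross ∧ dotInt (c : GolayPt → ℤ) x = m

/-- some vector of the standard cross has an inner product with `x` that is `8` modulo `16` -/
def PXo (x : GolayPt → ℤ) : Prop :=
  ∃ c : ↥leechLattice, (c : GolayPt → ℤ) ∈ stdCross ∧ dotInt (c : GolayPt → ℤ) x % 16 = 8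

theorem PXe_iff (m : ℤ) (x : GolayPt → ℤ) : PXe m x ↔ ∃ p, 8 * x p = m ∨ -8 * x p = m := by
  constructor
  · rintro ⟨c, hc, hd⟩
    obtain ⟨p, rfl | rfl⟩ := std_cases c hc
    · exact ⟨p, Or.inl (by rw [← dot_E]; exact hd)⟩
    · exact ⟨p, Or.inr (by rw [← dot_negE]; exact hd)⟩
  · rintro ⟨p, h | h⟩
    · exact ⟨E p, E_mem_std p, by rw [dot_E]; exact h⟩
    · exact ⟨-E p, negE_mem_std p, by rw [dot_negE]; exact h⟩

theorem PXo_iff (x : GolayPt → ℤ) : PXo x ↔ ∃ p, x p % 2 = 1 := by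
  constructor
  · rintro ⟨c, hc, hd⟩
    obtain ⟨p, rfl | rfl⟩ := std_cases c hc
    · rw [dot_E] at hd
      exact ⟨p, by omega⟩
    · rw [dot_negE] at hd
      exact ⟨p, by omega⟩
  · rintro ⟨p, h⟩
    exact ⟨E p, E_mem_std p, by rw [dot_E]; omega⟩

theorem PXe_map {H : Subgroup ↥Co0} (hH : IsCrossStab H) (g : ↥Co0) (hg : g ∈ H) (m : ℤ)
    (v : ↥leechLattice) (h : PXe m (v : GolayPt → ℤ)) :
    PXe m ((g.1 v : ↥leechLattice) : GolayPt → ℤ) := by
  obtain ⟨c, hc, hd⟩ := h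
  exact ⟨g.1 c, (mem_crossStab hH g).1 hg c hc, by rw [dotInt_map g.1 g.2]; exact hd⟩

theorem PXo_map {H : Subgroup ↥Co0} (hH : IsCrossStab H) (g : ↥Co0) (hg : g ∈ H)
    (v : ↥leechLattice) (h : PXo (v : GolayPt → ℤ)) :
    PXo ((g.1 v : ↥leechLattice) : GolayPt → ℤ) := by
  obtain ⟨c, hc, hd⟩ := h
  exact ⟨g.1 c, (mem_crossStab hH g).1 hg c hc, by rw [dotInt_map g.1 g.2]; exact hd⟩

theorem inv_apply_apply (g : ↥Co0) (v : ↥leechLattice) : (g⁻¹ : ↥Co0).1 (g.1 v) = v :=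
  g.1.symm_apply_apply v

theorem PXe_inv {H : Subgroup ↥Co0} (hH : IsCrossStab H) (g : ↥Co0) (hg : g ∈ H) (m : ℤ)
    (v : ↥leechLattice) :
    PXe m ((g.1 v : ↥leechLattice) : GolayPt → ℤ) ↔ PXe m (v : GolayPt → ℤ) := by
  refine ⟨fun h => ?_, PXe_map hH g hg m v⟩
  have h2 := PXe_map hH g⁻¹ (H.inv_mem hg) m (g.1 v) h
  rw [inv_apply_apply] at h2
  exact h2

theorem PXo_inv {H : Subgroup ↥Co0} (hH : IsCrossStab H) (g : ↥Co0) (hg : g ∈ H)
    (v : ↥leechLattice) :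
    PXo ((g.1 v : ↥leechLattice) : GolayPt → ℤ) ↔ PXo (v : GolayPt → ℤ) := by
  refine ⟨fun h => ?_, PXo_map hH g hg v⟩
  have h2 := PXo_map hH g⁻¹ (H.inv_mem hg) (g.1 v) h
  rw [inv_apply_apply] at h2
  exact h2

/-! ### the class tests -/

theorem cxQB_iff (n : ℕ) : ∀ k, cxQB n k = true ↔ ∃ j < k, getN n j = 10 ∨ getN n j = 6
  | 0 => by simp [cxQB]
  | k + 1 => by
    unfold cxQB
    rw [Bool.or_eq_true, Bool.or_eq_true, nbeq_iff, nbeq_iff, cxQB_iff n k]
    constructor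
    · rintro (h | h | ⟨j, hj, h⟩)
      · exact ⟨k, Nat.lt_succ_self k, Or.inl h⟩
      · exact ⟨k, Nat.lt_succ_self k, Or.inr h⟩
      · exact ⟨j, Nat.lt_succ_of_lt hj, h⟩
    · rintro ⟨j, hj, h⟩
      rcases Nat.lt_succ_iff_lt_or_eq.1 hj with hj' | rfl
      · exact Or.inr (Or.inr ⟨j, hj', h⟩)
      · rcases h with h | h
        · exact Or.inl h
        · exact Or.inr (Or.inl h)

theorem cxCl1_lt (n : ℕ) : cxCl1 n < 3 := by
  unfold cxCl1
  cases Nat.beq (Nat.mod (getN n 0) 2) 1 <;> cases cxQB n 24 <;> decide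

theorem cxCl2_lt (n : ℕ) : cxCl2 n < 8 := by
  unfold cxCl2
  cases Nat.beq (getN n 4) 12 <;> cases Nat.beq (getN n 4) 4 <;> cases Nat.beq (getN n 4) 10 <;>
    cases Nat.beq (getN n 4) 6 <;> cases Nat.beq (getN n 4) 9 <;> cases Nat.beq (getN n 4) 7 <;>
    cases cxQB n 24 <;> decide

/-- the sums of the subfamilies of `N 0, …, N (k - 1)` -/
def subSumsN (N : ℕ → ℕ) : ℕ → List ℕ
  | 0 => [0]
  | k + 1 => subSumsN N k ++ (subSumsN N k).map (fun s => s + N k)

/-- a finite set invariant under a group `G` and covered by classes on which `G` is transitive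
has as many elements as the classes of some subfamily together -/
theorem ncard_mem_subSums (G : Subgroup ↥Co0) (C : ℕ → Set ↥leechLattice) (N : ℕ → ℕ) :
    ∀ (k : ℕ), (∀ i < k, (C i).ncard = N i ∧
        (∀ g ∈ G, ∀ v ∈ C i, (g : ↥Co0).1 v ∈ C i) ∧
        (∀ a ∈ C i, ∀ b ∈ C i, ∃ g ∈ G, (g : ↥Co0).1 a = b)) →
      ∀ O : Set ↥leechLattice, O.Finite → (∀ g ∈ G, ∀ v ∈ O, (g : ↥Co0).1 v ∈ O) →
        (∀ v ∈ O, ∃ i < k, v ∈ C i) → O.ncard ∈ subSumsN N k
  | 0, _, O, _, _, hcov => by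
    have h0 : O = ∅ := by
      ext v
      constructor
      · intro hv
        obtain ⟨i, hi, -⟩ := hcov v hv
        exact absurd hi (Nat.not_lt_zero i)
      · intro hv
        exact absurd hv (Set.notMem_empty v)
    rw [h0, Set.ncard_empty]
    exact List.mem_singleton.2 rfl
  | k + 1, hC, O, hfin, hinv, hcov => by
    have ih := ncard_mem_subSums G C N k (fun i hi => hC i (Nat.lt_succ_of_lt hi))
    show O.ncard ∈ subSumsN N k ++ (subSumsN N k).map (fun s => s + N k)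
    rw [List.mem_append]
    by_cases h : ∃ v ∈ O, v ∈ C k
    · right
      obtain ⟨v0, hv0O, hv0C⟩ := h
      obtain ⟨hn, hCinv, hCtr⟩ := hC k (Nat.lt_succ_self k)
      have hsub : C k ⊆ O := by
        intro b hb
        obtain ⟨g, hg, hgb⟩ := hCtr v0 hv0C b hb
        rw [← hgb]
        exact hinv g hg v0 hv0O
      have h1 := ih (O \ C k) (hfin.subset Set.sdiff_subset)
        (fun g hg v hv => ⟨hinv g hg v hv.1, fun hc => hv.2 (by
          have := hCinv g⁻¹ (G.inv_mem hg) _ hc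
          rwa [show (g⁻¹ : ↥Co0).1 (g.1 v) = v from g.1.symm_apply_apply v] at this)⟩)
        (fun v hv => by
          obtain ⟨i, hi, hvi⟩ := hcov v hv.1
          rcases Nat.lt_succ_iff_lt_or_eq.1 hi with hi' | rfl
          · exact ⟨i, hi', hvi⟩
          · exact absurd hvi hv.2)
      rw [List.mem_map]
      refine ⟨_, h1, ?_⟩
      show (O \ C k).ncard + N k = O.ncard
      rw [← hn]
      exact Set.ncard_sdiff_add_ncard_of_subset hsub hfin
    · left
      refine ih O hfin hinv (fun v hv => ?_)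
      obtain ⟨i, hi, hvi⟩ := hcov v hv
      rcases Nat.lt_succ_iff_lt_or_eq.1 hi with hi' | rfl
      · exact ⟨i, hi', hvi⟩
      · exact absurd ⟨v, hv, hvi⟩ h

/-! ### orbits and stabilisers -/

theorem cx_norm64_finite : {u : ↥leechLattice | sqNorm (u : GolayPt → ℤ) ≤ 64}.Finite := by
  have h1 : (Set.pi Set.univ (fun _ : GolayPt => Set.Icc (-8 : ℤ) 8)).Finite :=
    Set.Finite.pi (fun _ => Set.finite_Icc _ _)
  have h2 := h1.preimage (f := fun u : ↥leechLattice => (u : GolayPt → ℤ))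
    (Set.injOn_of_injective Subtype.val_injective)
  refine h2.subset ?_
  intro u hu
  simp only [Set.mem_preimage, Set.mem_pi, Set.mem_univ, forall_true_left, Set.mem_Icc]
  exact fun p => coord_bound64 _ hu p

theorem cx_Co0_finite : Finite ↥Co0 := by
  have : Finite {u : ↥leechLattice // sqNorm (u : GolayPt → ℤ) ≤ 64} := cx_norm64_finite.to_subtype
  refine Finite.of_injective (fun (g : ↥Co0) (q : GolayPt) =>
    (⟨g.1 (E q), le_of_eq ((g.2.2 (E q)).trans (sqNorm_E q))⟩ :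
      {u : ↥leechLattice // sqNorm (u : GolayPt → ℤ) ≤ 64})) ?_
  intro f g hfg
  exact co_ext f g (fun q => congrArg Subtype.val (congrFun hfg q))

theorem card_orbit_stab (K : Subgroup ↥Co0) (v : ↥leechLattice) :
    Nat.card ↥K = (orbit ↥K v).ncard * Nat.card ↥(K ⊓ stabilizer ↥Co0 v) := by
  have h1 := (stabilizer ↥K v).card_mul_index
  rw [index_stabilizer] at h1
  rw [← h1, Nat.card_congr (stabSubEquiv K v).toEquiv, mul_comm]

theorem card_orbit_stab0 (v : ↥leechLattice) :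
    Nat.card ↥Co0 = (orbit ↥Co0 v).ncard * Nat.card ↥(stabilizer ↥Co0 v) := by
  have h1 := (stabilizer ↥Co0 v).card_mul_index
  rw [index_stabilizer] at h1
  rw [← h1, mul_comm]

theorem mem_orbit_sub (K : Subgroup ↥Co0) (v w : ↥leechLattice) :
    w ∈ orbit ↥K v ↔ ∃ g ∈ K, (g : ↥Co0).1 v = w := by
  constructor
  · rintro ⟨k, rfl⟩
    exact ⟨k.1, k.2, rfl⟩
  · rintro ⟨g, hg, rfl⟩
    exact ⟨⟨g, hg⟩, rfl⟩

/-! ### the classes of the minimal vectors under the stabiliser of the standard cross -/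

theorem qb_iff (x : GolayPt → ℤ) (hb : ∀ p, -8 ≤ x p ∧ x p ≤ 8) :
    cxQB (packV x) 24 = true ↔ PXe 16 x := by
  rw [cxQB_iff, PXe_iff]
  constructor
  · rintro ⟨j, hj, h⟩
    have e := getN_packV x hb j hj
    have := hb (pt j)
    refine ⟨pt j, ?_⟩
    omega
  · rintro ⟨p, h⟩
    have e := getN_packV x hb (idx p) (idx_lt p)
    rw [pt_idx] at e
    have := hb p
    exact ⟨idx p, idx_lt p, by omega⟩

theorem odd_iff (x : GolayPt → ℤ) (hx : x ∈ leechLattice) (hb : ∀ p, -8 ≤ x p ∧ x p ≤ 8) :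
    Nat.beq (Nat.mod (getN (packV x) 0) 2) 1 = true ↔ PXo x := by
  rw [nbeq_iff, PXo_iff]
  have e := getN_packV x hb 0 (by norm_num)
  have h0 := hb (pt 0)
  obtain ⟨m, hm, -, -⟩ := (mem_leechLattice_iff x).1 hx
  constructor
  · intro h
    refine ⟨pt 0, ?_⟩
    change getN (packV x) 0 % 2 = 1 at h
    omega
  · rintro ⟨p, hp⟩
    have h1 := hm p
    have h2 := hm (pt 0)
    unfold Int.ModEq at h1 h2
    show getN (packV x) 0 % 2 = 1
    omega

theorem cl1_inv {H : Subgroup ↥Co0} (hH : IsCrossStab H) (g : ↥Co0) (hg : g ∈ H)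
    (v : ↥leechLattice) (hv : sqNorm (v : GolayPt → ℤ) ≤ 64) :
    cxCl1 (packV ((g.1 v : ↥leechLattice) : GolayPt → ℤ)) = cxCl1 (packV (v : GolayPt → ℤ)) := by
  have hb := coord_bound64 _ hv
  have hb' := coord_bound64 ((g.1 v : ↥leechLattice) : GolayPt → ℤ) (by rw [g.2.2]; exact hv)
  have h1 : Nat.beq (Nat.mod (getN (packV ((g.1 v : ↥leechLattice) : GolayPt → ℤ)) 0) 2) 1 =
      Nat.beq (Nat.mod (getN (packV (v : GolayPt → ℤ)) 0) 2) 1 :=
    Bool.eq_iff_iff.2 (by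
      rw [odd_iff _ (g.1 v).2 hb', odd_iff _ v.2 hb]
      exact PXo_inv hH g hg v)
  have h2 : cxQB (packV ((g.1 v : ↥leechLattice) : GolayPt → ℤ)) 24 =
      cxQB (packV (v : GolayPt → ℤ)) 24 :=
    Bool.eq_iff_iff.2 (by
      rw [qb_iff _ hb', qb_iff _ hb]
      exact PXe_inv hH g hg 16 v)
  unfold cxCl1
  rw [h1, h2]

/-- the class number `i` of the minimal vectors -/
def ClH (i : ℕ) : Set ↥leechLattice :=
  {v | sqNorm (v : GolayPt → ℤ) = 32 ∧ cxCl1 (packV (v : GolayPt → ℤ)) = i}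

theorem ClH_inv {H : Subgroup ↥Co0} (hH : IsCrossStab H) (i : ℕ) (g : ↥Co0) (hg : g ∈ H)
    (v : ↥leechLattice) (hv : v ∈ ClH i) : g.1 v ∈ ClH i :=
  ⟨by rw [g.2.2]; exact hv.1, by
    rw [cl1_inv hH g hg v (by rw [hv.1]; norm_num)]
    exact hv.2⟩

theorem ClH_trans {H : Subgroup ↥Co0} (hH : IsCrossStab H) (i : ℕ) (a b : ↥leechLattice)
    (ha : a ∈ ClH i) (hb : b ∈ ClH i) : ∃ g ∈ H, (g : ↥Co0).1 a = b := by
  refine trans_of_descent H actsXH
    (fun a ha => actsXH_sndM a ha H (permCo_mem_cross hH) (signCo_mem_cross hH)) (ClH i)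
    (fun g hg v hv => ClH_inv hH i g hg v hv) (fun v hv => by rw [hv.1]; norm_num)
    (rootsXH.getD i 0) 10 (fun v hv => ?_) a b ha hb
  obtain ⟨w, hw⟩ := tXH_all (v : GolayPt → ℤ) v.2 hv.1
  rcases fXH_spec _ w hw with hr | hd
  · left
    exact (rootsXH_cl _ hr).trans (by rw [hv.2])
  · exact Or.inr hd

theorem cx_ncard_sub_filter (P : (GolayPt → ℤ) → Prop) (q : ℕ → Bool) (N : ℕ)
    (hPq : ∀ x ∈ leechLattice, sqNorm x = 32 → (P x ↔ q (packV x) = true))
    (hN : EL.countP q = N) :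
    {v : ↥leechLattice | sqNorm (v : GolayPt → ℤ) = 32 ∧ P (v : GolayPt → ℤ)}.ncard = N := by
  rw [ncard_subtype (fun x => sqNorm x = 32 ∧ P x), ncard_min_filter P q hPq, hN]

theorem ClH_ncard (i N : ℕ) (hN : EL.countP (cxT1 i) = N) : (ClH i).ncard = N :=
  cx_ncard_sub_filter (fun x => cxCl1 (packV x) = i) (cxT1 i) N
    (fun x _ _ => by unfold cxT1; rw [nbeq_iff]) hN

/-! ### the vector `4 e_4 + 4 e_7` and the stabiliser of `8 e_4` and `8 e_7` -/

theorem nx1S_mem : memP nx1S = true := by decide +kernel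

/-- the vector `4 e_4 + 4 e_7` of the lattice -/
def x1S : ↥leechLattice := ⟨vecP nx1S, vecP_mem nx1S nx1S_mem⟩

theorem x1S_val : (x1S : GolayPt → ℤ) = vecP nx1S := rfl

theorem x1S_norm : sqNorm (x1S : GolayPt → ℤ) = 32 := by
  rw [x1S_val, vecP_eq_vecL]
  have h := sqNorm_vecL ((List.range 24).map (getN nx1S)) (by decide) 32 (by decide +kernel)
  exact_mod_cast h

theorem nx1S_dig : ∀ i < 24, getN nx1S i = cond (Nat.beq i 4) 12 (cond (Nat.beq i 7) 12 8) := by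
  decide +kernel

theorem x1S_pt (i : ℕ) (hi : i < 24) :
    vecP nx1S (pt i) = if i = 4 then 4 else if i = 7 then 4 else 0 := by
  rw [vecP_pt nx1S i hi, nx1S_dig i hi, cond_beq, cond_beq]
  split_ifs <;> norm_num

theorem dot_x1S (w : GolayPt → ℤ) :
    dotInt (x1S : GolayPt → ℤ) w = 4 * w (pt 4) + 4 * w (pt 7) := by
  rw [x1S_val]
  unfold dotInt
  rw [sum_vecP_eq (fun p => vecP nx1S p * w p),
    Finset.sum_congr rfl (fun i hi => by rw [x1S_pt i (Finset.mem_range.1 hi)])]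
  simp [Finset.sum_range_succ]

/-- the joint stabiliser of `4 e_4 - 4 e_7` and `4 e_4 + 4 e_7` -/
def G0X : Subgroup ↥Co0 := stabilizer ↥Co0 v0S ⊓ stabilizer ↥Co0 x1S

theorem v0S_add_x1S : v0S + x1S = E (pt 4) := by
  apply Subtype.ext
  funext p
  obtain ⟨i, hi, rfl⟩ : ∃ i < 24, p = pt i := ⟨idx p, idx_lt p, (pt_idx p).symm⟩
  rw [AddSubgroup.coe_add, Pi.add_apply, v0S_val, x1S_val, E_apply, v0S_pt i hi, x1S_pt i hi]
  by_cases h4 : i = 4
  · subst h4
    norm_num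
  · have hne : pt i ≠ pt 4 := fun h => h4 (by
      have := congrArg idx h
      rwa [idx_pt hi, idx_pt (by norm_num)] at this)
    rw [if_neg h4, if_neg h4, if_neg hne]
    split_ifs <;> norm_num

/-! ### the cross of `8 e_p` -/

theorem ncard_stdCross : (stdCross : Set (GolayPt → ℤ)).ncard = 48 := by
  have h : stdCross = (fun ib : GolayPt × Bool =>
      (Pi.single ib.1 (if ib.2 then 8 else -8) : GolayPt → ℤ)) '' Set.univ := by
    ext y
    constructor
    · rintro ⟨i, s, hs | hs, rfl⟩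
      · exact ⟨(i, true), trivial, by simp [hs]⟩
      · exact ⟨(i, false), trivial, by simp [hs]⟩
    · rintro ⟨⟨i, b⟩, -, rfl⟩
      cases b
      · exact ⟨i, -8, Or.inr rfl, by simp⟩
      · exact ⟨i, 8, Or.inl rfl, by simp⟩
  rw [h, Set.ncard_image_of_injective, Set.ncard_univ, Nat.card_prod, Nat.card_eq_fintype_card,
    Nat.card_eq_fintype_card, card_golayPt]
  · simp
  · rintro ⟨i, b⟩ ⟨j, c⟩ h
    have h1 := congrFun h i
    simp only [Pi.single_eq_same] at h1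
    by_cases hij : i = j
    · subst hij
      simp only [Pi.single_eq_same] at h1
      cases b <;> cases c <;> simp at h1 ⊢
    · rw [Pi.single_eq_of_ne hij] at h1
      cases b <;> simp at h1

/-- the vector `4 e_p + s e_i` -/
def fourPM (p i : GolayPt) (s : ℤ) : GolayPt → ℤ :=
  fun q => (if q = p then 4 else 0) + (if q = i then s else 0)

theorem fourPM_mem (p i : GolayPt) (s : ℤ) (hs : s = 4 ∨ s = -4) : fourPM p i s ∈ leechLattice := by
  rw [mem_leechLattice_iff]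
  refine Spor.mem_leechSet_of_const_mod_four (fourPM p i s) 0 0 (by decide) ?_ ?_
  · intro q
    unfold fourPM
    rcases hs with rfl | rfl <;> split_ifs <;> decide
  · unfold fourPM
    rw [Finset.sum_add_distrib, Finset.sum_ite_eq' Finset.univ p (fun _ => (4 : ℤ)),
      Finset.sum_ite_eq' Finset.univ i (fun _ => s)]
    simp only [Finset.mem_univ, if_true]
    rcases hs with rfl | rfl <;> decide

theorem cross_E (p : GolayPt) : {y : GolayPt → ℤ | y ∈ leechLattice ∧ sqNorm y = 64 ∧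
    ∃ z ∈ leechLattice, (E p : GolayPt → ℤ) - y = 2 • z} = stdCross := by
  have hn := leech_pigeon.2 (E p : GolayPt → ℤ) (E p).2 (sqNorm_E p)
  symm
  refine Set.eq_of_subset_of_ncard_le ?_ (by rw [hn, ncard_stdCross])
    (Set.finite_of_ncard_ne_zero (by rw [hn]; norm_num))
  rintro y ⟨i, s, hs, rfl⟩
  have key : ∀ t : ℤ, t = 4 ∨ t = -4 → s = -2 * t →
      (E p : GolayPt → ℤ) - Pi.single i s = 2 • fourPM p i t := by
    intro t _ hst
    funext q
    rw [Pi.sub_apply, E_apply, Pi.single_apply, Pi.smul_apply, hst]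
    unfold fourPM
    simp only [nsmul_eq_mul, Nat.cast_ofNat]
    split_ifs <;> ring
  rcases hs with rfl | rfl
  · refine ⟨by rw [← E_coe]; exact (E i).2, by rw [← E_coe]; exact sqNorm_E i,
      fourPM p i (-4), fourPM_mem p i (-4) (Or.inr rfl), key (-4) (Or.inr rfl) (by norm_num)⟩
  · refine ⟨by rw [← negE_coe]; exact (-E i).2, ?_,
      fourPM p i 4, fourPM_mem p i 4 (Or.inl rfl), key 4 (Or.inl rfl) (by norm_num)⟩
    rw [← negE_coe, ← negCo_apply, negCo.2.2]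
    exact sqNorm_E i

theorem stab_E_mem {H : Subgroup ↥Co0} (hH : IsCrossStab H) (p : GolayPt) (g : ↥Co0)
    (hg : g.1 (E p) = E p) : g ∈ H := by
  rw [mem_crossStab hH]
  intro v hv
  rw [← cross_E p] at hv ⊢
  obtain ⟨-, hn, z, hz, he⟩ := hv
  refine ⟨(g.1 v).2, by rw [g.2.2]; exact hn,
    ((g.1 ⟨z, hz⟩ : ↥leechLattice) : GolayPt → ℤ), (g.1 ⟨z, hz⟩).2, ?_⟩
  have e1 : E p - v = (⟨z, hz⟩ : ↥leechLattice) + ⟨z, hz⟩ := by
    apply Subtype.ext
    rw [AddSubgroup.coe_sub, AddSubgroup.coe_add, he, two_smul]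
  have e2 := congrArg g.1 e1
  rw [co_map_sub, hg, g.2.1] at e2
  have e3 := congrArg Subtype.val e2
  rw [AddSubgroup.coe_sub, AddSubgroup.coe_add] at e3
  rw [e3, two_smul]

theorem G0X_le {H : Subgroup ↥Co0} (hH : IsCrossStab H) : G0X ≤ H := by
  intro g hg
  obtain ⟨h1, h2⟩ := Subgroup.mem_inf.1 hg
  have e1 : g.1 v0S = v0S := mem_stabilizer_iff.1 h1
  have e2 : g.1 x1S = x1S := mem_stabilizer_iff.1 h2
  refine stab_E_mem hH (pt 4) g ?_
  rw [← v0S_add_x1S, g.2.1, e1, e2]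

/-! ### the classes of the minimal vectors orthogonal to `4 e_4 - 4 e_7` -/

theorem cl2_inv {H : Subgroup ↥Co0} (hH : IsCrossStab H) (g : ↥Co0) (hg : g ∈ G0X)
    (v : ↥leechLattice) (hv : sqNorm (v : GolayPt → ℤ) ≤ 64) :
    cxCl2 (packV ((g.1 v : ↥leechLattice) : GolayPt → ℤ)) = cxCl2 (packV (v : GolayPt → ℤ)) := by
  obtain ⟨h1, h2⟩ := Subgroup.mem_inf.1 hg
  have e1 : g.1 v0S = v0S := mem_stabilizer_iff.1 h1
  have e2 : g.1 x1S = x1S := mem_stabilizer_iff.1 h2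
  have d1 := dotInt_map g.1 g.2 v0S v
  rw [e1, dot_v0S, dot_v0S] at d1
  have d2 := dotInt_map g.1 g.2 x1S v
  rw [e2, dot_x1S, dot_x1S] at d2
  have hb := coord_bound64 _ hv
  have hb' := coord_bound64 ((g.1 v : ↥leechLattice) : GolayPt → ℤ) (by rw [g.2.2]; exact hv)
  have hdig : getN (packV ((g.1 v : ↥leechLattice) : GolayPt → ℤ)) 4 =
      getN (packV (v : GolayPt → ℤ)) 4 := by
    rw [getN_packV _ hb' 4 (by norm_num), getN_packV _ hb 4 (by norm_num)]
    have : ((g.1 v : ↥leechLattice) : GolayPt → ℤ) (pt 4) = (v : GolayPt → ℤ) (pt 4) := by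
      linarith
    rw [this]
  have hqb : cxQB (packV ((g.1 v : ↥leechLattice) : GolayPt → ℤ)) 24 =
      cxQB (packV (v : GolayPt → ℤ)) 24 :=
    Bool.eq_iff_iff.2 (by
      rw [qb_iff _ hb', qb_iff _ hb]
      exact PXe_inv hH g (G0X_le hH hg) 16 v)
  unfold cxCl2
  rw [hdig, hqb]

/-- the class number `i` of the minimal vectors orthogonal to `4 e_4 - 4 e_7` -/
def ClG (i : ℕ) : Set ↥leechLattice :=
  {v | sqNorm (v : GolayPt → ℤ) = 32 ∧ (dotInt (v0S : GolayPt → ℤ) (v : GolayPt → ℤ) = 0 ∧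
    cxCl2 (packV (v : GolayPt → ℤ)) = i)}

theorem ClG_inv {H : Subgroup ↥Co0} (hH : IsCrossStab H) (i : ℕ) (g : ↥Co0) (hg : g ∈ G0X)
    (v : ↥leechLattice) (hv : v ∈ ClG i) : g.1 v ∈ ClG i := by
  have e1 : g.1 v0S = v0S := mem_stabilizer_iff.1 (Subgroup.mem_inf.1 hg).1
  refine ⟨by rw [g.2.2]; exact hv.1, ?_, ?_⟩
  · have d1 := dotInt_map g.1 g.2 v0S v
    rw [e1] at d1
    rw [d1]
    exact hv.2.1
  · rw [cl2_inv hH g hg v (by rw [hv.1]; norm_num)]
    exact hv.2.2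

theorem cx_snd_inf (H : Subgroup ↥Co0) (a : ℕ → ℕ) (v0 : ↥leechLattice) (n0 : ℕ)
    (hv0 : (v0 : GolayPt → ℤ) = vecP n0) (h64 : sqNorm (v0 : GolayPt → ℤ) ≤ 64) (ha : Snd H a)
    (hfix : a n0 = n0) : Snd (H ⊓ stabilizer ↥Co0 v0) a := by
  obtain ⟨g, hg, h⟩ := ha
  refine ⟨g, Subgroup.mem_inf.2 ⟨hg, ?_⟩, h⟩
  rw [mem_stabilizer_iff]
  apply Subtype.ext
  have h1 := h v0 n0 hv0 h64
  rw [hfix, ← hv0] at h1
  exact h1

theorem actsXG_snd : ∀ a ∈ actsXG, Snd G0X a := fun a ha =>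
  cx_snd_inf _ a x1S nx1S x1S_val (by rw [x1S_norm]; norm_num)
    (snd_stab a v0S n0S v0S_val (by rw [v0S_norm]; norm_num) (sndM_top a (actsXG_sndM a ha))
      (actsXG_fix0 a ha)) (actsXG_fix1 a ha)

theorem ClG_trans {H : Subgroup ↥Co0} (hH : IsCrossStab H) (i : ℕ) (a b : ↥leechLattice)
    (ha : a ∈ ClG i) (hb : b ∈ ClG i) : ∃ g ∈ G0X, (g : ↥Co0).1 a = b := by
  refine trans_of_descent G0X actsXG actsXG_snd (ClG i)
    (fun g hg v hv => ClG_inv hH i g hg v hv) (fun v hv => by rw [hv.1]; norm_num)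
    (rootsXG.getD i 0) 10 (fun v hv => ?_) a b ha hb
  obtain ⟨w, hw⟩ := tXG_all (v : GolayPt → ℤ) v.2 hv.1
  have hd : getN (packV (v : GolayPt → ℤ)) 4 = getN (packV (v : GolayPt → ℤ)) 7 := by
    have := dot_dig (v : GolayPt → ℤ) hv.1
    rw [hv.2.1] at this
    omega
  rcases fXG_spec _ w hw hd with hr | hd'
  · left
    exact (rootsXG_cl _ hr).trans (by rw [hv.2.2])
  · exact Or.inr hd'

theorem ClG_ncard (i N : ℕ) (hN : EL.countP (cxT2 i) = N) : (ClG i).ncard = N :=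
  cx_ncard_sub_filter (fun x => dotInt (v0S : GolayPt → ℤ) x = 0 ∧ cxCl2 (packV x) = i)
    (cxT2 i) N (fun x _ hn => by
      unfold cxT2
      rw [Bool.and_eq_true, nbeq_iff, nbeq_iff, dot_dig x hn]
      constructor
      · rintro ⟨h1, h2⟩
        exact ⟨by omega, h2⟩
      · rintro ⟨h1, h2⟩
        exact ⟨by omega, h2⟩) hN

/-! ### the maximality -/

theorem cxA1 : ∀ s ∈ subSumsN (fun i => cntXL.getD i 0) 3, s ≠ 0 → 18309564000 % s = 0 →
    s = 1104 ∨ s = 196560 := by decide +kernel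

theorem cxA2 : ∀ s ∈ subSumsN (fun i => cntXL.getD (3 + i) 0) 8, s ≠ 0 →
    18309564000 % (1104 * s) = 0 → s = 1 ∨ s = 2 := by decide +kernel

theorem cxA3 : ∀ s ∈ subSumsN (fun i => cntXL.getD (3 + i) 0) 8, s ≠ 0 →
    18309564000 % (196560 * s) = 0 → s = 1 ∨ s = 2 ∨ s = 93150 := by decide +kernel

theorem L32_finite : {v : ↥leechLattice | sqNorm (v : GolayPt → ℤ) = 32}.Finite :=
  cx_norm64_finite.subset (fun v hv => by
    have h : sqNorm (v : GolayPt → ℤ) = 32 := hv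
    show sqNorm (v : GolayPt → ℤ) ≤ 64
    rw [h]
    norm_num)

theorem L32_ncard : {v : ↥leechLattice | sqNorm (v : GolayPt → ℤ) = 32}.ncard = 196560 := by
  have h := cx_ncard_sub_filter (fun _ => True) (fun _ => true) 196560 (fun _ _ _ => by simp)
    (by rw [List.countP_true, EL_length])
  rw [← h]
  congr 1
  ext v
  simp

theorem orbit_v0S : orbit ↥Co0 v0S = {v : ↥leechLattice | sqNorm (v : GolayPt → ℤ) = 32} := by
  ext w
  constructor
  · rintro ⟨g, rfl⟩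
    show sqNorm ((g.1 v0S : ↥leechLattice) : GolayPt → ℤ) = 32
    rw [g.2.2]
    exact v0S_norm
  · intro hw
    obtain ⟨g, hg⟩ := Cfsg.Agent.S0400.result v0S w v0S_norm hw
    exact ⟨g, hg⟩

theorem x1S_dot : dotInt (v0S : GolayPt → ℤ) (x1S : GolayPt → ℤ) = 0 := by
  rw [dot_v0S, x1S_val, x1S_pt 4 (by norm_num), x1S_pt 7 (by norm_num)]
  norm_num

theorem orbit_x1S : orbit ↥(stabilizer ↥Co0 v0S) x1S =
    {v : ↥leechLattice | sqNorm (v : GolayPt → ℤ) = 32 ∧
      dotInt (v0S : GolayPt → ℤ) (v : GolayPt → ℤ) = 0} := by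
  ext w
  rw [mem_orbit_sub]
  constructor
  · rintro ⟨g, hg, rfl⟩
    have e1 : g.1 v0S = v0S := mem_stabilizer_iff.1 hg
    refine ⟨by rw [g.2.2]; exact x1S_norm, ?_⟩
    have d1 := dotInt_map g.1 g.2 v0S x1S
    rw [e1] at d1
    rw [d1]
    exact x1S_dot
  · rintro ⟨hn, hd⟩
    exact stab_v0S_trans 0 (Or.inr (Or.inr rfl)) x1S w x1S_norm hn x1S_dot hd

/-- the order of `Cfsg.Co0` by the joint stabiliser of `4 e_4 - 4 e_7` and `4 e_4 + 4 e_7` -/
theorem card_Co0_G0X : Nat.card ↥Co0 = 196560 * (93150 * Nat.card ↥G0X) := by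
  have h1 := card_orbit_stab0 v0S
  rw [orbit_v0S, L32_ncard] at h1
  have h2 := card_orbit_stab (stabilizer ↥Co0 v0S) x1S
  rw [orbit_x1S, census 0 qC 93150 counts4.2.2.1 qC_iff v0S v0S_norm] at h2
  rw [h1, h2]
  rfl

theorem v0S_mem_ClH : v0S ∈ ClH 0 := by
  refine ⟨v0S_norm, ?_⟩
  rw [v0S_val, packV_vecP n0S (by decide +kernel)]
  decide +kernel

theorem orbit_H_v0S {H : Subgroup ↥Co0} (hH : IsCrossStab H) : orbit ↥H v0S = ClH 0 := by
  ext w
  rw [mem_orbit_sub]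
  constructor
  · rintro ⟨g, hg, rfl⟩
    exact ClH_inv hH 0 g hg v0S v0S_mem_ClH
  · intro hw
    exact ClH_trans hH 0 v0S w v0S_mem_ClH hw

theorem orbit_sub_L32 (K : Subgroup ↥Co0) (v : ↥leechLattice)
    (hv : sqNorm (v : GolayPt → ℤ) = 32) :
    orbit ↥K v ⊆ {v : ↥leechLattice | sqNorm (v : GolayPt → ℤ) = 32} := by
  intro w hw
  obtain ⟨g, -, rfl⟩ := (mem_orbit_sub K v w).1 hw
  show sqNorm ((g.1 v : ↥leechLattice) : GolayPt → ℤ) = 32
  rw [g.2.2]
  exact hv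

/-- the stabiliser of `4 e_4 - 4 e_7` in the stabiliser of the standard cross moves
`4 e_4 + 4 e_7` -/
theorem two_le_orbit {H : Subgroup ↥Co0} (hH : IsCrossStab H) :
    2 ≤ (orbit ↥(H ⊓ stabilizer ↥Co0 v0S) x1S).ncard := by
  obtain ⟨g, hgH, hg⟩ := actXS_sndM H (permCo_mem_cross hH) (signCo_mem_cross hH)
  have e0 : g.1 v0S = v0S := by
    apply Subtype.ext
    rw [hg v0S n0S v0S_val (by rw [v0S_norm]; norm_num), actXS_fix0]
    rfl
  have e1 : ((g.1 x1S : ↥leechLattice) : GolayPt → ℤ) = vecP nmx1S := by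
    rw [hg x1S nx1S x1S_val (by rw [x1S_norm]; norm_num), actXS_x1]
  have hne : x1S ≠ g.1 x1S := by
    intro h
    have h2 := congrArg Subtype.val h
    rw [e1, x1S_val] at h2
    have h3 := vecP_injOn nx1S nmx1S (by decide +kernel) (by decide +kernel) h2
    exact absurd h3 (by decide +kernel)
  have hsub : ({x1S, g.1 x1S} : Set ↥leechLattice) ⊆ orbit ↥(H ⊓ stabilizer ↥Co0 v0S) x1S := by
    intro w hw
    rcases hw with rfl | rfl
    · exact mem_orbit_self _
    · exact (mem_orbit_sub _ _ _).2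
        ⟨g, Subgroup.mem_inf.2 ⟨hgH, mem_stabilizer_iff.2 e0⟩, rfl⟩
  have hfin : (orbit ↥(H ⊓ stabilizer ↥Co0 v0S) x1S).Finite :=
    L32_finite.subset (orbit_sub_L32 _ x1S x1S_norm)
  have := Set.ncard_le_ncard hsub hfin
  rwa [Set.ncard_pair hne] at this

theorem cross_coatom (H : Subgroup ↥Co0) (hH : IsCrossStab H) : IsCoatom H := by
  have := cx_Co0_finite
  have hHcls : ∀ i < 3, (ClH i).ncard = cntXL.getD i 0 ∧
      (∀ g ∈ H, ∀ v ∈ ClH i, (g : ↥Co0).1 v ∈ ClH i) ∧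
      (∀ a ∈ ClH i, ∀ b ∈ ClH i, ∃ g ∈ H, (g : ↥Co0).1 a = b) := fun i hi =>
    ⟨ClH_ncard i _ (cntX1 i hi), fun g hg v hv => ClH_inv hH i g hg v hv,
      fun a ha b hb => ClH_trans hH i a b ha hb⟩
  have hGcls : ∀ i < 8, (ClG i).ncard = cntXL.getD (3 + i) 0 ∧
      (∀ g ∈ G0X, ∀ v ∈ ClG i, (g : ↥Co0).1 v ∈ ClG i) ∧
      (∀ a ∈ ClG i, ∀ b ∈ ClG i, ∃ g ∈ G0X, (g : ↥Co0).1 a = b) := fun i hi =>
    ⟨ClG_ncard i _ (cntX2 i hi), fun g hg v hv => ClG_inv hH i g hg v hv,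
      fun a ha b hb => ClG_trans hH i a b ha hb⟩
  refine ⟨?_, fun K hK => ?_⟩
  · -- the stabiliser is not the whole group
    intro htop
    have h0 : (ClH 0).Nonempty := Set.nonempty_of_ncard_ne_zero (by
      rw [(hHcls 0 (by norm_num)).1]; decide)
    have h1 : (ClH 1).Nonempty := Set.nonempty_of_ncard_ne_zero (by
      rw [(hHcls 1 (by norm_num)).1]; decide)
    obtain ⟨a, ha⟩ := h0
    obtain ⟨b, hb⟩ := h1
    obtain ⟨g, hg⟩ := Cfsg.Agent.S0400.result a b ha.1 hb.1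
    have hg' : g.1 a = b := hg
    have hb0 := ClH_inv hH 0 g (by rw [htop]; exact Subgroup.mem_top g) a ha
    rw [hg'] at hb0
    have := hb0.2.symm.trans hb.2
    exact absurd this (by decide)
  · -- a larger subgroup is the whole group
    have hle : H ≤ K := hK.le
    have hG0K : G0X ≤ K := le_trans (G0X_le hH) hle
    have g0pos : 0 < Nat.card ↥G0X := Nat.card_pos
    -- the orders
    have hK1 := card_orbit_stab K v0S
    have hK2 := card_orbit_stab (K ⊓ stabilizer ↥Co0 v0S) x1S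
    have hKG : K ⊓ stabilizer ↥Co0 v0S ⊓ stabilizer ↥Co0 x1S = G0X := by
      rw [inf_assoc]
      exact inf_eq_right.2 hG0K
    rw [hKG] at hK2
    have hH1 := card_orbit_stab H v0S
    have hH2 := card_orbit_stab (H ⊓ stabilizer ↥Co0 v0S) x1S
    have hHG : H ⊓ stabilizer ↥Co0 v0S ⊓ stabilizer ↥Co0 x1S = G0X := by
      rw [inf_assoc]
      exact inf_eq_right.2 (G0X_le hH)
    rw [hHG] at hH2
    rw [orbit_H_v0S hH, (hHcls 0 (by norm_num)).1] at hH1
    have hm1 : cntXL.getD 0 0 = 1104 := rfl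
    rw [hm1] at hH1
    -- the two orbits of `K`
    have hfin1 : (orbit ↥K v0S).Finite := L32_finite.subset (orbit_sub_L32 K v0S v0S_norm)
    have hfin2 : (orbit ↥(K ⊓ stabilizer ↥Co0 v0S) x1S).Finite :=
      L32_finite.subset (orbit_sub_L32 _ x1S x1S_norm)
    have hn1 := ncard_mem_subSums H ClH (fun i => cntXL.getD i 0) 3 hHcls (orbit ↥K v0S) hfin1
      (fun g hg v hv => by
        obtain ⟨k, hk, rfl⟩ := (mem_orbit_sub K v0S v).1 hv
        exact (mem_orbit_sub K v0S _).2 ⟨g * k, K.mul_mem (hle hg) hk, rfl⟩)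
      (fun v hv => ⟨cxCl1 (packV (v : GolayPt → ℤ)), cxCl1_lt _,
        orbit_sub_L32 K v0S v0S_norm hv, rfl⟩)
    have hn2 := ncard_mem_subSums G0X ClG (fun i => cntXL.getD (3 + i) 0) 8 hGcls
      (orbit ↥(K ⊓ stabilizer ↥Co0 v0S) x1S) hfin2
      (fun g hg v hv => by
        obtain ⟨k, hk, rfl⟩ := (mem_orbit_sub _ x1S v).1 hv
        exact (mem_orbit_sub _ x1S _).2 ⟨g * k, Subgroup.mul_mem _
          (Subgroup.mem_inf.2 ⟨hG0K hg, (Subgroup.mem_inf.1 hg).1⟩) hk, rfl⟩)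
      (fun v hv => by
        obtain ⟨k, hk, rfl⟩ := (mem_orbit_sub _ x1S v).1 hv
        have e1 : k.1 v0S = v0S := mem_stabilizer_iff.1 (Subgroup.mem_inf.1 hk).2
        have d1 := dotInt_map k.1 k.2 v0S x1S
        rw [e1, x1S_dot] at d1
        exact ⟨cxCl2 (packV ((k.1 x1S : ↥leechLattice) : GolayPt → ℤ)), cxCl2_lt _,
          by rw [k.2.2]; exact x1S_norm, d1, rfl⟩)
    have hpos1 : 0 < (orbit ↥K v0S).ncard := (Set.ncard_pos hfin1).2 ⟨v0S, mem_orbit_self _⟩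
    have hpos2 : 0 < (orbit ↥(K ⊓ stabilizer ↥Co0 v0S) x1S).ncard :=
      (Set.ncard_pos hfin2).2 ⟨x1S, mem_orbit_self _⟩
    have hm2 := two_le_orbit hH
    -- the arithmetic
    generalize (orbit ↥K v0S).ncard = n1 at hK1 hn1 hpos1
    generalize (orbit ↥(K ⊓ stabilizer ↥Co0 v0S) x1S).ncard = n2 at hK2 hn2 hpos2
    generalize (orbit ↥(H ⊓ stabilizer ↥Co0 v0S) x1S).ncard = m2 at hH2 hm2
    have hc0 := card_Co0_G0X
    have hdK : Nat.card ↥K ∣ Nat.card ↥Co0 := Subgroup.card_subgroup_dvd_card K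
    have hdH : Nat.card ↥H ∣ Nat.card ↥K := Subgroup.card_dvd_of_le hle
    have hdS : Nat.card ↥(H ⊓ stabilizer ↥Co0 v0S) ∣ Nat.card ↥(K ⊓ stabilizer ↥Co0 v0S) :=
      Subgroup.card_dvd_of_le (inf_le_inf_right _ hle)
    have hneq : Nat.card ↥H ≠ Nat.card ↥K := fun h =>
      hK.ne (Subgroup.eq_of_le_of_card_ge hle (le_of_eq h.symm))
    rw [hK1, hK2, hc0] at hdK
    rw [hH1, hH2, hK1, hK2] at hdH hneq
    rw [hH2, hK2] at hdS
    generalize Nat.card ↥G0X = g0 at g0pos hK2 hH2 hc0 hdK hdH hdS hneq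
    have hd1 : n1 * n2 ∣ 18309564000 := by
      have : n1 * n2 * g0 ∣ 18309564000 * g0 := by
        have e : n1 * (n2 * g0) = n1 * n2 * g0 := by ring
        have e' : 196560 * (93150 * g0) = 18309564000 * g0 := by ring
        rw [e, e'] at hdK
        exact hdK
      exact Nat.dvd_of_mul_dvd_mul_right g0pos this
    have hd2 : m2 ∣ n2 := Nat.dvd_of_mul_dvd_mul_right g0pos hdS
    have hd3 : 1104 * m2 ∣ n1 * n2 := by
      have : 1104 * m2 * g0 ∣ n1 * n2 * g0 := by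
        have e : 1104 * (m2 * g0) = 1104 * m2 * g0 := by ring
        have e' : n1 * (n2 * g0) = n1 * n2 * g0 := by ring
        rw [e, e'] at hdH
        exact hdH
      exact Nat.dvd_of_mul_dvd_mul_right g0pos this
    have hne3 : 1104 * m2 ≠ n1 * n2 := by
      intro h
      apply hneq
      have e : 1104 * (m2 * g0) = 1104 * m2 * g0 := by ring
      have e' : n1 * (n2 * g0) = n1 * n2 * g0 := by ring
      rw [e, e', h]
    have hn1' := cxA1 n1 hn1 (Nat.pos_iff_ne_zero.1 hpos1)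
      (Nat.mod_eq_zero_of_dvd (Dvd.dvd.trans (Dvd.intro n2 rfl) hd1))
    have hm2le : m2 ≤ n2 := Nat.le_of_dvd hpos2 hd2
    rcases hn1' with rfl | rfl
    · rcases cxA2 n2 hn2 (Nat.pos_iff_ne_zero.1 hpos2) (Nat.mod_eq_zero_of_dvd hd1) with rfl | rfl
      · omega
      · have : m2 = 2 := by omega
        subst this
        exact absurd rfl hne3
    · rcases cxA3 n2 hn2 (Nat.pos_iff_ne_zero.1 hpos2) (Nat.mod_eq_zero_of_dvd hd1) with
        rfl | rfl | rfl
      · omega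
      · have : m2 = 2 := by omega
        subst this
        exact absurd hd3 (by decide)
      · apply Subgroup.eq_top_of_card_eq
        rw [hK1, hK2, hc0]

end Cfsg.Agent.Lib.helper93
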