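import Mathlib
import Cfsg.Prelude.Def_Classical
import Cfsg.Prelude.Def_GeometricClasses
import Cfsg.Agent.Lib.helper85.FeBDIM
import Cfsg.Agent.Lib.helper16.FeFROB

/-! S5977/S5978 block [B], piece AKER (helper93 racer copy): for `i = ord_r(q)` odd, `r` odd, and
`A ∈ GL_i(F)` of order `r`, the characteristic polynomial `f` of `A` kills `A`, has `f(1) ≠ 0`, and is
invertible at the inverse transpose of `A`.  Proof by "vector root counting": a monic polynomial of
degree `d` over a commutative ring cannot kill a vector at `d + 1` points whose pairwise differences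
act injectively. -/

set_option autoImplicit false

namespace Cfsg.Agent.Lib.helper96.FE

open Polynomial

/-- vector root counting -/
theorem helper93_root_count {L : Type*} [CommRing L] [Nontrivial L] {R : Type*} [CommRing R]
    {V : Type*} [AddCommGroup V] [Module R V]
    (ρ : L →+* Module.End R V) {ι : Type*} (pt : ι → L) :
    ∀ (s : Finset ι) (g : L[X]), g.Monic → g.natDegree < s.card →
      (∀ a ∈ s, ∀ b ∈ s, a ≠ b → ∀ w : V, ρ (pt a - pt b) w = 0 → w = 0) →
      ∀ v : V, (∀ a ∈ s, ρ (g.eval (pt a)) v = 0) → v = 0 := by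
  classical
  intro s
  induction s using Finset.induction_on with
  | empty => intro g _ h; simp at h
  | insert a s ha ih =>
    intro g hg hdeg hinj v hv
    by_cases h0 : g.natDegree = 0
    · have h1 : g = 1 := eq_one_of_monic_natDegree_zero hg h0
      have h2 := hv a (Finset.mem_insert_self a s)
      rw [h1, eval_one, map_one] at h2
      simpa using h2
    · have hmon : (X - C (pt a)).Monic := monic_X_sub_C _
      have hdecomp : g = C (g.eval (pt a)) + (X - C (pt a)) * (g /ₘ (X - C (pt a))) := by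
        have h3 := modByMonic_add_div g (X - C (pt a))
        rw [modByMonic_X_sub_C_eq_C_eval] at h3
        exact h3.symm
      have hhmon : (g /ₘ (X - C (pt a))).Monic := by
        unfold Monic
        rw [leadingCoeff_divByMonic_of_monic hmon ?_]
        · exact hg
        · rw [degree_X_sub_C, degree_eq_natDegree hg.ne_zero]
          have : 1 ≤ g.natDegree := Nat.one_le_iff_ne_zero.mpr h0
          exact_mod_cast this
      have hhdeg : (g /ₘ (X - C (pt a))).natDegree = g.natDegree - 1 := by
        rw [natDegree_divByMonic g hmon, natDegree_X_sub_C]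
      apply ih (g /ₘ (X - C (pt a))) hhmon ?_ ?_ v ?_
      · rw [Finset.card_insert_of_notMem ha] at hdeg; omega
      · intro b hb c hc hbc
        exact hinj b (Finset.mem_insert_of_mem hb) c (Finset.mem_insert_of_mem hc) hbc
      · intro b hb
        have hba : b ≠ a := fun h => ha (h ▸ hb)
        apply hinj b (Finset.mem_insert_of_mem hb) a (Finset.mem_insert_self a s) hba
        have e1 : g.eval (pt b)
            = g.eval (pt a) + (pt b - pt a) * (g /ₘ (X - C (pt a))).eval (pt b) := by
          conv_lhs => rw [hdecomp]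
          simp
        have e2 := hv b (Finset.mem_insert_of_mem hb)
        have e3 := hv a (Finset.mem_insert_self a s)
        rw [e1, map_add, map_mul, LinearMap.add_apply, e3, zero_add] at e2
        exact e2

/-- `aeval` commutes with transposition. -/
theorem helper93_aeval_transpose {F : Type*} [Field F] {κ : Type} [Fintype κ] [DecidableEq κ]
    (N : Matrix κ κ F) (p : F[X]) : aeval N.transpose p = (aeval N p).transpose := by
  rw [aeval_eq_sum_range, aeval_eq_sum_range, Matrix.transpose_sum]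
  refine Finset.sum_congr rfl fun i _ => ?_
  rw [Matrix.transpose_smul, Matrix.transpose_pow]

theorem helper93_gl_poly_aux {F : Type*} [Field F] [Fintype F] {κ : Type} [Fintype κ]
    [DecidableEq κ] (r : ℕ) [Fact r.Prime] (hr2 : r ≠ 2) (hrF : (r : F) ≠ 0)
    (hκ : Fintype.card κ = orderOf ((Fintype.card F : ℕ) : ZMod r))
    (hi : Odd (orderOf ((Fintype.card F : ℕ) : ZMod r)))
    (A : GL κ F) (hA : orderOf A = r) :
    ∃ f : F[X], aeval A.val f = 0 ∧ f.eval 1 ≠ 0 ∧ IsUnit (aeval ((A⁻¹).val.transpose) f) := by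
  classical
  have hr : r.Prime := Fact.out
  have hAr : A ^ r = 1 := by rw [← hA]; exact pow_orderOf_eq_one A
  obtain ⟨u, hu⟩ : ∃ u : ZMod r, u = ((Fintype.card F : ℕ) : ZMod r) := ⟨_, rfl⟩
  rw [← hu] at hκ hi
  have hipos : 0 < orderOf u := Odd.pos hi
  have hune : u ≠ 0 := by
    intro h
    have h1 : u ^ orderOf u = 1 := pow_orderOf_eq_one u
    have h2 : ∀ n : ℕ, n ≠ 0 → u ^ n = 0 := fun n hn => by rw [h, zero_pow hn]
    exact zero_ne_one ((h2 _ hipos.ne').symm.trans h1)
  have hu0 : ∀ j : ℕ, u ^ j ≠ 0 := fun j => pow_ne_zero j hune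
  have hu1 : ∀ j : ℕ, u ^ j ≠ -1 := by
    intro j hj
    have h2 : u ^ (2 * j) = 1 := by rw [mul_comm, pow_mul, hj]; norm_num
    have h3 : orderOf u ∣ 2 * j := orderOf_dvd_of_pow_eq_one h2
    have h4 : orderOf u ∣ j :=
      (Nat.Coprime.dvd_mul_left (Nat.coprime_two_right.mpr hi)).mp h3
    have h5 : u ^ j = 1 := orderOf_dvd_iff_pow_eq_one.mp h4
    rw [h5] at hj
    have h6 : ((2 : ℕ) : ZMod r) = 0 := by
      have : (1 : ZMod r) + 1 = 0 := by nth_rewrite 1 [hj]; ring
      push_cast
      rw [← this]; norm_num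
    rw [ZMod.natCast_eq_zero_iff] at h6
    have h7 := Nat.le_of_dvd (by norm_num) h6
    have h8 := hr.two_le
    omega
  -- the endomorphism
  obtain ⟨T, hTdef⟩ : ∃ T : Module.End F (κ → F), T = Matrix.toLin' (A : Matrix κ κ F) :=
    ⟨_, rfl⟩
  have hTalg : T = Matrix.toLinAlgEquiv' (A : Matrix κ κ F) := hTdef
  have hTpow : ∀ e : ℕ, T ^ e = Matrix.toLin' ((A ^ e : GL κ F) : Matrix κ κ F) := by
    intro e
    rw [hTalg, ← map_pow, ← Units.val_pow_eq_pow_val]
    rfl
  have hTr : T ^ r = 1 := by
    rw [hTalg, ← map_pow, ← Units.val_pow_eq_pow_val, hAr, Units.val_one, map_one]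
  have hTaeval : ∀ (N : Matrix κ κ F) (p : F[X]),
      aeval (Matrix.toLin' N) p = Matrix.toLin' (aeval N p) := by
    intro N p
    exact Polynomial.aeval_algHom_apply (Matrix.toLinAlgEquiv' : Matrix κ κ F ≃ₐ[F] _) N p
  have hinjpow : ∀ (b : ℕ) (x : κ → F), (T ^ b) x = 0 → x = 0 := by
    intro b x hx
    have e : T ^ ((r - 1) * b) * T ^ b = 1 := by
      rw [← pow_add, show (r - 1) * b + b = r * b from by
        have := hr.two_le
        obtain ⟨c, rfl⟩ : ∃ c, r = c + 1 := ⟨r - 1, by omega⟩
        simp; ring, pow_mul, hTr, one_pow]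
    have h1 : (T ^ ((r - 1) * b) * T ^ b) x = x := by rw [e]; rfl
    rw [Module.End.mul_apply, hx, map_zero] at h1
    exact h1.symm
  -- injectivity of differences
  have hdiff : ∀ a b : ℕ, (a : ZMod r) ≠ (b : ZMod r) → ∀ w : κ → F,
      (T ^ a - T ^ b) w = 0 → w = 0 := by
    intro a b
    wlog hab : b ≤ a generalizing a b
    · intro hne w hw
      refine this b a (by omega) (Ne.symm hne) w ?_
      have : (T ^ b - T ^ a) w = -((T ^ a - T ^ b) w) := by
        simp [LinearMap.sub_apply]
      rw [this, hw, neg_zero]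
    intro hne w hw
    obtain ⟨t, rfl⟩ : ∃ t, a = b + t := ⟨a - b, by omega⟩
    have ht : ¬ r ∣ t := by
      intro hdvd
      apply hne
      have : ((t : ℕ) : ZMod r) = 0 := (ZMod.natCast_eq_zero_iff t r).mpr hdvd
      push_cast
      rw [this, add_zero]
    have hC1 : A ^ t ≠ 1 := by
      intro h
      apply ht
      rw [← hA]
      exact orderOf_dvd_of_pow_eq_one h
    have hCr : (A ^ t) ^ r = 1 := by rw [← pow_mul, mul_comm, pow_mul, hAr, one_pow]
    have hΦ := fe_cyc_zero (F := F) r hrF (hu ▸ hκ) (A ^ t) hC1 hCr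
    rw [← hTpow t] at hΦ
    have hw2 : (T ^ t) w = w := by
      have h1 : (T ^ b) ((T ^ t) w - w) = 0 := by
        rw [map_sub, ← Module.End.mul_apply, ← pow_add]
        rw [LinearMap.sub_apply] at hw
        exact hw
      exact sub_eq_zero.mp (hinjpow b _ h1)
    by_contra hw0
    have hev : Module.End.HasEigenvector (T ^ t) 1 w :=
      ⟨Module.End.mem_eigenspace_iff.mpr (by rw [hw2, one_smul]), hw0⟩
    have h2 := Module.End.aeval_apply_of_hasEigenvector (p := cyclotomic r F) hev
    rw [hΦ, eval_one_cyclotomic_prime, LinearMap.zero_apply] at h2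
    rcases smul_eq_zero.mp h2.symm with h3 | h3
    · exact hrF h3
    · exact hw0 h3
  -- the polynomial
  have hfT : aeval T T.charpoly = 0 := LinearMap.aeval_self_charpoly T
  have hfmon : T.charpoly.Monic := LinearMap.charpoly_monic T
  have hfdeg : T.charpoly.natDegree = orderOf u := by
    rw [LinearMap.charpoly_natDegree, Module.finrank_fintype_fun_eq_card, hκ]
  have hfrob : ∀ j : ℕ, aeval (T ^ (Fintype.card F ^ j)) T.charpoly = 0 := by
    intro j
    rw [fe_frob T T.charpoly j, hfT, zero_pow]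
    exact pow_ne_zero j Fintype.card_ne_zero
  -- root counting with an extra exponent `e₀`
  have key : ∀ e₀ : ℕ, (∀ j : ℕ, u ^ j ≠ (e₀ : ZMod r)) → ∀ v : κ → F,
      (aeval (T ^ e₀) T.charpoly) v = 0 → v = 0 := by
    intro e₀ he₀ v hv
    let ex : Fin (orderOf u) ⊕ Unit → ℕ := fun a =>
      match a with
      | Sum.inl j => Fintype.card F ^ (j : ℕ)
      | Sum.inr _ => e₀
    have hexcast : ∀ j : Fin (orderOf u), ((ex (Sum.inl j) : ℕ) : ZMod r) = u ^ (j : ℕ) := by
      intro j
      show ((Fintype.card F ^ (j : ℕ) : ℕ) : ZMod r) = u ^ (j : ℕ)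
      rw [Nat.cast_pow, ← hu]
    obtain ⟨ρ, hρdef⟩ : ∃ ρ : F[X] →+* Module.End F (κ → F), ∀ p, ρ p = aeval T p :=
      ⟨(aeval T : F[X] →ₐ[F] Module.End F (κ → F)).toRingHom, fun _ => rfl⟩
    have hρ : ∀ e : ℕ, ρ ((T.charpoly.map C).eval (X ^ e)) = aeval (T ^ e) T.charpoly := by
      intro e
      rw [hρdef, eval_map]
      show aeval T (T.charpoly.comp (X ^ e)) = _
      rw [aeval_comp, aeval_X_pow]
    refine helper93_root_count ρ
      (fun a => (X : F[X]) ^ ex a) Finset.univ (T.charpoly.map C) (hfmon.map C) ?_ ?_ v ?_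
    · rw [hfmon.natDegree_map, hfdeg]
      simp
    · intro a _ b _ hab w hw
      have hw' : (T ^ ex a - T ^ ex b) w = 0 := by
        have : ρ ((X : F[X]) ^ ex a - X ^ ex b) = T ^ ex a - T ^ ex b := by
          rw [hρdef]; simp
        rw [← this]; exact hw
      refine hdiff (ex a) (ex b) ?_ w hw'
      rcases a with j | _ <;> rcases b with k | _
      · rw [hexcast, hexcast]
        intro h
        apply hab
        have h2 : (j : ℕ) = k :=
          pow_injOn_Iio_orderOf (Set.mem_Iio.mpr j.2) (Set.mem_Iio.mpr k.2) h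
        exact congrArg Sum.inl (Fin.ext h2)
      · rw [hexcast]; exact he₀ j
      · rw [hexcast]; exact fun h => he₀ k h.symm
      · exact absurd rfl hab
    · intro a _
      rw [hρ]
      rcases a with j | _
      · rw [hfrob j]; rfl
      · exact hv
  refine ⟨T.charpoly, ?_, ?_, ?_⟩
  · have h1 := hTaeval (A : Matrix κ κ F) T.charpoly
    rw [← hTdef, hfT] at h1
    have h2 : Matrix.toLin' (aeval (A : Matrix κ κ F) T.charpoly) = Matrix.toLin' 0 := by
      rw [← h1, map_zero]
    exact Matrix.toLin'.injective h2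
  · intro h1
    have h2 : aeval (T ^ 0) T.charpoly = 0 := by
      have h0 : (1 : Module.End F (κ → F)) = algebraMap F _ 1 := (map_one _).symm
      rw [pow_zero, h0, aeval_algebraMap_apply_eq_algebraMap_eval, h1, map_zero]
    have hpos : 0 < Fintype.card κ := by rw [hκ]; exact hipos
    obtain ⟨k⟩ := Fintype.card_pos_iff.mp hpos
    have h3 := key 0 (fun j => by push_cast; exact hu0 j) (fun _ => (1 : F))
      (by rw [h2]; rfl)
    exact one_ne_zero (congrFun h3 k)
  · have hinv : A⁻¹ = A ^ (r - 1) := by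
      symm
      apply eq_inv_of_mul_eq_one_left
      rw [← pow_succ, Nat.sub_add_cancel hr.one_le, hAr]
    rw [hinv, helper93_aeval_transpose, Matrix.isUnit_iff_isUnit_det, Matrix.det_transpose,
      ← Matrix.isUnit_iff_isUnit_det]
    apply Matrix.mulVec_injective_iff_isUnit.mp
    have hzero : ∀ x : κ → F,
        (aeval ((A ^ (r - 1) : GL κ F) : Matrix κ κ F) T.charpoly).mulVec x = 0 → x = 0 := by
      intro x hx
      have hcast : ((r - 1 : ℕ) : ZMod r) = -1 := by
        rw [Nat.cast_sub hr.one_le, ZMod.natCast_self]; simp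
      apply key (r - 1) (fun j => by rw [hcast]; exact hu1 j) x
      rw [hTpow (r - 1), hTaeval, Matrix.toLin'_apply]
      exact hx
    intro v w hvw
    have h1 := hzero (v - w) (by rw [Matrix.mulVec_sub, hvw, sub_self])
    exact sub_eq_zero.mp h1

/-- AKER (L), helper93 racer copy: for `i = ord_r(q)` odd, `r` odd, `A ∈ GL_i(F)` of order `r`: some
`f` kills `A`, is invertible at the inverse transpose of `A`, and `f(1) ≠ 0`. -/
theorem h93_fe_gl_poly {F : Type*} [Field F] [Fintype F] (r : ℕ) [Fact r.Prime] (hr2 : r ≠ 2)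
    (hrF : (r : F) ≠ 0) (hi : Odd (orderOf ((Fintype.card F : ℕ) : ZMod r)))
    (A : GL (Fin (orderOf ((Fintype.card F : ℕ) : ZMod r))) F) (hA : orderOf A = r) :
    ∃ f : F[X], aeval A.val f = 0 ∧ f.eval 1 ≠ 0 ∧ IsUnit (aeval ((A⁻¹).val.transpose) f) :=
  helper93_gl_poly_aux r hr2 hrF (Fintype.card_fin _) hi A hA

end Cfsg.Agent.Lib.helper96.FE
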