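/-
Words of length 24 over `ZMod 2` as a module for coordinate permutations: the linear action
`act σ`, its mask model on top of helper9's `dec`, and the operators `cyc a` of the group algebra
of the cyclic group generated by the shift `x ↦ x + 1`.
-/
import Mathlib
import Cfsg.Prelude.Def_Sporadic_a
import Cfsg.Agent.Lib.helper9.GolayGens

set_option autoImplicit false

namespace Cfsg.Agent.Lib.helper93

open Cfsg
open Cfsg.Agent.Lib.helper9

/-- binary words of length 24 -/
abbrev GV : Type := GolayPt → ZMod 2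

/-- the coordinate-permutation action of a permutation on words -/
def act (σ : Equiv.Perm GolayPt) : GV →ₗ[ZMod 2] GV :=
  LinearMap.funLeft (ZMod 2) (ZMod 2) σ.symm

theorem act_apply (σ : Equiv.Perm GolayPt) (w : GV) (p : GolayPt) :
    act σ w p = w (σ.symm p) := rfl

theorem act_eq (σ : Equiv.Perm GolayPt) (w : GV) : act σ w = fun p => w (σ.symm p) := rfl

theorem act_mul (σ τ : Equiv.Perm GolayPt) (w : GV) : act (σ * τ) w = act σ (act τ w) := by
  funext p
  rfl

theorem act_one (w : GV) : act 1 w = w := by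
  funext p
  rfl

theorem zmod2_cases' (a : ZMod 2) : a = 0 ∨ a = 1 := by
  revert a; decide

/-! ### masks -/

/-- the number with bits `f 0, …, f (k-1)` -/
def mk (f : ℕ → Bool) : ℕ → ℕ
  | 0 => 0
  | k + 1 => mk f k ||| (bif f k then 2 ^ k else 0)

theorem testBit_mk (f : ℕ → Bool) (k j : ℕ) :
    (mk f k).testBit j = (decide (j < k) && f j) := by
  induction k with
  | zero => simp [mk]
  | succ k ih =>
    rw [mk, Nat.testBit_or, ih]
    by_cases h1 : j < k
    · have h2 : j < k + 1 := by omega
      have h3 : k ≠ j := by omega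
      cases hf : f k <;> simp [h1, h2, h3]
    · by_cases h2 : j = k
      · subst h2
        cases hf : f j <;> simp
      · have h3 : ¬ j < k + 1 := by omega
        have h4 : k ≠ j := fun h => h2 h.symm
        cases hf : f k <;> simp [h1, h3, h4]

/-- action of a table on masks: bit `j` of the result is bit `tbl[j]` of `n` -/
def pm (tbl : List ℕ) (n : ℕ) : ℕ := mk (fun j => n.testBit (tbl.getD j 0)) 24

theorem testBit_pm (tbl : List ℕ) (n j : ℕ) (hj : j < 24) :
    (pm tbl n).testBit j = n.testBit (tbl.getD j 0) := by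
  unfold pm
  rw [testBit_mk]
  simp [hj]

/-- the mask action of a table models composition with the permutation of the table -/
theorem act_inv_dec (σ : Equiv.Perm GolayPt) (tbl : List ℕ)
    (h : ∀ p, idx (σ p) = tbl.getD (idx p) 0) (n : ℕ) : act σ⁻¹ (dec n) = dec (pm tbl n) := by
  funext p
  have h1 : act σ⁻¹ (dec n) p = dec n (σ p) := rfl
  rw [h1, dec_apply, dec_apply, testBit_pm _ _ _ (idx_lt p), h]

theorem single_eq_dec (p : GolayPt) : (Pi.single p 1 : GV) = dec (2 ^ idx p) := by
  funext q
  rw [dec_apply, Nat.testBit_two_pow, Pi.single_apply]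
  by_cases h : q = p
  · subst h; simp
  · have h' : idx p ≠ idx q := fun h' => h (idx_injective h').symm
    simp [h, h']

/-- an operator maps into a submodule as soon as it does so on the 24 unit masks -/
theorem op_mem_of_basis (P : GV →ₗ[ZMod 2] GV) (N : Submodule (ZMod 2) GV)
    (h : ∀ i < 24, P (dec (2 ^ i)) ∈ N) (w : GV) : P w ∈ N := by
  have hw : w = ∑ p, Pi.single p (w p) := (Finset.univ_sum_single w).symm
  rw [hw, map_sum]
  refine Submodule.sum_mem _ fun p _ => ?_
  rcases zmod2_cases' (w p) with h0 | h1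
  · rw [h0, Pi.single_zero, map_zero]; exact N.zero_mem
  · rw [h1, single_eq_dec]; exact h _ (idx_lt p)

/-- two operators agree as soon as they do on the 24 unit masks -/
theorem op_ext (P Q : GV →ₗ[ZMod 2] GV) (h : ∀ i < 24, P (dec (2 ^ i)) = Q (dec (2 ^ i)))
    (w : GV) : P w = Q w := by
  have h1 : (P - Q) w ∈ (⊥ : Submodule (ZMod 2) GV) := by
    apply op_mem_of_basis
    intro i hi
    rw [Submodule.mem_bot, LinearMap.sub_apply, h i hi, sub_self]
  rw [Submodule.mem_bot, LinearMap.sub_apply, sub_eq_zero] at h1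
  exact h1

theorem sum_dec (n : ℕ) : ∑ p, dec n p = (pc n : ZMod 2) := by
  rw [pc_eq_cnt, ← sum_ite_idx]
  rfl

/-! ### the shift and the cyclic operators -/

/-- table of `x ↦ x - 1` -/
def tblShiftInv : List ℕ :=
  [22, 0, 1, 2, 3, 4, 5, 6, 7, 8, 9, 10, 11, 12, 13, 14, 15, 16, 17, 18, 19, 20, 21, 23]

theorem shiftInv_tbl : ∀ p : GolayPt, idx (shiftPerm⁻¹ p) = tblShiftInv.getD (idx p) 0 := by
  decide +kernel

/-- the shift operator on words -/
def shiftOp : GV →ₗ[ZMod 2] GV := act shiftPerm

/-- cyclic rotation of the low 23 bits of a mask (bit 23 is kept) -/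
def rot (n : ℕ) : ℕ := ((n &&& 4194303) <<< 1) ||| ((n >>> 22) &&& 1) ||| (n &&& 8388608)

theorem testBit_rot (n j : ℕ) (hj : j < 24) :
    (rot n).testBit j = n.testBit (tblShiftInv.getD j 0) := by
  unfold rot
  simp only [Nat.testBit_or, Nat.testBit_and, Nat.testBit_shiftLeft, Nat.testBit_shiftRight]
  interval_cases j <;> simp [tblShiftInv, Nat.testBit]

theorem shiftOp_dec (n : ℕ) : shiftOp (dec n) = dec (rot n) := by
  funext p
  have h1 : shiftOp (dec n) p = dec n (shiftPerm⁻¹ p) := rfl
  rw [h1, dec_apply, dec_apply, testBit_rot _ _ (idx_lt p), shiftInv_tbl]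

/-- the operator `∑ₖ aₖ shift^k` of a polynomial mask `a` -/
def cyc (a : ℕ) : GV →ₗ[ZMod 2] GV :=
  ∑ k ∈ Finset.range 23, if a.testBit k = true then shiftOp ^ k else 0

theorem cyc_apply (a : ℕ) (w : GV) :
    cyc a w = ∑ k ∈ Finset.range 23, if a.testBit k = true then (shiftOp ^ k) w else 0 := by
  unfold cyc
  rw [LinearMap.sum_apply]
  refine Finset.sum_congr rfl fun k _ => ?_
  by_cases h : a.testBit k = true
  · rw [if_pos h, if_pos h]
  · rw [if_neg h, if_neg h]; rfl

/-- accumulator loop for the cyclic product of masks -/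
def cmulAux (a : ℕ) : ℕ → ℕ → ℕ → ℕ → ℕ
  | 0, _, _, acc => acc
  | f + 1, i, cur, acc => cmulAux a f (i + 1) (rot cur) (bif a.testBit i then acc ^^^ cur else acc)

/-- the cyclic product: xor of the rotations `rot^k n` over the set bits `k < 23` of `a` -/
def cmul (a n : ℕ) : ℕ := cmulAux a 23 0 n 0

theorem dec_cmulAux (a : ℕ) (f i cur acc : ℕ) :
    dec (cmulAux a f i cur acc) = dec acc +
      ∑ k ∈ Finset.range f, if a.testBit (i + k) = true then (shiftOp ^ k) (dec cur) else 0 := by
  induction f generalizing i cur acc with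
  | zero => simp [cmulAux]
  | succ f ih =>
    rw [cmulAux, ih, Finset.sum_range_succ']
    have h1 : ∀ k, (shiftOp ^ k) (dec (rot cur)) = (shiftOp ^ (k + 1)) (dec cur) := by
      intro k
      rw [← shiftOp_dec, pow_succ, Module.End.mul_apply]
    have h2 : ∑ k ∈ Finset.range f,
        (if a.testBit (i + 1 + k) = true then (shiftOp ^ k) (dec (rot cur)) else 0) =
        ∑ k ∈ Finset.range f,
        (if a.testBit (i + (k + 1)) = true then (shiftOp ^ (k + 1)) (dec cur) else 0) := by
      refine Finset.sum_congr rfl fun k _ => ?_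
      rw [h1, show i + 1 + k = i + (k + 1) by omega]
    rw [h2]
    simp only [pow_zero, Module.End.one_apply, add_zero]
    cases hb : a.testBit i
    · simp only [cond_false, Bool.false_eq_true, if_false, add_zero]
    · simp only [cond_true, if_true, dec_xor]
      abel

theorem cyc_dec (a n : ℕ) : cyc a (dec n) = dec (cmul a n) := by
  unfold cmul
  rw [dec_cmulAux, dec_zero, zero_add, cyc_apply]
  refine Finset.sum_congr rfl fun k _ => ?_
  rw [zero_add]

/-! ### invariant subspaces -/

/-- a subspace invariant under the code automorphisms -/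
def Inv (W : Submodule (ZMod 2) GV) : Prop := ∀ σ ∈ M24, ∀ w ∈ W, act σ w ∈ W

theorem shiftOp_pow_mem {W : Submodule (ZMod 2) GV} (hW : Inv W) (k : ℕ) (w : GV) (hw : w ∈ W) :
    (shiftOp ^ k) w ∈ W := by
  induction k with
  | zero => simpa using hw
  | succ k ih =>
    rw [pow_succ', Module.End.mul_apply]
    exact hW _ shift_mem_M24 _ ih

theorem cyc_mem {W : Submodule (ZMod 2) GV} (hW : Inv W) (a : ℕ) (w : GV) (hw : w ∈ W) :
    cyc a w ∈ W := by
  rw [cyc_apply]
  refine Submodule.sum_mem _ fun k _ => ?_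
  by_cases h : a.testBit k = true
  · rw [if_pos h]; exact shiftOp_pow_mem hW k w hw
  · rw [if_neg h]; exact W.zero_mem

theorem cmul_mem {W : Submodule (ZMod 2) GV} (hW : Inv W) (a n : ℕ) (hn : dec n ∈ W) :
    dec (cmul a n) ∈ W := by
  rw [← cyc_dec]; exact cyc_mem hW a _ hn

/-- the mask action of a table whose permutation lies in `M24` preserves invariant subspaces -/
theorem pm_mem {W : Submodule (ZMod 2) GV} (hW : Inv W) (σ : Equiv.Perm GolayPt) (hσ : σ ∈ M24)
    (tbl : List ℕ) (h : ∀ p, idx (σ p) = tbl.getD (idx p) 0) (n : ℕ) (hn : dec n ∈ W) :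
    dec (pm tbl n) ∈ W := by
  rw [← act_inv_dec σ tbl h]
  exact hW _ (inv_mem hσ) _ hn

theorem spanL_le {W : Submodule (ZMod 2) GV} (l : List ℕ) (h : ∀ b ∈ l, dec b ∈ W) :
    spanL l ≤ W := by
  unfold spanL
  rw [Submodule.span_le]
  rintro w ⟨b, hb, rfl⟩
  exact h b hb

theorem dec_mem_spanL (l : List ℕ) (n : ℕ) (hn : n ∈ comb l) : dec n ∈ spanL l :=
  (mem_spanL_iff l _).2 ⟨n, hn, rfl⟩

end Cfsg.Agent.Lib.helper93
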