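import Cfsg.Agent.Lib.helper93.LeechCntDefs

/-! Packed counts of the four tests (part 0). -/

set_option autoImplicit false
open Cfsg Cfsg.Agent.Lib.helper9

namespace Cfsg.Agent.Lib.helper93

set_option maxRecDepth 100000 in
set_option maxHeartbeats 0 in
theorem cK1_eq : (gen1.map (kapL qsS)).sum = 9224390184622096472 := by
  decide +kernel

set_option maxRecDepth 100000 in
set_option maxHeartbeats 0 in
theorem cK2_0 : cK2 0 = 110686234682702430720 := by
  decide +kernel

set_option maxRecDepth 100000 in
set_option maxHeartbeats 0 in
theorem cK2_1 : cK2 1 = 55346495042715910496 := by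
  decide +kernel

set_option maxRecDepth 100000 in
set_option maxHeartbeats 0 in
theorem cK2_2 : cK2 2 = 46123685955546120544 := by
  decide +kernel

set_option maxRecDepth 100000 in
set_option maxHeartbeats 0 in
theorem cK2_3 : cK2 3 = 46123685955546120544 := by
  decide +kernel


end Cfsg.Agent.Lib.helper93
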