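import Cfsg.Agent.Lib.helper93.LeechEnum

/-!
Four tests on the packed vectors of norm 32: the inner product with `4 e_4 - 4 e_7` is `-16`, `-8`
or `0`, and the distance to a fixed vector of norm 48 is 32.
-/

set_option autoImplicit false
open Cfsg Cfsg.Agent.Lib.helper9

namespace Cfsg.Agent.Lib.helper93

/-- the inner product with `4 e_4 - 4 e_7` is `-16` -/
def qA (n : ℕ) : Bool := Nat.beq (Nat.add (getN n 4) 4) (getN n 7)

/-- the inner product with `4 e_4 - 4 e_7` is `-8` -/
def qB (n : ℕ) : Bool := Nat.beq (Nat.add (getN n 4) 2) (getN n 7)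

/-- the inner product with `4 e_4 - 4 e_7` is `0` -/
def qC (n : ℕ) : Bool := Nat.beq (getN n 4) (getN n 7)

/-- the inner product with the vector `u0S` of norm 48 is `24` -/
def qD (n : ℕ) : Bool :=
  Nat.beq (Nat.add (getN n 4) 52)
    (Nat.add (Nat.mul 2 (getN n 7)) (Nat.add (getN n 1) (Nat.add (getN n 2) (Nat.add (getN n 3)
      (Nat.add (getN n 5) (Nat.add (getN n 8) (Nat.add (getN n 11) (getN n 13))))))))

/-- the four tests -/
def qsS : List (ℕ → Bool) := [qA, qB, qC, qD]

/-- the packed counts on a chunk of octads -/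
def cK2 (j : ℕ) : ℕ := cntK qsS gen2 (((wtList 8).drop (j * 100)).take 100)

/-- the packed counts on a chunk of codewords -/
def cK3 (j : ℕ) : ℕ := cntK qsS gen3 ((cwList.drop (j * 256)).take 256)

theorem cntsL_EL' : cntsL qsS EL = (gen1.map (kapL qsS)).sum +
    (∑ j ∈ Finset.range 8, cK2 j + ∑ j ∈ Finset.range 16, cK3 j) := by
  have h2 : ∀ j, cntK qsS gen2 (((wtList 8).drop (j * 100)).take 100) = cK2 j := fun j => rfl
  have h3 : ∀ j, cntK qsS gen3 ((cwList.drop (j * 256)).take 256) = cK3 j := fun j => rfl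
  rw [cntsL_EL qsS]
  simp only [h2, h3]


end Cfsg.Agent.Lib.helper93
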