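import Cfsg.Agent.Lib.helper93.LeechGolay
import Cfsg.Agent.Lib.helper9.GolayWords

/-!
Counting the vectors of `Cfsg.leechLattice` of a given norm `≤ 64`: generating polynomials of
the coordinate boxes, whose coefficients are read off as the base-`2^64` digits of one natural
number.
-/

set_option autoImplicit false
open Cfsg Polynomial Cfsg.Agent.Lib.helper9

namespace Cfsg.Agent.Lib.helper93

/-- the coefficients of a polynomial with natural coefficients below `b` are the base-`b` digits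
of its value at `b` -/
theorem coeff_eq_digit (b : ℕ) : ∀ (e : ℕ) (p : ℕ[X]), (∀ k, p.coeff k < b) →
    p.coeff e = p.eval b / b ^ e % b := by
  intro e
  induction e with
  | zero =>
    intro p hb
    have h := Polynomial.divX_mul_X_add p
    have h1 : p.eval b = (divX p).eval b * b + p.coeff 0 := by
      conv_lhs => rw [← h]
      simp
    rw [h1, pow_zero, Nat.div_one, Nat.mul_add_mod_self_right, Nat.mod_eq_of_lt (hb 0)]
  | succ e ih =>
    intro p hb
    have h := Polynomial.divX_mul_X_add p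
    have h1 : p.eval b = (divX p).eval b * b + p.coeff 0 := by
      conv_lhs => rw [← h]
      simp
    have hb0 : 0 < b := lt_of_le_of_lt (Nat.zero_le _) (hb 0)
    have h2 : p.eval b / b ^ (e + 1) = (divX p).eval b / b ^ e := by
      rw [pow_succ', ← Nat.div_div_eq_div_mul, h1]
      congr 1
      rw [Nat.mul_comm, Nat.mul_add_div hb0, Nat.div_eq_of_lt (hb 0), add_zero]
    rw [h2, ← ih (divX p) (fun k => by rw [Polynomial.coeff_divX]; exact hb (k + 1)),
      Polynomial.coeff_divX]

theorem coeff_le_eval_one (p : ℕ[X]) (k : ℕ) : p.coeff k ≤ p.eval 1 := by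
  rw [Polynomial.eval_eq_sum, Polynomial.sum_def]
  by_cases hk : k ∈ p.support
  · have := Finset.single_le_sum (f := fun e => p.coeff e * 1 ^ e) (fun i _ => Nat.zero_le _) hk
    simpa using this
  · rw [Polynomial.notMem_support_iff.1 hk]
    exact Nat.zero_le _

/-- the exponent of an integer coordinate value -/
def hExp (a : ℤ) : ℕ := 512 * a.natAbs ^ 2 + (a + 8).toNat

/-- generating polynomial of a finite set of coordinate values -/
noncomputable def genP (A : Finset ℤ) : ℕ[X] := ∑ a ∈ A, X ^ hExp a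

/-- total exponent of a vector -/
def totExp (x : GolayPt → ℤ) : ℕ := ∑ i, hExp (x i)

theorem card_filter_totExp (A : GolayPt → Finset ℤ) (e : ℕ) :
    ((Fintype.piFinset A).filter fun x => totExp x = e).card = (∏ i, genP (A i)).coeff e := by
  unfold genP
  rw [Finset.prod_univ_sum, Polynomial.finsetSum_coeff, Finset.card_filter]
  refine Finset.sum_congr rfl fun x _ => ?_
  rw [Finset.prod_pow_eq_pow_sum, Polynomial.coeff_X_pow]
  unfold totExp
  by_cases h : ∑ i, hExp (x i) = e
  · rw [if_pos h, if_pos h.symm]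
  · rw [if_neg h, if_neg (fun h' => h h'.symm)]

theorem eval_one_genP (A : Finset ℤ) : (genP A).eval 1 = A.card := by
  simp [genP, eval_finsetSum]

theorem eval_genP_toFinset (l : List ℤ) (hl : l.Nodup) (b : ℕ) :
    (genP l.toFinset).eval b = (l.map fun a => b ^ hExp a).sum := by
  unfold genP
  rw [eval_finsetSum, List.sum_toFinset _ hl]
  simp

/-! ### The numbers -/

/-- the base of the digits -/
def cBB : ℕ := 2 ^ 64

/-- the truncation modulus -/
def cMM : ℕ := cBB ^ 33280

/-- the coordinate values of each class modulo 4 in `[-8, 8]` -/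
def allowL : ℕ → List ℤ
  | 0 => [-8, -4, 0, 4, 8]
  | 1 => [-7, -3, 1, 5]
  | 2 => [-6, -2, 2, 6]
  | _ => [-5, -1, 3, 7]

/-- value at `cBB` of the generating polynomial of a class -/
def cPv (ρ : ℕ) : ℕ := ((allowL ρ).map fun a => cBB ^ hExp a).sum

/-- truncated power -/
def powT (a : ℕ) : ℕ → ℕ
  | 0 => 1
  | n + 1 => powT a n * a % cMM

/-- the truncated value of the generating polynomial of a fibre -/
def cVt (pe po w : ℕ) : ℕ := powT po w * powT pe (24 - w) % cMM

/-- the number of vectors of a fibre, as a sum of digits -/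
def cKval (pe po r w N : ℕ) : ℕ :=
  (((List.range 385).filter fun s => decide (s % 8 = r)).map fun s =>
    cVt pe po w / cBB ^ (512 * N + s) % cBB).sum

theorem allowL_nodup (k : ℕ) : (allowL k).Nodup := by
  match k with
  | 0 => decide
  | 1 => decide
  | 2 => decide
  | (n + 3) => exact (by decide : ([-5, -1, 3, 7] : List ℤ).Nodup)

theorem allowL_length (k : ℕ) : (allowL k).length ≤ 5 := by
  match k with
  | 0 => decide
  | 1 => decide
  | 2 => decide
  | (n + 3) => exact (by decide : ([-5, -1, 3, 7] : List ℤ).length ≤ 5)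

theorem powT_modEq (a : ℕ) : ∀ n, powT a n ≡ a ^ n [MOD cMM]
  | 0 => by rw [pow_zero]; exact Nat.ModEq.refl _
  | n + 1 => by
    show powT a n * a % cMM ≡ a ^ (n + 1) [MOD cMM]
    rw [pow_succ]
    exact (Nat.mod_modEq _ _).trans ((powT_modEq a n).mul_right a)

theorem cVt_modEq (pe po w : ℕ) : cVt pe po w ≡ po ^ w * pe ^ (24 - w) [MOD cMM] :=
  (Nat.mod_modEq _ _).trans ((powT_modEq po w).mul (powT_modEq pe (24 - w)))

theorem digit_congr {V V' e : ℕ} (h : V ≡ V' [MOD cMM]) (he : e < 33280) :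
    V / cBB ^ e % cBB = V' / cBB ^ e % cBB := by
  have hd : cBB ^ e * cBB ∣ cMM := by
    rw [← pow_succ]
    exact pow_dvd_pow _ he
  have h' : V % cMM = V' % cMM := h
  rw [← Nat.mod_mul_right_div_self, ← Nat.mod_mul_right_div_self V', ← Nat.mod_mod_of_dvd V hd,
    ← Nat.mod_mod_of_dvd V' hd, h']

theorem sum_filter_range (n : ℕ) (p : ℕ → Prop) [DecidablePred p] (f : ℕ → ℕ) :
    ∑ s ∈ (Finset.range n).filter p, f s =
      (((List.range n).filter fun s => decide (p s)).map f).sum := rfl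

/-! ### Boxes and fibres -/

/-- allowed coordinate values -/
noncomputable def allow (ρ : ℤ) : Finset ℤ := (Finset.Icc (-8) 8).filter fun a => a ≡ ρ [ZMOD 4]

theorem mem_allow (ρ a : ℤ) : a ∈ allow ρ ↔ (-8 ≤ a ∧ a ≤ 8) ∧ a ≡ ρ [ZMOD 4] := by
  unfold allow
  rw [Finset.mem_filter, Finset.mem_Icc]

theorem allow_zero : allow 0 = (allowL 0).toFinset := by
  ext a
  rw [mem_allow]
  simp only [allowL, List.toFinset_cons, List.toFinset_nil, Finset.mem_insert,
    Finset.notMem_empty, or_false, Int.ModEq]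
  omega

theorem allow_one : allow 1 = (allowL 1).toFinset := by
  ext a
  rw [mem_allow]
  simp only [allowL, List.toFinset_cons, List.toFinset_nil, Finset.mem_insert,
    Finset.notMem_empty, or_false, Int.ModEq]
  omega

theorem allow_two : allow (0 + 2) = (allowL 2).toFinset := by
  ext a
  rw [mem_allow]
  simp only [allowL, List.toFinset_cons, List.toFinset_nil, Finset.mem_insert,
    Finset.notMem_empty, or_false, Int.ModEq]
  omega

theorem allow_three : allow (1 + 2) = (allowL 3).toFinset := by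
  ext a
  rw [mem_allow]
  simp only [allowL, List.toFinset_cons, List.toFinset_nil, Finset.mem_insert,
    Finset.notMem_empty, or_false, Int.ModEq]
  omega

/-- the box of a code word -/
noncomputable def boxC (ε : ℤ) (c : GolayPt → ZMod 2) : GolayPt → Finset ℤ :=
  fun i => if c i = 0 then allow ε else allow (ε + 2)

/-- the fibre of a code word -/
noncomputable def fib (ε : ℤ) (N : ℕ) (c : GolayPt → ZMod 2) : Finset (GolayPt → ℤ) :=
  (Fintype.piFinset (boxC ε c)).filter fun x => (∑ i, x i ≡ 4 * ε [ZMOD 8]) ∧ sqNorm x = N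

theorem modeq_e (a m : ℤ) (h : a ≡ m [ZMOD 4]) : a ≡ m [ZMOD 2] := by
  unfold Int.ModEq at *; omega

theorem modeq_f (a m : ℤ) (h : a ≡ m + 2 [ZMOD 4]) : a ≡ m [ZMOD 2] := by
  unfold Int.ModEq at *; omega

theorem box_bound (ε : ℤ) (c : GolayPt → ZMod 2) (i : GolayPt) (a : ℤ) (h : a ∈ boxC ε c i) :
    -8 ≤ a ∧ a ≤ 8 := by
  unfold boxC at h
  by_cases hc : c i = 0
  · rw [if_pos hc, mem_allow] at h
    exact h.1
  · rw [if_neg hc, mem_allow] at h
    exact h.1

theorem mem_fib (ε : ℤ) (N : ℕ) (hN : N ≤ 64) (c : GolayPt → ZMod 2) (x : GolayPt → ℤ) :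
    x ∈ fib ε N c ↔ (∀ i, x i ≡ ε [ZMOD 2]) ∧ (∑ i, x i ≡ 4 * ε [ZMOD 8]) ∧ wd ε x = c ∧
      sqNorm x = N := by
  unfold fib
  rw [Finset.mem_filter, Fintype.mem_piFinset]
  constructor
  · rintro ⟨hb, hs, hn⟩
    have key : ∀ i, x i ≡ ε [ZMOD 2] ∧ wd ε x i = c i := by
      intro i
      have hi := hb i
      unfold boxC at hi
      by_cases hc : c i = 0
      · rw [if_pos hc, mem_allow] at hi
        refine ⟨modeq_e _ _ hi.2, ?_⟩
        unfold wd
        rw [if_pos hi.2, hc]
      · rw [if_neg hc, mem_allow] at hi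
        have h2 : x i ≡ ε [ZMOD 2] := modeq_f _ _ hi.2
        refine ⟨h2, ?_⟩
        unfold wd
        rw [if_neg ((modeq_a _ _ h2).mp hi.2), zmod2_eq_one_of_ne_zero _ hc]
    exact ⟨fun i => (key i).1, hs, funext fun i => (key i).2, hn⟩
  · rintro ⟨h2, hs, hw, hn⟩
    refine ⟨fun i => ?_, hs, hn⟩
    have hbd : -8 ≤ x i ∧ x i ≤ 8 := by
      have h1 : x i ^ 2 ≤ sqNorm x :=
        Finset.single_le_sum (f := fun j => x j ^ 2) (fun j _ => sq_nonneg _) (Finset.mem_univ i)
      have h3 : x i ^ 2 ≤ 64 := by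
        rw [hn] at h1
        exact h1.trans (by exact_mod_cast hN)
      constructor <;> nlinarith
    unfold boxC
    have hwi : wd ε x i = c i := congrFun hw i
    unfold wd at hwi
    by_cases hc : c i = 0
    · rw [if_pos hc, mem_allow]
      refine ⟨hbd, ?_⟩
      by_contra hne
      rw [if_neg hne, hc] at hwi
      exact one_ne_zero hwi
    · rw [if_neg hc, mem_allow]
      refine ⟨hbd, (modeq_a _ _ (h2 i)).mpr ?_⟩
      intro he
      rw [if_pos he] at hwi
      exact hc hwi.symm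

theorem totExp_eq (x : GolayPt → ℤ) (hx : ∀ i, -8 ≤ x i ∧ x i ≤ 8) :
    ∃ n s : ℕ, totExp x = 512 * n + s ∧ (n : ℤ) = sqNorm x ∧ (s : ℤ) = ∑ i, x i + 192 ∧
      s ≤ 384 := by
  refine ⟨∑ i, (x i).natAbs ^ 2, ∑ i, (x i + 8).toNat, ?_, ?_, ?_, ?_⟩
  · unfold totExp hExp
    rw [Finset.sum_add_distrib, Finset.mul_sum]
  · unfold sqNorm
    rw [Nat.cast_sum]
    exact Finset.sum_congr rfl fun i _ => by rw [Nat.cast_pow, Int.natAbs_sq]
  · rw [Nat.cast_sum]
    have h : ∀ i, (((x i + 8).toNat : ℕ) : ℤ) = x i + 8 := fun i =>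
      Int.toNat_of_nonneg (by linarith [(hx i).1])
    simp only [h]
    rw [Finset.sum_add_distrib, Finset.sum_const, Finset.card_univ, card_golayPt]
    norm_num
  · have h : ∀ i ∈ (Finset.univ : Finset GolayPt), (x i + 8).toNat ≤ 16 := fun i _ => by
      have := hx i
      omega
    calc ∑ i, (x i + 8).toNat ≤ ∑ _i : GolayPt, 16 := Finset.sum_le_sum h
      _ = 384 := by rw [Finset.sum_const, Finset.card_univ, card_golayPt]; rfl

theorem filter_iff_aux (ε S : ℤ) (r n s N : ℕ) (hr : (4 * ε) % 8 = (r : ℤ))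
    (h3 : (s : ℤ) = S + 192) (h4 : s ≤ 384) :
    ((S ≡ 4 * ε [ZMOD 8]) ∧ (n : ℤ) = N) ↔
      ∃ s', (s' < 385 ∧ s' % 8 = r) ∧ 512 * n + s = 512 * N + s' := by
  unfold Int.ModEq
  constructor
  · rintro ⟨ha, hb⟩
    exact ⟨s, ⟨by omega, by omega⟩, by omega⟩
  · rintro ⟨s', ⟨hs1, hs2⟩, he⟩
    constructor <;> omega

theorem filter_iff (ε : ℤ) (r : ℕ) (hr : (4 * ε) % 8 = (r : ℤ)) (N : ℕ) (x : GolayPt → ℤ)
    (hx : ∀ i, -8 ≤ x i ∧ x i ≤ 8) :
    ((∑ i, x i ≡ 4 * ε [ZMOD 8]) ∧ sqNorm x = N) ↔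
      ∃ s ∈ (Finset.range 385).filter (fun s => s % 8 = r), totExp x = 512 * N + s := by
  obtain ⟨n, s, h1, h2, h3, h4⟩ := totExp_eq x hx
  rw [h1, ← h2]
  simp only [Finset.mem_filter, Finset.mem_range]
  exact filter_iff_aux ε _ r n s N hr h3 h4

theorem card_fib_sum (ε : ℤ) (r : ℕ) (hr : (4 * ε) % 8 = (r : ℤ)) (N : ℕ)
    (c : GolayPt → ZMod 2) :
    (fib ε N c).card = ∑ s ∈ (Finset.range 385).filter (fun s => s % 8 = r),
      (∏ i, genP (boxC ε c i)).coeff (512 * N + s) := by
  have e : fib ε N c = ((Finset.range 385).filter (fun s => s % 8 = r)).biUnion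
      (fun s => (Fintype.piFinset (boxC ε c)).filter fun x => totExp x = 512 * N + s) := by
    ext x
    unfold fib
    rw [Finset.mem_filter, Finset.mem_biUnion, Fintype.mem_piFinset]
    constructor
    · rintro ⟨hb, hP⟩
      obtain ⟨s, hs, he⟩ := (filter_iff ε r hr N x (fun i => box_bound ε c i _ (hb i))).mp hP
      exact ⟨s, hs, Finset.mem_filter.2 ⟨Fintype.mem_piFinset.2 hb, he⟩⟩
    · rintro ⟨s, hs, hm⟩
      rw [Finset.mem_filter, Fintype.mem_piFinset] at hm
      exact ⟨hm.1, (filter_iff ε r hr N x (fun i => box_bound ε c i _ (hm.1 i))).mpr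
        ⟨s, hs, hm.2⟩⟩
  rw [e, Finset.card_biUnion]
  · exact Finset.sum_congr rfl fun s _ => card_filter_totExp _ _
  · intro s _ s' _ hne
    rw [Function.onFun, Finset.disjoint_left]
    intro x hx hx'
    rw [Finset.mem_filter] at hx hx'
    exact hne (by omega)

theorem prod_genP_boxC (ε : ℤ) (c : GolayPt → ZMod 2) :
    ∏ i, genP (boxC ε c i) =
      genP (allow (ε + 2)) ^ hammingNorm c * genP (allow ε) ^ (24 - hammingNorm c) := by
  have h1 : ∀ i, genP (boxC ε c i) = if c i = 0 then genP (allow ε) else genP (allow (ε + 2)) := by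
    intro i
    unfold boxC
    by_cases hc : c i = 0
    · rw [if_pos hc, if_pos hc]
    · rw [if_neg hc, if_neg hc]
  simp only [h1]
  rw [Finset.prod_ite, Finset.prod_const, Finset.prod_const, mul_comm]
  have h2 : (Finset.univ.filter fun i => ¬ c i = 0).card = hammingNorm c := rfl
  have h3 : (Finset.univ.filter fun i => c i = 0).card = 24 - hammingNorm c := by
    have := Finset.card_filter_add_card_filter_not (s := (Finset.univ : Finset GolayPt))
      (fun i => c i = 0)
    rw [Finset.card_univ, card_golayPt, h2] at this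
    omega
  rw [h2, h3]

theorem card_fib (ε : ℤ) (r k k' : ℕ) (hr : (4 * ε) % 8 = (r : ℤ))
    (hk : allow ε = (allowL k).toFinset) (hk' : allow (ε + 2) = (allowL k').toFinset)
    (N : ℕ) (hN : N ≤ 64) (c : GolayPt → ZMod 2) :
    (fib ε N c).card = cKval (cPv k) (cPv k') r (hammingNorm c) N := by
  rw [card_fib_sum ε r hr N c, prod_genP_boxC]
  have hw24 : hammingNorm c ≤ 24 := by
    have := hammingNorm_le_card_fintype (x := c)
    rwa [card_golayPt] at this
  generalize hammingNorm c = w at *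
  generalize hp : genP (allow (ε + 2)) ^ w * genP (allow ε) ^ (24 - w) = p
  have hc1 : (allow ε).card ≤ 5 := by
    rw [hk]; exact (List.toFinset_card_le _).trans (allowL_length k)
  have hc2 : (allow (ε + 2)).card ≤ 5 := by
    rw [hk']; exact (List.toFinset_card_le _).trans (allowL_length k')
  have hcoef : ∀ j, p.coeff j < cBB := by
    intro j
    refine lt_of_le_of_lt (coeff_le_eval_one p j) ?_
    rw [← hp, eval_mul, eval_pow, eval_pow, eval_one_genP, eval_one_genP]
    have h5 : (allow (ε + 2)).card ^ w * (allow ε).card ^ (24 - w) ≤ 5 ^ w * 5 ^ (24 - w) :=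
      Nat.mul_le_mul (Nat.pow_le_pow_left hc2 w) (Nat.pow_le_pow_left hc1 _)
    rw [← pow_add, Nat.add_sub_of_le hw24] at h5
    exact lt_of_le_of_lt h5 (by unfold cBB; norm_num)
  have hev : p.eval cBB = cPv k' ^ w * cPv k ^ (24 - w) := by
    rw [← hp, eval_mul, eval_pow, eval_pow, hk, hk', eval_genP_toFinset _ (allowL_nodup k),
      eval_genP_toFinset _ (allowL_nodup k')]
    rfl
  have hmod : p.eval cBB ≡ cVt (cPv k) (cPv k') w [MOD cMM] := by
    rw [hev]
    exact (cVt_modEq _ _ _).symm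
  have hd : ∀ s ∈ (Finset.range 385).filter (fun s => s % 8 = r),
      p.coeff (512 * N + s) = cVt (cPv k) (cPv k') w / cBB ^ (512 * N + s) % cBB := by
    intro s hs
    rw [Finset.mem_filter, Finset.mem_range] at hs
    rw [coeff_eq_digit cBB _ p hcoef]
    exact digit_congr hmod (by omega)
  rw [Finset.sum_congr rfl hd, sum_filter_range]
  rfl

/-! ### The decomposition of the set of vectors of norm `N` -/

/-- the vectors of parity `ε` and norm `N` -/
noncomputable def parT (ε : ℤ) (N : ℕ) : Finset (GolayPt → ℤ) :=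
  cwList.toFinset.biUnion fun n => fib ε N (dec n)

theorem card_parT (ε : ℤ) (r k k' : ℕ) (hr : (4 * ε) % 8 = (r : ℤ))
    (hk : allow ε = (allowL k).toFinset) (hk' : allow (ε + 2) = (allowL k').toFinset)
    (N : ℕ) (hN : N ≤ 64) :
    (parT ε N).card = (cwList.map fun n => cKval (cPv k) (cPv k') r (pc n) N).sum := by
  unfold parT
  rw [Finset.card_biUnion]
  · rw [List.sum_toFinset _ cwList_nodup]
    congr 1
    refine List.map_congr_left fun n _ => ?_
    rw [card_fib ε r k k' hr hk hk' N hN, hammingNorm_dec]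
  · intro n hn n' hn' hne
    rw [Function.onFun, Finset.disjoint_left]
    intro x hx hx'
    rw [mem_fib ε N hN] at hx hx'
    rw [Finset.mem_coe, List.mem_toFinset] at hn hn'
    exact hne (dec_injOn (cwList_lt n hn) (cwList_lt n' hn') (hx.2.2.1.symm.trans hx'.2.2.1))

theorem mem_parT (ε : ℤ) (N : ℕ) (hN : N ≤ 64) (x : GolayPt → ℤ) :
    x ∈ parT ε N ↔ (∀ i, x i ≡ ε [ZMOD 2]) ∧ (∑ i, x i ≡ 4 * ε [ZMOD 8]) ∧
      wd ε x ∈ golayCode ∧ sqNorm x = N := by
  unfold parT
  rw [Finset.mem_biUnion]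
  constructor
  · rintro ⟨n, hn, hx⟩
    rw [mem_fib ε N hN] at hx
    rw [List.mem_toFinset] at hn
    refine ⟨hx.1, hx.2.1, ?_, hx.2.2.2⟩
    rw [hx.2.2.1]
    exact dec_mem_golayCode hn
  · rintro ⟨h1, h2, h3, h4⟩
    obtain ⟨n, hn, he⟩ := (mem_golayCode_iff _).1 h3
    exact ⟨n, List.mem_toFinset.2 hn, (mem_fib ε N hN _ x).2 ⟨h1, h2, he, h4⟩⟩

set_option linter.constructorNameAsVariable false in
theorem ncard_leech_norm (N : ℕ) (hN : N ≤ 64) :
    {x : GolayPt → ℤ | x ∈ leechLattice ∧ sqNorm x = N}.ncard =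
      (cwList.map fun n => cKval (cPv 0) (cPv 2) 0 (pc n) N).sum +
        (cwList.map fun n => cKval (cPv 1) (cPv 3) 4 (pc n) N).sum := by
  have e : {x : GolayPt → ℤ | x ∈ leechLattice ∧ sqNorm x = N} =
      ((parT 0 N ∪ parT 1 N : Finset (GolayPt → ℤ)) : Set (GolayPt → ℤ)) := by
    ext x
    rw [Finset.mem_coe, Finset.mem_union, mem_parT 0 N hN, mem_parT 1 N hN, Set.mem_ofPred_eq,
      mem_leechLattice_iff]
    constructor
    · rintro ⟨hx, hn⟩
      rcases leechSet_cases x hx with ⟨h1, h2, h3⟩ | ⟨h1, h2, h3⟩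
      · exact Or.inl ⟨h1, by rw [mul_zero]; exact h2, h3, hn⟩
      · exact Or.inr ⟨h1, by rw [mul_one]; exact h2, h3, hn⟩
    · rintro (⟨h1, h2, h3, h4⟩ | ⟨h1, h2, h3, h4⟩)
      · exact ⟨(mem_leechSet_iff x).2 ⟨0, h1, h2, h3⟩, h4⟩
      · exact ⟨(mem_leechSet_iff x).2 ⟨1, h1, h2, h3⟩, h4⟩
  rw [e, Set.ncard_coe_finset, Finset.card_union_of_disjoint,
    card_parT 0 0 0 2 (by norm_num) allow_zero allow_two N hN,
    card_parT 1 4 1 3 (by norm_num) allow_one allow_three N hN]
  rw [Finset.disjoint_left]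
  intro x hx hx'
  rw [mem_parT 0 N hN] at hx
  rw [mem_parT 1 N hN] at hx'
  have h0 := hx.1 none
  have h1 := hx'.1 none
  unfold Int.ModEq at h0 h1
  omega

theorem sum_map_pc (g : ℕ → ℕ) : ∀ L : List ℕ,
    (∀ n ∈ L, pc n = 0 ∨ pc n = 8 ∨ pc n = 12 ∨ pc n = 16 ∨ pc n = 24) →
    (L.map fun n => g (pc n)).sum =
      (L.filter fun n => pc n == 0).length * g 0 + (L.filter fun n => pc n == 8).length * g 8 +
      (L.filter fun n => pc n == 12).length * g 12 + (L.filter fun n => pc n == 16).length * g 16 +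
      (L.filter fun n => pc n == 24).length * g 24
  | [], _ => by simp
  | a :: L, h => by
    have ih := sum_map_pc g L (fun n hn => h n (List.mem_cons_of_mem _ hn))
    rw [List.map_cons, List.sum_cons, ih]
    rcases h a List.mem_cons_self with h0 | h0 | h0 | h0 | h0 <;>
      simp [h0] <;> ring

theorem wtList_0_length : (wtList 0).length = 1 := by decide +kernel

theorem wtList_16_length : (wtList 16).length = 759 := by decide +kernel

theorem wtList_24_length : (wtList 24).length = 1 := by decide +kernel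

theorem sum_cwList_pc (g : ℕ → ℕ) :
    (cwList.map fun n => g (pc n)).sum = g 0 + 759 * g 8 + 2576 * g 12 + 759 * g 16 + g 24 := by
  have h := sum_map_pc g cwList cwList_weights
  have e : ∀ k, (cwList.filter fun n => pc n == k) = wtList k := fun k => rfl
  rw [e, e, e, e, e, wtList_0_length, wtList_8_length, wtList_12_length, wtList_16_length,
    wtList_24_length, one_mul, one_mul] at h
  exact h

/-- the number of vectors of norm `N ≤ 64` of the lattice, by weights of code words -/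
theorem ncard_leech_norm' (N : ℕ) (hN : N ≤ 64) :
    {x : GolayPt → ℤ | x ∈ leechLattice ∧ sqNorm x = N}.ncard =
      (cKval (cPv 0) (cPv 2) 0 0 N + 759 * cKval (cPv 0) (cPv 2) 0 8 N +
        2576 * cKval (cPv 0) (cPv 2) 0 12 N + 759 * cKval (cPv 0) (cPv 2) 0 16 N +
        cKval (cPv 0) (cPv 2) 0 24 N) +
      (cKval (cPv 1) (cPv 3) 4 0 N + 759 * cKval (cPv 1) (cPv 3) 4 8 N +
        2576 * cKval (cPv 1) (cPv 3) 4 12 N + 759 * cKval (cPv 1) (cPv 3) 4 16 N +
        cKval (cPv 1) (cPv 3) 4 24 N) := by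
  rw [ncard_leech_norm N hN, sum_cwList_pc (fun w => cKval (cPv 0) (cPv 2) 0 w N),
    sum_cwList_pc (fun w => cKval (cPv 1) (cPv 3) 4 w N)]

end Cfsg.Agent.Lib.helper93
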