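import Cfsg.Agent.Lib.helper93.LeechCount

/-!
Counting the vectors of `Cfsg.leechLattice` of a given norm `≤ 64` and parity whose coordinates
lie in a prescribed finite set `U ⊆ [-8, 8]`.
-/

set_option autoImplicit false
open Cfsg Polynomial Cfsg.Agent.Lib.helper9

namespace Cfsg.Agent.Lib.helper93

/-- allowed coordinate values inside `U` -/
def allowU (U : Finset ℤ) (ρ : ℤ) : Finset ℤ := U.filter fun a => a ≡ ρ [ZMOD 4]

theorem mem_allowU (U : Finset ℤ) (ρ a : ℤ) : a ∈ allowU U ρ ↔ a ∈ U ∧ a ≡ ρ [ZMOD 4] := by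
  unfold allowU
  rw [Finset.mem_filter]

/-- the box of a code word -/
def boxU (U : Finset ℤ) (ε : ℤ) (c : GolayPt → ZMod 2) : GolayPt → Finset ℤ :=
  fun i => if c i = 0 then allowU U ε else allowU U (ε + 2)

/-- the fibre of a code word -/
def fibU (U : Finset ℤ) (ε : ℤ) (N : ℕ) (c : GolayPt → ZMod 2) : Finset (GolayPt → ℤ) :=
  (Fintype.piFinset (boxU U ε c)).filter fun x => (∑ i, x i ≡ 4 * ε [ZMOD 8]) ∧ sqNorm x = N

theorem boxU_mem (U : Finset ℤ) (ε : ℤ) (c : GolayPt → ZMod 2) (i : GolayPt) (a : ℤ)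
    (h : a ∈ boxU U ε c i) : a ∈ U := by
  unfold boxU at h
  by_cases hc : c i = 0
  · rw [if_pos hc, mem_allowU] at h
    exact h.1
  · rw [if_neg hc, mem_allowU] at h
    exact h.1

theorem mem_fibU (U : Finset ℤ) (ε : ℤ) (N : ℕ) (c : GolayPt → ZMod 2) (x : GolayPt → ℤ) :
    x ∈ fibU U ε N c ↔ (∀ i, x i ≡ ε [ZMOD 2]) ∧ (∑ i, x i ≡ 4 * ε [ZMOD 8]) ∧ wd ε x = c ∧
      sqNorm x = N ∧ ∀ i, x i ∈ U := by
  unfold fibU
  rw [Finset.mem_filter, Fintype.mem_piFinset]
  constructor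
  · rintro ⟨hb, hs, hn⟩
    have key : ∀ i, x i ≡ ε [ZMOD 2] ∧ wd ε x i = c i := by
      intro i
      have hi := hb i
      unfold boxU at hi
      by_cases hc : c i = 0
      · rw [if_pos hc, mem_allowU] at hi
        refine ⟨modeq_e _ _ hi.2, ?_⟩
        unfold wd
        rw [if_pos hi.2, hc]
      · rw [if_neg hc, mem_allowU] at hi
        have h2 : x i ≡ ε [ZMOD 2] := modeq_f _ _ hi.2
        refine ⟨h2, ?_⟩
        unfold wd
        rw [if_neg ((modeq_a _ _ h2).mp hi.2), zmod2_eq_one_of_ne_zero _ hc]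
    exact ⟨fun i => (key i).1, hs, funext fun i => (key i).2, hn,
      fun i => boxU_mem U ε c i _ (hb i)⟩
  · rintro ⟨h2, hs, hw, hn, hU⟩
    refine ⟨fun i => ?_, hs, hn⟩
    unfold boxU
    have hwi : wd ε x i = c i := congrFun hw i
    unfold wd at hwi
    by_cases hc : c i = 0
    · rw [if_pos hc, mem_allowU]
      refine ⟨hU i, ?_⟩
      by_contra hne
      rw [if_neg hne, hc] at hwi
      exact one_ne_zero hwi
    · rw [if_neg hc, mem_allowU]
      refine ⟨hU i, (modeq_a _ _ (h2 i)).mpr ?_⟩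
      intro he
      rw [if_pos he] at hwi
      exact hc hwi.symm

theorem card_fibU_sum (U : Finset ℤ) (hU : ∀ a ∈ U, -8 ≤ a ∧ a ≤ 8) (ε : ℤ) (r : ℕ)
    (hr : (4 * ε) % 8 = (r : ℤ)) (N : ℕ) (c : GolayPt → ZMod 2) :
    (fibU U ε N c).card = ∑ s ∈ (Finset.range 385).filter (fun s => s % 8 = r),
      (∏ i, genP (boxU U ε c i)).coeff (512 * N + s) := by
  have e : fibU U ε N c = ((Finset.range 385).filter (fun s => s % 8 = r)).biUnion
      (fun s => (Fintype.piFinset (boxU U ε c)).filter fun x => totExp x = 512 * N + s) := by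
    ext x
    unfold fibU
    rw [Finset.mem_filter, Finset.mem_biUnion, Fintype.mem_piFinset]
    constructor
    · rintro ⟨hb, hP⟩
      obtain ⟨s, hs, he⟩ :=
        (filter_iff ε r hr N x (fun i => hU _ (boxU_mem U ε c i _ (hb i)))).mp hP
      exact ⟨s, hs, Finset.mem_filter.2 ⟨Fintype.mem_piFinset.2 hb, he⟩⟩
    · rintro ⟨s, hs, hm⟩
      rw [Finset.mem_filter, Fintype.mem_piFinset] at hm
      exact ⟨hm.1, (filter_iff ε r hr N x (fun i => hU _ (boxU_mem U ε c i _ (hm.1 i)))).mpr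
        ⟨s, hs, hm.2⟩⟩
  rw [e, Finset.card_biUnion]
  · exact Finset.sum_congr rfl fun s _ => card_filter_totExp _ _
  · intro s _ s' _ hne
    rw [Function.onFun, Finset.disjoint_left]
    intro x hx hx'
    rw [Finset.mem_filter] at hx hx'
    exact hne (by omega)

theorem prod_genP_boxU (U : Finset ℤ) (ε : ℤ) (c : GolayPt → ZMod 2) :
    ∏ i, genP (boxU U ε c i) =
      genP (allowU U (ε + 2)) ^ hammingNorm c * genP (allowU U ε) ^ (24 - hammingNorm c) := by
  have h1 : ∀ i, genP (boxU U ε c i) =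
      if c i = 0 then genP (allowU U ε) else genP (allowU U (ε + 2)) := by
    intro i
    unfold boxU
    by_cases hc : c i = 0
    · rw [if_pos hc, if_pos hc]
    · rw [if_neg hc, if_neg hc]
  simp only [h1]
  rw [Finset.prod_ite, Finset.prod_const, Finset.prod_const, mul_comm]
  have h2 : (Finset.univ.filter fun i => ¬ c i = 0).card = hammingNorm c := rfl
  have h3 : (Finset.univ.filter fun i => c i = 0).card = 24 - hammingNorm c := by
    have := Finset.card_filter_add_card_filter_not (s := (Finset.univ : Finset GolayPt))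
      (fun i => c i = 0)
    rw [Finset.card_univ, card_golayPt, h2] at this
    omega
  rw [h2, h3]

/-- value at `cBB` of the generating polynomial of a list of coordinate values -/
def cPvL (l : List ℤ) : ℕ := (l.map fun a => cBB ^ hExp a).sum

theorem card_fibU (U : Finset ℤ) (hU : ∀ a ∈ U, -8 ≤ a ∧ a ≤ 8) (ε : ℤ) (r : ℕ)
    (l l' : List ℤ) (hr : (4 * ε) % 8 = (r : ℤ))
    (hl : allowU U ε = l.toFinset) (hl' : allowU U (ε + 2) = l'.toFinset)
    (hnd : l.Nodup) (hnd' : l'.Nodup) (h5 : l.length ≤ 5) (h5' : l'.length ≤ 5)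
    (N : ℕ) (hN : N ≤ 64) (c : GolayPt → ZMod 2) :
    (fibU U ε N c).card = cKval (cPvL l) (cPvL l') r (hammingNorm c) N := by
  rw [card_fibU_sum U hU ε r hr N c, prod_genP_boxU]
  have hw24 : hammingNorm c ≤ 24 := by
    have := hammingNorm_le_card_fintype (x := c)
    rwa [card_golayPt] at this
  generalize hammingNorm c = w at *
  generalize hp : genP (allowU U (ε + 2)) ^ w * genP (allowU U ε) ^ (24 - w) = p
  have hc1 : (allowU U ε).card ≤ 5 := by
    rw [hl]; exact (List.toFinset_card_le _).trans h5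
  have hc2 : (allowU U (ε + 2)).card ≤ 5 := by
    rw [hl']; exact (List.toFinset_card_le _).trans h5'
  have hcoef : ∀ j, p.coeff j < cBB := by
    intro j
    refine lt_of_le_of_lt (coeff_le_eval_one p j) ?_
    rw [← hp, eval_mul, eval_pow, eval_pow, eval_one_genP, eval_one_genP]
    have h5 : (allowU U (ε + 2)).card ^ w * (allowU U ε).card ^ (24 - w) ≤
        5 ^ w * 5 ^ (24 - w) :=
      Nat.mul_le_mul (Nat.pow_le_pow_left hc2 w) (Nat.pow_le_pow_left hc1 _)
    rw [← pow_add, Nat.add_sub_of_le hw24] at h5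
    exact lt_of_le_of_lt h5 (by unfold cBB; norm_num)
  have hev : p.eval cBB = cPvL l' ^ w * cPvL l ^ (24 - w) := by
    rw [← hp, eval_mul, eval_pow, eval_pow, hl, hl', eval_genP_toFinset _ hnd,
      eval_genP_toFinset _ hnd']
    rfl
  have hmod : p.eval cBB ≡ cVt (cPvL l) (cPvL l') w [MOD cMM] := by
    rw [hev]
    exact (cVt_modEq _ _ _).symm
  have hd : ∀ s ∈ (Finset.range 385).filter (fun s => s % 8 = r),
      p.coeff (512 * N + s) = cVt (cPvL l) (cPvL l') w / cBB ^ (512 * N + s) % cBB := by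
    intro s hs
    rw [Finset.mem_filter, Finset.mem_range] at hs
    rw [coeff_eq_digit cBB _ p hcoef]
    exact digit_congr hmod (by omega)
  rw [Finset.sum_congr rfl hd, sum_filter_range]
  rfl

/-- the vectors of parity `ε` and norm `N` with coordinates in `U` -/
def parTU (U : Finset ℤ) (ε : ℤ) (N : ℕ) : Finset (GolayPt → ℤ) :=
  cwList.toFinset.biUnion fun n => fibU U ε N (dec n)

theorem card_parTU (U : Finset ℤ) (hU : ∀ a ∈ U, -8 ≤ a ∧ a ≤ 8) (ε : ℤ) (r : ℕ)
    (l l' : List ℤ) (hr : (4 * ε) % 8 = (r : ℤ))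
    (hl : allowU U ε = l.toFinset) (hl' : allowU U (ε + 2) = l'.toFinset)
    (hnd : l.Nodup) (hnd' : l'.Nodup) (h5 : l.length ≤ 5) (h5' : l'.length ≤ 5)
    (N : ℕ) (hN : N ≤ 64) :
    (parTU U ε N).card = cKval (cPvL l) (cPvL l') r 0 N + 759 * cKval (cPvL l) (cPvL l') r 8 N +
      2576 * cKval (cPvL l) (cPvL l') r 12 N + 759 * cKval (cPvL l) (cPvL l') r 16 N +
      cKval (cPvL l) (cPvL l') r 24 N := by
  unfold parTU
  rw [Finset.card_biUnion]
  · rw [List.sum_toFinset _ cwList_nodup, ← sum_cwList_pc (fun w => cKval (cPvL l) (cPvL l') r w N)]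
    congr 1
    refine List.map_congr_left fun n _ => ?_
    rw [card_fibU U hU ε r l l' hr hl hl' hnd hnd' h5 h5' N hN, hammingNorm_dec]
  · intro n hn n' hn' hne
    rw [Function.onFun, Finset.disjoint_left]
    intro x hx hx'
    rw [mem_fibU] at hx hx'
    rw [Finset.mem_coe, List.mem_toFinset] at hn hn'
    exact hne (dec_injOn (cwList_lt n hn) (cwList_lt n' hn') (hx.2.2.1.symm.trans hx'.2.2.1))

theorem mem_parTU (U : Finset ℤ) (ε : ℤ) (N : ℕ) (x : GolayPt → ℤ) :
    x ∈ parTU U ε N ↔ (∀ i, x i ≡ ε [ZMOD 2]) ∧ (∑ i, x i ≡ 4 * ε [ZMOD 8]) ∧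
      wd ε x ∈ golayCode ∧ sqNorm x = N ∧ ∀ i, x i ∈ U := by
  unfold parTU
  rw [Finset.mem_biUnion]
  constructor
  · rintro ⟨n, hn, hx⟩
    rw [mem_fibU] at hx
    rw [List.mem_toFinset] at hn
    refine ⟨hx.1, hx.2.1, ?_, hx.2.2.2⟩
    rw [hx.2.2.1]
    exact dec_mem_golayCode hn
  · rintro ⟨h1, h2, h3, h4⟩
    obtain ⟨n, hn, he⟩ := (mem_golayCode_iff _).1 h3
    exact ⟨n, List.mem_toFinset.2 hn, (mem_fibU U ε N _ x).2 ⟨h1, h2, he, h4⟩⟩

/-- the even vectors of norm `N` with coordinates in `U` -/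
theorem mem_parTU_zero (U : Finset ℤ) (N : ℕ) (x : GolayPt → ℤ) :
    x ∈ parTU U 0 N ↔ x ∈ leechLattice ∧ (∀ i, x i ≡ 0 [ZMOD 2]) ∧ sqNorm x = N ∧
      ∀ i, x i ∈ U := by
  rw [mem_parTU, mem_leechLattice_iff]
  constructor
  · rintro ⟨h1, h2, h3, h4⟩
    exact ⟨(mem_leechSet_iff x).2 ⟨0, h1, h2, h3⟩, h1, h4⟩
  · rintro ⟨hx, h1, h4⟩
    rcases leechSet_cases x hx with ⟨_, h2, h3⟩ | ⟨h1', _, _⟩
    · exact ⟨h1, by rw [mul_zero]; exact h2, h3, h4⟩
    · exfalso
      have h0 := h1 none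
      have h1 := h1' none
      unfold Int.ModEq at h0 h1
      omega

/-- the odd vectors of norm `N` with coordinates in `U` -/
theorem mem_parTU_one (U : Finset ℤ) (N : ℕ) (x : GolayPt → ℤ) :
    x ∈ parTU U 1 N ↔ x ∈ leechLattice ∧ (∀ i, x i ≡ 1 [ZMOD 2]) ∧ sqNorm x = N ∧
      ∀ i, x i ∈ U := by
  rw [mem_parTU, mem_leechLattice_iff]
  constructor
  · rintro ⟨h1, h2, h3, h4⟩
    exact ⟨(mem_leechSet_iff x).2 ⟨1, h1, h2, h3⟩, h1, h4⟩
  · rintro ⟨hx, h1, h4⟩
    rcases leechSet_cases x hx with ⟨h1', _, _⟩ | ⟨_, h2, h3⟩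
    · exfalso
      have h0 := h1 none
      have h1 := h1' none
      unfold Int.ModEq at h0 h1
      omega
    · exact ⟨h1, by rw [mul_one]; exact h2, h3, h4⟩

/-- all coordinates of a vector of the lattice have the same parity -/
theorem parity_of_memU (x : GolayPt → ℤ) (hx : x ∈ leechLattice) (j : GolayPt) (ε : ℤ)
    (hj : x j ≡ ε [ZMOD 2]) : ∀ i, x i ≡ ε [ZMOD 2] := by
  rw [mem_leechLattice_iff] at hx
  intro i
  rcases leechSet_cases x hx with ⟨h1, _, _⟩ | ⟨h1, _, _⟩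
  · have h0 := h1 i
    have h1 := h1 j
    unfold Int.ModEq at *
    omega
  · have h0 := h1 i
    have h1 := h1 j
    unfold Int.ModEq at *
    omega

/-- the coordinates of a vector of norm at most 64 lie in `[-8, 8]` -/
theorem coord_bound (x : GolayPt → ℤ) (N : ℤ) (hn : sqNorm x = N) (i : GolayPt) :
    x i ^ 2 ≤ N := by
  rw [← hn]
  exact Finset.single_le_sum (f := fun j => x j ^ 2) (fun j _ => sq_nonneg _) (Finset.mem_univ i)

end Cfsg.Agent.Lib.helper93
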