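import Cfsg.Agent.Lib.helper93.LeechXi
import Cfsg.Agent.Lib.helper33.M24Octads

/-!
Computing with elements of `Cfsg.Co0` on packed vectors: coordinate permutations, sign changes,
the extra automorphism, words in such generators, and the descent argument that turns a table of
descending words into a transitivity statement.
-/

set_option autoImplicit false
open Cfsg Cfsg.Agent.Lib.helper9 Cfsg.Agent.Lib.helper33

namespace Cfsg.Agent.Lib.helper93

/-- `a` computes, on packed vectors of norm at most 64, the action of an element of `H` -/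
def Snd (H : Subgroup ↥Co0) (a : ℕ → ℕ) : Prop :=
  ∃ g ∈ H, ∀ (v : ↥leechLattice) (n : ℕ), (v : GolayPt → ℤ) = vecP n →
    sqNorm (v : GolayPt → ℤ) ≤ 64 → ((g.1 v : ↥leechLattice) : GolayPt → ℤ) = vecP (a n)

theorem snd_id (H : Subgroup ↥Co0) : Snd H (fun n => n) :=
  ⟨1, H.one_mem, fun _ _ hv _ => hv⟩

theorem snd_comp (H : Subgroup ↥Co0) (a b : ℕ → ℕ) (ha : Snd H a) (hb : Snd H b) :
    Snd H (fun n => b (a n)) := by
  obtain ⟨g, hg, h1⟩ := ha
  obtain ⟨g', hg', h2⟩ := hb
  refine ⟨g' * g, H.mul_mem hg' hg, fun v n hv h64 => ?_⟩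
  rw [co_mul_apply]
  exact h2 (g.1 v) (a n) (h1 v n hv h64) (by rw [g.2.2]; exact h64)

/-- coordinate permutation of packed vectors: the new digit `k` is the old digit `t k` -/
def permP (t n : ℕ) : ℕ := compN n t

/-- the packed form of a table -/
def packT (l : List ℕ) : ℕ := digSum (fun i => l.getD i 0) 24

theorem snd_perm (inv tbl : List ℕ) (hv : validTbl inv tbl = true) (hc : chkTbl inv = true) :
    Snd ⊤ (permP (packT inv)) := by
  obtain ⟨τ, hτ, hlen, htab⟩ := exists_mem_of_tbl inv tbl hv hc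
  have hlt : ∀ j < 24, inv.getD j 0 < 32 := by
    intro j hj
    simp only [validTbl, Bool.and_eq_true, List.all_eq_true, List.mem_range] at hv
    have := (hv.2 j hj).1
    have h24 : inv.getD j 0 < 24 := by simpa [Nat.blt_eq] using this
    omega
  refine ⟨permCo τ⁻¹ (inv_mem hτ), Subgroup.mem_top _, fun v n hvn _ => ?_⟩
  rw [permCo_apply]
  funext p
  have e : permZ τ⁻¹ (v : GolayPt → ℤ) p = (v : GolayPt → ℤ) (τ p) := rfl
  rw [e, hvn, vecP_apply, vecP_apply, htab]
  unfold permP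
  rw [getN_compN _ _ _ (idx_lt p)]
  unfold packT
  rw [getN_digSum' _ 24 _ hlt (idx_lt p)]

/-- sign change of packed vectors on the bits of `c` -/
def signP (c n : ℕ) : ℕ :=
  digSum (fun k => cond (Nat.beq (bitN c k) 1) (Nat.sub 16 (getN n k)) (getN n k)) 24

theorem snd_sign (c : ℕ) (hc : syn c = true) : Snd ⊤ (signP c) := by
  have hs : decSet c ∈ supports (golayCode : Set (GolayPt → ZMod 2)) :=
    ⟨dec c, (dec_mem_golayCode_iff c).2 hc, support₂_dec c⟩
  refine ⟨signCo (decSet c) hs, Subgroup.mem_top _, fun v n hvn h64 => ?_⟩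
  rw [signCo_apply]
  funext p
  have hb := coord_bound64 _ h64 p
  rw [hvn, vecP_apply] at hb
  rw [signZ_apply, hvn, vecP_apply, vecP_apply]
  unfold signP
  rw [getN_digSum' _ 24 _ (fun j _ => by
    have := getN_lt n j
    rw [cond_beq]
    split_ifs
    · show 16 - getN n j < 32
      omega
    · exact this) (idx_lt p), cond_beq, bitN_eq]
  by_cases hbit : c.testBit (idx p) = true
  · rw [if_pos (mem_decSet.2 hbit), hbit]
    show -((getN n (idx p) : ℤ) - 8) = ((16 - getN n (idx p) : ℕ) : ℤ) - 8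
    omega
  · rw [if_neg (fun h => hbit (mem_decSet.1 h))]
    rw [Bool.not_eq_true] at hbit
    rw [hbit]
    rfl

theorem snd_xi : Snd ⊤ xiP :=
  ⟨xiCo, Subgroup.mem_top _, fun v n hv h64 => xiCo_apply v n hv h64⟩

/-- an action fixing a packed vector comes from the stabiliser of the vector -/
theorem snd_stab (a : ℕ → ℕ) (v0 : ↥leechLattice) (n0 : ℕ) (hv0 : (v0 : GolayPt → ℤ) = vecP n0)
    (h64 : sqNorm (v0 : GolayPt → ℤ) ≤ 64) (ha : Snd ⊤ a) (hfix : a n0 = n0) :
    Snd (MulAction.stabilizer ↥Co0 v0) a := by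
  obtain ⟨g, -, h⟩ := ha
  refine ⟨g, ?_, h⟩
  rw [MulAction.mem_stabilizer_iff]
  apply Subtype.ext
  have h1 := h v0 n0 hv0 h64
  rw [hfix, ← hv0] at h1
  exact h1

/-- the action of the letter `d` of a list of actions (`d = 0` is the first one) -/
def pick (l : List (ℕ → ℕ)) (d n : ℕ) : ℕ :=
  List.rec (motive := fun _ => ℕ → ℕ) (fun _ => n)
    (fun a _ ih d => cond (Nat.beq d 0) (a n) (ih (Nat.pred d))) l d

theorem snd_pick (H : Subgroup ↥Co0) : ∀ (l : List (ℕ → ℕ)), (∀ a ∈ l, Snd H a) →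
    ∀ d, Snd H (pick l d)
  | [], _, _ => snd_id H
  | a :: l, hl, d => by
    have ih := snd_pick H l (fun b hb => hl b (List.mem_cons_of_mem _ hb)) (Nat.pred d)
    have e : pick (a :: l) d = fun n => cond (Nat.beq d 0) (a n) (pick l (Nat.pred d) n) := rfl
    rw [e]
    cases Nat.beq d 0
    · exact ih
    · exact hl a List.mem_cons_self

/-- apply a word: the base-16 digits `d ≥ 1` from the lowest one on name the letters `d - 1` -/
def runW (l : List (ℕ → ℕ)) (k w n : ℕ) : ℕ :=
  Nat.rec (motive := fun _ => ℕ → ℕ → ℕ) (fun _ n => n)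
    (fun _ ih w n => cond (Nat.beq w 0) n (ih (Nat.div w 16) (pick l (Nat.pred (Nat.mod w 16)) n)))
    k w n

theorem snd_runW (H : Subgroup ↥Co0) (l : List (ℕ → ℕ)) (hl : ∀ a ∈ l, Snd H a) :
    ∀ k w, Snd H (runW l k w)
  | 0, _ => snd_id H
  | k + 1, w => by
    have ih := snd_runW H l hl k (Nat.div w 16)
    have e : runW l (k + 1) w = fun n => cond (Nat.beq w 0) n
        (runW l k (Nat.div w 16) (pick l (Nat.pred (Nat.mod w 16)) n)) := rfl
    rw [e]
    cases Nat.beq w 0
    · exact snd_comp H _ _ (snd_pick H l hl _) ih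
    · exact snd_id H

/-- the descent: if every vector of `S` other than the root has a word making its packed number
smaller, every vector of `S` is mapped to the root by an element of `H` -/
theorem descent (H : Subgroup ↥Co0) (l : List (ℕ → ℕ)) (hl : ∀ a ∈ l, Snd H a)
    (S : Set ↥leechLattice) (hS : ∀ g ∈ H, ∀ v ∈ S, (g : ↥Co0).1 v ∈ S)
    (hS64 : ∀ v ∈ S, sqNorm (v : GolayPt → ℤ) ≤ 64) (root k : ℕ)
    (hchk : ∀ v ∈ S, packV (v : GolayPt → ℤ) = root ∨
      ∃ w, runW l k w (packV (v : GolayPt → ℤ)) < packV (v : GolayPt → ℤ)) :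
    ∀ N, ∀ v ∈ S, packV (v : GolayPt → ℤ) = N →
      ∃ g ∈ H, packV (((g : ↥Co0).1 v : ↥leechLattice) : GolayPt → ℤ) = root := by
  intro N
  induction N using Nat.strong_induction_on with
  | _ N ih =>
    intro v hv hN
    rcases hchk v hv with h | ⟨w, hw⟩
    · exact ⟨1, H.one_mem, h⟩
    · obtain ⟨g, hg, hsnd⟩ := snd_runW H l hl k w
      have hb := coord_bound64 (v : GolayPt → ℤ) (hS64 v hv)
      have h1 := hsnd v (packV (v : GolayPt → ℤ)) (vecP_packV _ hb).symm (hS64 v hv)
      have hn' : runW l k w (packV (v : GolayPt → ℤ)) < 32 ^ 24 := lt_trans hw (packV_lt _ hb)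
      have h2 : packV ((g.1 v : ↥leechLattice) : GolayPt → ℤ) =
          runW l k w (packV (v : GolayPt → ℤ)) := by
        rw [h1, packV_vecP _ hn']
      obtain ⟨g', hg', h3⟩ := ih _ (by rw [← hN]; exact hw) (g.1 v) (hS g hg v hv) h2
      exact ⟨g' * g, H.mul_mem hg' hg, h3⟩

/-- transitivity from the descent -/
theorem trans_of_descent (H : Subgroup ↥Co0) (l : List (ℕ → ℕ)) (hl : ∀ a ∈ l, Snd H a)
    (S : Set ↥leechLattice) (hS : ∀ g ∈ H, ∀ v ∈ S, (g : ↥Co0).1 v ∈ S)
    (hS64 : ∀ v ∈ S, sqNorm (v : GolayPt → ℤ) ≤ 64) (root k : ℕ)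
    (hchk : ∀ v ∈ S, packV (v : GolayPt → ℤ) = root ∨
      ∃ w, runW l k w (packV (v : GolayPt → ℤ)) < packV (v : GolayPt → ℤ))
    (v w : ↥leechLattice) (hv : v ∈ S) (hw : w ∈ S) : ∃ g ∈ H, (g : ↥Co0).1 v = w := by
  obtain ⟨g1, hg1, h1⟩ := descent H l hl S hS hS64 root k hchk _ v hv rfl
  obtain ⟨g2, hg2, h2⟩ := descent H l hl S hS hS64 root k hchk _ w hw rfl
  have e : g1.1 v = g2.1 w := by
    apply Subtype.ext
    have b1 := coord_bound64 _ (hS64 _ (hS g1 hg1 v hv))
    have b2 := coord_bound64 _ (hS64 _ (hS g2 hg2 w hw))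
    rw [← vecP_packV _ b1, ← vecP_packV _ b2, h1, h2]
  refine ⟨g2⁻¹ * g1, H.mul_mem (H.inv_mem hg2) hg1, ?_⟩
  rw [co_mul_apply, e]
  exact g2.1.symm_apply_apply w

/-- test of a descending word -/
def descB (l : List (ℕ → ℕ)) (k root n w : ℕ) : Bool :=
  Nat.beq n root || Nat.blt (runW l k w n) n

theorem descB_spec (l : List (ℕ → ℕ)) (k root n w : ℕ) (h : descB l k root n w = true) :
    n = root ∨ ∃ w, runW l k w n < n := by
  unfold descB at h
  rw [Bool.or_eq_true] at h
  rcases h with h | h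
  · exact Or.inl (Nat.eq_of_beq_eq_true h)
  · exact Or.inr ⟨w, by simpa [Nat.blt_eq] using h⟩

/-- word number `i` of a packed list of words of `b` bits -/
def wordAt (b W i : ℕ) : ℕ := Nat.mod (Nat.div W (Nat.pow 2 (Nat.mul b i))) (Nat.pow 2 b)

/-- test of the members of a list against an indexed family -/
def allI (f : ℕ → ℕ → Bool) : List ℕ → ℕ → Bool
  | [], _ => true
  | a :: l, i => f a i && allI f l (Nat.succ i)

theorem allI_spec (f : ℕ → ℕ → Bool) : ∀ (l : List ℕ) (i : ℕ), allI f l i = true →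
    ∀ a ∈ l, ∃ j, f a j = true
  | [], _, _, a, ha => absurd ha (by simp)
  | b :: l, i, h, a, ha => by
    unfold allI at h
    rw [Bool.and_eq_true] at h
    rcases List.mem_cons.1 ha with rfl | ha
    · exact ⟨i, h.1⟩
    · exact allI_spec f l _ h.2 a ha

/-- test of the members of a list against the members of another list -/
def allZ (f : ℕ → ℕ → Bool) : List ℕ → List ℕ → Bool
  | [], _ => true
  | _ :: _, [] => false
  | a :: l, b :: c => f a b && allZ f l c

theorem allZ_spec (f : ℕ → ℕ → Bool) : ∀ (l c : List ℕ), allZ f l c = true →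
    ∀ a ∈ l, ∃ b, f a b = true
  | [], _, _, a, ha => absurd ha (by simp)
  | _ :: _, [], h, _, _ => by simp [allZ] at h
  | x :: l, y :: c, h, a, ha => by
    unfold allZ at h
    rw [Bool.and_eq_true] at h
    rcases List.mem_cons.1 ha with rfl | ha
    · exact ⟨y, h.1⟩
    · exact allZ_spec f l c h.2 a ha

/-- the test of the vectors of the list `gen c` against the packed list of words `W` -/
def chkC (f : ℕ → ℕ → Bool) (gen : ℕ → List ℕ) (c W : ℕ) : Bool :=
  allI (fun n i => f n (wordAt 40 W i)) (gen c) 0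

theorem chkC_spec (f : ℕ → ℕ → Bool) (gen : ℕ → List ℕ) (cs Ws : List ℕ)
    (h : allZ (chkC f gen) cs Ws = true) : ∀ c ∈ cs, ∀ n ∈ gen c, ∃ w, f n w = true := by
  intro c hc n hn
  obtain ⟨W, hW⟩ := allZ_spec _ cs Ws h c hc
  obtain ⟨j, hj⟩ := allI_spec _ _ _ hW n hn
  exact ⟨_, hj⟩

/-- every member of a list is in one of its chunks of length `s` -/
theorem mem_chunk (l : List ℕ) (s : ℕ) (hs : 0 < s) (a : ℕ) (ha : a ∈ l) :
    ∃ j, j * s < l.length ∧ a ∈ (l.drop (j * s)).take s := by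
  obtain ⟨i, hi, rfl⟩ := List.mem_iff_getElem.1 ha
  refine ⟨i / s, ?_, ?_⟩
  · exact lt_of_le_of_lt (Nat.div_mul_le_self i s) hi
  · have h1 : i / s * s + i % s = i := Nat.div_add_mod' i s
    have h2 : i % s < s := Nat.mod_lt i hs
    rw [List.mem_iff_getElem]
    refine ⟨i % s, ?_, ?_⟩
    · rw [List.length_take, List.length_drop]
      omega
    · rw [List.getElem_take, List.getElem_drop]
      congr 1

end Cfsg.Agent.Lib.helper93
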