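import Cfsg.Agent.Lib.helper93.LeechShape
import Cfsg.Agent.Lib.helper93.LeechCountNum

/-!
The list of the 196560 packed vectors of norm 32 of `Cfsg.leechLattice` is a faithful enumeration:
it has no repetition and its members are exactly the packed vectors of norm 32.  Counting the
vectors of norm 32 with a given property is counting in the list.
-/

set_option autoImplicit false
open Cfsg Cfsg.Agent.Lib.helper9

namespace Cfsg.Agent.Lib.helper93

/-- the list of the packed vectors of norm 32 -/
def EL : List ℕ := gen1 ++ ((wtList 8).flatMap gen2 ++ cwList.flatMap gen3)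

theorem mem_EL (x : GolayPt → ℤ) (hx : x ∈ leechLattice) (hn : sqNorm x = 32) : packV x ∈ EL := by
  unfold EL
  simp only [List.mem_append, List.mem_flatMap]
  rcases cover x hx hn with h | h | h
  · exact Or.inl h
  · exact Or.inr (Or.inl h)
  · exact Or.inr (Or.inr h)

theorem gen1_length : gen1.length = 1104 := by decide +kernel

/-- every member of a list is in one of its chunks of length `s` -/
theorem mem_chunkE (l : List ℕ) (s : ℕ) (hs : 0 < s) (a : ℕ) (ha : a ∈ l) :
    ∃ j, j * s < l.length ∧ a ∈ (l.drop (j * s)).take s := by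
  obtain ⟨i, hi, rfl⟩ := List.mem_iff_getElem.1 ha
  refine ⟨i / s, ?_, ?_⟩
  · exact lt_of_le_of_lt (Nat.div_mul_le_self i s) hi
  · have h1 : i / s * s + i % s = i := Nat.div_add_mod' i s
    have h2 : i % s < s := Nat.mod_lt i hs
    rw [List.mem_iff_getElem]
    refine ⟨i % s, ?_, ?_⟩
    · rw [List.length_take, List.length_drop]
      omega
    · rw [List.getElem_take, List.getElem_drop]
      congr 1

set_option maxHeartbeats 0 in
theorem gen2_len_0 : (((wtList 8).drop (0 * 200)).take 200).all
    (fun c => Nat.beq (gen2 c).length 128) = true := by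
  decide +kernel

set_option maxHeartbeats 0 in
theorem gen2_len_1 : (((wtList 8).drop (1 * 200)).take 200).all
    (fun c => Nat.beq (gen2 c).length 128) = true := by
  decide +kernel

set_option maxHeartbeats 0 in
theorem gen2_len_2 : (((wtList 8).drop (2 * 200)).take 200).all
    (fun c => Nat.beq (gen2 c).length 128) = true := by
  decide +kernel

set_option maxHeartbeats 0 in
theorem gen2_len_3 : (((wtList 8).drop (3 * 200)).take 200).all
    (fun c => Nat.beq (gen2 c).length 128) = true := by
  decide +kernel

theorem gen2_length_chk (c : ℕ) (hc : c ∈ wtList 8) : (gen2 c).length = 128 := by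
  obtain ⟨j, hj, hcj⟩ := mem_chunkE (wtList 8) 200 (by norm_num) c hc
  rw [wtList_8_length] at hj
  have hj4 : j < 4 := by omega
  interval_cases j
  · exact Nat.eq_of_beq_eq_true (List.all_eq_true.1 gen2_len_0 c hcj)
  · exact Nat.eq_of_beq_eq_true (List.all_eq_true.1 gen2_len_1 c hcj)
  · exact Nat.eq_of_beq_eq_true (List.all_eq_true.1 gen2_len_2 c hcj)
  · exact Nat.eq_of_beq_eq_true (List.all_eq_true.1 gen2_len_3 c hcj)

theorem gen3_length (c : ℕ) : (gen3 c).length = 24 := by simp [gen3]

theorem EL_length : EL.length = 196560 := by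
  unfold EL
  rw [List.length_append, List.length_append, List.length_flatMap, List.length_flatMap,
    gen1_length]
  have h2 : ((wtList 8).map fun c => (gen2 c).length) = (wtList 8).map fun _ => 128 :=
    List.map_congr_left fun c hc => gen2_length_chk c hc
  have h3 : (cwList.map fun c => (gen3 c).length) = cwList.map fun _ => 24 :=
    List.map_congr_left fun c _ => gen3_length c
  rw [h2, h3, List.map_const', List.map_const', List.sum_replicate, List.sum_replicate,
    wtList_8_length, cwList_length]
  rfl

theorem min_finite : {x : GolayPt → ℤ | x ∈ leechLattice ∧ sqNorm x = 32}.Finite :=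
  Set.finite_of_ncard_ne_zero (by rw [leech_count_32]; norm_num)

/-- the list is a faithful enumeration of the vectors of norm 32 -/
theorem EL_bij : EL.Nodup ∧
    ∀ n ∈ EL, vecP n ∈ leechLattice ∧ sqNorm (vecP n) = 32 ∧ packV (vecP n) = n := by
  classical
  have hM : min_finite.toFinset.card = 196560 := by
    rw [← Set.ncard_eq_toFinset_card _ min_finite, leech_count_32]
  have hmem : ∀ x ∈ min_finite.toFinset, x ∈ leechLattice ∧ sqNorm x = 32 := by
    intro x hx
    have h := (Set.Finite.mem_toFinset min_finite).1 hx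
    exact h
  have hbd : ∀ x ∈ min_finite.toFinset, ∀ p, -8 ≤ x p ∧ x p ≤ 8 := fun x hx =>
    coord_bound64 x (by rw [(hmem x hx).2]; norm_num)
  have hinj : Set.InjOn packV (min_finite.toFinset : Set (GolayPt → ℤ)) := by
    intro x hx y hy h
    rw [← vecP_packV x (hbd x hx), ← vecP_packV y (hbd y hy), h]
  have hsub : min_finite.toFinset.image packV ⊆ EL.toFinset := by
    intro n hn
    obtain ⟨x, hx, rfl⟩ := Finset.mem_image.1 hn
    exact List.mem_toFinset.2 (mem_EL x (hmem x hx).1 (hmem x hx).2)
  have hcard : (min_finite.toFinset.image packV).card = 196560 := by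
    rw [Finset.card_image_of_injOn hinj, hM]
  have hle : EL.toFinset.card ≤ 196560 := by
    rw [← EL_length]
    exact List.toFinset_card_le EL
  have heq : min_finite.toFinset.image packV = EL.toFinset :=
    Finset.eq_of_subset_of_card_le hsub (by rw [hcard]; exact hle)
  have hnd : EL.Nodup := by
    have h1 : EL.toFinset.card = EL.length := by rw [← heq, hcard, EL_length]
    rw [List.card_toFinset] at h1
    exact List.dedup_eq_self.1 ((List.dedup_sublist EL).eq_of_length h1)
  refine ⟨hnd, fun n hn => ?_⟩
  have h2 : n ∈ min_finite.toFinset.image packV := by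
    rw [heq]
    exact List.mem_toFinset.2 hn
  obtain ⟨x, hx, rfl⟩ := Finset.mem_image.1 h2
  rw [vecP_packV x (hbd x hx)]
  exact ⟨(hmem x hx).1, (hmem x hx).2, rfl⟩

/-- counting the vectors of norm 32 with a property decided on the packed numbers -/
theorem ncard_min_filter (P : (GolayPt → ℤ) → Prop) (q : ℕ → Bool)
    (hPq : ∀ x ∈ leechLattice, sqNorm x = 32 → (P x ↔ q (packV x) = true)) :
    {x : GolayPt → ℤ | x ∈ leechLattice ∧ sqNorm x = 32 ∧ P x}.ncard = EL.countP q := by
  classical
  obtain ⟨hnd, hE⟩ := EL_bij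
  have hset : {x : GolayPt → ℤ | x ∈ leechLattice ∧ sqNorm x = 32 ∧ P x} =
      vecP '' ((EL.filter q).toFinset : Set ℕ) := by
    ext x
    constructor
    · rintro ⟨hx, hn, hp⟩
      have hb := coord_bound64 x (by rw [hn]; norm_num)
      refine ⟨packV x, ?_, vecP_packV x hb⟩
      rw [Finset.mem_coe, List.mem_toFinset, List.mem_filter]
      exact ⟨mem_EL x hx hn, (hPq x hx hn).1 hp⟩
    · rintro ⟨n, hn, rfl⟩
      rw [Finset.mem_coe, List.mem_toFinset, List.mem_filter] at hn
      obtain ⟨h1, h2, h3⟩ := hE n hn.1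
      refine ⟨h1, h2, (hPq _ h1 h2).2 ?_⟩
      rw [h3]
      exact hn.2
  rw [hset, Set.InjOn.ncard_image, Set.ncard_coe_finset,
    List.toFinset_card_of_nodup (hnd.filter _), List.countP_eq_length_filter]
  intro n hn m hm h
  rw [Finset.mem_coe, List.mem_toFinset, List.mem_filter] at hn hm
  rw [← (hE n hn.1).2.2, ← (hE m hm.1).2.2, h]

/-- sets of elements of the lattice and sets of vectors -/
theorem ncard_subtype (P : (GolayPt → ℤ) → Prop) :
    {v : ↥leechLattice | P (v : GolayPt → ℤ)}.ncard =
      {x : GolayPt → ℤ | x ∈ leechLattice ∧ P x}.ncard := by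
  rw [← Set.ncard_image_of_injective _ Subtype.val_injective]
  congr 1
  ext x
  constructor
  · rintro ⟨v, hv, rfl⟩
    exact ⟨v.2, hv⟩
  · rintro ⟨hx, hp⟩
    exact ⟨⟨x, hx⟩, hp, rfl⟩

/-! ### counting several properties at once -/

/-- the weight of a packed number: the test number `i` counts for `2 ^ (20 i)` -/
def kapL : List (ℕ → Bool) → ℕ → ℕ
  | [], _ => 0
  | q :: qs, n => cond (q n) 1 0 + 2 ^ 20 * kapL qs n

/-- the packed counts of the tests on a list -/
def cntsL : List (ℕ → Bool) → List ℕ → ℕ
  | [], _ => 0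
  | q :: qs, l => l.countP q + 2 ^ 20 * cntsL qs l

theorem cntsL_nil : ∀ qs : List (ℕ → Bool), cntsL qs [] = 0
  | [] => rfl
  | q :: qs => by
    unfold cntsL
    rw [cntsL_nil qs]
    rfl

theorem cntsL_cons : ∀ (qs : List (ℕ → Bool)) (a : ℕ) (l : List ℕ),
    cntsL qs (a :: l) = kapL qs a + cntsL qs l
  | [], _, _ => rfl
  | q :: qs, a, l => by
    unfold cntsL kapL
    rw [cntsL_cons qs a l, List.countP_cons]
    cases q a <;> simp <;> ring

theorem cntsL_append (qs : List (ℕ → Bool)) : ∀ (l l' : List ℕ),
    cntsL qs (l ++ l') = cntsL qs l + cntsL qs l'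
  | [], l' => by rw [List.nil_append, cntsL_nil, zero_add]
  | a :: l, l' => by
    rw [List.cons_append, cntsL_cons, cntsL_cons, cntsL_append qs l l', add_assoc]

theorem sum_kapL (qs : List (ℕ → Bool)) : ∀ l : List ℕ, (l.map (kapL qs)).sum = cntsL qs l
  | [] => by rw [cntsL_nil]; rfl
  | a :: l => by rw [List.map_cons, List.sum_cons, sum_kapL qs l, cntsL_cons]

/-- the packed counts of the vectors `gen c`, for `c` in a list -/
def cntK (qs : List (ℕ → Bool)) (gen : ℕ → List ℕ) (cs : List ℕ) : ℕ :=
  (cs.map (fun c => ((gen c).map (kapL qs)).sum)).sum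

theorem cntK_append (qs : List (ℕ → Bool)) (gen : ℕ → List ℕ) (l l' : List ℕ) :
    cntK qs gen (l ++ l') = cntK qs gen l + cntK qs gen l' := by
  unfold cntK
  rw [List.map_append, List.sum_append]

theorem cntsL_flatMap (qs : List (ℕ → Bool)) (gen : ℕ → List ℕ) : ∀ cs : List ℕ,
    cntsL qs (cs.flatMap gen) = cntK qs gen cs
  | [] => by rw [List.flatMap_nil, cntsL_nil]; rfl
  | c :: cs => by
    rw [List.flatMap_cons, cntsL_append, cntsL_flatMap qs gen cs, ← sum_kapL]
    rfl

theorem cntK_chunks (qs : List (ℕ → Bool)) (gen : ℕ → List ℕ) (s : ℕ) :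
    ∀ (K : ℕ) (l : List ℕ), l.length ≤ K * s →
      cntK qs gen l = ∑ j ∈ Finset.range K, cntK qs gen ((l.drop (j * s)).take s)
  | 0, l, h => by
    have : l = [] := List.length_eq_zero_iff.1 (by omega)
    rw [this]
    rfl
  | K + 1, l, h => by
    have ih := cntK_chunks qs gen s K (l.drop s) (by
      rw [List.length_drop]
      have : (K + 1) * s = K * s + s := by ring
      omega)
    rw [Finset.sum_range_succ', zero_mul, List.drop_zero]
    have e : cntK qs gen l = cntK qs gen (l.take s) + cntK qs gen (l.drop s) := by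
      rw [← cntK_append, List.take_append_drop]
    rw [e, ih, add_comm]
    congr 1
    refine Finset.sum_congr rfl fun j _ => ?_
    rw [List.drop_drop]
    congr 3
    ring

/-- the packed counts on the whole list, by chunks -/
theorem cntsL_EL (qs : List (ℕ → Bool)) : cntsL qs EL = (gen1.map (kapL qs)).sum +
    (∑ j ∈ Finset.range 8, cntK qs gen2 (((wtList 8).drop (j * 100)).take 100) +
      ∑ j ∈ Finset.range 16, cntK qs gen3 ((cwList.drop (j * 256)).take 256)) := by
  unfold EL
  rw [cntsL_append, cntsL_append, cntsL_flatMap, cntsL_flatMap, sum_kapL,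
    cntK_chunks qs gen2 100 8 (wtList 8) (by rw [wtList_8_length]; norm_num),
    cntK_chunks qs gen3 256 16 cwList (by rw [cwList_length])]

end Cfsg.Agent.Lib.helper93
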