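import Cfsg.Agent.Lib.helper93.LeechQuad
import Cfsg.Agent.S1567
import Cfsg.Agent.S5592

/-!
`Cfsg.leechLattice` modulo twice the lattice as a module for `Cfsg.Co0`: the kernel of the action
is the centre, and there is no invariant subgroup strictly between twice the lattice and the
lattice.
-/

set_option autoImplicit false
open Cfsg Cfsg.Agent.Lib.helper9

namespace Cfsg.Agent.Lib.helper93

/-! ### the kernel -/

/-- the packed vector `8 e_i` -/
def nF (i : ℕ) : ℕ := digSum (fun k => cond (Nat.beq k i) 16 8) 24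

theorem E_pack (q : GolayPt) : (E q : GolayPt → ℤ) = vecP (nF (idx q)) := by
  funext p
  rw [E_apply, vecP_apply]
  unfold nF
  rw [getN_digSum' _ 24 _ (fun j _ => by rw [cond_beq]; split_ifs <;> norm_num) (idx_lt p),
    cond_beq]
  by_cases h : p = q
  · rw [if_pos h, if_pos (congrArg idx h)]
    norm_num
  · rw [if_neg h, if_neg (fun h' => h (idx_injective h'))]
    norm_num

/-- the packed vector `4 e_0 + 4 e_1` -/
def nA : ℕ := 343026579557397644620337305878798732

/-- the packed vector `-4 e_1 + 4 e_k` (`s = 0`) or `-4 e_1 - 4 e_k` -/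
def nB (k s : ℕ) : ℕ :=
  digSum (fun i => cond (Nat.beq i 1) 4 (cond (Nat.beq i k) (cond (Nat.beq s 0) 12 4) 8)) 24

/-- the packed vector `4 e_0 + 4 e_k` (`s = 0`) or `4 e_0 - 4 e_k` -/
def nC (k s : ℕ) : ℕ :=
  digSum (fun i => cond (Nat.beq i 0) 12 (cond (Nat.beq i k) (cond (Nat.beq s 0) 12 4) 8)) 24

/-- the test that the sum of two packed vectors is a third one -/
def addB (a b c : ℕ) : Bool :=
  (List.range 24).all (fun i => Nat.beq (Nat.add (getN a i) (getN b i)) (Nat.add (getN c i) 8))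

theorem addB_spec (a b c : ℕ) (h : addB a b c = true) : vecP a + vecP b = vecP c := by
  apply vecP_add
  intro i hi
  exact Nat.eq_of_beq_eq_true (List.all_eq_true.1 h i (List.mem_range.2 hi))

/-- the tests for the index `k` -/
def chkK (k : ℕ) : Bool :=
  memP (nB k 0) && memP (nB k 1) && memP (nC k 0) && memP (nC k 1) &&
    normP (nB k 0) 32 && normP (nB k 1) 32 && normP (nC k 0) 32 && normP (nC k 1) 32 &&
    addB nA (nB k 0) (nC k 0) && addB nA (nB k 1) (nC k 1) && addB (nC k 1) (nF k) (nC k 0) &&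
    addB (nC k 0) (nC k 1) (nF 0) && addB (nC k 0) (nB k 1) (nB 0 0) && addB (nB 0 0) (nF 1) nA

set_option maxRecDepth 100000 in
set_option maxHeartbeats 0 in
theorem chkK_all : (List.range 24).all (fun k => Nat.blt k 2 || chkK k) = true := by
  decide +kernel

theorem nA_chk : memP nA = true ∧ normP nA 32 = true := by decide +kernel

theorem chkK_of (k : ℕ) (hk : k < 24) (h2 : 2 ≤ k) : chkK k = true := by
  have h := List.all_eq_true.1 chkK_all k (List.mem_range.2 hk)
  rw [Bool.or_eq_true] at h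
  rcases h with h | h
  · have := Nat.le_of_ble_eq_true h
    omega
  · exact h

/-- a vector of norm 32 is not its opposite -/
theorem ne_neg_of_norm (x : ↥leechLattice) (h : sqNorm (x : GolayPt → ℤ) = 32) : x ≠ -x := by
  intro e
  have h0 : (x : GolayPt → ℤ) = 0 := by
    funext p
    have := congrFun (congrArg Subtype.val e) p
    rw [AddSubgroup.coe_neg, Pi.neg_apply] at this
    show (x : GolayPt → ℤ) p = 0
    omega
  rw [h0] at h
  unfold sqNorm at h
  simp at h

/-- an automorphism acting trivially modulo twice the lattice maps minimal vectors to their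
multiples by `1` or `-1` -/
theorem pm_of_trivial (g : ↥Co0)
    (hg : ∀ v : ↥leechLattice, ∃ w : ↥leechLattice,
      ((g.1 v : ↥leechLattice) : GolayPt → ℤ) - (v : GolayPt → ℤ) = 2 • (w : GolayPt → ℤ))
    (v : ↥leechLattice) (hv : sqNorm (v : GolayPt → ℤ) = 32) : g.1 v = v ∨ g.1 v = -v := by
  by_cases h : g.1 v = v
  · exact Or.inl h
  · right
    obtain ⟨w, hw⟩ := hg v
    have hn : sqNorm ((g.1 v : ↥leechLattice) : GolayPt → ℤ) = 32 := by rw [g.2.2]; exact hv
    rcases Cfsg.Agent.S5592.result _ _ (g.1 v).2 v.2 (fun e => h (Subtype.ext e))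
      (by rw [hn]; norm_num) (by rw [hv]; norm_num) ⟨w.1, w.2, hw⟩ with h1 | h1
    · exact Subtype.ext h1
    · rw [hn] at h1
      exact absurd h1.1 (by norm_num)

/-- `g` fixes the vector of the packed number `n` -/
def FixP (g : ↥Co0) (n : ℕ) : Prop := ∀ x : ↥leechLattice, (x : GolayPt → ℤ) = vecP n → g.1 x = x

theorem fix_add (g : ↥Co0) (a b c : ℕ) (ma : memP a = true) (mb : memP b = true)
    (hadd : addB a b c = true) (ha : FixP g a) (hb : FixP g b) : FixP g c := by
  intro x hx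
  have e : x = (⟨vecP a, vecP_mem a ma⟩ : ↥leechLattice) + ⟨vecP b, vecP_mem b mb⟩ :=
    Subtype.ext (by rw [hx, AddSubgroup.coe_add]; exact (addB_spec a b c hadd).symm)
  rw [e, g.2.1, ha _ rfl, hb _ rfl]

theorem fix_sub (g : ↥Co0) (a b c : ℕ) (ma : memP a = true) (mc : memP c = true)
    (hadd : addB a b c = true) (ha : FixP g a) (hc : FixP g c) : FixP g b := by
  intro x hx
  have e : x = (⟨vecP c, vecP_mem c mc⟩ : ↥leechLattice) - ⟨vecP a, vecP_mem a ma⟩ :=
    Subtype.ext (by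
      rw [hx, AddSubgroup.coe_sub]
      show vecP b = vecP c - vecP a
      rw [← addB_spec a b c hadd, add_sub_cancel_left])
  rw [e, co_map_sub, ha ⟨vecP a, vecP_mem a ma⟩ rfl, hc ⟨vecP c, vecP_mem c mc⟩ rfl]

theorem fix_min (g : ↥Co0)
    (hg : ∀ v : ↥leechLattice, ∃ w : ↥leechLattice,
      ((g.1 v : ↥leechLattice) : GolayPt → ℤ) - (v : GolayPt → ℤ) = 2 • (w : GolayPt → ℤ))
    (a b c : ℕ) (ma : memP a = true) (mb : memP b = true) (na : normP a 32 = true)
    (nb : normP b 32 = true) (nc : normP c 32 = true) (hadd : addB a b c = true)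
    (ha : FixP g a) : FixP g b := by
  have key : g.1 ⟨vecP b, vecP_mem b mb⟩ = ⟨vecP b, vecP_mem b mb⟩ := by
    have hna : sqNorm (vecP a) = 32 := by exact_mod_cast vecP_norm a 32 na
    have hnb : sqNorm (vecP b) = 32 := by exact_mod_cast vecP_norm b 32 nb
    have hnc : sqNorm (vecP c) = 32 := by exact_mod_cast vecP_norm c 32 nc
    have hsum : sqNorm (((⟨vecP a, vecP_mem a ma⟩ : ↥leechLattice) +
        ⟨vecP b, vecP_mem b mb⟩ : ↥leechLattice) : GolayPt → ℤ) = 32 := by
      rw [AddSubgroup.coe_add]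
      show sqNorm (vecP a + vecP b) = 32
      rw [addB_spec a b c hadd]
      exact hnc
    rcases pm_of_trivial g hg ⟨vecP b, vecP_mem b mb⟩ hnb with h1 | h1
    · exact h1
    · exfalso
      have h2 := g.2.1 ⟨vecP a, vecP_mem a ma⟩ ⟨vecP b, vecP_mem b mb⟩
      rw [ha ⟨vecP a, vecP_mem a ma⟩ rfl, h1] at h2
      rcases pm_of_trivial g hg _ hsum with h3 | h3
      · rw [h3] at h2
        exact ne_neg_of_norm ⟨vecP b, vecP_mem b mb⟩ hnb (add_left_cancel h2)
      · rw [h3, neg_add] at h2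
        exact ne_neg_of_norm ⟨vecP a, vecP_mem a ma⟩ hna (add_right_cancel h2).symm
  intro x hx
  have e : x = ⟨vecP b, vecP_mem b mb⟩ := Subtype.ext hx
  rw [e]
  exact key

/-- an automorphism acting trivially modulo twice the lattice and fixing `4 e_0 + 4 e_1` is the
identity -/
theorem trivial_of_fix (g : ↥Co0)
    (hg : ∀ v : ↥leechLattice, ∃ w : ↥leechLattice,
      ((g.1 v : ↥leechLattice) : GolayPt → ℤ) - (v : GolayPt → ℤ) = 2 • (w : GolayPt → ℤ))
    (hA : FixP g nA) : g = 1 := by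
  have hk : ∀ k, k < 24 → 2 ≤ k → FixP g (nF k) ∧ FixP g (nF 0) ∧ FixP g (nF 1) := by
    intro k hk h2
    have h := chkK_of k hk h2
    unfold chkK at h
    simp only [Bool.and_eq_true] at h
    obtain ⟨⟨⟨⟨⟨⟨⟨⟨⟨⟨⟨⟨⟨m1, m2⟩, m3⟩, m4⟩, n1⟩, n2⟩, n3⟩, n4⟩, a1⟩, a2⟩, a3⟩, a4⟩, a5⟩, a6⟩ := h
    have fB0 := fix_min g hg nA (nB k 0) (nC k 0) nA_chk.1 m1 nA_chk.2 n1 n3 a1 hA
    have fB1 := fix_min g hg nA (nB k 1) (nC k 1) nA_chk.1 m2 nA_chk.2 n2 n4 a2 hA
    have fC0 := fix_add g nA (nB k 0) (nC k 0) nA_chk.1 m1 a1 hA fB0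
    have fC1 := fix_add g nA (nB k 1) (nC k 1) nA_chk.1 m2 a2 hA fB1
    have fFk := fix_sub g (nC k 1) (nF k) (nC k 0) m4 m3 a3 fC1 fC0
    have fF0 := fix_add g (nC k 0) (nC k 1) (nF 0) m3 m4 a4 fC0 fC1
    have fA' := fix_add g (nC k 0) (nB k 1) (nB 0 0) m3 m2 a5 fC0 fB1
    have mA' : memP (nB 0 0) = true := by decide +kernel
    have fF1 := fix_sub g (nB 0 0) (nF 1) nA mA' nA_chk.1 a6 fA' hA
    exact ⟨fFk, fF0, fF1⟩
  apply co_ext
  intro q
  show g.1 (E q) = E q
  have hq := idx_lt q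
  by_cases h2 : 2 ≤ idx q
  · exact (hk (idx q) hq h2).1 (E q) (E_pack q)
  · have h01 : idx q = 0 ∨ idx q = 1 := by omega
    have h := hk 2 (by norm_num) (by norm_num)
    rcases h01 with h0 | h0
    · exact h.2.1 (E q) (by rw [E_pack q, h0])
    · exact h.2.2 (E q) (by rw [E_pack q, h0])

/-- an automorphism acting trivially modulo twice the lattice is central -/
theorem kernel_center (g : ↥Co0)
    (hg : ∀ v : ↥leechLattice, ∃ w : ↥leechLattice,
      ((g.1 v : ↥leechLattice) : GolayPt → ℤ) - (v : GolayPt → ℤ) = 2 • (w : GolayPt → ℤ)) :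
    g ∈ Subgroup.center ↥Co0 := by
  have hnA : sqNorm (vecP nA) = 32 := by exact_mod_cast vecP_norm nA 32 nA_chk.2
  rcases pm_of_trivial g hg ⟨vecP nA, vecP_mem nA nA_chk.1⟩ hnA with h | h
  · have e : g = 1 := trivial_of_fix g hg (fun x hx => by
      have ex : x = ⟨vecP nA, vecP_mem nA nA_chk.1⟩ := Subtype.ext hx
      rw [ex]
      exact h)
    rw [e]
    exact Subgroup.one_mem _
  · have e : negCo * g = 1 := by
      apply trivial_of_fix
      · intro v
        obtain ⟨w, hw⟩ := hg v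
        refine ⟨-w - v, ?_⟩
        rw [co_mul_apply, negCo_apply, AddSubgroup.coe_neg, AddSubgroup.coe_sub,
          AddSubgroup.coe_neg, smul_sub, smul_neg, ← hw, two_smul]
        abel
      · intro x hx
        have ex : x = ⟨vecP nA, vecP_mem nA nA_chk.1⟩ := Subtype.ext hx
        rw [ex, co_mul_apply, h, negCo_apply, neg_neg]
    have e2 : g = negCo⁻¹ := (eq_inv_of_mul_eq_one_right e)
    rw [e2]
    exact Subgroup.inv_mem _ negCo_mem_center

/-! ### invariant subgroups -/

/-- two vectors of a given norm with a minimal sum, from packed numbers -/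
theorem pair_spec (a b c N : ℕ) (hm : memP a = true ∧ memP b = true)
    (hadd : addB a b c = true)
    (hn : normP a N = true ∧ normP b N = true ∧ normP c 32 = true) :
    ∃ u v : ↥leechLattice, sqNorm (u : GolayPt → ℤ) = N ∧ sqNorm (v : GolayPt → ℤ) = N ∧
      sqNorm ((u + v : ↥leechLattice) : GolayPt → ℤ) = 32 := by
  refine ⟨⟨vecP a, vecP_mem a hm.1⟩, ⟨vecP b, vecP_mem b hm.2⟩, vecP_norm a N hn.1,
    vecP_norm b N hn.2.1, ?_⟩
  show sqNorm (vecP a + vecP b) = 32
  rw [addB_spec a b c hadd]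
  exact_mod_cast vecP_norm c 32 hn.2.2

theorem trans48 (x y : ↥leechLattice) (hx : sqNorm (x : GolayPt → ℤ) = 48)
    (hy : sqNorm (y : GolayPt → ℤ) = 48) : ∃ g : ↥Co0, g.1 x = y := by
  obtain ⟨g1, h1⟩ := mem_orb48 x hx
  obtain ⟨g2, h2⟩ := mem_orb48 y hy
  refine ⟨g2 * g1⁻¹, ?_⟩
  have e : (g1⁻¹ : ↥Co0).1 (g1.1 u0S) = u0S := g1.1.symm_apply_apply u0S
  rw [co_mul_apply, ← h1, e, h2]

theorem pair_48 : ∃ u v : ↥leechLattice, sqNorm (u : GolayPt → ℤ) = (48 : ℕ) ∧
    sqNorm (v : GolayPt → ℤ) = (48 : ℕ) ∧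
    sqNorm ((u + v : ↥leechLattice) : GolayPt → ℤ) = 32 :=
  pair_spec 343026579557397570761301080475375816 176873080084283234366397511308224840
    176873080084283160507361285904802056 48 (by decide +kernel) (by decide +kernel)
    (by decide +kernel)

theorem pair_64 : ∃ u v : ↥leechLattice, sqNorm (u : GolayPt → ℤ) = (64 : ℕ) ∧
    sqNorm (v : GolayPt → ℤ) = (64 : ℕ) ∧
    sqNorm ((u + v : ↥leechLattice) : GolayPt → ℤ) = 32 :=
  pair_spec 343026579557397644620337305878798344 343026579557397570761301217910135240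
    343026579557397570761301217910134984 64 (by decide +kernel) (by decide +kernel)
    (by decide +kernel)

/-- an invariant subgroup between twice the lattice and the lattice is one of the two -/
theorem invariant_sub (M : AddSubgroup (GolayPt → ℤ))
    (h2 : ∀ v ∈ leechLattice, (2 : ℤ) • v ∈ M) (hM : M ≤ leechLattice)
    (hinv : ∀ (g : ↥Co0) (v : ↥leechLattice), (v : GolayPt → ℤ) ∈ M →
      ((g.1 v : ↥leechLattice) : GolayPt → ℤ) ∈ M) :
    (∀ x ∈ M, ∃ w ∈ leechLattice, x = (2 : ℤ) • w) ∨ M = leechLattice := by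
  by_cases hall : ∀ x ∈ M, ∃ w ∈ leechLattice, x = (2 : ℤ) • w
  · exact Or.inl hall
  right
  have hex : ∃ x ∈ M, ∀ w ∈ leechLattice, x ≠ (2 : ℤ) • w := by
    by_contra hne
    exact hall (fun x hx => by
      by_contra hw
      exact hne ⟨x, hx, fun w hw' e => hw ⟨w, hw', e⟩⟩)
  obtain ⟨x, hx, hx2⟩ := hex
  obtain ⟨y, z, hyz, hy, -⟩ := leech_red ⟨x, hM hx⟩
  have hxe : x = (y : GolayPt → ℤ) + ((z : GolayPt → ℤ) + (z : GolayPt → ℤ)) := by
    have := congrArg Subtype.val hyz
    rw [AddSubgroup.coe_add, AddSubgroup.coe_add] at this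
    exact this
  have hyM : (y : GolayPt → ℤ) ∈ M := by
    have e : (y : GolayPt → ℤ) = x - (2 : ℤ) • (z : GolayPt → ℤ) := by
      rw [two_smul, hxe]
      abel
    rw [e]
    exact M.sub_mem hx (h2 z.1 z.2)
  have from1 : ∀ m0 : ↥leechLattice, sqNorm (m0 : GolayPt → ℤ) = 32 → (m0 : GolayPt → ℤ) ∈ M →
      ∀ m : ↥leechLattice, sqNorm (m : GolayPt → ℤ) = 32 → (m : GolayPt → ℤ) ∈ M := by
    intro m0 h0 hm0 m hm
    obtain ⟨g, hg⟩ := Cfsg.Agent.S0400.result m0 m h0 hm
    have e : g.1 m0 = m := hg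
    rw [← e]
    exact hinv g m0 hm0
  have hmin : ∀ m : ↥leechLattice, sqNorm (m : GolayPt → ℤ) = 32 → (m : GolayPt → ℤ) ∈ M := by
    rcases hy with hy | hy | hy | hy
    · exfalso
      apply hx2 z.1 z.2
      rw [two_smul, hxe, hy, zero_add]
    · exact from1 y hy hyM
    · obtain ⟨u, v, n1, n2, n3⟩ := pair_48
      have hu : (u : GolayPt → ℤ) ∈ M := by
        obtain ⟨g, hg⟩ := trans48 y u hy (by exact_mod_cast n1)
        rw [← hg]
        exact hinv g y hyM
      have hv : (v : GolayPt → ℤ) ∈ M := by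
        obtain ⟨g, hg⟩ := trans48 y v hy (by exact_mod_cast n2)
        rw [← hg]
        exact hinv g y hyM
      have huv : ((u + v : ↥leechLattice) : GolayPt → ℤ) ∈ M := by
        rw [AddSubgroup.coe_add]
        exact M.add_mem hu hv
      exact from1 (u + v) n3 huv
    · obtain ⟨u, v, n1, n2, n3⟩ := pair_64
      have hu : (u : GolayPt → ℤ) ∈ M := by
        obtain ⟨g, hg⟩ := trans64 y u hy (by exact_mod_cast n1)
        rw [← hg]
        exact hinv g y hyM
      have hv : (v : GolayPt → ℤ) ∈ M := by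
        obtain ⟨g, hg⟩ := trans64 y v hy (by exact_mod_cast n2)
        rw [← hg]
        exact hinv g y hyM
      have huv : ((u + v : ↥leechLattice) : GolayPt → ℤ) ∈ M := by
        rw [AddSubgroup.coe_add]
        exact M.add_mem hu hv
      exact from1 (u + v) n3 huv
  apply le_antisymm hM
  have hcl := Cfsg.Agent.S1567.result
  intro m hm
  rw [← hcl] at hm
  exact (AddSubgroup.closure_le M).2 (fun m hm => hmin ⟨m, hm.1⟩ hm.2) hm

end Cfsg.Agent.Lib.helper93
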