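import Cfsg.Agent.Lib.helper93.LeechCountNum
import Cfsg.Agent.Lib.helper9.GolayM24

/-!
A list model of the vectors of `Cfsg.leechLattice` with small coordinates (a vector is the list
of its 24 coordinates shifted by 8), a decidable membership test, and the explicit list of the
196560 minimal vectors, fibre by fibre.
-/

set_option autoImplicit false
open Cfsg Cfsg.Agent.Lib.helper9

namespace Cfsg.Agent.Lib.helper93

/-- the vector of a list of shifted coordinates -/
def vecL (l : List ℕ) : GolayPt → ℤ := fun p => (l.getD (idx p) 8 : ℤ) - 8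

theorem sum_range_getD {M : Type*} [AddCommMonoid M] (f : ℕ → M) (d : ℕ) :
    ∀ l : List ℕ, ∑ i ∈ Finset.range l.length, f (l.getD i d) = (l.map f).sum
  | [] => by simp
  | a :: l => by
    rw [List.length_cons, Finset.sum_range_succ', List.map_cons, List.sum_cons, add_comm]
    congr 1
    have h := sum_range_getD f d l
    simpa using h

theorem sum_pts_getD {M : Type*} [AddCommMonoid M] (g : ℕ → M) (l : List ℕ)
    (h : l.length = 24) : ∑ p : GolayPt, g (l.getD (idx p) 8) = (l.map g).sum := by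
  rw [sum_idx (fun i => g (l.getD i 8)), ← h, sum_range_getD]

theorem getD_mem (l : List ℕ) (h : l.length = 24) (p : GolayPt) : l.getD (idx p) 8 ∈ l := by
  have hp := idx_lt p
  rw [List.getD_eq_getElem _ _ (by omega)]
  exact List.getElem_mem _

/-- mask of the indices `i < k` with `f i = true` -/
def maskF (f : ℕ → Bool) : ℕ → ℕ
  | 0 => 0
  | k + 1 => maskF f k + (if f k then 2 ^ k else 0)

theorem maskF_lt (f : ℕ → Bool) : ∀ k, maskF f k < 2 ^ k
  | 0 => by simp [maskF]
  | k + 1 => by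
    have h := maskF_lt f k
    unfold maskF
    rw [pow_succ]
    split_ifs <;> omega

theorem testBit_maskF (f : ℕ → Bool) : ∀ k i, (maskF f k).testBit i = (decide (i < k) && f i)
  | 0, i => by simp [maskF]
  | k + 1, i => by
    have hlt := maskF_lt f k
    have ih := testBit_maskF f k i
    unfold maskF
    by_cases hf : f k
    · rw [if_pos hf, add_comm]
      rcases lt_trichotomy i k with h | h | h
      · rw [Nat.testBit_two_pow_add_gt h, ih]
        simp [h, Nat.lt_succ_of_lt h]
      · subst h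
        rw [Nat.testBit_two_pow_add_eq, Nat.testBit_lt_two_pow hlt]
        simp [hf]
      · have h2 : 2 ^ k + maskF f k < 2 ^ i := by
          have : 2 ^ (k + 1) ≤ 2 ^ i := Nat.pow_le_pow_right (by norm_num) h
          rw [pow_succ] at this
          omega
        rw [Nat.testBit_lt_two_pow h2]
        have : ¬ i < k + 1 := by omega
        simp [this]
    · rw [if_neg hf, add_zero, ih]
      rcases lt_trichotomy i k with h | h | h
      · simp [h, Nat.lt_succ_of_lt h]
      · subst h
        simp [hf]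
      · have h1 : ¬ i < k := by omega
        have h2 : ¬ i < k + 1 := by omega
        simp [h1, h2]

/-- the word of the coordinates not congruent to `ε` modulo 4 -/
def maskL (ε : ℕ) (l : List ℕ) : ℕ := maskF (fun i => !(Nat.beq (l.getD i 8 % 4) ε)) 24

theorem int_a (f ε : ℕ) (h : f % 2 = ε) : ((f : ℤ) - 8) ≡ (ε : ℤ) [ZMOD 2] := by
  unfold Int.ModEq; omega

theorem int_b (s ε : ℕ) (h : s % 8 = 4 * ε) : ((s : ℤ) - 192) ≡ 4 * (ε : ℤ) [ZMOD 8] := by
  unfold Int.ModEq; omega

theorem int_c (f ε : ℕ) (hε : ε < 2) : ((f : ℤ) - 8) ≡ (ε : ℤ) [ZMOD 4] ↔ f % 4 = ε := by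
  unfold Int.ModEq; omega

theorem beq_t (a b : ℕ) (h : a = b) : Nat.beq a b = true := by
  subst h
  exact Nat.beq_refl a

theorem beq_f (a b : ℕ) (h : a ≠ b) : Nat.beq a b = false := by
  cases hh : Nat.beq a b
  · rfl
  · exact absurd (Nat.eq_of_beq_eq_true hh) h

/-- the conditions of `leechSet` for the vector of a list -/
theorem vecL_core (ε : ℕ) (hε : ε < 2) (l : List ℕ) (hlen : l.length = 24)
    (hpar : ∀ f ∈ l, f % 2 = ε) (hsum : l.sum % 8 = 4 * ε) :
    (∀ p, vecL l p ≡ (ε : ℤ) [ZMOD 2]) ∧ (∑ p, vecL l p ≡ 4 * (ε : ℤ) [ZMOD 8]) ∧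
      wd (ε : ℤ) (vecL l) = dec (maskL ε l) := by
  refine ⟨fun p => int_a _ _ (hpar _ (getD_mem l hlen p)), ?_, ?_⟩
  · have h1 : ∑ p, vecL l p = (l.sum : ℤ) - 192 := by
      unfold vecL
      rw [Finset.sum_sub_distrib, sum_pts_getD (fun f => (f : ℤ)) l hlen, Finset.sum_const,
        Finset.card_univ, card_golayPt, Nat.cast_list_sum]
      norm_num
    rw [h1]
    exact int_b _ _ hsum
  · funext p
    unfold wd maskL
    rw [dec_apply, testBit_maskF, decide_eq_true (idx_lt p), Bool.true_and]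
    by_cases h : vecL l p ≡ (ε : ℤ) [ZMOD 4]
    · rw [if_pos h, beq_t _ _ ((int_c _ _ hε).1 h)]
      rfl
    · rw [if_neg h, beq_f _ _ (fun hh => h ((int_c _ _ hε).2 hh))]
      rfl

theorem sum_map_sq (l : List ℕ) : (l.map fun (f : ℕ) => ((f : ℤ) - 8) ^ 2).sum =
    (((l.map fun f => f * f).sum : ℕ) : ℤ) - 16 * ((l.sum : ℕ) : ℤ) + 64 * ((l.length : ℕ) : ℤ) := by
  induction l with
  | nil => simp
  | cons a l ih =>
    rw [List.map_cons, List.sum_cons, ih, List.map_cons, List.sum_cons, List.sum_cons,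
      List.length_cons]
    push_cast
    ring

/-- test of the norm of a list -/
def normIs (l : List ℕ) (N : ℕ) : Bool :=
  Nat.beq ((l.map fun f => f * f).sum + 1536) (16 * l.sum + N)

theorem sqNorm_vecL (l : List ℕ) (hlen : l.length = 24) (N : ℕ) (h : normIs l N = true) :
    sqNorm (vecL l) = N := by
  unfold normIs at h
  have h' := Nat.eq_of_beq_eq_true h
  unfold sqNorm vecL
  rw [sum_pts_getD (fun f => ((f : ℤ) - 8) ^ 2) l hlen, sum_map_sq, hlen]
  have h2 : (((l.map fun f => f * f).sum + 1536 : ℕ) : ℤ) = ((16 * l.sum + N : ℕ) : ℤ) := by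
    rw [h']
  push_cast at h2 ⊢
  linarith

/-- decidable membership test for the lattice -/
def memL (l : List ℕ) : Bool :=
  Nat.beq l.length 24 && (l.all fun f => Nat.beq (f % 2) (l.getD 0 8 % 2)) &&
    Nat.beq (l.sum % 8) (4 * (l.getD 0 8 % 2)) && syn (maskL (l.getD 0 8 % 2) l)

theorem vecL_mem (l : List ℕ) (h : memL l = true) : vecL l ∈ leechLattice := by
  unfold memL at h
  simp only [Bool.and_eq_true, List.all_eq_true] at h
  obtain ⟨⟨⟨h1, h2⟩, h3⟩, h4⟩ := h
  have hlen := Nat.eq_of_beq_eq_true h1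
  have hε : l.getD 0 8 % 2 < 2 := Nat.mod_lt _ (by norm_num)
  obtain ⟨c1, c2, c3⟩ := vecL_core (l.getD 0 8 % 2) hε l hlen
    (fun f hf => Nat.eq_of_beq_eq_true (h2 f hf)) (Nat.eq_of_beq_eq_true h3)
  rw [mem_leechLattice_iff, mem_leechSet_iff]
  refine ⟨_, c1, c2, ?_⟩
  rw [c3]
  exact (dec_mem_golayCode_iff _).2 h4

/-- test that a list is a vector of norm 32 of the fibre of parity `ε` of the code word `n` -/
def validFib (ε n : ℕ) (l : List ℕ) : Bool :=
  Nat.beq l.length 24 && (l.all fun f => Nat.beq (f % 2) ε) && Nat.beq (l.sum % 8) (4 * ε) &&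
    Nat.beq (maskL ε l) n && normIs l 32

theorem vecL_mem_fib (ε : ℕ) (hε : ε < 2) (n : ℕ) (l : List ℕ) (h : validFib ε n l = true) :
    l.length = 24 ∧ vecL l ∈ fib (ε : ℤ) 32 (dec n) := by
  unfold validFib at h
  simp only [Bool.and_eq_true, List.all_eq_true] at h
  obtain ⟨⟨⟨⟨h1, h2⟩, h3⟩, h4⟩, h5⟩ := h
  have hlen := Nat.eq_of_beq_eq_true h1
  obtain ⟨c1, c2, c3⟩ := vecL_core ε hε l hlen
    (fun f hf => Nat.eq_of_beq_eq_true (h2 f hf)) (Nat.eq_of_beq_eq_true h3)
  refine ⟨hlen, (mem_fib (ε : ℤ) 32 (by norm_num) (dec n) (vecL l)).2 ⟨c1, c2, ?_, ?_⟩⟩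
  · rw [c3, Nat.eq_of_beq_eq_true h4]
  · exact sqNorm_vecL l hlen 32 h5

theorem vecL_injOn (l l' : List ℕ) (h : l.length = 24) (h' : l'.length = 24)
    (he : vecL l = vecL l') : l = l' := by
  apply List.ext_getElem (by rw [h, h'])
  intro i hi hi'
  have h1 := congrFun he (pt i)
  unfold vecL at h1
  rw [idx_pt (by omega), List.getD_eq_getElem _ _ hi, List.getD_eq_getElem _ _ hi'] at h1
  have h2 : ((l[i] : ℕ) : ℤ) = ((l'[i] : ℕ) : ℤ) := by linarith
  exact_mod_cast h2

/-- quadratic test that a list of lists has no repetition -/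
def nodupB : List (List ℕ) → Bool
  | [] => true
  | a :: l => !(l.contains a) && nodupB l

theorem nodup_of_nodupB : ∀ l : List (List ℕ), nodupB l = true → l.Nodup
  | [], _ => List.nodup_nil
  | a :: l, h => by
    unfold nodupB at h
    simp only [Bool.and_eq_true, Bool.not_eq_true', List.contains_eq_mem,
      decide_eq_false_iff_not] at h
    exact List.nodup_cons.2 ⟨h.1, nodup_of_nodupB l h.2⟩

/-- test of a chunk: the right length, no repetition, all members in the fibre -/
def chunkOK (ε n : ℕ) (c : List (List ℕ)) (len : ℕ) : Bool :=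
  Nat.beq c.length len && nodupB c && c.all (validFib ε n)

/-- a chunk passing the test with the right number of members is the whole fibre -/
theorem fib_cover (ε : ℕ) (hε : ε < 2) (n : ℕ) (c : List (List ℕ)) (len : ℕ)
    (hc : chunkOK ε n c len = true) (hcard : (fib (ε : ℤ) 32 (dec n)).card = len)
    (x : GolayPt → ℤ) (hx : x ∈ fib (ε : ℤ) 32 (dec n)) : ∃ l ∈ c, l.length = 24 ∧ x = vecL l := by
  classical
  unfold chunkOK at hc
  simp only [Bool.and_eq_true, List.all_eq_true] at hc
  obtain ⟨⟨h1, h2⟩, h3⟩ := hc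
  have hlen := Nat.eq_of_beq_eq_true h1
  have hnd := nodup_of_nodupB c h2
  have hsub : c.toFinset.image vecL ⊆ fib (ε : ℤ) 32 (dec n) := by
    intro y hy
    rw [Finset.mem_image] at hy
    obtain ⟨l, hl, rfl⟩ := hy
    exact (vecL_mem_fib ε hε n l (h3 l (List.mem_toFinset.1 hl))).2
  have hci : (c.toFinset.image vecL).card = len := by
    rw [Finset.card_image_of_injOn, List.toFinset_card_of_nodup hnd, hlen]
    intro l hl l' hl' he
    exact vecL_injOn l l' (vecL_mem_fib ε hε n l (h3 l (List.mem_toFinset.1 hl))).1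
      (vecL_mem_fib ε hε n l' (h3 l' (List.mem_toFinset.1 hl'))).1 he
  have heq := Finset.eq_of_subset_of_card_le hsub (by rw [hci, hcard])
  rw [← heq, Finset.mem_image] at hx
  obtain ⟨l, hl, rfl⟩ := hx
  exact ⟨l, List.mem_toFinset.1 hl, (vecL_mem_fib ε hε n l (h3 l (List.mem_toFinset.1 hl))).1, rfl⟩

end Cfsg.Agent.Lib.helper93
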