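import Cfsg.Agent.Lib.helper93.LeechPack
import Cfsg.Agent.Lib.helper93.LeechGolay
import Cfsg.Agent.Lib.helper9.GolayWords

/-!
The explicit list of the packed minimal vectors of `Cfsg.leechLattice` (shapes `(±4, ±4, 0^22)`,
`(±2^8, 0^16)` and `(∓3, ±1^23)`), and the proof that every vector of norm 32 is in it.
-/

set_option autoImplicit false
open Cfsg Cfsg.Agent.Lib.helper9

namespace Cfsg.Agent.Lib.helper93

/-- bit `k` of `c` as a number -/
def bitN (c k : ℕ) : ℕ := Nat.mod (Nat.div c (Nat.pow 2 k)) 2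

theorem bitN_le (c k : ℕ) : bitN c k ≤ 1 := by
  have : bitN c k < 2 := Nat.mod_lt _ (by norm_num)
  omega

theorem bitN_eq (c k : ℕ) : bitN c k = (c.testBit k).toNat := (Nat.toNat_testBit c k).symm

theorem sum_bitN (c : ℕ) : ∑ j ∈ Finset.range 24, bitN c j = pc c := by
  rw [pc_eq_cnt, cnt_eq_sum]
  exact Finset.sum_congr rfl fun j _ => bitN_eq c j

theorem bit_of_wd (m : ℤ) (x : GolayPt → ℤ) (n : ℕ) (h : wd m x = dec n) (q : GolayPt) :
    (bitN n (idx q) = 0 ∧ x q ≡ m [ZMOD 4]) ∨ (bitN n (idx q) = 1 ∧ ¬ x q ≡ m [ZMOD 4]) := by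
  have h1 := congrFun h q
  unfold wd at h1
  rw [dec_apply] at h1
  rw [bitN_eq]
  by_cases hb : n.testBit (idx q) = true
  · right
    rw [if_pos hb] at h1
    refine ⟨by rw [hb]; rfl, fun hh => ?_⟩
    rw [if_pos hh] at h1
    exact zero_ne_one h1
  · left
    rw [if_neg hb] at h1
    refine ⟨by rw [Bool.not_eq_true] at hb; rw [hb]; rfl, ?_⟩
    by_contra hh
    rw [if_neg hh] at h1
    exact one_ne_zero h1

theorem cast_digSum (f : ℕ → ℕ) (k : ℕ) :
    ((digSum f k : ℕ) : ℤ) = ∑ j ∈ Finset.range k, (f j : ℤ) * 32 ^ j := by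
  rw [digSum_eq_sum]
  push_cast
  rfl

theorem cast_packV (x : GolayPt → ℤ) (hx : ∀ p, -8 ≤ x p ∧ x p ≤ 8) :
    ((packV x : ℕ) : ℤ) = ∑ j ∈ Finset.range 24, (x (pt j) + 8) * 32 ^ j := by
  unfold packV
  rw [cast_digSum]
  refine Finset.sum_congr rfl fun j _ => ?_
  congr 1
  have := hx (pt j)
  omega

/-! ### the lists -/

/-- the packed zero vector -/
def c8 : ℕ := digSum (fun _ => 8) 24

/-- the vectors of shape `(±4, ±4, 0^22)` -/
def gen1 : List ℕ := (List.range 24).flatMap fun j => (List.range j).flatMap fun i =>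
  [c8 + 4 * 32 ^ i + 4 * 32 ^ j, c8 + 4 * 32 ^ i - 4 * 32 ^ j, c8 - 4 * 32 ^ i + 4 * 32 ^ j,
    c8 - 4 * 32 ^ i - 4 * 32 ^ j]

/-- the vector `-2` on the code word `c`, `0` elsewhere -/
def base2 (c : ℕ) : ℕ := digSum (fun k => Nat.sub 8 (Nat.mul 2 (bitN c k))) 24

/-- concatenation, by the raw recursor (fast in the kernel) -/
def appR (as bs : List ℕ) : List ℕ :=
  List.rec (motive := fun _ => List ℕ) bs (fun a _ ih => a :: ih) as

theorem appR_eq : ∀ (as bs : List ℕ), appR as bs = as ++ bs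
  | [], _ => rfl
  | a :: as, bs => by
    show a :: appR as bs = a :: (as ++ bs)
    rw [appR_eq as bs]

/-- map of a function, by the raw recursor (fast in the kernel) -/
def mapR (f : ℕ → ℕ) (as : List ℕ) : List ℕ :=
  List.rec (motive := fun _ => List ℕ) [] (fun a _ ih => f a :: ih) as

theorem mapR_eq (f : ℕ → ℕ) : ∀ as : List ℕ, mapR f as = as.map f
  | [] => rfl
  | a :: as => by
    show f a :: mapR f as = (a :: as).map f
    rw [mapR_eq f as]
    rfl

/-- sums of powers of 32 over the subsets of the bits below `K` of `c`, by parity of the subset -/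
def evOd (c : ℕ) (K : ℕ) : List ℕ × List ℕ :=
  Nat.rec (motive := fun _ => List ℕ × List ℕ) ([0], [])
    (fun k ih => cond (Nat.beq (bitN c k) 1)
      (appR ih.1 (mapR (fun s => Nat.add s (Nat.pow 32 k)) ih.2),
        appR ih.2 (mapR (fun s => Nat.add s (Nat.pow 32 k)) ih.1)) ih) K

theorem evOd_succ (c K : ℕ) : evOd c (K + 1) = cond (Nat.beq (bitN c K) 1)
    ((evOd c K).1 ++ (evOd c K).2.map (fun s => Nat.add s (Nat.pow 32 K)),
      (evOd c K).2 ++ (evOd c K).1.map (fun s => Nat.add s (Nat.pow 32 K))) (evOd c K) := by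
  rw [← mapR_eq, ← mapR_eq, ← appR_eq, ← appR_eq]
  rfl

/-- the vectors of shape `(±2^8, 0^16)` on the octad `c` -/
def gen2 (c : ℕ) : List ℕ := mapR (fun s => Nat.add (base2 c) (Nat.mul 4 s)) (evOd c 24).1

/-- the vector with coordinates `-1` on the code word `c`, `1` elsewhere -/
def base3 (c : ℕ) : ℕ := digSum (fun k => Nat.sub 9 (Nat.mul 2 (bitN c k))) 24

/-- the vectors of shape `(∓3, ±1^23)` of the code word `c` -/
def gen3 (c : ℕ) : List ℕ := (List.range 24).map fun i =>
  cond (Nat.beq (bitN c i) 1) (Nat.add (base3 c) (Nat.mul 4 (Nat.pow 32 i)))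
    (Nat.sub (base3 c) (Nat.mul 4 (Nat.pow 32 i)))

/-! ### membership -/

theorem cover3 (x : GolayPt → ℤ) (hx : ∀ p, -8 ≤ x p ∧ x p ≤ 8) (n : ℕ) (p0 : GolayPt)
    (h0 : x p0 = -3 + 6 * (bitN n (idx p0) : ℤ))
    (h1 : ∀ q, q ≠ p0 → x q = 1 - 2 * (bitN n (idx q) : ℤ)) : packV x ∈ gen3 n := by
  have hi0 := idx_lt p0
  have key : ((packV x : ℕ) : ℤ) + (4 - 8 * (bitN n (idx p0) : ℤ)) * 32 ^ (idx p0) =
      ((base3 n : ℕ) : ℤ) := by
    have e1 : (4 - 8 * (bitN n (idx p0) : ℤ)) * 32 ^ (idx p0) = ∑ j ∈ Finset.range 24,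
        if j = idx p0 then (4 - 8 * (bitN n j : ℤ)) * 32 ^ j else 0 := by
      rw [Finset.sum_ite_eq' (Finset.range 24) (idx p0) (fun j => (4 - 8 * (bitN n j : ℤ)) * 32 ^ j),
        if_pos (Finset.mem_range.2 hi0)]
    rw [cast_packV x hx, e1, ← Finset.sum_add_distrib]
    unfold base3
    rw [cast_digSum]
    refine Finset.sum_congr rfl fun j hj => ?_
    have hj' := Finset.mem_range.1 hj
    have hb := bitN_le n j
    have hc : ((Nat.sub 9 (Nat.mul 2 (bitN n j)) : ℕ) : ℤ) = 9 - 2 * (bitN n j : ℤ) := by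
      show ((9 - 2 * bitN n j : ℕ) : ℤ) = _
      omega
    rw [hc]
    by_cases hji : j = idx p0
    · rw [if_pos hji, hji, pt_idx, h0]
      ring
    · rw [if_neg hji]
      have hne : pt j ≠ p0 := fun hh => hji (by rw [← hh, idx_pt hj'])
      rw [h1 (pt j) hne, idx_pt hj']
      ring
  unfold gen3
  refine List.mem_map.2 ⟨idx p0, List.mem_range.2 hi0, ?_⟩
  have hb := bitN_le n (idx p0)
  have hb' : bitN n (idx p0) = 0 ∨ bitN n (idx p0) = 1 := by omega
  rcases hb' with hb' | hb'
  · rw [hb'] at key ⊢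
    norm_num at key
    have h4 : packV x + 4 * 32 ^ (idx p0) = base3 n := by
      have : ((packV x + 4 * 32 ^ (idx p0) : ℕ) : ℤ) = ((base3 n : ℕ) : ℤ) := by
        push_cast
        linarith
      exact_mod_cast this
    show base3 n - 4 * 32 ^ (idx p0) = packV x
    omega
  · rw [hb'] at key ⊢
    norm_num at key
    have h4 : packV x = base3 n + 4 * 32 ^ (idx p0) := by
      have : ((packV x : ℕ) : ℤ) = ((base3 n + 4 * 32 ^ (idx p0) : ℕ) : ℤ) := by
        push_cast
        linarith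
      exact_mod_cast this
    show base3 n + 4 * 32 ^ (idx p0) = packV x
    omega

theorem evOd_mem (c : ℕ) (hh : ℕ → ℕ) (h1 : ∀ j, hh j ≤ 1) (h2 : ∀ j, hh j = 1 → bitN c j = 1) :
    ∀ K, ((∑ j ∈ Finset.range K, hh j) % 2 = 0 → digSum hh K ∈ (evOd c K).1) ∧
      ((∑ j ∈ Finset.range K, hh j) % 2 = 1 → digSum hh K ∈ (evOd c K).2) := by
  intro K
  induction K with
  | zero =>
    refine ⟨fun _ => ?_, fun h => ?_⟩
    · show 0 ∈ [0]
      simp
    · simp at h
  | succ K ih =>
    rw [Finset.sum_range_succ, digSum_succ, evOd_succ]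
    have hK := h1 K
    have hK' : hh K = 0 ∨ hh K = 1 := by omega
    rcases hK' with hK' | hK'
    · rw [hK', add_zero, zero_mul, add_zero]
      cases hb : Nat.beq (bitN c K) 1
      · exact ih
      · exact ⟨fun h => List.mem_append_left _ (ih.1 h), fun h => List.mem_append_left _ (ih.2 h)⟩
    · have hb : Nat.beq (bitN c K) 1 = true := by
        rw [h2 K hK']
        rfl
      rw [hK', hb, one_mul]
      refine ⟨fun h => List.mem_append_right _ (List.mem_map.2 ⟨digSum hh K, ih.2 (by omega), rfl⟩),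
        fun h => List.mem_append_right _ (List.mem_map.2 ⟨digSum hh K, ih.1 (by omega), rfl⟩)⟩

theorem cover2 (x : GolayPt → ℤ) (hx : ∀ p, -8 ≤ x p ∧ x p ≤ 8) (n : ℕ) (hpc : pc n = 8)
    (hsum : ∑ p, x p ≡ 0 [ZMOD 8])
    (h : ∀ q, (bitN n (idx q) = 0 ∧ x q = 0) ∨ (bitN n (idx q) = 1 ∧ (x q = 2 ∨ x q = -2))) :
    packV x ∈ gen2 n := by
  classical
  let hh : ℕ → ℕ := fun j => if x (pt j) = 2 ∧ j < 24 then 1 else 0
  have hh1 : ∀ j, hh j ≤ 1 := by
    intro j
    show (if x (pt j) = 2 ∧ j < 24 then 1 else 0) ≤ 1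
    split_ifs <;> omega
  have hfld : ∀ j, j < 24 → x (pt j) = 4 * (hh j : ℤ) - 2 * (bitN n j : ℤ) := by
    intro j hj
    have h3 := h (pt j)
    rw [idx_pt hj] at h3
    show x (pt j) = 4 * ((if x (pt j) = 2 ∧ j < 24 then 1 else 0 : ℕ) : ℤ) - 2 * (bitN n j : ℤ)
    rcases h3 with ⟨hb, h0⟩ | ⟨hb, h0 | h0⟩
    · rw [if_neg (by rw [h0]; omega), hb, h0]; norm_num
    · rw [if_pos ⟨h0, hj⟩, hb, h0]; norm_num
    · rw [if_neg (by rw [h0]; omega), hb, h0]; norm_num
  have hh2 : ∀ j, hh j = 1 → bitN n j = 1 := by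
    intro j hj
    have hj24 : j < 24 := by
      by_contra hc
      have : hh j = 0 := by
        show (if x (pt j) = 2 ∧ j < 24 then 1 else 0) = 0
        rw [if_neg (fun h => hc h.2)]
      omega
    have h3 := hfld j hj24
    have h4 := h (pt j)
    rw [idx_pt hj24] at h4
    rw [hj] at h3
    rcases h4 with ⟨hb, h0⟩ | ⟨hb, _⟩
    · rw [hb, h0] at h3
      norm_num at h3
    · exact hb
  have hpar : (∑ j ∈ Finset.range 24, hh j) % 2 = 0 := by
    have e1 : ∑ p, x p = 4 * ((∑ j ∈ Finset.range 24, hh j : ℕ) : ℤ) - 16 := by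
      rw [sum_vecP_eq, Finset.sum_congr rfl (fun j hj => hfld j (Finset.mem_range.1 hj)),
        Finset.sum_sub_distrib, ← Finset.mul_sum, ← Finset.mul_sum]
      have e2 : (∑ j ∈ Finset.range 24, (bitN n j : ℤ)) = 8 := by
        rw [← Nat.cast_sum, sum_bitN, hpc]
        rfl
      rw [e2]
      push_cast
      ring
    rw [e1] at hsum
    unfold Int.ModEq at hsum
    omega
  have hmem := ((evOd_mem n hh hh1 hh2 24).1 hpar)
  have key : packV x = base2 n + 4 * digSum hh 24 := by
    have : ((packV x : ℕ) : ℤ) = ((base2 n + 4 * digSum hh 24 : ℕ) : ℤ) := by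
      push_cast
      rw [cast_packV x hx, cast_digSum]
      unfold base2
      rw [cast_digSum, Finset.mul_sum, ← Finset.sum_add_distrib]
      refine Finset.sum_congr rfl fun j hj => ?_
      have hb := bitN_le n j
      have hc : ((Nat.sub 8 (Nat.mul 2 (bitN n j)) : ℕ) : ℤ) = 8 - 2 * (bitN n j : ℤ) := by
        show ((8 - 2 * bitN n j : ℕ) : ℤ) = _
        omega
      rw [hc, hfld j (Finset.mem_range.1 hj)]
      ring
    exact_mod_cast this
  unfold gen2
  rw [mapR_eq]
  exact List.mem_map.2 ⟨digSum hh 24, hmem, key.symm⟩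

theorem c8_ge (i j : ℕ) (hij : i < j) (hj : j < 24) : 8 * 32 ^ i + 8 * 32 ^ j ≤ c8 := by
  unfold c8
  rw [digSum_eq_sum]
  have hsub : ({i, j} : Finset ℕ) ⊆ Finset.range 24 := by
    intro k hk
    rw [Finset.mem_insert, Finset.mem_singleton] at hk
    rw [Finset.mem_range]
    omega
  have h := Finset.sum_le_sum_of_subset (f := fun k => 8 * 32 ^ k) hsub
  rw [Finset.sum_pair (by omega)] at h
  exact h

theorem cover1 (x : GolayPt → ℤ) (hx : ∀ p, -8 ≤ x p ∧ x p ≤ 8) (p q : GolayPt)
    (hpq : idx p < idx q) (hp : x p = 4 ∨ x p = -4) (hq : x q = 4 ∨ x q = -4)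
    (h0 : ∀ r, r ≠ p → r ≠ q → x r = 0) : packV x ∈ gen1 := by
  have hi := idx_lt p
  have hj := idx_lt q
  have key : ((packV x : ℕ) : ℤ) = ((c8 : ℕ) : ℤ) + x p * 32 ^ (idx p) + x q * 32 ^ (idx q) := by
    have e1 : x p * 32 ^ (idx p) = ∑ k ∈ Finset.range 24,
        if k = idx p then x p * 32 ^ k else 0 := by
      rw [Finset.sum_ite_eq' (Finset.range 24) (idx p) (fun k => x p * 32 ^ k),
        if_pos (Finset.mem_range.2 hi)]
    have e2 : x q * 32 ^ (idx q) = ∑ k ∈ Finset.range 24,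
        if k = idx q then x q * 32 ^ k else 0 := by
      rw [Finset.sum_ite_eq' (Finset.range 24) (idx q) (fun k => x q * 32 ^ k),
        if_pos (Finset.mem_range.2 hj)]
    rw [cast_packV x hx, e1, e2]
    unfold c8
    rw [cast_digSum, ← Finset.sum_add_distrib, ← Finset.sum_add_distrib]
    refine Finset.sum_congr rfl fun k hk => ?_
    have hk' := Finset.mem_range.1 hk
    by_cases hkp : k = idx p
    · rw [if_pos hkp, if_neg (by omega), hkp, pt_idx]
      push_cast
      ring
    · by_cases hkq : k = idx q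
      · rw [if_neg hkp, if_pos hkq, hkq, pt_idx]
        push_cast
        ring
      · rw [if_neg hkp, if_neg hkq, h0 (pt k) (fun hh => hkp (by rw [← hh, idx_pt hk']))
          (fun hh => hkq (by rw [← hh, idx_pt hk']))]
        push_cast
        ring
  have hge := c8_ge (idx p) (idx q) hpq hj
  unfold gen1
  refine List.mem_flatMap.2 ⟨idx q, List.mem_range.2 hj,
    List.mem_flatMap.2 ⟨idx p, List.mem_range.2 hpq, ?_⟩⟩
  have hP : (0 : ℤ) < 32 ^ (idx p) := by positivity
  have hQ : (0 : ℤ) < 32 ^ (idx q) := by positivity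
  rcases hp with hp | hp <;> rcases hq with hq | hq
  · have : packV x = c8 + 4 * 32 ^ (idx p) + 4 * 32 ^ (idx q) := by
      have : ((packV x : ℕ) : ℤ) = ((c8 + 4 * 32 ^ (idx p) + 4 * 32 ^ (idx q) : ℕ) : ℤ) := by
        push_cast
        rw [key, hp, hq]
      exact_mod_cast this
    rw [this]
    simp
  · have : packV x + 4 * 32 ^ (idx q) = c8 + 4 * 32 ^ (idx p) := by
      have : ((packV x + 4 * 32 ^ (idx q) : ℕ) : ℤ) = ((c8 + 4 * 32 ^ (idx p) : ℕ) : ℤ) := by
        push_cast
        rw [key, hp, hq]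
        ring
      exact_mod_cast this
    have e : packV x = c8 + 4 * 32 ^ (idx p) - 4 * 32 ^ (idx q) := by omega
    rw [e]
    simp
  · have : packV x + 4 * 32 ^ (idx p) = c8 + 4 * 32 ^ (idx q) := by
      have : ((packV x + 4 * 32 ^ (idx p) : ℕ) : ℤ) = ((c8 + 4 * 32 ^ (idx q) : ℕ) : ℤ) := by
        push_cast
        rw [key, hp, hq]
        ring
      exact_mod_cast this
    have e : packV x = c8 - 4 * 32 ^ (idx p) + 4 * 32 ^ (idx q) := by omega
    rw [e]
    simp
  · have : packV x + 4 * 32 ^ (idx p) + 4 * 32 ^ (idx q) = c8 := by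
      have : ((packV x + 4 * 32 ^ (idx p) + 4 * 32 ^ (idx q) : ℕ) : ℤ) = ((c8 : ℕ) : ℤ) := by
        push_cast
        rw [key, hp, hq]
        ring
      exact_mod_cast this
    have e : packV x = c8 - 4 * 32 ^ (idx p) - 4 * 32 ^ (idx q) := by omega
    rw [e]
    simp

/-! ### the shapes of the vectors of norm 32 -/

theorem odd_sq (a : ℤ) (h : a ≡ 1 [ZMOD 2]) : a ^ 2 = 1 ∨ 9 ≤ a ^ 2 := by
  have h' : a = 1 ∨ a = -1 ∨ 3 ≤ a ∨ a ≤ -3 := by
    unfold Int.ModEq at h
    omega
  rcases h' with rfl | rfl | h' | h'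
  · left; norm_num
  · left; norm_num
  · right; nlinarith
  · right; nlinarith

theorem two_sq (a : ℤ) (h : a ≡ 2 [ZMOD 4]) : 4 ≤ a ^ 2 := by
  have h' : 2 ≤ a ∨ a ≤ -2 := by
    unfold Int.ModEq at h
    omega
  rcases h' with h' | h' <;> nlinarith

theorem eq_of_sq_eq (a b : ℤ) (h : a ^ 2 = b ^ 2) : a = b ∨ a = -b := by
  have : (a - b) * (a + b) = 0 := by ring_nf; linarith
  rcases mul_eq_zero.1 this with h | h
  · left; linarith
  · right; linarith

theorem odd_shape (x : GolayPt → ℤ) (h1 : ∀ p, x p ≡ 1 [ZMOD 2]) (hn : sqNorm x = 32) :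
    ∃ p0, x p0 ^ 2 = 9 ∧ ∀ q, q ≠ p0 → x q ^ 2 = 1 := by
  classical
  have hsum : ∑ p, (x p ^ 2 - 1) = 8 := by
    unfold sqNorm at hn
    rw [Finset.sum_sub_distrib, hn, Finset.sum_const, Finset.card_univ, card_golayPt]
    norm_num
  have hnn : ∀ p, 0 ≤ x p ^ 2 - 1 := fun p => by
    rcases odd_sq _ (h1 p) with h | h <;> linarith
  obtain ⟨p0, hp0⟩ : ∃ p0, x p0 ^ 2 - 1 ≠ 0 := by
    by_contra hcon
    simp only [not_exists, not_not] at hcon
    rw [Finset.sum_eq_zero (fun p _ => hcon p)] at hsum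
    norm_num at hsum
  have h8 : 9 ≤ x p0 ^ 2 := by
    rcases odd_sq _ (h1 p0) with h | h
    · exact absurd (by rw [h]; norm_num) hp0
    · exact h
  have hsplit := Finset.add_sum_erase Finset.univ (fun p => x p ^ 2 - 1) (Finset.mem_univ p0)
  rw [hsum] at hsplit
  have hrest_nn : 0 ≤ ∑ q ∈ Finset.univ.erase p0, (x q ^ 2 - 1) :=
    Finset.sum_nonneg fun q _ => hnn q
  have hrest : ∑ q ∈ Finset.univ.erase p0, (x q ^ 2 - 1) = 0 := by linarith
  have hz := (Finset.sum_eq_zero_iff_of_nonneg (fun q _ => hnn q)).1 hrest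
  refine ⟨p0, by linarith, fun q hq => ?_⟩
  have := hz q (Finset.mem_erase.2 ⟨hq, Finset.mem_univ q⟩)
  linarith

/-- every vector of norm 32 of the lattice is in one of the three lists -/
theorem cover (x : GolayPt → ℤ) (hx : x ∈ leechLattice) (hn : sqNorm x = 32) :
    packV x ∈ gen1 ∨ (∃ c ∈ wtList 8, packV x ∈ gen2 c) ∨ (∃ c ∈ cwList, packV x ∈ gen3 c) := by
  classical
  have hx8 : ∀ p, -8 ≤ x p ∧ x p ≤ 8 := coord_bound64 x (by rw [hn]; norm_num)
  rw [mem_leechLattice_iff] at hx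
  rcases leechSet_cases x hx with ⟨h2, hs, hw⟩ | ⟨h2, hs, hw⟩
  · obtain ⟨n, hncw, hwd⟩ := (mem_golayCode_iff _).1 hw
    have hbit := bit_of_wd 0 x n hwd
    have hsb : ∑ p, (bitN n (idx p) : ℤ) = (pc n : ℤ) := by
      rw [sum_idx (fun i => (bitN n i : ℤ)), ← Nat.cast_sum, sum_bitN]
    have hnn : ∀ p, 0 ≤ x p ^ 2 - 4 * (bitN n (idx p) : ℤ) := by
      intro p
      rcases hbit p with ⟨hb, _⟩ | ⟨hb, hm⟩
      · rw [hb]
        have := sq_nonneg (x p)
        push_cast
        linarith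
      · rw [hb]
        have := two_sq (x p) (by have := h2 p; unfold Int.ModEq at *; omega)
        push_cast
        linarith
    have hsum : ∑ p, (x p ^ 2 - 4 * (bitN n (idx p) : ℤ)) = 32 - 4 * (pc n : ℤ) := by
      unfold sqNorm at hn
      rw [Finset.sum_sub_distrib, ← Finset.mul_sum, hsb, hn]
    have hge : 0 ≤ ∑ p, (x p ^ 2 - 4 * (bitN n (idx p) : ℤ)) :=
      Finset.sum_nonneg fun p _ => hnn p
    have hpc := cwList_weights n hncw
    have hpc' : pc n = 0 ∨ pc n = 8 := by
      rw [hsum] at hge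
      omega
    rcases hpc' with hpc0 | hpc8
    · left
      have hb0 : ∀ p, bitN n (idx p) = 0 := by
        have hz : ∑ p, (bitN n (idx p) : ℤ) = 0 := by
          rw [hsb, hpc0]
          rfl
        have h := (Finset.sum_eq_zero_iff_of_nonneg (fun p _ => Int.natCast_nonneg _)).1 hz
        intro p
        exact_mod_cast h p (Finset.mem_univ p)
      have h4 : ∀ p, x p ≡ 0 [ZMOD 4] := fun p => by
        rcases hbit p with ⟨_, hm⟩ | ⟨hb, _⟩
        · exact hm
        · rw [hb0 p] at hb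
          omega
      have hS16 : ∀ p, x p ≠ 0 → x p = 4 ∨ x p = -4 := by
        intro p hne
        have h := h4 p
        have hb := hx8 p
        have h' : x p = 4 ∨ x p = -4 ∨ x p = 8 ∨ x p = -8 := by
          unfold Int.ModEq at h
          omega
        have hle : x p ^ 2 ≤ 32 := by rw [← hn]; exact sq_le_sqNorm x p
        rcases h' with h' | h' | h' | h'
        · left; exact h'
        · right; exact h'
        · rw [h'] at hle; norm_num at hle
        · rw [h'] at hle; norm_num at hle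
      have hsumS : ∑ p ∈ Finset.univ.filter (fun p => x p ≠ 0), x p ^ 2 = 32 := by
        rw [Finset.sum_filter_of_ne]
        · exact hn
        · intro p _ hp hp0
          rw [hp0] at hp
          norm_num at hp
      have hcard : (Finset.univ.filter (fun p => x p ≠ 0)).card = 2 := by
        have h16 : ∑ p ∈ Finset.univ.filter (fun p => x p ≠ 0), x p ^ 2 =
            ∑ p ∈ Finset.univ.filter (fun p => x p ≠ 0), (16 : ℤ) := by
          refine Finset.sum_congr rfl fun p hp => ?_
          rcases hS16 p (Finset.mem_filter.1 hp).2 with h | h <;> rw [h] <;> norm_num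
        rw [hsumS, Finset.sum_const, nsmul_eq_mul] at h16
        have : ((Finset.univ.filter (fun p => x p ≠ 0)).card : ℤ) = 2 := by linarith
        exact_mod_cast this
      obtain ⟨p, q, hpq, hS⟩ := Finset.card_eq_two.1 hcard
      have hp : x p ≠ 0 := by
        have : p ∈ Finset.univ.filter (fun p => x p ≠ 0) := by rw [hS]; simp
        exact (Finset.mem_filter.1 this).2
      have hq : x q ≠ 0 := by
        have : q ∈ Finset.univ.filter (fun p => x p ≠ 0) := by rw [hS]; simp
        exact (Finset.mem_filter.1 this).2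
      have h0 : ∀ r, r ≠ p → r ≠ q → x r = 0 := by
        intro r hrp hrq
        by_contra hr
        have : r ∈ Finset.univ.filter (fun p => x p ≠ 0) :=
          Finset.mem_filter.2 ⟨Finset.mem_univ r, hr⟩
        rw [hS] at this
        simp only [Finset.mem_insert, Finset.mem_singleton] at this
        rcases this with h | h
        · exact hrp h
        · exact hrq h
      have hidx : idx p ≠ idx q := fun h => hpq (idx_injective h)
      rcases lt_or_gt_of_ne hidx with hlt | hlt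
      · exact cover1 x hx8 p q hlt (hS16 p hp) (hS16 q hq) h0
      · exact cover1 x hx8 q p hlt (hS16 q hq) (hS16 p hp) (fun r h1 h2 => h0 r h2 h1)
    · right; left
      refine ⟨n, mem_wtList.2 ⟨hncw, hpc8⟩, cover2 x hx8 n hpc8 hs ?_⟩
      have hz : ∑ p, (x p ^ 2 - 4 * (bitN n (idx p) : ℤ)) = 0 := by
        rw [hsum, hpc8]
        norm_num
      have hz' := (Finset.sum_eq_zero_iff_of_nonneg (fun p _ => hnn p)).1 hz
      intro q
      have hq := hz' q (Finset.mem_univ q)
      rcases hbit q with ⟨hb, _⟩ | ⟨hb, _⟩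
      · left
        refine ⟨hb, ?_⟩
        rw [hb] at hq
        have h0 : x q ^ 2 = 0 := by
          push_cast at hq
          linarith
        exact pow_eq_zero_iff (by norm_num) |>.1 h0
      · right
        refine ⟨hb, ?_⟩
        rw [hb] at hq
        have h4 : x q ^ 2 = 2 ^ 2 := by
          push_cast at hq
          linarith
        exact eq_of_sq_eq _ _ h4
  · right; right
    obtain ⟨n, hncw, hwd⟩ := (mem_golayCode_iff _).1 hw
    have hbit := bit_of_wd 1 x n hwd
    obtain ⟨p0, hp0, hrest⟩ := odd_shape x h2 hn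
    refine ⟨n, hncw, cover3 x hx8 n p0 ?_ ?_⟩
    · have h3 : x p0 = 3 ∨ x p0 = -3 := eq_of_sq_eq _ _ (by rw [hp0]; norm_num)
      rcases hbit p0 with ⟨hb, hm⟩ | ⟨hb, hm⟩
      · rw [hb]
        rcases h3 with h | h
        · rw [h] at hm
          unfold Int.ModEq at hm
          omega
        · rw [h]
          norm_num
      · rw [hb]
        rcases h3 with h | h
        · rw [h]
          norm_num
        · rw [h] at hm
          unfold Int.ModEq at hm
          omega
    · intro q hq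
      have h3 : x q = 1 ∨ x q = -1 := eq_of_sq_eq _ _ (by rw [hrest q hq]; norm_num)
      rcases hbit q with ⟨hb, hm⟩ | ⟨hb, hm⟩
      · rw [hb]
        rcases h3 with h | h
        · rw [h]
          norm_num
        · rw [h] at hm
          unfold Int.ModEq at hm
          omega
      · rw [hb]
        rcases h3 with h | h
        · rw [h] at hm
          unfold Int.ModEq at hm
          omega
        · rw [h]
          norm_num

end Cfsg.Agent.Lib.helper93
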