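import Cfsg.Agent.Lib.helper93.LeechCntDefs
import Cfsg.Agent.Lib.helper93.LeechTagLib

/-!
Nine more tests on the packed vectors of norm 32, for the configurations of the stabilisers of
vectors of norm 48.
-/

set_option autoImplicit false
open Cfsg Cfsg.Agent.Lib.helper9

namespace Cfsg.Agent.Lib.helper93

/-- the packed minimal vector `x0` of the 275 points -/
def nX0 : ℕ := 257356216692773371349353152192454920

/-- the packed minimal vector `-2` on an octad -/
def nW : ℕ := 343026579557397570761301217910134984

/-- the coordinate of index 0 is `4` -/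
def q46 (n : ℕ) : Bool := Nat.beq (getN n 0) 12

/-- the 275 points: at minimal distance of `u0S`, inner product 16 with `v0S` -/
def q275 (n : ℕ) : Bool := qD n && Nat.beq (getN n 4) (Nat.add (getN n 7) 4)

/-- the two sides of the inner product with `x0` -/
def dx0L (n : ℕ) : ℕ := Nat.add (getN n 4) (Nat.add (getN n 20) (32))

def dx0R (n : ℕ) : ℕ := Nat.add (getN n 5) (Nat.add (getN n 7) (Nat.add (getN n 11) (Nat.add (getN n 13) (Nat.add (getN n 22) (getN n 23)))))

/-- points with inner product 8 with `x0` -/
def q112 (n : ℕ) : Bool := q275 n && Nat.beq (dx0L n) (Nat.add (dx0R n) 4)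

/-- points other than `x0` with inner product 16 with `x0` -/
def q162 (n : ℕ) : Bool := q275 n && (!(Nat.beq n nX0) && Nat.beq (dx0L n) (Nat.add (dx0R n) 8))

/-- the other points -/
def qX (n : ℕ) : Bool :=
  q275 n && (!(Nat.beq n nX0) && (!(Nat.beq (dx0L n) (Nat.add (dx0R n) 4)) &&
    !(Nat.beq (dx0L n) (Nat.add (dx0R n) 8))))

/-- inner product 16 with `u0S` -/
def qH (n : ℕ) : Bool :=
  Nat.beq (Nat.add (getN n 4) 56)
    (Nat.add (Nat.mul 2 (getN n 7)) (Nat.add (getN n 1) (Nat.add (getN n 2) (Nat.add (getN n 3) (Nat.add (getN n 5) (Nat.add (getN n 8) (Nat.add (getN n 11) (getN n 13))))))))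

/-- the 100 points: inner product 24 with `u0S` and 0 with `-4 e_7 - 4 e_23` -/
def q100 (n : ℕ) : Bool := qD n && Nat.beq (Nat.add (getN n 7) (getN n 23)) 16

/-- the sum of the digits on the octad -/
def sO (n : ℕ) : ℕ := Nat.add (getN n 1) (Nat.add (getN n 2) (Nat.add (getN n 3) (Nat.add (getN n 4) (Nat.add (getN n 5) (Nat.add (getN n 8) (Nat.add (getN n 11) (getN n 13)))))))

/-- points with inner product 8 with the vector `-2` on the octad -/
def q22 (n : ℕ) : Bool := q100 n && Nat.beq (sO n) 60

/-- the other points -/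
def q77 (n : ℕ) : Bool := q100 n && (!(Nat.beq n nW) && !(Nat.beq (sO n) 60))

/-- the nine tests -/
def qsT : List (ℕ → Bool) := [q46, q275, q112, q162, qX, qH, q100, q22, q77]

/-- the collected members of a chunk of octads -/
def cT2 (j : ℕ) : List ℕ := collectK qsT gen2 (((wtList 8).drop (j * 100)).take 100)

/-- the collected members of a chunk of codewords -/
def cT3 (j : ℕ) : List ℕ := collectK qsT gen3 ((cwList.drop (j * 256)).take 256)

theorem collect_EL' : collectL qsT EL = collectL qsT gen1 ++
    (chunksF cT2 8 0 ++ chunksF cT3 16 0) := collectL_EL qsT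


end Cfsg.Agent.Lib.helper93
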