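import Cfsg.Agent.Lib.helper93.LeechShape
import Cfsg.Agent.Lib.helper93.LeechList
import Cfsg.Agent.Lib.helper93.LeechIndex
import Cfsg.Agent.Lib.helper93.LeechPigeon

/-!
The extra automorphism of `Cfsg.leechLattice` attached to the sextet of the tetrad `{0, 1, 2, 3}`:
on each tetrad of the sextet, subtract half the sum of the four coordinates, then change the
signs on the first tetrad.  It is an element of `Cfsg.Co0`, and it is computed on packed vectors.
-/

set_option autoImplicit false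
open Cfsg Cfsg.Agent.Lib.helper9

namespace Cfsg.Agent.Lib.helper93

/-- the four members of the tetrad of each coordinate -/
def tetA : List ℕ := [0, 0, 0, 0, 4, 5, 6, 4, 8, 6, 4, 6, 4, 13, 5, 8, 8, 5, 13, 8, 13, 13, 6, 5]
def tetB : List ℕ := [1, 1, 1, 1, 7, 14, 9, 7, 15, 9, 7, 9, 7, 18, 14, 15, 15, 14, 18, 15, 18, 18, 9, 14]
def tetC : List ℕ := [2, 2, 2, 2, 10, 17, 11, 10, 16, 11, 10, 11, 10, 20, 17, 16, 16, 17, 20, 16, 20, 20, 11, 17]
def tetD : List ℕ := [3, 3, 3, 3, 12, 23, 22, 12, 19, 22, 12, 22, 12, 21, 23, 19, 19, 23, 21, 19, 21, 21, 22, 23]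

theorem tet_lt : ∀ j < 24, tetA.getD j 0 < 24 ∧ tetB.getD j 0 < 24 ∧ tetC.getD j 0 < 24 ∧
    tetD.getD j 0 < 24 := by decide

/-- sum over the tetrad of `j` -/
def tsum (X : ℕ → ℤ) (j : ℕ) : ℤ :=
  X (tetA.getD j 0) + X (tetB.getD j 0) + X (tetC.getD j 0) + X (tetD.getD j 0)

/-- twice the map, on coordinate functions -/
def FzN (X : ℕ → ℤ) (j : ℕ) : ℤ :=
  cond (Nat.blt j 4) (-(2 * X j - tsum X j)) (2 * X j - tsum X j)

theorem FzN_add (X Y : ℕ → ℤ) (j : ℕ) : FzN (X + Y) j = FzN X j + FzN Y j := by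
  unfold FzN tsum
  cases Nat.blt j 4 <;> simp only [cond, Pi.add_apply] <;> ring

theorem FzN_congr (X Y : ℕ → ℤ) (h : ∀ k < 24, X k = Y k) (j : ℕ) (hj : j < 24) :
    FzN X j = FzN Y j := by
  obtain ⟨h1, h2, h3, h4⟩ := tet_lt j hj
  unfold FzN tsum
  rw [h j hj, h _ h1, h _ h2, h _ h3, h _ h4]

theorem FzN_0 (X : ℕ → ℤ) : FzN X 0 = -(2 * X 0 - (X 0 + X 1 + X 2 + X 3)) := rfl
theorem FzN_1 (X : ℕ → ℤ) : FzN X 1 = -(2 * X 1 - (X 0 + X 1 + X 2 + X 3)) := rfl
theorem FzN_2 (X : ℕ → ℤ) : FzN X 2 = -(2 * X 2 - (X 0 + X 1 + X 2 + X 3)) := rfl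
theorem FzN_3 (X : ℕ → ℤ) : FzN X 3 = -(2 * X 3 - (X 0 + X 1 + X 2 + X 3)) := rfl
theorem FzN_4 (X : ℕ → ℤ) : FzN X 4 = 2 * X 4 - (X 4 + X 7 + X 10 + X 12) := rfl
theorem FzN_5 (X : ℕ → ℤ) : FzN X 5 = 2 * X 5 - (X 5 + X 14 + X 17 + X 23) := rfl
theorem FzN_6 (X : ℕ → ℤ) : FzN X 6 = 2 * X 6 - (X 6 + X 9 + X 11 + X 22) := rfl
theorem FzN_7 (X : ℕ → ℤ) : FzN X 7 = 2 * X 7 - (X 4 + X 7 + X 10 + X 12) := rfl
theorem FzN_8 (X : ℕ → ℤ) : FzN X 8 = 2 * X 8 - (X 8 + X 15 + X 16 + X 19) := rfl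
theorem FzN_9 (X : ℕ → ℤ) : FzN X 9 = 2 * X 9 - (X 6 + X 9 + X 11 + X 22) := rfl
theorem FzN_10 (X : ℕ → ℤ) : FzN X 10 = 2 * X 10 - (X 4 + X 7 + X 10 + X 12) := rfl
theorem FzN_11 (X : ℕ → ℤ) : FzN X 11 = 2 * X 11 - (X 6 + X 9 + X 11 + X 22) := rfl
theorem FzN_12 (X : ℕ → ℤ) : FzN X 12 = 2 * X 12 - (X 4 + X 7 + X 10 + X 12) := rfl
theorem FzN_13 (X : ℕ → ℤ) : FzN X 13 = 2 * X 13 - (X 13 + X 18 + X 20 + X 21) := rfl
theorem FzN_14 (X : ℕ → ℤ) : FzN X 14 = 2 * X 14 - (X 5 + X 14 + X 17 + X 23) := rfl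
theorem FzN_15 (X : ℕ → ℤ) : FzN X 15 = 2 * X 15 - (X 8 + X 15 + X 16 + X 19) := rfl
theorem FzN_16 (X : ℕ → ℤ) : FzN X 16 = 2 * X 16 - (X 8 + X 15 + X 16 + X 19) := rfl
theorem FzN_17 (X : ℕ → ℤ) : FzN X 17 = 2 * X 17 - (X 5 + X 14 + X 17 + X 23) := rfl
theorem FzN_18 (X : ℕ → ℤ) : FzN X 18 = 2 * X 18 - (X 13 + X 18 + X 20 + X 21) := rfl
theorem FzN_19 (X : ℕ → ℤ) : FzN X 19 = 2 * X 19 - (X 8 + X 15 + X 16 + X 19) := rfl
theorem FzN_20 (X : ℕ → ℤ) : FzN X 20 = 2 * X 20 - (X 13 + X 18 + X 20 + X 21) := rfl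
theorem FzN_21 (X : ℕ → ℤ) : FzN X 21 = 2 * X 21 - (X 13 + X 18 + X 20 + X 21) := rfl
theorem FzN_22 (X : ℕ → ℤ) : FzN X 22 = 2 * X 22 - (X 6 + X 9 + X 11 + X 22) := rfl
theorem FzN_23 (X : ℕ → ℤ) : FzN X 23 = 2 * X 23 - (X 5 + X 14 + X 17 + X 23) := rfl

/-- twice the map, as an additive map of integer vectors -/
def Fz : (GolayPt → ℤ) →+ (GolayPt → ℤ) where
  toFun x := fun p => FzN (fun i => x (pt i)) (idx p)
  map_zero' := by
    funext p
    show FzN (0 : ℕ → ℤ) (idx p) = 0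
    unfold FzN tsum
    cases Nat.blt (idx p) 4 <;> simp
  map_add' x y := by
    funext p
    exact FzN_add (fun i => x (pt i)) (fun i => y (pt i)) (idx p)

theorem Fz_apply (x : GolayPt → ℤ) (p : GolayPt) : Fz x p = FzN (fun i => x (pt i)) (idx p) := rfl

theorem Fz_pt (x : GolayPt → ℤ) (j : ℕ) (hj : j < 24) : Fz x (pt j) = FzN (fun i => x (pt i)) j := by
  rw [Fz_apply, idx_pt hj]

theorem sqNorm_Fz (x : GolayPt → ℤ) : sqNorm (Fz x) = 4 * sqNorm x := by
  have h1 : sqNorm (Fz x) = ∑ i ∈ Finset.range 24, FzN (fun i => x (pt i)) i ^ 2 :=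
    sum_idx (fun i => FzN (fun i => x (pt i)) i ^ 2)
  have h2 : sqNorm x = ∑ i ∈ Finset.range 24, x (pt i) ^ 2 := sum_vecP_eq (fun p => x p ^ 2)
  rw [h1, h2]
  simp only [Finset.sum_range_succ, Finset.sum_range_zero, FzN_0, FzN_1, FzN_2, FzN_3, FzN_4, FzN_5, FzN_6, FzN_7, FzN_8, FzN_9, FzN_10, FzN_11, FzN_12, FzN_13, FzN_14, FzN_15, FzN_16, FzN_17, FzN_18, FzN_19, FzN_20, FzN_21, FzN_22, FzN_23]
  ring

theorem FzN_FzN (X : ℕ → ℤ) (j : ℕ) (hj : j < 24) : FzN (FzN X) j = 4 * X j := by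
  interval_cases j <;> simp only [FzN_0, FzN_1, FzN_2, FzN_3, FzN_4, FzN_5, FzN_6, FzN_7, FzN_8, FzN_9, FzN_10, FzN_11, FzN_12, FzN_13, FzN_14, FzN_15, FzN_16, FzN_17, FzN_18, FzN_19, FzN_20, FzN_21, FzN_22, FzN_23] <;> ring

theorem Fz_Fz (x : GolayPt → ℤ) : Fz (Fz x) = 4 • x := by
  funext p
  rw [Fz_apply, FzN_congr (fun i => Fz x (pt i)) (FzN (fun i => x (pt i)))
    (fun k hk => Fz_pt x k hk) (idx p) (idx_lt p), FzN_FzN _ _ (idx_lt p), pt_idx]
  simp


/-! ### the map on packed vectors -/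

/-- half the sum over a tetrad of the digits of `n` -/
def hs (n a b c d : ℕ) : ℕ :=
  Nat.div (Nat.add (Nat.add (Nat.add (getN n a) (getN n b)) (getN n c)) (getN n d)) 2

/-- the digits of the image -/
def xiL (n : ℕ) : List ℕ :=
  [Nat.sub (hs n 0 1 2 3) (getN n 0),
    Nat.sub (hs n 0 1 2 3) (getN n 1),
    Nat.sub (hs n 0 1 2 3) (getN n 2),
    Nat.sub (hs n 0 1 2 3) (getN n 3),
    Nat.sub (Nat.add (getN n 4) 16) (hs n 4 7 10 12),
    Nat.sub (Nat.add (getN n 5) 16) (hs n 5 14 17 23),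
    Nat.sub (Nat.add (getN n 6) 16) (hs n 6 9 11 22),
    Nat.sub (Nat.add (getN n 7) 16) (hs n 4 7 10 12),
    Nat.sub (Nat.add (getN n 8) 16) (hs n 8 15 16 19),
    Nat.sub (Nat.add (getN n 9) 16) (hs n 6 9 11 22),
    Nat.sub (Nat.add (getN n 10) 16) (hs n 4 7 10 12),
    Nat.sub (Nat.add (getN n 11) 16) (hs n 6 9 11 22),
    Nat.sub (Nat.add (getN n 12) 16) (hs n 4 7 10 12),
    Nat.sub (Nat.add (getN n 13) 16) (hs n 13 18 20 21),
    Nat.sub (Nat.add (getN n 14) 16) (hs n 5 14 17 23),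
    Nat.sub (Nat.add (getN n 15) 16) (hs n 8 15 16 19),
    Nat.sub (Nat.add (getN n 16) 16) (hs n 8 15 16 19),
    Nat.sub (Nat.add (getN n 17) 16) (hs n 5 14 17 23),
    Nat.sub (Nat.add (getN n 18) 16) (hs n 13 18 20 21),
    Nat.sub (Nat.add (getN n 19) 16) (hs n 8 15 16 19),
    Nat.sub (Nat.add (getN n 20) 16) (hs n 13 18 20 21),
    Nat.sub (Nat.add (getN n 21) 16) (hs n 13 18 20 21),
    Nat.sub (Nat.add (getN n 22) 16) (hs n 6 9 11 22),
    Nat.sub (Nat.add (getN n 23) 16) (hs n 5 14 17 23)]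

/-- the image of a packed vector -/
def xiP (n : ℕ) : ℕ :=
  Nat.add (Nat.sub (hs n 0 1 2 3) (getN n 0)) (Nat.mul 32 (Nat.add (Nat.sub (hs n 0 1 2 3) (getN n 1)) (Nat.mul 32 (Nat.add (Nat.sub (hs n 0 1 2 3) (getN n 2)) (Nat.mul 32 (Nat.add (Nat.sub (hs n 0 1 2 3) (getN n 3)) (Nat.mul 32 (Nat.add (Nat.sub (Nat.add (getN n 4) 16) (hs n 4 7 10 12)) (Nat.mul 32 (Nat.add (Nat.sub (Nat.add (getN n 5) 16) (hs n 5 14 17 23)) (Nat.mul 32 (Nat.add (Nat.sub (Nat.add (getN n 6) 16) (hs n 6 9 11 22)) (Nat.mul 32 (Nat.add (Nat.sub (Nat.add (getN n 7) 16) (hs n 4 7 10 12)) (Nat.mul 32 (Nat.add (Nat.sub (Nat.add (getN n 8) 16) (hs n 8 15 16 19)) (Nat.mul 32 (Nat.add (Nat.sub (Nat.add (getN n 9) 16) (hs n 6 9 11 22)) (Nat.mul 32 (Nat.add (Nat.sub (Nat.add (getN n 10) 16) (hs n 4 7 10 12)) (Nat.mul 32 (Nat.add (Nat.sub (Nat.add (getN n 11) 16) (hs n 6 9 11 22)) (Nat.mul 32 (Nat.add (Nat.sub (Nat.add (getN n 12) 16) (hs n 4 7 10 12)) (Nat.mul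 32 (Nat.add (Nat.sub (Nat.add (getN n 13) 16) (hs n 13 18 20 21)) (Nat.mul 32 (Nat.add (Nat.sub (Nat.add (getN n 14) 16) (hs n 5 14 17 23)) (Nat.mul 32 (Nat.add (Nat.sub (Nat.add (getN n 15) 16) (hs n 8 15 16 19)) (Nat.mul 32 (Nat.add (Nat.sub (Nat.add (getN n 16) 16) (hs n 8 15 16 19)) (Nat.mul 32 (Nat.add (Nat.sub (Nat.add (getN n 17) 16) (hs n 5 14 17 23)) (Nat.mul 32 (Nat.add (Nat.sub (Nat.add (getN n 18) 16) (hs n 13 18 20 21)) (Nat.mul 32 (Nat.add (Nat.sub (Nat.add (getN n 19) 16) (hs n 8 15 16 19)) (Nat.mul 32 (Nat.add (Nat.sub (Nat.add (getN n 20) 16) (hs n 13 18 20 21)) (Nat.mul 32 (Nat.add (Nat.sub (Nat.add (getN n 21) 16) (hs n 13 18 20 21)) (Nat.mul 32 (Nat.add (Nat.sub (Nat.add (getN n 22) 16) (hs n 6 9 11 22)) (Nat.mul 32 (Nat.add (Nat.sub (Nat.add (getN n 23) 16) (hs n 5 14 17 23)) (Nat.mul 32 (0))))))))))))))))))))))))))))))))))))))))))))))))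

theorem xiP_eq (n : ℕ) : xiP n = packL (xiL n) := by
  simp only [xiL, packL, List.foldr_cons, List.foldr_nil]
  rfl

/-- the digit `j` of the image, uniformly in `j` -/
def xeT (n j : ℕ) : ℕ :=
  cond (Nat.blt j 4)
    ((getN n (tetA.getD j 0) + getN n (tetB.getD j 0) + getN n (tetC.getD j 0) +
      getN n (tetD.getD j 0)) / 2 - getN n j)
    (getN n j + 16 - (getN n (tetA.getD j 0) + getN n (tetB.getD j 0) + getN n (tetC.getD j 0) +
      getN n (tetD.getD j 0)) / 2)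

theorem xiL_getD (n j : ℕ) (hj : j < 24) : (xiL n).getD j 0 = xeT n j := by
  interval_cases j <;> rfl

theorem xiL_length (n : ℕ) : (xiL n).length = 24 := rfl

theorem xeT_spec (n j : ℕ) (y : ℤ) (hy : 2 * y = FzN (fun k => (getN n k : ℤ) - 8) j)
    (hb : -8 ≤ y ∧ y ≤ 8) : ((xeT n j : ℕ) : ℤ) = y + 8 := by
  unfold xeT
  unfold FzN tsum at hy
  cases h : Nat.blt j 4 <;> rw [h] at hy <;> simp only [cond] at hy ⊢ <;> omega


/-- soundness on packed vectors: a bounded half of `Fz (vecP n)` is `vecP (xiP n)` -/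
theorem xiP_sound (n : ℕ) (y : GolayPt → ℤ) (hy : ∀ p, 2 * y p = Fz (vecP n) p)
    (hb : ∀ p, -8 ≤ y p ∧ y p ≤ 8) : y = vecP (xiP n) := by
  have hent : ∀ j < 24, (((xiL n).getD j 0 : ℕ) : ℤ) = y (pt j) + 8 := by
    intro j hj
    rw [xiL_getD n j hj]
    refine xeT_spec n j (y (pt j)) ?_ (hb (pt j))
    rw [hy (pt j), Fz_pt _ j hj]
    exact FzN_congr _ _ (fun k hk => vecP_pt n k hk) j hj
  have hlt : ∀ f ∈ xiL n, f < 32 := by
    intro f hf
    obtain ⟨j, hj, rfl⟩ := List.mem_iff_getElem.1 hf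
    have hj' : j < 24 := by rw [xiL_length] at hj; exact hj
    have h1 := hent j hj'
    rw [List.getD_eq_getElem _ _ hj] at h1
    have := hb (pt j)
    omega
  funext p
  rw [vecP_apply, xiP_eq, getN_packL _ hlt, hent _ (idx_lt p), pt_idx]
  ring

/-! ### the image of the lattice -/

/-- the relation between the digits of a vector and of its image, as a test -/
def relB (n m j : ℕ) : Bool :=
  cond (Nat.blt j 4)
    (Nat.beq (2 * getN m j + 2 * getN n j)
      (getN n (tetA.getD j 0) + getN n (tetB.getD j 0) + getN n (tetC.getD j 0) +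
        getN n (tetD.getD j 0)))
    (Nat.beq (2 * getN m j + (getN n (tetA.getD j 0) + getN n (tetB.getD j 0) +
        getN n (tetC.getD j 0) + getN n (tetD.getD j 0)))
      (2 * getN n j + 32))

theorem relB_spec (n m j : ℕ) (h : relB n m j = true) :
    2 * ((getN m j : ℤ) - 8) = FzN (fun k => (getN n k : ℤ) - 8) j := by
  unfold relB at h
  unfold FzN tsum
  cases hb : Nat.blt j 4 <;> rw [hb] at h <;> simp only [cond] at h ⊢ <;>
    have h' := Nat.eq_of_beq_eq_true h <;> omega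

/-- membership test for packed vectors -/
def memP (m : ℕ) : Bool := memL ((List.range 24).map (getN m))

theorem vecP_eq_vecL (m : ℕ) : vecP m = vecL ((List.range 24).map (getN m)) := by
  funext p
  unfold vecP vecL
  have hp := idx_lt p
  have : ((List.range 24).map (getN m)).getD (idx p) 8 = getN m (idx p) := by
    rw [List.getD_eq_getElem _ _ (by simpa using hp)]
    simp
  rw [this]

theorem vecP_mem (m : ℕ) (h : memP m = true) : vecP m ∈ leechLattice := by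
  rw [vecP_eq_vecL]
  exact vecL_mem _ h

/-- test that the image of `vecP n` is twice `vecP (xiP n)`, a vector of the lattice -/
def xiChk (n : ℕ) : Bool := (List.range 24).all (relB n (xiP n)) && memP (xiP n)

theorem Fz_of_chk (n : ℕ) (h : xiChk n = true) :
    Fz (vecP n) = 2 • vecP (xiP n) ∧ vecP (xiP n) ∈ leechLattice := by
  unfold xiChk at h
  rw [Bool.and_eq_true, List.all_eq_true] at h
  refine ⟨?_, vecP_mem _ h.2⟩
  funext p
  have h1 := relB_spec n (xiP n) (idx p) (h.1 _ (List.mem_range.2 (idx_lt p)))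
  rw [Fz_apply, FzN_congr _ _ (fun k hk => vecP_pt n k hk) (idx p) (idx_lt p), ← h1]
  simp only [Pi.smul_apply, nsmul_eq_mul, Nat.cast_ofNat, vecP_apply]

/-- the vectors whose image under `Fz` is twice a vector of the lattice -/
def xiSub : AddSubgroup (GolayPt → ℤ) := (leechLattice.map dbl).comap Fz

theorem mem_xiSub (x : GolayPt → ℤ) : x ∈ xiSub ↔ ∃ y ∈ leechLattice, Fz x = 2 • y := by
  unfold xiSub
  rw [AddSubgroup.mem_comap, AddSubgroup.mem_map]
  constructor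
  · rintro ⟨y, hy, h⟩
    exact ⟨y, hy, by rw [← h, dbl_apply]⟩
  · rintro ⟨y, hy, h⟩
    exact ⟨y, hy, by rw [h, dbl_apply]⟩

theorem vecP_mem_xiSub (n : ℕ) (h : xiChk n = true) : vecP n ∈ xiSub :=
  (mem_xiSub _).2 ⟨_, (Fz_of_chk n h).2, (Fz_of_chk n h).1⟩

/-- packed `8 e_0` -/
def g8 : ℕ := digSum (fun k => cond (Nat.beq k 0) 16 8) 24

/-- packed `4 e_i - 4 e_0` -/
def d4 (i : ℕ) : ℕ :=
  digSum (fun k => Nat.sub (Nat.add 8 (cond (Nat.beq k i) 4 0)) (cond (Nat.beq k 0) 4 0)) 24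

/-- packed vector `2` on the code word `c` -/
def pk2 (c : ℕ) : ℕ := digSum (fun k => Nat.add 8 (Nat.mul 2 (bitN c k))) 24

/-- packed vector `(-3, 1, …, 1)` -/
def pu : ℕ := digSum (fun k => cond (Nat.beq k 0) 5 9) 24

theorem g8_chk : xiChk g8 = true := by decide +kernel

theorem d4_chk : ∀ i < 24, xiChk (d4 i) = true := by decide +kernel

theorem qr_chk : ∀ t : ZMod 23, xiChk (pk2 (qrTab.getD t.val 0)) = true ∧
    memP (pk2 (qrTab.getD t.val 0)) = true := by decide +kernel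

theorem one_chk : xiChk (pk2 16777215) = true ∧ memP (pk2 16777215) = true := by decide +kernel

theorem pu_chk : xiChk pu = true ∧ memP pu = true := by decide +kernel

theorem cond_beq (a b x y : ℕ) : cond (Nat.beq a b) x y = if a = b then x else y := by
  by_cases h : a = b
  · rw [beq_t a b h, if_pos h]
    rfl
  · rw [beq_f a b h, if_neg h]
    rfl

theorem vecP_g8 (q : GolayPt) : vecP g8 q = if idx q = 0 then 8 else 0 := by
  rw [vecP_apply]
  unfold g8
  rw [getN_digSum' _ 24 _ (fun j _ => by rw [cond_beq]; split_ifs <;> norm_num) (idx_lt q),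
    cond_beq]
  split_ifs <;> norm_num

theorem vecP_d4 (i : ℕ) (q : GolayPt) :
    vecP (d4 i) q = (if idx q = i then 4 else 0) - (if idx q = 0 then 4 else 0) := by
  rw [vecP_apply]
  unfold d4
  rw [getN_digSum' _ 24 _ (fun j _ => ?_) (idx_lt q)]
  · show ((8 + cond (Nat.beq (idx q) i) 4 0 - cond (Nat.beq (idx q) 0) 4 0 : ℕ) : ℤ) - 8 = _
    rw [cond_beq, cond_beq]
    split_ifs <;> norm_num
  · show 8 + cond (Nat.beq j i) 4 0 - cond (Nat.beq j 0) 4 0 < 32
    rw [cond_beq, cond_beq]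
    split_ifs <;> norm_num

theorem vecP_pk2 (c : ℕ) (q : GolayPt) : vecP (pk2 c) q = 2 * (bitN c (idx q) : ℤ) := by
  rw [vecP_apply]
  unfold pk2
  rw [getN_digSum' _ 24 _ (fun j _ => by
    have := bitN_le c j
    show 8 + 2 * bitN c j < 32
    omega) (idx_lt q)]
  show ((8 + 2 * bitN c (idx q) : ℕ) : ℤ) - 8 = _
  push_cast
  ring

theorem subA0_le_xiSub : subA0 ≤ xiSub := by
  classical
  intro x hx
  rw [mem_subA0] at hx
  obtain ⟨h4, h8⟩ := hx
  have e : x = ∑ p, (x p / 4) • vecP (d4 (idx p)) + ((∑ p, x p) / 8) • vecP g8 := by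
    funext q
    rw [Pi.add_apply, Finset.sum_apply, Pi.smul_apply, vecP_g8, smul_eq_mul]
    have h1 : ∀ p, ((x p / 4) • vecP (d4 (idx p))) q =
        (if q = p then x p else 0) - (if idx q = 0 then x p else 0) := by
      intro p
      rw [Pi.smul_apply, vecP_d4, smul_eq_mul]
      have hp := h4 p
      have hdiv : x p / 4 * 4 = x p := Int.ediv_mul_cancel (Int.modEq_zero_iff_dvd.1 hp)
      by_cases c1 : q = p
      · rw [if_pos c1, if_pos (by rw [c1])]
        by_cases c2 : idx q = 0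
        · rw [if_pos c2, if_pos c2]
          ring
        · rw [if_neg c2, if_neg c2]
          linarith
      · rw [if_neg c1, if_neg (fun h => c1 (idx_injective h))]
        by_cases c2 : idx q = 0
        · rw [if_pos c2, if_pos c2]
          linarith
        · rw [if_neg c2, if_neg c2]
          ring
    rw [Finset.sum_congr rfl (fun p _ => h1 p), Finset.sum_sub_distrib,
      Finset.sum_ite_eq Finset.univ q (fun p => x p), if_pos (Finset.mem_univ q)]
    have hdiv8 : (∑ p, x p) / 8 * 8 = ∑ p, x p :=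
      Int.ediv_mul_cancel (Int.modEq_zero_iff_dvd.1 h8)
    by_cases c2 : idx q = 0
    · simp only [c2, if_true]
      linarith
    · simp only [c2, if_false, Finset.sum_const_zero]
      ring
  rw [e]
  exact xiSub.add_mem (xiSub.sum_mem fun p _ =>
    xiSub.zsmul_mem (vecP_mem_xiSub _ (d4_chk _ (idx_lt p))) _)
    (xiSub.zsmul_mem (vecP_mem_xiSub _ g8_chk) _)

theorem even_facts (x : GolayPt → ℤ) (hx : x ∈ leechLattice) (p0 : GolayPt)
    (h : x p0 ≡ 0 [ZMOD 2]) :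
    (∀ i, x i ≡ 0 [ZMOD 2]) ∧ (∑ i, x i ≡ 0 [ZMOD 8]) ∧ wd 0 x ∈ golayCode := by
  rw [mem_leechLattice_iff] at hx
  rcases leechSet_cases x hx with h1 | ⟨h1, _, _⟩
  · exact h1
  · have := h1 p0
    unfold Int.ModEq at *
    omega

/-- a word is the word of an even vector with sum divisible by 8 in `xiSub` -/
def CodeP (w : GolayPt → ZMod 2) : Prop :=
  ∃ z : GolayPt → ℤ, (∀ i, z i ≡ 0 [ZMOD 2]) ∧ (∑ i, z i ≡ 0 [ZMOD 8]) ∧ wd 0 z = w ∧ z ∈ xiSub

theorem codeP_zero : CodeP 0 := by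
  refine ⟨0, fun i => rfl, by simp, ?_, xiSub.zero_mem⟩
  funext i
  unfold wd
  simp

theorem codeP_gen (c : ℕ) (h : xiChk (pk2 c) = true ∧ memP (pk2 c) = true) : CodeP (dec c) := by
  have hmem := vecP_mem _ h.2
  have h0 : vecP (pk2 c) (pt 0) ≡ 0 [ZMOD 2] := by
    rw [vecP_pk2]
    unfold Int.ModEq
    omega
  obtain ⟨h2, h8, _⟩ := even_facts _ hmem (pt 0) h0
  refine ⟨vecP (pk2 c), h2, h8, ?_, vecP_mem_xiSub _ h.1⟩
  funext q
  unfold wd
  rw [dec_apply, vecP_pk2, bitN_eq]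
  cases hb : c.testBit (idx q)
  · simp
  · simp only [Bool.toNat_true, Nat.cast_one, mul_one, if_true]
    rw [if_neg]
    unfold Int.ModEq
    omega

theorem codeP_add (w1 w2 : GolayPt → ZMod 2) (h1 : CodeP w1) (h2 : CodeP w2) :
    CodeP (w1 + w2) := by
  obtain ⟨z1, a1, b1, c1, d1⟩ := h1
  obtain ⟨z2, a2, b2, c2, d2⟩ := h2
  refine ⟨z1 + z2, fun i => ?_, ?_, ?_, xiSub.add_mem d1 d2⟩
  · have := a1 i
    have := a2 i
    simp only [Pi.add_apply]
    unfold Int.ModEq at *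
    omega
  · simp only [Pi.add_apply]
    rw [Finset.sum_add_distrib]
    unfold Int.ModEq at *
    omega
  · have h := wd_add 0 0 z1 z2 a1 a2
    rw [add_zero] at h
    rw [h, c1, c2]

theorem codeP_all (w : GolayPt → ZMod 2) (hw : w ∈ golayCode) : CodeP w := by
  unfold golayCode at hw
  induction hw using Submodule.span_induction with
  | mem w hw =>
    rcases hw with ⟨t, rfl⟩ | hw
    · rw [qrWord_eq]
      exact codeP_gen _ (qr_chk t)
    · rw [Set.mem_singleton_iff] at hw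
      rw [hw, one_eq_dec]
      exact codeP_gen _ one_chk
  | zero => exact codeP_zero
  | add x y _ _ hx hy => exact codeP_add x y hx hy
  | smul a x _ hx =>
    have ha : a = 0 ∨ a = 1 := by
      revert a
      decide
    rcases ha with rfl | rfl
    · rw [zero_smul]
      exact codeP_zero
    · rw [one_smul]
      exact hx

theorem even_mem_xiSub (x : GolayPt → ℤ) (hx : x ∈ leechLattice) (p0 : GolayPt)
    (h : x p0 ≡ 0 [ZMOD 2]) : x ∈ xiSub := by
  obtain ⟨h2, h8, hw⟩ := even_facts x hx p0 h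
  obtain ⟨z, hz2, hz8, hzw, hz⟩ := codeP_all _ hw
  have hd : x - z ∈ subA0 := by
    rw [mem_subA0]
    refine ⟨fun i => ?_, ?_⟩
    · have e := congrFun hzw i
      unfold wd at e
      have a := h2 i
      have b := hz2 i
      simp only [Pi.sub_apply]
      by_cases c1 : x i ≡ 0 [ZMOD 4] <;> by_cases c2 : z i ≡ 0 [ZMOD 4]
      · unfold Int.ModEq at *
        omega
      · rw [if_pos c1, if_neg c2] at e
        exact absurd e (by decide)
      · rw [if_neg c1, if_pos c2] at e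
        exact absurd e (by decide)
      · unfold Int.ModEq at *
        omega
    · simp only [Pi.sub_apply]
      rw [Finset.sum_sub_distrib]
      unfold Int.ModEq at *
      omega
  have := xiSub.add_mem (subA0_le_xiSub hd) hz
  rwa [sub_add_cancel] at this

/-- the image under `Fz` of every vector of the lattice is twice a vector of the lattice -/
theorem leech_le_xiSub : leechLattice ≤ xiSub := by
  intro x hx
  by_cases h : x (pt 0) ≡ 0 [ZMOD 2]
  · exact even_mem_xiSub x hx (pt 0) h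
  · have hu : vecP pu ∈ leechLattice := vecP_mem _ pu_chk.2
    have h3 : vecP pu (pt 0) = -3 := by
      rw [vecP_pt _ 0 (by norm_num)]
      have : getN pu 0 = 5 := by decide +kernel
      rw [this]
      norm_num
    have hd : x - vecP pu ∈ xiSub := by
      refine even_mem_xiSub _ (leechLattice.sub_mem hx hu) (pt 0) ?_
      simp only [Pi.sub_apply]
      rw [h3]
      unfold Int.ModEq at *
      omega
    have := xiSub.add_mem hd (vecP_mem_xiSub _ pu_chk.1)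
    rwa [sub_add_cancel] at this

/-! ### the element of `Co0` -/

theorem exists_half (v : ↥leechLattice) : ∃ y : ↥leechLattice, Fz v.1 = 2 • y.1 := by
  obtain ⟨y, hy, h⟩ := (mem_xiSub v.1).1 (leech_le_xiSub v.2)
  exact ⟨⟨y, hy⟩, h⟩

/-- the map on the lattice -/
noncomputable def xiV (v : ↥leechLattice) : ↥leechLattice := Classical.choose (exists_half v)

theorem xiV_spec (v : ↥leechLattice) : Fz v.1 = 2 • (xiV v).1 := Classical.choose_spec (exists_half v)

theorem two_inj (a b : GolayPt → ℤ) (h : 2 • a = 2 • b) : a = b := dbl_injective h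

theorem xiV_xiV (v : ↥leechLattice) : xiV (xiV v) = v := by
  apply Subtype.ext
  apply two_inj
  apply two_inj
  rw [← xiV_spec (xiV v), ← map_nsmul Fz, ← xiV_spec v, Fz_Fz, smul_smul]
  norm_num

theorem xiV_add (v w : ↥leechLattice) : xiV (v + w) = xiV v + xiV w := by
  apply Subtype.ext
  apply two_inj
  rw [← xiV_spec, AddSubgroup.coe_add, map_add, xiV_spec v, xiV_spec w, AddSubgroup.coe_add,
    smul_add]

theorem sqNorm_xiV (v : ↥leechLattice) : sqNorm (xiV v).1 = sqNorm v.1 := by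
  have h := sqNorm_Fz v.1
  rw [xiV_spec, sqNorm_two_nsmul] at h
  linarith

/-- the extra automorphism, as an element of `Co0` -/
noncomputable def xiCo : ↥Co0 :=
  ⟨⟨xiV, xiV, xiV_xiV, xiV_xiV⟩, fun v w => xiV_add v w, fun v => sqNorm_xiV v⟩

/-- the extra automorphism on packed vectors -/
theorem xiCo_apply (v : ↥leechLattice) (n : ℕ) (hv : (v : GolayPt → ℤ) = vecP n)
    (h64 : sqNorm (v : GolayPt → ℤ) ≤ 64) :
    ((xiCo.1 v : ↥leechLattice) : GolayPt → ℤ) = vecP (xiP n) := by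
  have e : ((xiCo.1 v : ↥leechLattice) : GolayPt → ℤ) = (xiV v).1 := rfl
  rw [e]
  refine xiP_sound n _ (fun p => ?_) (coord_bound64 _ (by rw [sqNorm_xiV]; exact h64))
  have h := congrFun (xiV_spec v) p
  rw [hv] at h
  rw [h]
  simp

end Cfsg.Agent.Lib.helper93
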