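import Mathlib
import Cfsg.Prelude.Def_Sporadic_a
import Cfsg.Prelude.Def_Sporadic

/-!
# `S0420`, piece J: the orbit of a block is a Steiner system `S(4,5,11)`
-/

set_option autoImplicit false
open Cfsg
open scoped Pointwise

namespace Cfsg.Agent.Lib.helper93.M11U

/-- an enumeration of a 4-element set -/
theorem exists_emb_of_card {X : Type*} (s : Finset X) (hs : s.card = 4) :
    ∃ y : Fin 4 ↪ X, (∀ i, y i ∈ s) ∧ ∀ a ∈ s, ∃ i, y i = a := by
  refine ⟨(Finset.equivFinOfCardEq hs).symm.toEmbedding.trans (Function.Embedding.subtype _),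
    ?_, ?_⟩
  · intro i
    exact ((Finset.equivFinOfCardEq hs).symm i).2
  · intro a ha
    refine ⟨Finset.equivFinOfCardEq hs ⟨a, ha⟩, ?_⟩
    simp

/-- an element fixing the four points of an embedding is trivial -/
theorem eq_one_of_fix_emb {G : Type*} [Group G] {X : Type*} [MulAction G X]
    (hsharp : ∀ x y : Fin 4 ↪ X, ∃! g : G, ∀ i, g • x i = y i)
    (y : Fin 4 ↪ X) (g : G) (hg : ∀ i, g • y i = y i) : g = 1 := by
  obtain ⟨g0, _, huniq⟩ := hsharp y y
  rw [huniq g hg, huniq 1 (fun i => one_smul G (y i))]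

/-- the stabilizer of the block is 4-transitive on it -/
theorem stab_block_trans {G : Type*} [Group G] [Finite G]
    {X : Type*} [Fintype X] [DecidableEq X] [MulAction G X]
    (hsharp : ∀ x y : Fin 4 ↪ X, ∃! g : G, ∀ i, g • x i = y i)
    (B : Finset X) (hB : B.card = 5) (hS : Nat.card (MulAction.stabilizer G B) = 120)
    (x y : Fin 4 ↪ X) (hx : ∀ i, x i ∈ B) (hy : ∀ i, y i ∈ B) :
    ∃ u : G, u • B = B ∧ ∀ i, u • x i = y i := by
  classical
  have hmem : ∀ (u : MulAction.stabilizer G B) (i : Fin 4), (u : G) • x i ∈ B := by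
    intro u i
    have h1 : (u : G) • B = B := u.2
    have h2 : (u : G) • x i ∈ (u : G) • B := Finset.smul_mem_smul_finset (hx i)
    rw [h1] at h2
    exact h2
  let φ : ↥(MulAction.stabilizer G B) → (Fin 4 ↪ {a : X // a ∈ B}) := fun u =>
    ⟨fun i => ⟨(u : G) • x i, hmem u i⟩, by
      intro i j hij
      have h1 : (u : G) • x i = (u : G) • x j := congrArg Subtype.val hij
      exact x.injective (smul_left_cancel _ h1)⟩
  have hφ : Function.Injective φ := by
    intro u u' h
    have h1 : ∀ i, (u : G) • x i = (u' : G) • x i :=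
      fun i => congrArg Subtype.val (DFunLike.congr_fun h i)
    have h2 : (u' : G)⁻¹ * (u : G) = 1 := by
      apply eq_one_of_fix_emb hsharp x
      intro i
      rw [mul_smul, h1 i, inv_smul_smul]
    apply Subtype.ext
    exact (inv_mul_eq_one.mp h2).symm
  have hcard : Nat.card (Fin 4 ↪ {a : X // a ∈ B}) ≤ Nat.card (MulAction.stabilizer G B) := by
    rw [hS, Nat.card_eq_fintype_card, Fintype.card_embedding_eq, Fintype.card_fin,
      Fintype.card_coe, hB]
    decide
  have hbij := hφ.bijective_of_nat_card_le hcard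
  obtain ⟨u, hu⟩ := hbij.2
    ⟨fun i => ⟨y i, hy i⟩, fun i j hij => y.injective (congrArg Subtype.val hij)⟩
  refine ⟨u, u.2, fun i => ?_⟩
  exact congrArg Subtype.val (DFunLike.congr_fun hu i)

/-- PIECE J: the orbit of a 5-set with stabilizer of order 120 is a Steiner system S(4,5,11). -/
theorem steiner_of_block {G : Type*} [Group G] [Finite G] (hG : Nat.card G = 7920)
    {X : Type*} [Fintype X] [DecidableEq X] [MulAction G X] (hX : Fintype.card X = 11)
    (hsharp : ∀ x y : Fin 4 ↪ X, ∃! g : G, ∀ i, g • x i = y i)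
    (B : Finset X) (hB : B.card = 5) (hS : Nat.card (MulAction.stabilizer G B) = 120) :
    IsSteinerSystem 4 5 (MulAction.orbit G B) := by
  classical
  constructor
  · rintro b ⟨g, rfl⟩
    show (g • B).card = 5
    rw [Finset.card_smul_finset, hB]
  · intro s hs
    obtain ⟨y, hy1, hy2⟩ := exists_emb_of_card s hs
    obtain ⟨s0, hs0, hs0c⟩ := Finset.exists_subset_card_eq (show 4 ≤ B.card by omega)
    obtain ⟨x0, hx1, hx2⟩ := exists_emb_of_card s0 hs0c
    obtain ⟨g, hg, _⟩ := hsharp x0 y
    refine ⟨g • B, ⟨⟨g, rfl⟩, ?_⟩, ?_⟩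
    · intro a ha
      obtain ⟨i, rfl⟩ := hy2 a ha
      rw [← hg i]
      exact Finset.smul_mem_smul_finset (hs0 (hx1 i))
    · rintro b ⟨⟨g2, rfl⟩, hsb⟩
      show g2 • B = g • B
      have hx : ∀ i, g⁻¹ • y i ∈ B := by
        intro i
        rw [← hg i, inv_smul_smul]
        exact hs0 (hx1 i)
      have hx' : ∀ i, g2⁻¹ • y i ∈ B := by
        intro i
        exact Finset.inv_smul_mem_iff.mpr (hsb (hy1 i))
      obtain ⟨u, huB, hu⟩ := stab_block_trans hsharp B hB hS
        ⟨fun i => g⁻¹ • y i, fun i j hij => y.injective (smul_left_cancel _ hij)⟩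
        ⟨fun i => g2⁻¹ • y i, fun i j hij => y.injective (smul_left_cancel _ hij)⟩ hx hx'
      have h1 : g2 * u * g⁻¹ = 1 := by
        apply eq_one_of_fix_emb hsharp y
        intro i
        have h2 : u • g⁻¹ • y i = g2⁻¹ • y i := hu i
        rw [mul_smul, mul_smul, h2, smul_inv_smul]
      have h3 : g2 * u = g := mul_inv_eq_one.mp h1
      rw [← h3, mul_smul, huB]

end Cfsg.Agent.Lib.helper93.M11U
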