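/-
The stabiliser in `M24` of a word of the Golay code fixes no nonzero vector of the space of all
words modulo the code (statement S5550).  Built on helper9's mask model and helper33's table
permutations and orbit certificates.
-/
import Mathlib
import Cfsg.Prelude.Def_Sporadic_a
import Cfsg.Agent.Lib.helper9.GolayWords
import Cfsg.Agent.Lib.helper33.M24Octads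
import Cfsg.Agent.Lib.helper93.GolayMod

set_option autoImplicit false

namespace Cfsg.Agent.Lib.helper93

open Cfsg
open Cfsg.Agent.Lib.helper9 Cfsg.Agent.Lib.helper33
open scoped Pointwise

/-! ### words and sets -/

theorem support₂_act (σ : Equiv.Perm GolayPt) (w : GV) : support₂ (act σ w) = σ • support₂ w :=
  (smul_support₂ σ w).symm

theorem act_dec_of_isTable {σ : Equiv.Perm GolayPt} {tbl : List ℕ} (h : IsTable σ tbl) (m : ℕ) :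
    act σ (dec m) = dec (permMask tbl m) := by
  apply support₂_injective
  rw [support₂_act, support₂_dec, support₂_dec, decSet_permMask h]

theorem act_mem_golay {σ : Equiv.Perm GolayPt} (hσ : σ ∈ M24) {c : GV} (hc : c ∈ golayCode) :
    act σ c ∈ golayCode :=
  (mem_M24_iff σ⁻¹).1 (inv_mem hσ) c hc

theorem act_one_word (σ : Equiv.Perm GolayPt) : act σ (1 : GV) = 1 := by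
  funext p
  rfl

theorem act_inv_act (σ : Equiv.Perm GolayPt) (w : GV) : act σ⁻¹ (act σ w) = w := by
  rw [← act_mul, inv_mul_cancel, act_one]

theorem act_act_inv (σ : Equiv.Perm GolayPt) (w : GV) : act σ (act σ⁻¹ w) = w := by
  rw [← act_mul, mul_inv_cancel, act_one]

theorem one_add_one_word : (1 : GV) + 1 = 0 := by
  funext p
  simp only [Pi.add_apply, Pi.one_apply, Pi.zero_apply]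
  decide

/-! ### the property -/

/-- the stabiliser of `u` in `M24` fixes no nonzero vector modulo the code -/
def NoFix (u : GV) : Prop :=
  ∀ w : GV, w ∉ golayCode → ∃ σ ∈ M24, act σ u = u ∧ act σ w - w ∉ golayCode

theorem noFix_act {σ : Equiv.Perm GolayPt} (hσ : σ ∈ M24) {u : GV} (hu : NoFix u) :
    NoFix (act σ u) := by
  intro w hw
  have hw' : act σ⁻¹ w ∉ golayCode := by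
    intro h
    have h1 := act_mem_golay hσ h
    rw [act_act_inv] at h1
    exact hw h1
  obtain ⟨τ, hτ, h1, h2⟩ := hu _ hw'
  refine ⟨σ * τ * σ⁻¹, mul_mem (mul_mem hσ hτ) (inv_mem hσ), ?_, ?_⟩
  · rw [act_mul, act_mul, act_inv_act, h1]
  · intro h
    apply h2
    have e : act (σ * τ * σ⁻¹) w - w = act σ (act τ (act σ⁻¹ w) - act σ⁻¹ w) := by
      rw [map_sub, act_mul, act_mul, act_act_inv]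
    rw [e] at h
    have h3 := act_mem_golay (inv_mem hσ) h
    rw [act_inv_act] at h3
    exact h3

/-- the twelve low unit masks: they span a complement of the code -/
def lowL : List ℕ := [1, 2, 4, 8, 16, 32, 64, 128, 256, 512, 1024, 2048]

/-- the low part of a unit mask modulo the code -/
def lowWit (i : ℕ) : ℕ := bif Nat.blt i 12 then 2 ^ i else gB.getD (23 - i) 0 ^^^ 2 ^ i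

theorem lowWit_chk : ∀ i < 24, lowWit i ∈ comb lowL ∧ syn (2 ^ i ^^^ lowWit i) = true := by
  decide +kernel

theorem decompC (w : GV) : ∃ c ∈ golayCode, ∃ m ∈ comb lowL, w = c + dec m := by
  have h : w ∈ golayCode ⊔ spanL lowL := by
    have h0 := op_mem_of_basis LinearMap.id (golayCode ⊔ spanL lowL) (fun i hi => by
      obtain ⟨h1, h2⟩ := lowWit_chk i hi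
      rw [LinearMap.id_apply]
      have e : dec (2 ^ i) = dec (2 ^ i ^^^ lowWit i) + dec (lowWit i) := by
        rw [← dec_xor, Nat.xor_assoc, Nat.xor_self, Nat.xor_zero]
      rw [e]
      exact Submodule.add_mem _ (Submodule.mem_sup_left ((dec_mem_golayCode_iff _).2 h2))
        (Submodule.mem_sup_right (dec_mem_spanL _ _ h1))) w
    exact h0
  obtain ⟨c, hc, r, hr, rfl⟩ := Submodule.mem_sup.1 h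
  obtain ⟨m, hm, rfl⟩ := (mem_spanL_iff _ _).1 hr
  exact ⟨c, hc, m, hm, rfl⟩

theorem word_rearr (a b c d : GV) : (a + b) - (c + d) = (a - c) + (b + d) := by
  funext p
  simp only [Pi.add_apply, Pi.sub_apply]
  generalize a p = x
  generalize b p = y
  generalize c p = z
  generalize d p = t
  revert x y z t
  decide

/-- the checker: tables of elements of the group fixing the mask `n`, with no common fixed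
nonzero vector modulo the code -/
theorem noFix_of_tables (n : ℕ) (T : List (List ℕ)) (hT : ∀ t ∈ T, ∃ σ ∈ M24, IsTable σ t)
    (hfix : ∀ t ∈ T, permMask t n = n)
    (hchk : ∀ m ∈ comb lowL, m ≠ 0 → ∃ t ∈ T, syn (permMask t m ^^^ m) = false) :
    NoFix (dec n) := by
  intro w hw
  obtain ⟨c, hc, m, hm, rfl⟩ := decompC w
  have hm0 : m ≠ 0 := by
    rintro rfl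
    rw [dec_zero, add_zero] at hw
    exact hw hc
  obtain ⟨t, ht, hs⟩ := hchk m hm hm0
  obtain ⟨σ, hσ, hσt⟩ := hT t ht
  refine ⟨σ, hσ, ?_, ?_⟩
  · rw [act_dec_of_isTable hσt, hfix t ht]
  · intro h
    have e : act σ (c + dec m) - (c + dec m) = (act σ c - c) + dec (permMask t m ^^^ m) := by
      rw [map_add, act_dec_of_isTable hσt, dec_xor]
      exact word_rearr _ _ _ _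
    rw [e] at h
    have h1 : act σ c - c ∈ golayCode := golayCode.sub_mem (act_mem_golay hσ hc) hc
    have h2 := (Submodule.add_mem_iff_right _ h1).1 h
    rw [dec_mem_golayCode_iff, hs] at h2
    exact absurd h2 (by decide)

/-! ### the base words -/

/-- the check that the tables of `T` have no common fixed nonzero vector modulo the code -/
def chkNoFix (T : List (List ℕ)) : Bool :=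
  (comb lowL).all fun m => Nat.beq m 0 || T.any fun t => !syn (permMask t m ^^^ m)

theorem chkNoFix_spec (T : List (List ℕ)) (h : chkNoFix T = true) :
    ∀ m ∈ comb lowL, m ≠ 0 → ∃ t ∈ T, syn (permMask t m ^^^ m) = false := by
  intro m hm hm0
  have h1 := List.all_eq_true.1 h m hm
  rw [Bool.or_eq_true] at h1
  rcases h1 with h1 | h1
  · exact absurd (Nat.eq_of_beq_eq_true h1) hm0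
  · obtain ⟨t, ht, h2⟩ := List.any_eq_true.1 h1
    refine ⟨t, ht, ?_⟩
    cases hs : syn (permMask t m ^^^ m)
    · rfl
    · rw [hs] at h2; exact absurd h2 (by decide)

theorem chk_all : chkNoFix gens24 = true := by decide +kernel

theorem chk_oct : chkNoFix gensO = true := by decide +kernel

/-- two elements of the stabiliser of the dodecad of squares, with their inverses -/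
def tD1 : List ℕ := [4, 9, 0, 8, 18, 20, 13, 7, 16, 6, 14, 22, 12, 2, 17, 11, 1, 15, 3, 10, 21, 23, 5, 19]
def tD1i : List ℕ := [2, 16, 13, 18, 0, 22, 9, 7, 3, 1, 19, 15, 12, 6, 10, 17, 8, 14, 4, 23, 5, 20, 11, 21]
def tD2 : List ℕ := [13, 1, 4, 12, 0, 15, 6, 19, 18, 3, 21, 20, 8, 16, 11, 17, 2, 10, 9, 14, 7, 5, 22, 23]
def tD2i : List ℕ := [4, 1, 16, 9, 2, 21, 6, 20, 12, 18, 17, 14, 3, 0, 19, 5, 13, 15, 8, 7, 11, 10, 22, 23]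

theorem chk_dod : chkNoFix [tD1, tD2] = true := by decide +kernel

theorem noFix_zero : NoFix (0 : GV) := by
  have h := noFix_of_tables 0 gens24 gensIn_gens24 (by decide +kernel) (chkNoFix_spec _ chk_all)
  rw [dec_zero] at h
  exact h

theorem noFix_one : NoFix (1 : GV) := by
  have h := noFix_of_tables 16777215 gens24 gensIn_gens24 (by decide +kernel) (chkNoFix_spec _ chk_all)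
  rw [← one_eq_dec] at h
  exact h

theorem gensO_in_M24 : ∀ t ∈ gensO, ∃ σ ∈ M24, IsTable σ t := by
  intro t ht
  obtain ⟨σ, hσ, hσt⟩ := gensIn_gensO t ht
  exact ⟨σ, (mem_stabOct0.1 hσ).1, hσt⟩

theorem noFix_oct : NoFix (dec 5279) :=
  noFix_of_tables 5279 gensO gensO_in_M24 (by decide +kernel) (chkNoFix_spec _ chk_oct)

theorem noFix_cooct : NoFix (dec 5279 + 1) := by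
  have h := noFix_of_tables (5279 ^^^ 16777215) gensO gensO_in_M24 (by decide +kernel)
    (chkNoFix_spec _ chk_oct)
  rw [dec_xor, ← one_eq_dec] at h
  exact h

theorem tD_in_M24 : ∀ t ∈ [tD1, tD2], ∃ σ ∈ M24, IsTable σ t := by
  intro t ht
  simp only [List.mem_cons, List.not_mem_nil, or_false] at ht
  rcases ht with rfl | rfl
  · exact exists_mem_of_tbl tD1 tD1i (by decide +kernel) (by decide +kernel)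
  · exact exists_mem_of_tbl tD2 tD2i (by decide +kernel) (by decide +kernel)

theorem noFix_dod : NoFix (dec 340831) :=
  noFix_of_tables 340831 [tD1, tD2] tD_in_M24 (by decide +kernel) (chkNoFix_spec _ chk_dod)

/-! ### transitivity on dodecads -/

/-- part 0 of the words in `gens24` mapping the dodecad of squares onto the dodecads -/
def certsD0 : List (List ℕ) := [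
  [3, 1, 4, 0, 4, 4, 0], [3, 0, 0, 0, 4, 1], [0, 3, 0, 4, 4, 2, 0, 0], [1, 1, 4, 0, 0, 0],
  [4, 4, 0, 0, 4, 0], [4, 0, 0, 0, 0, 3, 2, 0], [0, 3, 3, 1, 3, 2, 0], [0, 3, 0, 3, 0],
  [4, 2, 1, 1, 3, 0, 2, 0], [0, 0, 0, 4, 0, 2, 0], [1, 4, 0, 0, 0], [0, 3, 1, 2, 0, 0, 0, 0],
  [3, 2, 0, 4, 1], [1, 3, 1, 4, 0, 0, 0], [2, 0, 3, 2, 1], [0, 4, 1, 4, 2, 0], [4, 0, 4, 4, 2, 0],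
  [3, 1, 4, 0, 4, 4, 2, 0], [4, 0, 0, 3, 0, 0], [1, 4, 0, 4, 1, 3, 0], [1, 3, 3, 0, 2, 0, 0],
  [0, 4, 0, 0, 4, 1], [0, 0, 3, 0, 3, 0], [], [1, 1, 4, 1, 1, 4, 1], [3, 1, 3, 0, 0, 0, 0],
  [0, 0, 3, 0, 0, 0, 0], [4, 0, 3, 1, 1, 1, 3, 0], [0, 2, 1, 4, 1, 1], [3, 3, 1, 1, 1, 2, 0],
  [4, 4, 0, 4, 0, 0], [1, 4, 1, 4, 1, 1], [4, 0, 3, 0, 3, 1, 1], [4, 0, 0, 0], [3, 1, 4, 2, 0],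
  [3, 1, 4, 4, 1, 1, 1], [0, 4, 0, 0, 0, 0, 0], [0, 3, 2, 0, 4, 1], [2, 1, 4, 0, 3, 2, 1],
  [3, 1, 4, 0, 0, 0], [1, 1, 4, 2, 0, 3, 1], [2, 1, 3, 1], [4, 1, 1, 4, 0, 3, 1], [1, 3, 2, 1, 3, 1],
  [0, 3, 1, 1, 1, 3, 0], [1, 3, 2, 0, 3, 0, 0], [3, 2, 0, 0, 0, 0, 4, 0], [1, 4, 2, 0], [2, 1, 3, 1, 2, 1],
  [1, 1, 3, 1, 3, 1], [4, 0, 0, 3, 3, 1], [1, 1, 1, 2, 0], [0, 0, 4, 1, 4, 0, 0], [1, 4, 2, 0, 3, 2, 0],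
  [1, 2, 0, 3, 0, 0], [4, 0, 4, 1, 3, 0], [3, 3, 0, 2, 0, 0], [3, 1, 1, 2, 0, 3, 0, 0],
  [0, 0, 4, 0, 0, 4, 1], [0, 3, 0, 3, 1], [0, 0, 0, 3, 0, 3, 0], [1, 1, 3, 0, 3, 0, 0], [0], [1, 1, 1, 4, 0],
  [4, 1], [1, 4, 1, 1, 4, 1], [0, 0, 0, 0, 3, 0, 0, 0], [2, 0, 4, 4, 0, 0], [1, 1, 4, 0, 3, 1],
  [1, 1, 3, 0, 4, 1], [4, 0, 4, 0, 4, 1], [3, 0, 3, 2, 0, 4, 1], [0, 0, 3, 0, 3, 2, 0],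
  [1, 3, 0, 4, 1, 1, 1], [1, 3, 3, 0, 3, 2, 0], [3, 0, 3, 0, 0, 0, 0], [0, 0, 4, 2, 0, 0],
  [3, 0, 3, 0, 3, 2, 0], [0, 4, 4, 0, 4, 0, 0], [4, 1, 4, 1, 1], [1, 2, 0, 4, 1, 3, 0],
  [4, 1, 3, 0, 3, 3, 0, 0], [2, 1, 1, 3, 0, 2, 0], [0, 0, 3, 0, 2, 0], [3, 3, 1, 4, 1, 3, 1],
  [4, 0, 0, 4, 1, 1, 1], [4, 0, 4, 0, 0], [4, 1, 3, 1, 1], [0, 4, 0, 0, 0], [1, 1, 3, 1, 1, 4, 1],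
  [0, 3, 1, 4, 2, 0], [4, 4, 1, 3, 0, 0], [3, 1, 3, 2, 1, 3, 1], [0, 4, 0, 4, 0], [0, 0, 4, 0, 0, 0, 0, 0],
  [0, 0, 3, 2, 0, 4, 1], [3, 1, 1, 1, 4, 1], [0, 2, 0, 0, 4, 1, 2, 0], [4, 0, 4, 1, 3, 3, 0],
  [2, 0, 4, 2, 1], [0, 3, 1, 4, 0, 0, 0], [0, 4, 4, 0, 4, 4, 0], [1, 4, 2, 0, 3, 1], [4, 4, 1, 3, 3, 1],
  [4, 1, 1, 3, 1, 1], [0, 2, 1, 3, 1], [1, 3, 3, 1, 4, 0], [1, 3, 1, 3, 0, 0, 3, 0], [3, 1, 3, 2, 0],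
  [4, 4, 1, 1, 1, 1], [3, 2, 1, 3, 1], [3, 3, 1, 1, 3, 3, 0], [0, 2, 0], [0, 4, 0, 0, 3, 2, 0],
  [3, 2, 0, 3, 0, 0], [0, 0, 0, 0, 3, 2, 0], [3, 0, 0, 0, 0, 4, 0], [3, 0, 0, 0, 3, 3, 0], [4, 2, 0],
  [0, 0, 4, 0, 0, 2, 0], [2, 0, 4, 0, 4, 1], [4, 0, 2, 1, 3, 2, 1], [1, 3, 0, 0, 0, 0], [3, 1, 3, 0, 2, 0],
  [1, 1, 1, 4, 1], [1, 3, 1, 3, 1], [1, 3, 0, 3, 2, 0], [2, 0, 4, 0, 0, 0, 0], [3, 1, 1, 4, 1, 1],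
  [0, 3, 3, 2, 0, 0], [1, 1, 2, 0], [1, 4, 0, 0, 2, 0], [2, 0, 4, 0, 3, 0, 0], [1, 1, 3, 2, 1, 3, 0],
  [3, 0, 3, 0, 0, 0], [0, 3, 3, 0, 4, 0, 3, 0], [4, 2, 0, 3, 2, 0], [3, 3, 1, 1, 4, 0, 0], [2, 0, 3, 0, 0],
  [0, 3, 2, 1, 3, 0], [4, 4, 0, 4, 1, 1], [3, 3, 1, 1, 1, 1], [3, 0, 3, 1, 2, 0], [0, 3, 3, 0, 2, 0, 0],
  [4, 0, 4, 0, 4, 0], [4, 1, 3, 2, 1, 3, 0], [4, 0, 4, 0, 2, 0], [3, 2, 0, 0, 2, 1, 1],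
  [4, 0, 4, 1, 1, 4, 1], [4, 4, 0, 0, 0], [1, 1, 3, 0, 2, 0, 0], [2, 1, 3, 3, 0, 0, 0], [1, 3, 2, 0],
  [3, 3, 1, 3, 0, 0], [1, 3, 0, 3, 0, 0], [0, 0], [1, 4, 0, 0, 4, 0], [4, 0, 3, 0, 3, 0], [1, 2, 0, 3, 3, 0],
  [1, 1, 4, 1, 2, 0], [0, 2, 1, 4, 1, 3, 0], [1, 1, 4, 0], [4, 1, 4, 1, 4, 1, 1], [0, 4, 1], [1, 1, 1, 3, 1],
  [1, 3, 0, 0], [4, 1, 1, 4, 1], [0, 3, 0, 4, 0, 3, 1], [1, 1, 2, 0, 0, 2, 0], [4, 0, 0, 3, 0, 3, 0],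
  [2, 0, 4, 4, 0, 0, 0], [1, 4, 4, 0, 0], [1, 4, 0, 3, 1], [3, 3, 1, 1, 1], [0, 3, 1, 3, 1, 1, 1],
  [1, 2, 0, 3, 2, 0], [1, 3, 0, 4, 1], [0, 4, 0, 4, 0, 4, 1], [3, 1, 3, 3, 2, 0, 0], [4, 1, 4, 0, 0, 4, 1],
  [1, 4, 0, 3, 0, 0], [1, 1, 2, 0, 3, 1, 1], [1, 2, 0, 3, 0, 3, 0, 0], [3, 0, 4, 1, 1, 1], [0, 3, 2, 0, 0],
  [1, 4, 1, 1, 1, 1, 1], [3, 3, 0, 3, 2, 0], [0, 4, 1, 1, 4, 2, 0], [3, 3, 0, 0, 4, 0],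
  [0, 0, 0, 4, 2, 0, 0], [4, 1, 1, 1, 4, 0], [1, 3, 3, 0, 3, 1], [0, 0, 3, 3, 1, 1], [0, 0, 3, 0],
  [3, 2, 1, 1, 4, 1], [0, 3, 3, 1, 4, 0, 0], [0, 0, 4, 1, 1, 4, 0], [0, 4, 1, 4, 1, 1],
  [0, 4, 0, 3, 1, 2, 0], [2, 0, 4, 1, 3, 0], [3, 1, 4, 0, 3, 1, 2, 0], [4, 1, 1, 3, 1, 1, 1],
  [2, 0, 4, 1, 1, 4, 1], [0, 0, 0, 3, 0, 2, 0], [0, 4, 1, 1, 1, 3, 0], [1, 1, 3, 0], [0, 0, 0, 0, 0, 0, 0],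
  [4, 1, 4, 1, 1, 3, 2, 0], [1, 3, 1, 2, 0], [1, 1, 4, 1, 1, 2, 0], [4, 0, 3, 3, 1, 1], [3, 1, 4, 2, 0, 0],
  [0, 4, 0, 4, 0, 0], [1, 2, 0, 3, 1, 3, 0], [1, 4, 0, 2, 0, 0], [0, 4, 1, 3, 1, 1], [3, 0, 0, 3, 2, 0],
  [0, 0, 4, 0, 0, 0], [1, 3, 1, 1, 4, 1], [0, 0, 3, 1, 3, 0, 0], [0, 0, 3, 1, 4, 2, 0], [4, 1, 4, 0, 3, 0],
  [3, 1, 4, 4, 1, 2, 0], [1, 4, 1, 3, 0], [0, 3, 0, 0, 2, 0], [4, 4, 0, 0, 3, 0], [0, 3, 1, 3, 2, 1, 3, 1],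
  [4, 1, 1, 3, 2, 0], [0, 0, 4, 0, 4, 0], [3, 2, 1, 4, 2, 1], [4, 0, 0, 0, 0, 3, 0], [0, 4, 1, 1, 3, 0, 0],
  [1, 4, 0, 4, 1], [1, 4, 0, 0, 4, 0, 0, 0], [1, 3, 3, 0], [4, 1, 1, 3, 3, 0], [3, 1, 3, 0, 0, 4, 0, 0],
  [3, 1, 4, 2, 0, 0, 2, 0], [3, 1, 4, 1, 4, 1], [4, 0, 2, 1, 1, 2], [2, 1, 4, 1], [3, 0, 3, 1, 1, 1, 1],
  [2, 1, 3, 3, 0, 3, 1], [0, 0, 4, 0, 0, 3, 0], [4, 0, 3, 0], [1, 3, 3, 1, 4, 1, 1], [4, 0, 3, 1, 4, 0],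
  [1, 3, 3, 1, 3, 1], [4, 2, 0, 3, 1], [3, 3, 0, 0, 3, 0, 0], [1, 1, 3, 3, 0, 0, 0], [2, 0, 3, 0, 4, 1],
  [1, 2, 0, 0, 0, 0], [3, 3, 1, 2, 0], [0, 0, 3, 3, 0, 3, 0], [3, 3, 1, 4, 0], [4, 0, 0, 3, 1, 2, 0],
  [3, 1, 3, 0, 0, 3, 0], [0, 3, 1, 3, 2, 0], [3, 1, 3, 0, 3, 1], [4, 2, 0, 3, 0, 2], [3, 3, 0, 0, 4, 0, 0],
  [3, 1, 3, 1, 1, 3, 0], [3, 1, 1], [3, 3, 2, 0, 3, 1], [4, 4, 0, 3, 1, 1], [1, 3, 1, 3, 0], [0, 0, 2, 0],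
  [4, 1, 4, 0, 4, 0, 0], [4, 0, 3, 3, 0, 0, 0], [2, 1, 4, 0, 4, 0], [3, 3, 0, 3, 0, 2, 0],
  [1, 4, 2, 1, 3, 0], [1, 4, 0, 4, 4, 0, 0], [3, 3, 1, 3, 1, 1], [4, 0, 3, 1, 1, 1], [0, 4, 4, 2, 0, 0],
  [3, 0, 3, 1, 3, 0, 2, 0], [2, 0, 0], [1, 2, 0, 4, 0, 0, 0], [0, 0, 3, 1, 3, 3, 0], [0, 4, 0, 2, 0],
  [4, 1, 4, 4, 0], [2, 1, 4, 2, 0, 4, 1], [1, 4, 0, 0, 4, 1], [3, 0, 0, 0, 0], [0, 3, 0, 2, 0, 0],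
  [4, 4, 1, 1, 1], [0, 3, 1, 3, 0, 2, 0], [4, 0, 4, 1, 1, 3, 0, 0], [4, 0, 4, 1, 1], [4, 0, 0, 4, 4, 0, 0],
  [1, 3, 0, 3, 1], [1, 1, 4, 1], [3, 1, 3, 1], [0, 0, 4, 4, 1, 2, 0], [3, 0, 3, 2, 0], [3, 0, 4, 2, 0, 0],
  [3, 1, 4, 4, 0, 0], [2, 0, 0, 4, 0, 0, 0], [4, 1, 1, 4, 4, 1], [0, 3, 1, 1, 4, 1, 1],
  [4, 1, 4, 0, 3, 0, 0], [4, 1, 1, 1, 3, 1], [0, 0, 3, 3, 2, 0, 0], [0, 4, 4, 2, 0], [1, 3, 1, 1, 1, 2, 0],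
  [1, 2, 0], [0, 0, 3, 2, 0], [4, 0, 0, 2, 0], [4, 1, 2, 0, 3, 1], [0, 4, 1, 3, 0, 2, 0, 0],
  [1, 3, 3, 2, 0, 0], [3, 1, 3, 0, 3, 0, 0], [4, 1, 1, 4, 1, 4, 0, 0], [1, 3, 2, 1, 3, 0],
  [4, 1, 1, 4, 1, 1], [3, 3, 0, 3, 1, 1], [4, 1, 2, 0, 0, 4, 0], [0, 4, 1, 3, 2, 0, 0],
  [2, 0, 4, 2, 1, 3, 0], [3, 3, 0, 3, 3, 0, 0], [4, 0, 4, 0, 4, 0, 0], [1, 4, 1, 4, 1], [2, 0, 4, 0, 3, 1],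
  [0, 0, 3, 0, 3, 0, 0], [0, 3, 1, 3, 3, 1], [1, 3, 2, 0, 0], [4, 4, 0, 4, 0, 2, 0], [3, 0, 0, 4, 0],
  [1, 4, 0, 3, 1, 2, 0], [0, 3, 0, 3, 3, 0, 0], [0, 0, 0, 0, 0], [0, 4, 4, 0, 4, 1, 1],
  [4, 4, 1, 1, 4, 0, 0], [3, 1, 3, 0, 0], [2, 1, 4, 2, 1], [3, 2, 1, 4, 1, 1], [2, 0, 3, 1, 4, 2, 1],
  [0, 3, 0, 3, 1, 2, 0], [1, 1, 1, 3, 3, 0], [3, 1, 4, 0, 3, 1], [3, 1, 3, 1, 3, 1], [4, 1, 4, 1, 3, 0],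
  [3, 0, 3, 0, 2, 0], [0, 4, 0, 4, 0, 2, 0], [3, 3, 0, 3, 0], [0, 4, 4, 0, 0, 2, 0], [4, 2, 0, 3, 1, 3, 0],
  [1, 4, 4, 0, 0, 4, 1], [2, 1, 1, 1, 2, 0, 3, 0], [0, 4, 4, 0, 0, 0], [1, 3, 0, 2, 0, 0],
  [4, 4, 1, 3, 2, 0], [3, 3, 2, 0, 0, 0, 0], [0, 2, 1, 3, 2, 1], [0, 4, 4, 0, 3, 0, 0], [3, 3, 1, 4, 4, 0],
  [1, 4, 4, 2, 0], [3, 2, 0], [0, 3, 3, 1, 3, 0, 0], [2, 0, 3, 2, 0, 0, 3, 0], [0, 3, 3, 0, 0],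
  [3, 0, 3, 0, 0], [0, 3, 1, 4, 4, 0], [1, 2, 0, 3, 1, 1, 1], [0, 0, 0], [0, 4, 1, 2, 0], [4, 0, 0, 4, 0],
  [0, 4, 4, 1], [3, 0, 3, 1, 3, 1], [0, 4, 0, 2, 1, 3, 1], [3, 0, 3, 2, 0, 0], [2, 0, 3, 3, 0],
  [1, 3, 3, 0, 0], [1, 4, 1, 2, 0], [0, 3, 2, 0, 0, 0, 0], [0, 3, 0, 0, 4, 1, 1], [1, 3, 2, 0, 0, 0, 0],
  [1, 3, 0, 0, 4, 1, 1], [1, 4, 0], [3, 0, 3, 0, 3, 0, 0], [0, 4, 0], [4, 4, 0, 4, 4, 1], [1, 3, 1, 1, 3, 1],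
  [0, 4, 1, 1, 1, 2, 0], [0, 0, 4, 1], [0, 0, 0, 4, 0], [1, 1, 3, 1], [3, 0, 0], [0, 4, 1, 1, 4, 1],
  [1, 3, 0, 3, 1, 1], [4, 0, 0, 3, 3, 1, 2, 0], [3, 1, 1, 4, 2, 0], [4, 0, 0, 0, 3, 3, 1],
  [1, 2, 0, 0, 2, 0], [1, 1, 3, 0, 0, 3, 1], [1, 1, 1, 4, 2, 0, 0], [0, 3, 1, 1, 3, 1], [1, 4, 4, 2, 1, 3, 1]]

/-- part 1 of the words in `gens24` mapping the dodecad of squares onto the dodecads -/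
def certsD1 : List (List ℕ) := [
  [4, 4, 0, 3, 2, 0], [4, 4, 0, 0], [1, 3, 0, 2, 1, 4, 1], [4, 0, 3, 1], [0, 4, 0, 4, 4, 1],
  [0, 3, 3, 1, 1, 1], [3, 0, 3, 1, 3, 3, 0], [0, 0, 0, 0, 4, 1], [3, 0, 4, 4, 1, 1, 1], [2, 0, 3, 2, 0],
  [3, 3, 1, 4, 2, 0], [3, 0, 4, 1], [3, 1, 1, 4, 0, 0, 0], [3, 1], [2, 1, 3, 1, 2, 1, 1],
  [4, 4, 1, 3, 2, 0, 0], [4, 2, 1, 4, 4, 1], [0, 0, 3, 0, 0], [3, 3, 0, 4, 1, 1, 1],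
  [0, 0, 0, 3, 3, 0, 0, 0], [4, 0, 3, 0, 0], [4, 0, 4, 4, 0], [1, 2, 0, 3, 1, 1], [2, 0, 3, 0, 3, 0, 0],
  [0, 3, 1, 4, 4, 1], [0, 4, 1, 3, 0, 3, 1], [1, 3, 2, 0, 3, 2, 0], [0, 0, 3, 2, 0, 0], [0, 3, 0, 3, 1, 1],
  [4, 1, 1, 1, 1, 1], [4, 1, 1, 3, 3, 0, 0], [3, 1, 1, 4, 0], [4, 2, 1, 4, 1, 2, 0], [1, 1, 3, 3, 0, 2, 0],
  [4, 2, 1, 1, 4, 1], [1, 3, 1, 4, 1, 2, 0], [3, 3, 0, 0, 0, 4, 1], [1, 3, 0, 0, 0, 3, 1],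
  [4, 0, 4, 0, 3, 0, 0], [3, 3, 0, 3, 1], [3, 1, 2, 0, 3, 1], [1, 4, 0, 3, 1, 1], [0, 0, 0, 3, 3, 1, 1],
  [0, 3, 0, 4, 4, 0], [2, 1, 1, 2], [0, 0, 0, 3, 0], [4, 1, 3, 1, 3, 0], [1, 1, 1, 1, 4, 2, 0],
  [4, 1, 1, 4, 1, 2, 0], [3, 0, 0, 3, 1], [3, 2, 0, 0, 4, 0, 0, 0], [4, 0, 0, 3, 1], [1, 4, 2, 0, 0],
  [4, 4, 0, 2, 1, 1, 2], [1, 3, 2, 0, 0, 2, 0], [1, 1, 4, 0, 4, 0], [1, 2, 0, 4, 0, 3, 0],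
  [1, 4, 4, 0, 2, 0, 0], [2, 1, 4, 2, 1, 3, 0], [0, 3, 0, 3, 3, 0, 0, 0], [3, 0, 0, 4, 0, 4, 0, 0],
  [4, 4, 0, 3, 0], [0, 4, 1, 1, 3, 1, 1, 1], [3, 3, 2, 0, 0, 4, 0], [1, 4, 1, 3, 0, 4, 1],
  [1, 1, 1, 1, 3, 2, 0], [4, 0, 2, 1, 4, 1], [0, 4, 4, 2, 1, 3, 1], [4, 1, 4, 2, 0, 0, 2, 0],
  [0, 4, 1, 4, 4, 1], [1, 3, 0], [0, 0, 4, 4, 0, 0], [2, 1, 3, 0, 0, 2], [4, 0, 3, 0, 0, 2, 0],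
  [4, 1, 4, 2, 1, 3, 0], [4, 0, 2, 1, 3, 0], [3, 2, 1, 4, 0, 3, 1], [3, 2, 1, 1, 2], [3, 1, 2, 0],
  [0, 0, 4, 0, 3, 1], [0, 0, 3, 3, 0, 0, 2, 0], [1, 4, 1, 1, 2, 0], [0, 4, 0, 3, 3, 1, 1],
  [0, 3, 1, 4, 2, 0, 0], [1, 4, 4, 1, 2, 0], [0, 0, 4, 0, 4, 0, 0], [1, 3, 0, 4, 4, 0, 0],
  [0, 0, 0, 4, 0, 0], [4, 1, 1, 3, 0], [2, 0, 3, 1, 3, 0], [3, 1, 1, 1], [4, 0, 2, 0, 0], [1, 2, 0, 3, 1],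
  [1, 4, 0, 3, 1, 3, 0], [1, 1, 4, 4, 1], [0, 3, 0, 0, 3, 2, 0], [4, 2, 0, 0, 0, 0], [3, 1, 1, 4, 1],
  [4, 1, 3, 0, 3, 0, 0], [4, 1, 3, 0, 0, 0, 0], [0, 4, 4, 0, 4, 0], [0, 0, 0, 3, 1, 4, 2, 0],
  [1, 2, 1, 1, 3, 3, 0], [3, 0, 2, 1, 1, 2], [2, 0, 0, 3, 2, 1], [4, 2, 0, 0, 4, 1], [0, 2, 1, 3, 0],
  [4, 4, 1, 3, 3, 0], [4, 1, 3, 0], [3, 0, 3, 3, 1], [3, 3, 2, 0, 0, 2, 0], [1, 4, 2, 0, 0, 2, 0],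
  [0, 0, 3, 0, 4, 1], [3, 3, 0, 2, 1, 1, 2], [3, 0, 0, 3, 0, 0, 0], [2, 0, 3, 1, 2, 0],
  [1, 4, 4, 2, 0, 3, 0, 0], [3, 3, 0, 4, 1, 3, 0], [4, 1, 3, 3, 0], [0, 0, 3, 1], [0, 3, 2, 1, 4, 2, 1],
  [4, 0, 4, 0, 3, 0], [1, 4, 0, 3, 0, 3, 0, 0], [1, 1, 4, 1, 1], [4, 0, 4, 1], [1, 1, 3, 0, 4, 4, 1],
  [3, 1, 4, 1, 4, 2, 0], [4, 0, 0, 4, 0, 0, 0], [3, 0, 2, 1, 3, 0], [3, 3, 0, 0, 3, 1], [1, 3, 1, 4, 0],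
  [3, 3, 0], [1, 3, 2, 1, 1, 3, 1], [1, 1, 4, 1, 4, 0, 0], [3, 0, 4, 4, 2, 0], [0, 4, 1, 1, 3, 3, 0],
  [3, 1, 1, 3, 1, 1], [3, 1, 4, 0, 0, 3, 0], [4, 0, 3, 3, 2, 0], [3, 3, 1, 4, 0, 3, 1],
  [0, 3, 1, 4, 1, 4, 1], [1, 4, 2, 1, 4, 1], [4, 1, 3, 0, 3, 3, 1], [4, 1, 1, 4, 0, 0], [0, 2, 1, 4, 1],
  [4, 1, 1, 1], [3, 3, 1, 1, 4, 1], [1, 1, 4, 0, 0, 3, 0], [2, 0, 3, 1, 3, 1], [2, 1, 3, 2, 1, 1],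
  [1, 1, 3, 1, 3, 3, 0], [0, 4, 0, 3, 0], [3, 3, 1, 4, 1, 1], [0, 0, 2, 1, 1, 3, 1], [0, 4, 0, 3, 1, 4, 0],
  [2, 0, 4, 4, 2, 1], [3, 3, 1, 3, 1], [1, 3, 2, 0, 3, 1], [3, 1, 3, 2, 0, 0], [0, 3, 3, 0, 0, 3, 0, 0],
  [0, 3, 3, 0, 0, 4, 1], [1, 3, 3, 0, 0, 0], [4, 4, 2, 0, 0, 4, 0], [3, 0, 0, 0, 0, 0], [2, 0, 0, 0, 0],
  [3, 0, 3, 0, 2, 0, 0], [1, 4, 0, 0], [0, 3, 3, 1, 2, 0], [0, 3, 2, 0, 3, 2, 0], [2, 1, 3, 0, 0, 3, 1],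
  [0, 3, 3, 1, 4, 0], [4, 4, 1, 4, 4, 2, 0], [2, 1, 4, 1, 1, 1, 1], [4, 0, 4, 0, 0, 0, 0], [0, 4, 1, 1],
  [2, 0, 0, 4, 1], [1, 2, 0, 0, 4, 0], [1, 3, 0, 0, 2, 0, 0], [4, 4, 1, 1], [3, 2, 1, 4, 4, 1],
  [4, 1, 3, 3, 1, 1], [4, 1, 3, 0, 2, 0], [3, 1, 3, 2, 1, 3, 0], [4, 0, 0, 0, 0, 3, 1], [1, 4, 2, 0, 4, 1],
  [0, 3, 1, 1], [0, 0, 3, 1, 1, 4, 0], [0, 3, 3, 2, 0, 3, 1], [4, 1, 4, 1, 4, 0, 0], [1, 3, 3, 0, 3, 0, 0],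
  [3, 1, 3, 0], [3, 1, 1, 1, 3, 3, 0], [0, 3, 0, 4, 4, 1], [4, 0, 0, 0, 0], [3, 3, 0, 2, 0],
  [2, 0, 3, 0, 0, 0, 0], [1, 3, 0, 0, 4, 1], [4, 1, 3, 3, 0, 2, 0], [1, 1, 1, 1, 1, 1],
  [0, 2, 1, 4, 0, 4, 0], [1, 4, 4, 1, 3, 1], [4, 1, 4, 1, 1, 1, 1], [4, 2, 1, 3, 0], [4, 0, 4, 4, 0, 0],
  [4, 1, 3, 0, 0, 0, 0, 0], [0, 3, 3, 1, 3, 1, 1], [4, 4, 1, 3, 1, 2, 0], [1, 4, 1, 3, 1],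
  [0, 0, 3, 3, 0, 3, 1], [3, 3, 0, 0, 0, 0], [1, 3, 3, 2, 0], [2, 0, 3, 2, 0, 4, 1], [1, 1, 1, 3, 3, 1],
  [1, 4, 4, 0], [0, 2, 0, 0], [2, 0, 4, 0, 0, 0], [2, 1, 3, 1, 1, 1, 1], [3, 0, 4, 4, 2, 0, 0],
  [1, 1, 1, 4, 0, 0, 0], [3, 1, 4, 1, 3, 3, 0], [3, 3, 1, 3, 2, 0], [3, 0, 3, 0], [0, 0, 4, 0, 2, 0],
  [3, 1, 2, 0, 0, 0, 0], [3, 3, 0, 4, 4, 1], [0, 4, 1, 4, 4, 0], [4, 1, 4, 2, 0], [1, 4, 0, 4, 4, 2, 0],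
  [4, 4, 1, 3, 1, 1], [0, 0, 3, 1, 4, 0], [4, 0, 0, 4, 1], [1], [0, 0, 0, 3, 3, 0], [0, 3, 0, 0, 0, 0],
  [3, 2, 1, 1, 1, 1, 2], [2, 1, 4, 1, 1], [0, 0, 2, 1, 1, 2], [0, 4, 4, 1, 1, 1], [4, 4, 0, 0, 3, 0, 0],
  [1, 3, 1, 4, 2, 0], [4, 0, 0, 0, 0, 0], [2, 0, 0, 3, 3, 2, 0, 0], [4, 0, 3, 0, 3, 1],
  [2, 1, 4, 1, 4, 0, 0], [3, 1, 1, 1, 3, 0], [1, 1, 4, 2, 0], [2, 0, 3, 0, 2], [3, 1, 1, 3, 3, 0],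
  [3, 0, 0, 0, 3, 3, 1], [0, 4, 1, 4, 0, 0], [2, 1, 1, 1, 4, 1, 1], [1, 1, 2, 0, 3, 0, 0],
  [4, 1, 3, 0, 3, 1, 1], [3, 0, 3, 1], [2, 0, 0, 3, 0, 0, 2], [1, 1, 1, 1, 4, 0], [1, 4, 1],
  [0, 0, 0, 3, 0, 0, 0], [0, 3, 1, 3, 1], [3, 2, 0, 3, 0, 4, 1], [0, 3, 0, 3, 2, 0], [3, 3, 0, 3, 0, 3, 1],
  [0, 3, 0, 4, 2, 0, 0], [0, 4, 2, 0, 0], [0, 3, 1, 4, 4, 0, 0], [0, 2, 0, 0, 4, 0, 0, 0], [0, 3, 0, 2, 0],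
  [2, 0, 3, 1, 3, 0, 0], [4, 1, 1, 3, 0, 3, 0, 0], [1, 4, 0, 4, 0, 0], [3, 1, 3, 1, 2, 0],
  [4, 0, 3, 1, 3, 0, 2, 0], [1, 4, 4, 1, 3, 0, 0], [4, 0, 4, 0], [3, 2, 0, 4, 2, 1], [2, 0, 0, 4, 1, 2, 0],
  [1, 2, 0, 4, 2, 1], [4, 4, 0, 4, 4, 0], [4, 1, 4, 1, 2, 0], [0, 4, 4, 0, 2, 0, 0], [4, 2, 1, 3, 1],
  [3, 1, 1, 1, 2, 0], [1, 4, 4, 1, 1, 1, 1], [2, 0], [4, 0, 0, 3, 2, 0], [0, 0, 0, 3, 2, 0],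
  [3, 1, 1, 4, 4, 0], [0, 4, 0, 0, 2, 0], [3, 2, 1, 4, 1, 2, 0], [3, 1, 1, 3, 2, 0], [4, 0, 3, 0, 2, 0],
  [0, 4, 4, 1, 3, 0], [3, 3, 2, 0, 3, 0, 0], [0, 3, 1, 3, 1, 1], [3, 3, 2, 0, 0], [1, 1, 4, 0, 0, 2, 0],
  [3, 1, 4, 2, 1, 3, 0], [1, 3, 0, 3, 0, 0, 0], [3, 3, 0, 4, 0, 3, 0], [0, 3, 1, 1, 3, 0], [3, 2, 1, 3, 0],
  [1, 4, 4, 0, 4, 1, 1], [4, 1, 4, 1, 4, 2, 0], [2, 0, 4, 0, 2], [1, 4, 0, 4, 0, 2, 0], [2, 1, 1, 1, 1, 2],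
  [4, 0, 4, 2, 1, 4, 1], [1, 1, 3, 2, 0], [3, 3, 0, 4, 4, 0], [1, 1, 4, 0, 0, 4, 0], [4, 0, 0, 0, 3, 1],
  [1, 1, 2, 0, 3, 3, 0], [1, 1, 1, 4, 1, 2, 0], [2, 1, 4, 1, 3, 0], [3, 0, 3, 0, 3, 1], [1, 1, 1, 1, 3, 1],
  [1, 1, 3, 0, 0], [3, 0, 4, 0, 3, 1], [4, 4, 0, 0, 4, 0, 0], [4, 1, 4, 1], [1, 3, 3, 1, 1, 1],
  [3, 1, 3, 1, 1, 1], [3, 3, 2, 1, 3, 0], [4, 4, 1, 4, 1, 3, 1], [1, 1, 4, 0, 3, 0, 0],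
  [4, 1, 1, 3, 1, 2, 0], [3, 2, 0, 0], [3, 2, 0, 3, 1, 1], [4, 1, 1, 4, 2, 0], [0, 3, 0, 0, 4, 0],
  [0, 3, 3, 1, 1], [0, 3, 0], [3, 3, 1, 4, 0, 0], [0, 4, 1, 1, 4, 0], [4, 0, 3, 1, 2, 0],
  [0, 0, 3, 0, 3, 3, 0, 0], [4, 1, 1, 1, 3, 0], [1, 1, 1, 3, 0], [0, 0, 0, 0, 0, 0], [1, 1, 3, 1, 2, 0],
  [4, 1, 1, 1, 3, 0, 0], [1, 3, 1, 4, 2, 0, 0], [4, 4, 0, 3, 0, 2, 0], [1, 1, 4, 0, 2, 0, 0],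
  [1, 3, 0, 0, 3, 2, 0], [0, 3, 1, 3, 0, 0], [1, 4, 1, 4, 0, 3, 0], [3, 1, 1, 1, 4, 0], [3, 0, 0, 2, 0],
  [4, 0, 4, 2, 0, 0], [1, 4, 1, 1, 3, 2, 0], [4, 0, 3, 3, 0, 3, 0], [4, 1, 1, 3, 0, 0], [1, 1, 4, 0, 4, 1],
  [1, 1, 3, 3, 0], [4, 0, 4, 1, 1, 3, 0], [4, 4, 1, 4, 0, 0], [4, 1, 3, 3, 1, 1, 1], [0, 4, 0, 0, 3, 0],
  [1, 4, 0, 3, 0], [0, 4, 1, 4, 1, 3, 0], [0, 0, 3, 1, 2, 0], [0, 3, 0, 3, 0, 2, 0], [1, 1, 2, 0, 0, 0, 0],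
  [0, 3, 3, 0, 3, 0], [0, 4, 4, 2, 1, 3, 0], [4, 0, 3, 1, 3, 0, 0], [4, 0, 3, 1, 1, 3, 0],
  [1, 3, 3, 0, 0, 4, 0, 0], [1, 3, 1, 1], [0, 4, 1, 1, 2, 0], [3, 0, 3, 1, 1, 3, 0], [4, 4, 0, 0, 4, 1],
  [0, 3, 1, 1, 3, 0, 0], [2, 1, 4, 4, 1, 1, 1], [4, 4, 2, 0, 0], [0, 3, 1, 3, 3, 0], [4, 0, 2, 0],
  [3, 0, 3, 3, 2, 0], [3, 0, 2, 0, 0], [1, 4, 4, 1, 1, 1], [0, 3, 3, 2, 0, 0, 0, 0], [1, 4, 0, 4, 1, 1],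
  [3, 3, 1, 1, 4, 0], [1, 1, 3, 0, 3, 1], [0, 4, 4, 1, 2, 0], [1, 3, 0, 4, 2, 0, 0], [3, 3, 1, 3, 2, 0, 0],
  [1, 4, 1, 1, 4, 4, 1], [3, 0, 4, 1, 2, 0], [4, 0, 0, 4, 2, 0, 0], [4, 4, 2, 0], [0, 0, 3, 1, 4, 1, 1],
  [0, 3, 2, 0], [1, 4, 1, 2, 0, 3, 1], [4, 1, 3, 0, 2, 0, 0], [3, 0, 0, 0, 4, 0], [2, 1, 3, 0, 0, 3, 0],
  [1, 4, 1, 1, 4, 1, 1], [3, 1, 4, 1, 3, 1]]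

/-- part 2 of the words in `gens24` mapping the dodecad of squares onto the dodecads -/
def certsD2 : List (List ℕ) := [
  [4, 1, 3, 2, 0, 0], [0, 0, 4, 1, 1, 3, 0], [1, 1, 4, 1, 4, 1], [0, 3, 0, 3, 0, 0], [3, 1, 3, 3, 1],
  [2, 1, 1, 1, 1, 1], [2, 0, 3, 1, 1, 1], [3, 0, 3, 3, 0, 0], [0, 0, 0, 0], [0, 0, 4, 1, 2, 0],
  [1, 3, 1, 3, 0, 0], [2, 0, 4, 1], [3, 1, 4, 4, 0, 4, 0], [1, 1, 1, 1, 3, 3, 0], [4, 1, 4, 4, 2, 0],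
  [4, 4, 0, 3, 1], [4, 4, 0, 0, 2, 0], [0, 0, 4, 0, 2, 1, 3, 1], [1, 4, 4, 1, 3, 2, 0], [2, 1, 3, 2, 1],
  [4, 4, 0, 3, 0, 0], [1, 3, 3, 1, 4, 4, 0], [4, 1, 4, 0, 0, 0], [0, 4, 0, 0, 0, 2, 0, 0], [3, 3, 0, 0],
  [3, 1, 4, 4, 0], [3, 0, 0, 0, 0, 2, 0, 0], [4, 1, 2, 0], [4, 4, 1], [4, 0, 2, 1, 3, 1],
  [1, 3, 0, 3, 2, 0, 0], [1, 1, 3, 3, 0, 0], [3, 2, 0, 0, 0, 0], [3, 0, 0, 4, 1, 1],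
  [4, 4, 1, 4, 0, 3, 0, 0], [4, 0], [4, 2, 0, 4, 2, 1], [3, 1, 3, 2, 0, 3, 1], [4, 1, 1, 1, 2, 0],
  [0, 0, 4, 0], [2, 0, 0, 0, 0, 4, 0], [1, 3, 1, 1, 4, 2, 0], [0, 4, 4, 2, 0, 4, 2, 1],
  [3, 1, 1, 1, 3, 3, 1], [3, 1, 1, 3, 1], [3, 3, 0, 0, 0, 4, 4, 0], [3, 1, 3, 0, 4, 4, 1], [4, 0, 4, 4, 1],
  [0, 3, 3, 1, 1, 3, 2, 0], [0, 0, 0, 4, 1], [0, 0, 0, 0, 4, 0], [3, 1, 1, 1, 4, 0, 0], [1, 3, 1],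
  [2, 0, 3, 0, 2, 1], [0, 3, 0, 0], [0, 0, 3, 3, 0, 0, 0], [1, 4, 0, 4, 4, 0], [3, 1, 4, 4, 1],
  [4, 1, 3, 0, 3, 1], [3, 0, 3, 1, 1], [4, 4, 1, 4, 4, 0], [2, 0, 0, 0, 3, 0, 2, 0],
  [4, 0, 0, 0, 4, 0, 2, 0], [0, 3, 1, 1, 4, 2, 0], [4, 4, 0, 4, 1, 1, 1], [4, 1, 1, 1, 1, 4, 0],
  [3, 0, 4, 4, 0], [2, 0, 0, 2, 0], [0, 4, 1, 1, 1, 1], [0, 4, 0, 3, 3, 1], [1, 3, 0, 0, 3, 1],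
  [1, 4, 0, 0, 3, 1], [1, 1, 4, 2, 0, 0], [0, 4, 0, 0, 4, 0, 0], [3, 2, 1, 1, 1, 2, 0],
  [3, 0, 3, 3, 0, 0, 0], [1, 4, 4, 0, 3, 0], [0, 0, 2, 1, 1, 4, 0], [0, 0, 4, 1, 3, 0], [4, 4, 2, 1, 3, 1],
  [4, 1, 4, 4, 1], [0, 4, 4, 0, 0], [2, 0, 3, 2, 0, 0, 2], [3, 0, 2, 1, 4, 1], [4, 4, 1, 4, 2, 0],
  [1, 3, 2, 1, 1, 2], [0, 4, 0, 3, 1], [0, 3, 3, 0, 0, 2, 0], [3, 0, 3, 3, 1, 2, 0], [0, 4, 2, 0, 0, 2, 0],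
  [0, 0, 4, 0, 0], [1, 4, 1, 1, 3, 0], [1, 3, 1, 1, 1], [1, 1, 2, 0, 3, 1], [1, 1, 1, 4, 4, 1],
  [2, 1, 3, 1, 3, 3, 0], [4, 4, 0, 4, 0], [4, 0, 3, 0, 0, 0, 0], [1, 2, 0, 0, 3, 2, 1], [2, 1, 3, 0],
  [2, 1, 3, 3, 1, 2], [1, 3, 0, 3, 3, 1], [0, 3, 0, 4, 1], [1, 3, 0, 0, 3, 0, 0, 0], [4, 0, 0, 3, 1, 4, 0],
  [1, 4, 1, 3, 3, 0], [0, 3, 1], [1, 1, 1, 4, 1, 1], [4, 4, 1, 4, 0, 4, 1], [4, 0, 3, 0, 0, 4, 0],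
  [3, 0, 4, 0, 3, 0], [1, 3, 3, 0, 0, 3, 1], [3, 3, 1, 3, 0], [0, 0, 4, 1, 3, 3, 0], [0, 0, 4, 1, 3, 2, 0],
  [1, 3, 0, 4, 4, 2, 0], [1, 3, 1, 1, 3, 1, 1], [0, 0, 0, 0, 3, 1], [0, 4, 0, 3, 0, 0],
  [4, 0, 0, 3, 0, 0, 0], [1, 4, 1, 1, 1], [2, 0, 3, 1, 1], [0, 0, 0, 3, 3, 1], [0, 2, 1, 1, 3, 1],
  [3, 1, 1, 1, 1, 1], [3, 1, 4, 0, 2, 0], [3, 3, 0, 0, 4, 1], [1, 3, 0, 0, 0, 0, 0], [4, 1, 1, 4, 0, 4, 1],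
  [1, 1, 4, 0, 0], [3, 2, 0, 3, 2, 0], [3, 0, 3, 1, 1, 1], [4, 1, 1], [3, 1, 3, 0, 2, 0, 0], [3, 1, 4, 0, 0],
  [2, 1, 4, 1, 2, 0], [1, 4, 1, 3, 0, 2, 0], [0, 0, 4, 0, 4, 1], [0, 3, 1, 1, 4, 0],
  [1, 1, 3, 3, 0, 3, 0, 0], [2, 0, 3, 1, 3, 0, 2, 0], [3, 0, 4, 4, 1], [1, 3, 3, 0, 2, 0],
  [3, 1, 1, 3, 3, 1], [3, 1, 4, 1, 2, 0], [4, 0, 0, 4, 0, 2, 0], [3, 0, 0, 3, 3, 2, 0], [3, 0, 0, 0, 3, 1],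
  [4, 1, 4, 0, 4, 0], [0, 3, 3, 0, 3, 1], [3, 3, 1, 1, 4, 2, 0], [1, 1, 4, 4, 0], [0, 0, 0, 0, 4, 1, 1],
  [0, 3, 1, 2, 0, 3, 1], [0, 4, 4, 0, 0, 0, 0], [4, 0, 3, 1, 1], [4, 1, 3, 0, 0], [3, 0, 0, 3, 1, 2, 0],
  [4, 1, 4, 1, 1, 2, 0], [1, 4, 1, 4, 2, 0], [3, 3, 1, 4, 2, 0, 0], [0, 3, 1, 4, 0], [1, 1], [0, 0, 3, 3, 0],
  [0, 0, 3, 0, 4, 4, 0], [0, 2, 1, 1, 2], [0, 3, 2, 1, 1, 3, 1], [0, 0, 0, 0, 3, 0], [1, 4, 0, 0, 0, 0, 0],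
  [0, 4, 1, 3, 1, 3, 0], [4, 1, 4, 1, 3, 1], [1, 1, 1, 4, 2, 0], [4, 4, 2, 0, 3, 1], [0, 3, 0, 0, 3, 0, 0],
  [4, 1, 4, 0, 0], [4, 1, 3, 3, 2, 0], [3, 3, 1, 1, 1, 1, 1], [4, 1, 4, 0, 0, 4, 0], [0, 4, 0, 0, 3, 1],
  [0, 0, 3, 0, 0, 0], [4, 1, 4, 0, 4, 1], [4, 2, 0, 0], [3, 0, 2, 0], [4, 4, 1, 3, 0, 3, 3, 1],
  [3, 2, 0, 0, 2, 0], [1, 3, 1, 3, 1, 2, 0], [1, 4, 0, 4, 0], [2, 0, 3, 0, 0, 2, 1], [2, 0, 4, 0, 3, 0],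
  [4, 4, 1, 3, 1, 3, 0], [4, 4, 0, 2, 0, 0], [2, 1, 3, 0, 3, 0, 0], [1, 4, 0, 0, 3, 2, 0],
  [4, 0, 3, 2, 1, 3, 0], [1, 3, 1, 1, 3, 2, 0], [1, 4, 0, 3, 0, 2, 0], [4, 4, 1, 3, 0], [3, 1, 3, 1, 1],
  [3, 1, 3, 0, 3, 3, 1], [3, 1, 3, 1, 3, 0], [3, 1, 1, 3, 0], [3, 0, 3, 0, 3, 0, 2, 0], [3, 1, 1, 4, 0, 0],
  [4, 1, 3, 0, 4, 1], [3, 3, 1, 1, 1, 4, 1], [1, 1, 1, 3, 2, 0], [1, 3, 3, 0, 4, 4, 0],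
  [0, 4, 0, 2, 1, 4, 1], [3, 3, 1, 3, 0, 2, 0, 0], [0, 4, 2, 1, 4, 1], [1, 1, 1, 3, 0, 0],
  [4, 4, 0, 3, 0, 3, 0], [1, 3, 1, 3, 1, 1, 1], [1, 4, 4, 1, 4, 1, 3, 1], [3, 0, 4, 0, 3, 3, 1],
  [1, 4, 1, 1, 4, 2, 0], [3, 3, 1, 1], [3, 0], [4, 1, 1, 1, 4, 1], [4, 1, 1, 4, 0], [3, 0, 0, 4, 0, 0],
  [1, 1, 1, 1, 3, 0], [0, 2, 1, 1, 4, 1], [0, 0, 4, 1, 1, 1], [3, 2, 0, 4, 1, 3, 0], [0, 3, 1, 1, 1, 1],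
  [4, 0, 4, 1, 4, 1, 1], [3, 1, 4, 1, 1, 1], [2, 0, 0, 2, 1, 1], [1, 4, 1, 1, 3, 0, 0], [0, 3, 2, 1, 1, 2],
  [4, 0, 0, 3, 0], [4, 0, 3, 2, 0, 0], [0, 3, 1, 2, 0], [4, 4, 2, 1, 3, 0], [2, 0, 0, 4, 0, 2, 0],
  [1, 1, 3, 1, 1], [4, 1, 1, 2, 0], [0, 0, 3, 3, 0, 4, 0], [3, 1, 1, 3, 0, 0], [3, 1, 3, 3, 0],
  [1, 4, 0, 2, 0], [3, 3, 2, 1, 3, 1], [4, 1, 3, 3, 1], [3, 0, 0, 4, 0, 0, 0], [4, 4, 1, 2, 0],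
  [4, 1, 1, 1, 4, 1, 1], [4, 1, 1, 4, 4, 0], [3, 0, 4, 4, 0, 0], [0, 3, 1, 4, 1, 1], [2, 1, 1, 4, 2, 0, 0],
  [1, 3, 0, 0, 0, 4, 0], [2, 1, 4, 4, 0, 0, 2], [1, 3, 1, 4, 1, 3, 1], [0, 4, 1, 1, 3, 0],
  [0, 0, 0, 3, 1, 3, 0], [1, 3, 1, 3, 3, 1], [1, 3, 0, 3, 3, 0, 0], [0, 3, 1, 1, 1],
  [4, 0, 3, 3, 0, 0, 2, 0], [3, 0, 4, 4, 1, 3, 0], [0, 4, 0, 2, 0, 0], [4, 0, 0, 4, 1, 3, 2, 0],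
  [2, 0, 3, 1], [0, 2, 1, 4, 4, 1], [4, 0, 0, 0, 2, 0, 0], [4, 0, 3, 1, 3, 0], [4, 1, 3, 1, 3, 0, 0],
  [1, 4, 4, 1], [0, 3, 2, 0, 3, 1], [4, 1, 1, 3, 0, 2, 0], [3, 1, 4, 0, 4, 1], [4, 0, 3, 3, 0, 4, 0],
  [0, 4, 2, 0, 0, 0, 0], [4, 4, 2, 0, 4, 2, 1], [0, 3, 1, 1, 4, 1], [3, 1, 1, 3, 0, 4, 1],
  [1, 4, 0, 4, 4, 1], [3, 3, 1, 1, 3, 2, 0], [3, 0, 3, 0, 4, 1], [4, 1, 3, 1, 1, 1], [0, 3, 3, 0, 0, 0],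
  [4, 2, 0, 3, 1, 1], [1, 4, 1, 3, 0, 3, 1], [2, 1, 1, 3, 3, 0], [0, 3, 0, 2, 1, 1, 2],
  [0, 3, 1, 3, 3, 0, 0], [3, 1, 4, 1, 3, 0], [4, 1, 1, 1, 1], [4, 0, 3, 3, 1], [4, 0, 4, 1, 1, 1],
  [4, 0, 0, 4, 0, 0], [0, 0, 2, 1, 3, 0], [4, 1, 4, 1, 1, 1], [0, 2, 1, 1, 4, 0], [0, 4, 1, 3, 0],
  [0, 2, 0, 0, 0, 3, 2, 0], [0, 3, 0, 3, 3, 1], [0, 0, 3, 0, 0, 4, 1], [3, 3, 0, 0, 2, 0],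
  [4, 2, 0, 0, 2, 0], [0, 4, 0, 0], [1, 1, 3, 1, 1, 1], [2, 0, 3, 1, 4, 2, 0], [1, 4, 4, 0, 4, 0],
  [3, 0, 3, 3, 1, 4, 0, 0], [2, 0, 3, 3, 0, 2, 0], [2, 1, 3, 0, 2, 0, 0], [4, 4, 2, 0, 3, 0, 0],
  [4, 4, 0, 3, 0, 0, 0, 0], [3, 1, 2, 0, 3, 1, 3, 0], [0, 4, 1, 3, 3, 0], [0, 4, 1, 3, 2, 0],
  [0, 0, 0, 3, 1], [3, 0, 3, 1, 3, 0, 0], [0, 0, 3, 3, 1], [2, 1, 1, 3, 1], [1, 3, 1, 4, 0, 2, 0],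
  [4, 0, 3, 0, 3, 0, 0], [1, 1, 1, 4, 0, 0], [1, 4, 1, 1], [3, 0, 0, 3, 0], [0, 4, 0, 4, 1],
  [3, 0, 0, 4, 1, 3, 2, 0], [1, 3, 0, 4, 4, 1], [4, 4, 0, 2, 1, 3, 1], [0, 4, 0, 0, 4, 0, 0, 0],
  [1, 1, 1, 4, 4, 0], [0, 0, 0, 4, 1, 1], [4, 4, 0, 0, 0, 0], [1, 4, 1, 3, 0, 0], [0, 3, 3, 0, 0, 3, 1],
  [3, 3, 0, 0, 3, 0], [4, 1, 3, 1, 2, 0], [3, 1, 4, 0], [1, 1, 1], [0, 3, 3, 0], [3, 2, 1, 1, 3, 1],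
  [0, 3, 0, 0, 2, 0, 0], [4, 1, 2, 0, 3, 2, 0], [3, 0, 0, 3, 0, 0], [1, 4, 1, 4, 0, 0],
  [2, 0, 0, 3, 1, 2, 1], [0, 3, 0, 0, 0], [4, 1, 4, 0, 3, 1], [1, 3, 0, 2, 0], [2, 0, 4, 1, 3, 1, 1],
  [4, 0, 4, 1, 4, 4, 1], [3, 0, 4, 1, 3, 0], [0, 3, 1, 4, 0, 0, 3, 0], [4, 1, 3, 1, 4, 0],
  [1, 3, 1, 3, 1, 1], [1, 3, 1, 3, 1, 3, 0], [1, 3, 1, 1, 3, 0], [1, 3, 1, 1, 4, 0, 0],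
  [4, 1, 2, 0, 4, 0, 3, 0], [4, 0, 4, 4, 0, 4, 0], [4, 2, 1, 4, 1], [1, 1, 1, 1, 3, 0, 0],
  [4, 4, 1, 1, 1, 4, 0], [3, 0, 4, 2, 1, 3, 0], [0, 4, 2, 0, 4, 1], [1, 3, 3, 1, 1], [4, 4, 2, 0, 0, 0, 0],
  [1, 3, 0, 0, 4, 0, 0], [2, 1, 1, 4, 1], [0, 4, 1, 1, 1], [3, 1, 1, 1, 1], [1, 2, 0, 0, 2, 1, 1],
  [1, 4, 0, 0, 3, 0], [1, 4, 0, 3, 2, 0, 0], [1, 1, 1, 3, 1, 1], [0, 3, 3, 0, 4, 0], [1, 3, 1, 1, 3, 0, 0],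
  [1, 3, 1, 3, 3, 0], [1, 1, 4, 0, 2, 0], [3, 0, 0, 4, 4, 0], [0, 4, 4, 0, 2, 0], [3, 1, 4, 1, 1],
  [0, 3, 3, 1, 4, 1, 1], [0, 0, 0, 3, 3, 2, 0], [4, 4, 1, 1, 4, 1], [0, 0, 3, 1, 3, 0], [3, 0, 0, 3, 3, 1],
  [4, 1, 3, 1, 1, 4, 1], [0, 4, 2, 1, 1, 4, 0], [3, 1, 1, 3, 1, 3, 3, 0], [2, 1, 4, 4, 1],
  [0, 3, 1, 4, 4, 2, 0], [4, 1, 3, 1, 3, 1], [3, 2, 0, 3, 1], [0, 0, 4, 0, 0, 0, 0], [2, 1, 4, 0, 3, 1],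
  [3, 0, 2, 1, 3, 2, 1], [3, 3, 1, 3, 2, 1, 3, 0], [0, 0, 3, 3, 0, 2, 0], [1, 4, 1, 3, 1, 1, 1],
  [3, 3, 0, 0, 0], [3, 1, 3, 3, 0, 0], [1, 4, 1, 1, 1, 1]]

/-- part 3 of the words in `gens24` mapping the dodecad of squares onto the dodecads -/
def certsD3 : List (List ℕ) := [
  [1, 4, 0, 3, 3, 1], [0, 3, 0, 0, 0, 0, 0], [2, 1, 1, 4, 0], [2, 0, 0, 0, 3, 2, 0], [0, 3, 0, 0, 4, 1],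
  [4, 0, 0], [0, 0, 3, 3, 1, 2, 0], [3, 3, 0, 4, 4, 0, 0], [4, 2, 0, 4, 0, 4, 1], [4, 1, 3, 2, 0],
  [0, 3, 3, 1], [3, 2, 0, 0, 4, 0], [1, 1, 1, 1, 4, 0, 0], [1, 3, 0, 0, 3, 0], [3, 3, 0, 3, 1, 3, 1],
  [4, 2, 0, 3, 0, 0], [0, 0, 4, 1, 1], [0, 0, 0, 4, 4, 0], [4, 2, 0, 0, 4, 0], [2, 0, 0, 4, 0], [1, 1, 1, 1],
  [3, 0, 0, 2, 0, 0], [4, 0, 0, 4, 0, 4, 1], [1, 3, 0, 0, 3, 0, 0], [3, 1, 3, 0, 0, 4, 1], [3, 0, 0, 0],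
  [1, 1, 3, 0, 2, 0], [0, 4, 1, 3, 3, 1, 1], [0, 4, 1, 3, 0, 2, 0], [0, 4, 4, 1, 3, 1],
  [4, 4, 1, 4, 0, 3, 1], [1, 4, 0, 4, 4, 0, 4, 0], [2, 1, 1, 1, 3, 2, 0], [4, 4, 1, 3, 0, 3, 1],
  [4, 2, 0, 4, 1], [4, 0, 3, 2, 0], [3, 3, 0, 4, 4, 2, 0], [1, 3, 1, 1, 1, 1], [3, 3, 0, 0, 4, 0, 0, 0],
  [3, 3, 0, 4, 0], [2, 0, 4, 0, 4, 0, 0], [3, 3, 0, 3, 0, 0], [4, 4, 0, 2, 0], [0, 0, 3, 3, 2, 0],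
  [0, 3, 1, 3, 0], [1, 3, 0, 0, 3, 3, 1], [4, 2, 1, 1, 4, 0], [2, 0, 4, 4, 1, 1, 1], [3, 1, 4, 4, 2, 0],
  [0, 4, 0, 0, 0, 0], [4, 1, 1, 4, 1, 4, 1], [0, 3, 3, 0, 2, 0], [3, 1, 3, 1, 4, 0], [1, 1, 4, 0, 3, 3, 1],
  [3, 0, 0, 4, 1], [3, 0, 4, 0], [3, 3, 1], [2, 1, 4, 0, 0, 4, 1], [0, 0, 4, 4, 0], [1, 1, 1, 1, 1],
  [3, 3, 0, 0, 0, 0, 0], [3, 0, 0, 0, 4, 4, 0], [2, 0, 0, 3, 2, 0, 0], [4, 4, 1, 3, 1],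
  [4, 1, 4, 4, 1, 1, 1], [0, 0, 0, 0, 2, 0, 0], [3, 3, 1, 4, 0, 4, 1], [0, 4, 2, 1, 3, 0],
  [1, 4, 4, 0, 2, 0], [0, 3, 3, 2, 0], [4, 4, 1, 4, 0, 0, 0], [1, 3, 1, 4, 4, 2, 0], [2, 0, 0, 0, 0, 0, 0],
  [1, 3, 1, 3, 1, 4, 0], [4, 1, 3, 1], [1, 3, 3, 1], [0, 4, 4, 0], [1, 3, 3, 0, 0, 0, 0, 0],
  [3, 0, 3, 1, 4, 4, 0], [0, 0, 0, 2, 0, 0], [0, 3, 3, 0, 0, 0, 0], [3, 3, 2, 0], [2, 1, 3, 0, 4, 1],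
  [1, 1, 3, 3, 1], [4, 4, 0], [0, 2, 1, 1, 1, 2, 0], [0, 0, 2, 0, 0], [2, 1, 1, 1, 2, 0],
  [2, 1, 1, 1, 1, 2, 1], [0, 2, 1, 1, 2, 1], [3, 2, 1, 1, 1, 4, 0], [4, 4, 0, 2], [1, 1, 3, 3, 1, 2],
  [3, 0, 2, 1, 1, 1], [3, 3, 1, 2, 1], [0, 4, 4, 0, 0, 2, 1], [4, 2, 1, 4, 4, 2, 0], [3, 3, 0, 0, 2, 1, 1],
  [1, 2, 0, 0, 3, 1, 2, 0], [0, 4, 4, 0, 2], [1, 3, 3, 1, 2], [4, 1, 3, 1, 2], [0, 3, 0, 2, 1, 1, 1],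
  [0, 2, 1, 1, 4, 0, 0], [3, 2, 1, 4, 2, 1, 1], [0, 4, 4, 2, 1, 1, 1, 1], [2, 0, 4, 4, 0], [1, 4, 4, 2, 1],
  [0, 4, 2, 1, 3, 0, 2], [2, 0, 3, 3, 0, 0, 0], [0, 4, 2, 1, 4, 4, 2, 0], [0, 0, 3, 3, 0, 3, 2, 1],
  [4, 4, 1, 3, 1, 2], [1, 1, 2, 0, 0, 3, 2, 0], [3, 0, 2, 1, 3, 3, 0], [2, 0, 0, 3, 1, 2, 0],
  [1, 1, 1, 1, 1, 2], [2, 1, 3, 3, 0], [0, 4, 1, 3, 3, 2, 1], [3, 3, 1, 2], [3, 0, 4, 0, 2],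
  [3, 0, 0, 4, 1, 2], [1, 1, 4, 4, 2, 1, 1, 1], [4, 0, 4, 4, 2, 1], [0, 3, 3, 2, 1],
  [3, 1, 2, 0, 3, 2, 0, 0], [0, 0, 0, 2, 1], [3, 1, 4, 4, 1, 2, 1], [0, 0, 3, 2, 0, 0, 3, 0],
  [3, 1, 4, 2, 0, 4, 0], [1, 3, 2, 0, 0, 3, 1], [0, 3, 1, 3, 0, 2], [2, 1, 4, 4, 2, 0], [4, 4, 2, 1],
  [1, 3, 2, 1, 3, 3, 0], [1, 1, 1, 4, 2, 1], [3, 3, 0, 4, 0, 2], [1, 4, 1, 4, 0, 2, 1],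
  [1, 3, 1, 1, 1, 1, 2], [2, 1, 3, 3, 1, 4, 0], [4, 0, 3, 1, 2, 1], [3, 1, 4, 4, 2, 1],
  [1, 2, 0, 0, 0, 4, 0], [3, 1, 1, 1, 4, 2, 1], [1, 1, 2, 1, 1, 4, 1, 1], [3, 1, 1, 1, 2, 0, 4, 0],
  [0, 4, 4, 1, 3, 1, 2], [0, 4, 1, 3, 2, 1], [1, 1, 2, 0, 0, 0, 0, 0], [1, 1, 3, 2, 1], [3, 0, 0, 0, 2],
  [1, 2, 0, 0, 3, 2, 0], [2, 1, 4, 4, 1, 3, 1], [4, 2, 1, 1, 3, 2, 0], [4, 1, 3, 3, 2, 1, 1],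
  [1, 1, 1, 1, 2], [2, 0, 0, 4, 0, 2], [4, 2, 0, 0, 4, 0, 2], [0, 2, 1, 3, 3, 0], [0, 0, 4, 1, 1, 2],
  [1, 3, 2, 0, 4, 0], [3, 1, 4, 4, 0, 2, 1], [1, 3, 2, 0, 4, 4, 1], [1, 1, 4, 1, 2, 0, 4, 0],
  [1, 4, 1, 3, 2, 1, 1], [4, 2, 1, 1, 1], [4, 1, 3, 1, 2, 1], [4, 0, 2, 1, 3, 2, 0],
  [1, 2, 0, 0, 4, 1, 1, 1], [0, 0, 3, 3, 1, 1, 2, 1], [4, 0, 0, 2], [2, 1, 4, 1, 3, 3, 0],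
  [1, 1, 2, 0, 3, 2, 0, 0], [2, 1, 1, 4, 0, 2], [2, 0, 3, 3, 2, 1, 1], [1, 4, 4, 2, 1, 1, 1],
  [4, 0, 0, 0, 3, 2, 1], [1, 3, 2, 1, 3, 2, 0], [3, 3, 0, 0, 0, 2], [0, 4, 4, 2, 0, 4, 0],
  [0, 0, 3, 3, 2, 1], [3, 2, 1, 1, 2, 0, 4, 0], [2, 0, 3, 0, 3, 1, 1], [2, 1, 4, 0, 3, 1, 2],
  [0, 0, 0, 0, 2, 1], [3, 2, 0, 3, 1, 2], [4, 1, 3, 1, 3, 1, 2], [0, 3, 1, 4, 4, 1, 2, 1],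
  [2, 1, 4, 4, 1, 2], [2, 1, 4, 0, 3, 3, 1], [3, 1, 3, 3, 2, 0, 3, 0], [1, 2, 0, 4, 1, 1, 2, 0],
  [3, 2, 0, 0, 3, 1], [0, 0, 3, 1, 3, 0, 2], [4, 4, 1, 1, 4, 1, 2], [2, 0, 4, 4, 2, 0, 0],
  [4, 0, 3, 0, 3, 2, 1, 1], [3, 1, 4, 1, 1, 2], [0, 4, 4, 2, 1], [3, 2, 1, 3, 3, 0], [1, 1, 4, 2, 1],
  [3, 1, 1, 2, 1, 1], [1, 4, 1, 3, 0, 2, 1, 1], [2, 1, 4, 0, 4, 1], [3, 3, 0, 2, 1, 1, 1],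
  [4, 1, 4, 0, 2, 1], [1, 4, 2, 0, 4, 4, 1], [3, 1, 4, 2, 0, 0, 3, 0], [3, 1, 1, 1, 1, 2],
  [2, 1, 3, 3, 2, 1], [2, 1, 1, 4, 1, 2], [2, 1, 4, 1, 3, 1], [4, 2, 0, 0, 2, 1], [1, 3, 3, 1, 1, 2],
  [3, 3, 2, 0, 4, 0], [0, 4, 1, 2, 1, 1, 1], [2, 0, 0, 0, 4, 0], [4, 2, 1, 3, 0, 3, 1], [4, 2, 1, 4, 1, 2],
  [1, 2, 1, 1, 4, 1, 1], [3, 0, 3, 0, 3, 2, 1, 1], [1, 1, 2, 0, 4, 0], [1, 4, 2, 1, 1],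
  [2, 1, 3, 1, 3, 1, 3, 0], [1, 2, 0, 4, 1, 2, 0], [1, 1, 4, 0, 3, 2, 1], [2, 0, 3, 2, 1, 1, 1],
  [3, 0, 4, 1, 3, 0, 2], [1, 2, 0, 0, 0, 0, 0], [0, 0, 3, 0, 3, 2, 1, 1], [1, 3, 2, 1],
  [4, 1, 4, 0, 3, 1, 2], [2, 0, 3, 0, 0, 0], [2, 0, 0, 3, 2, 0], [1, 2, 0, 0, 3, 3, 0],
  [3, 0, 0, 3, 0, 0, 2], [2, 0, 4, 0, 3, 1, 2, 0], [2, 1, 1, 4, 0, 0, 4, 0], [3, 2, 1, 1, 3, 1, 2],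
  [0, 3, 3, 0, 2], [1, 1, 1, 2], [3, 1, 4, 0, 2], [3, 2, 1, 1, 4, 0, 0], [3, 3, 2, 0, 4, 4, 1],
  [0, 4, 1, 1, 4, 2, 1], [0, 0, 2, 1, 3, 3, 0], [4, 0, 0, 2, 1], [0, 0, 0, 4, 1, 1, 2], [3, 2, 0, 4, 0],
  [3, 3, 2, 1, 1, 2, 1, 1], [4, 1, 2, 1, 1, 3, 0, 0], [1, 3, 2, 0, 0, 3, 0], [2, 0, 0, 0, 4, 1, 1],
  [0, 4, 0, 4, 1, 2], [3, 2, 0, 4, 4, 1], [1, 4, 1, 1, 2], [1, 4, 1, 2, 0, 4, 0], [1, 4, 2, 1, 1, 1, 1],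
  [4, 1, 3, 2, 1, 1], [2, 1, 1, 3, 1, 2], [2, 0, 0, 3, 1], [4, 1, 4, 2, 1, 1], [0, 0, 0, 3, 1, 2],
  [4, 2, 1, 3, 0, 2, 0], [2, 1, 4, 2, 1, 1], [0, 4, 0, 2, 1, 3, 2, 0], [1, 3, 2, 0, 3, 3, 0, 0, 0],
  [4, 1, 3, 2, 0, 4, 0], [2, 0, 3, 2, 1, 3, 0, 0], [2, 0, 3, 3, 2, 1], [2, 0, 0, 4, 1, 1, 1],
  [4, 2, 0, 3, 0, 3, 1], [1, 4, 2, 0, 4, 0], [1, 1, 3, 1, 1, 1, 2], [2, 0, 4, 0, 0], [4, 1, 2, 1, 1],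
  [3, 3, 0, 2, 1], [1, 1, 3, 2, 1, 1], [0, 2, 1, 1, 1], [1, 2, 0, 3, 2, 0, 0], [0, 4, 1, 3, 0, 2],
  [0, 2, 1, 1, 4, 0, 2], [0, 4, 2, 0, 4, 1, 1], [0, 3, 2, 1, 4, 0, 0], [2, 1, 3, 3, 1, 1],
  [4, 2, 1, 3, 3, 2, 1], [4, 4, 2, 1, 1, 1], [4, 1, 1, 1, 1, 2], [3, 1, 4, 1, 3, 0, 2], [3, 2, 1, 3, 2, 0],
  [0, 3, 0, 2, 1, 1], [3, 1, 3, 0, 4, 2, 1], [4, 2, 0, 3, 2, 1, 1, 1], [3, 3, 0, 4, 0, 2, 1],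
  [0, 3, 3, 0, 0, 0, 2], [1, 4, 1, 3, 0, 2, 1], [3, 0, 3, 0, 4, 1, 2], [0, 0, 0, 3, 3, 2, 1],
  [1, 4, 2, 0, 0, 3, 0], [2, 1, 1, 1, 1, 4, 0, 0], [0, 3, 1, 1, 4, 1, 2], [4, 4, 2, 0, 4, 0, 2, 0],
  [2, 1, 1, 2, 1, 1], [4, 2, 1, 4, 0, 4, 1], [0, 0, 0, 0, 0, 2, 1], [4, 1, 1, 3, 2, 1],
  [2, 0, 4, 1, 1, 4, 0], [1, 4, 4, 1, 2], [3, 1, 1, 3, 0, 2, 1, 1], [1, 3, 2, 1, 4, 4, 0],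
  [4, 4, 2, 1, 4, 4, 2, 0], [4, 2, 0, 0, 3, 2, 0], [2, 0, 3, 1, 2], [1, 4, 4, 2, 1, 3, 0, 0],
  [0, 4, 2, 1, 1, 2, 1], [4, 4, 1, 3, 0, 2, 1], [2, 0, 4, 1, 1, 2, 0], [0, 3, 1, 1, 1, 2],
  [1, 3, 3, 2, 0, 3, 0], [4, 1, 1, 2, 0, 4, 0], [3, 2, 1, 1, 3, 1, 1], [0, 3, 3, 2, 1, 1],
  [3, 0, 4, 1, 2, 1, 1], [2, 1, 4, 4, 0, 0], [1, 1, 2, 0, 3, 0, 3, 0], [0, 0, 2, 1, 4, 2, 0, 0],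
  [2, 0, 4, 4, 1, 2, 0], [3, 0, 4, 4, 0, 0, 2], [0, 0, 4, 4, 2, 1], [1, 4, 2, 1, 1, 3, 0, 0],
  [4, 4, 1, 1, 2, 1], [3, 1, 2, 0, 0, 2, 1], [4, 1, 3, 3, 1, 2], [1, 3, 2, 0, 4, 4, 0], [1, 4, 2, 1],
  [3, 1, 3, 3, 0, 2], [4, 1, 3, 0, 2, 1, 1], [1, 3, 0, 4, 2, 1, 1], [4, 1, 1, 1, 2, 1], [1, 1, 3, 1, 1, 2],
  [2, 0, 0, 4, 2, 1], [1, 3, 1, 3, 2, 1, 1], [0, 3, 1, 1, 2, 1], [0, 4, 1, 4, 0, 2, 1], [4, 2, 0, 4, 4, 1],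
  [0, 3, 2, 1, 1], [1, 4, 1, 1, 3, 0, 0, 2], [4, 0, 2, 1, 1, 1, 1], [0, 2, 1, 4, 0, 0],
  [0, 3, 1, 1, 2, 0, 4, 0], [0, 3, 1, 1, 1, 1, 2], [0, 4, 0, 3, 0, 2, 1], [1, 1, 3, 2, 1, 1, 1],
  [3, 3, 1, 4, 2, 1], [0, 2, 1, 3, 0, 0], [3, 2, 1, 4, 2, 0, 0], [4, 1, 1, 4, 0, 2], [0, 4, 2, 0, 0, 2, 1],
  [3, 0, 2], [3, 3, 1, 1, 2], [3, 1, 4, 2, 1, 3, 2, 0], [0, 3, 3, 2, 0, 4, 0], [0, 4, 1, 4, 1, 2, 1, 1],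
  [2, 1, 3, 1, 4, 0, 2, 0], [0, 2, 0, 0, 0, 4, 0], [3, 1, 3, 2, 1, 1, 1], [0, 4, 2, 1, 4, 1, 2],
  [4, 1, 3, 0, 2, 1, 1, 1], [0, 0, 0, 0, 0, 3, 2, 1], [2, 1, 1, 4, 1, 1], [1, 1, 1, 3, 1, 2, 1],
  [1, 1, 3, 2, 1, 3, 0, 0], [1, 2, 1, 1, 1, 1], [1, 2, 0, 4, 0], [3, 0, 3, 0, 3, 2, 1], [4, 2, 1, 1],
  [3, 1, 3, 1, 3, 0, 2], [3, 1, 2, 1, 1, 1], [2, 0, 4, 1, 2, 0], [4, 4, 1, 3, 0, 2], [1, 4, 0, 3, 2, 1],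
  [2, 0, 3, 2, 1, 4, 2, 0], [2, 1, 3, 1, 1, 1], [1, 4, 0, 0, 3, 1, 2, 1], [4, 4, 0, 0, 0, 2, 1],
  [4, 4, 2, 1, 1, 2, 1], [1, 2, 0, 0, 4, 4, 0, 0], [2, 0, 4, 0, 3, 0, 2], [2, 0, 0, 0, 0, 0],
  [1, 4, 0, 4, 0, 2], [4, 2, 0, 0, 4, 2, 0, 0], [3, 1, 2, 1, 1], [4, 4, 1, 2, 1, 1, 1], [3, 2, 1],
  [4, 2, 0, 0, 2], [4, 1, 4, 0, 4, 1, 2], [2, 1, 3, 1, 4, 0], [4, 4, 1, 3, 3, 2, 1], [1, 2, 0, 0, 3, 0, 0],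
  [3, 3, 1, 1, 1, 1, 1, 2]]

/-- part 4 of the words in `gens24` mapping the dodecad of squares onto the dodecads -/
def certsD4 : List (List ℕ) := [
  [3, 1, 3, 3, 2, 1, 1], [2, 0, 0, 3, 3, 0], [3, 3, 2, 0, 0, 3, 0, 0], [1, 2, 0, 3, 0],
  [1, 2, 1, 1, 4, 2, 0], [4, 1, 4, 1, 3, 1, 2], [2, 0, 4, 4, 2, 0, 4, 0], [1, 4, 0, 3, 0, 0, 2, 1],
  [0, 2, 1, 4, 4, 2, 1], [2, 0, 4, 4, 0, 2, 0, 0], [0, 2, 1, 1], [1, 3, 2, 1, 1, 1, 1], [4, 2, 1, 4, 0, 0],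
  [1, 1, 2], [2, 1, 1, 1, 3, 0], [3, 3, 2, 0, 0, 4, 0, 0], [1, 4, 1, 4, 1, 2, 1], [1, 3, 3, 2, 0, 0, 3, 0],
  [2, 0, 0, 4, 1, 3, 0], [4, 1, 3, 0, 0, 2], [4, 0, 3, 1, 1, 2], [0, 4, 0, 0, 2, 1], [2, 0, 3, 0, 3, 2, 1],
  [3, 2, 1, 4, 0, 4, 4, 0], [2, 0, 4, 4, 2, 0], [4, 1, 1, 4, 0, 2, 1], [0, 3, 3, 0, 3, 1, 2],
  [3, 0, 3, 3, 2, 1, 1], [1, 2, 1, 1, 4, 0, 0], [3, 2, 1, 4, 4, 2, 0], [4, 0, 0, 4, 2, 1],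
  [3, 1, 4, 1, 1, 2, 1], [4, 2, 0, 3, 2, 1, 1], [1, 3, 3, 2, 1], [3, 2, 0, 0, 3, 0], [2, 0, 3, 1, 3, 2, 1],
  [2, 1, 3, 0, 0, 4, 1], [0, 3, 1, 1, 4, 0, 2], [2, 1, 1, 3, 2, 0], [1, 4, 1, 3, 2, 1],
  [2, 1, 4, 1, 1, 2, 1], [1, 2, 1, 1, 3, 0], [3, 0, 3, 2, 1, 3, 0, 0], [4, 1, 1, 2], [3, 0, 3, 1, 1, 1, 2],
  [3, 2, 0, 3, 1, 2, 1], [4, 1, 2, 0, 4, 0], [2, 0, 4, 1, 1, 4, 2, 1], [4, 2, 1, 1, 1, 1],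
  [0, 2, 1, 4, 0, 3, 0], [3, 1, 4, 2, 1], [3, 1, 1, 1, 1, 1, 2], [2, 1, 1, 3, 1, 1], [0, 2, 0, 0, 3, 1],
  [2, 0, 3, 1, 1, 2], [1, 2, 0, 3, 3, 1], [4, 2, 1, 3, 1, 4, 0], [0, 4, 0, 3, 0, 0, 2],
  [1, 4, 2, 0, 4, 4, 0], [3, 0, 4, 1, 3, 2, 1], [4, 1, 4, 2, 0, 0, 3, 0], [0, 4, 2, 1, 3, 0, 2, 0],
  [2, 1, 4, 0, 4, 4, 0], [3, 3, 1, 3, 0, 2], [1, 4, 1, 1, 4, 2, 1], [1, 1, 4, 0, 0, 2, 1],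
  [0, 4, 0, 3, 2, 0, 3, 0], [3, 2, 0, 3, 3, 0, 0, 0], [1, 1, 1, 4, 1, 1, 2], [0, 3, 1, 2],
  [1, 2, 0, 4, 1, 1], [2, 1, 3, 1, 3, 0, 0], [1, 3, 2, 1, 3, 1, 4, 0], [0, 3, 0, 4, 1, 2], [1, 2, 1, 1, 1],
  [2, 1, 3, 3, 1], [2, 1, 3, 0, 2], [1, 2, 0, 0, 3, 0, 2, 0], [0, 0, 2, 1, 3, 1, 3, 0], [4, 4, 0, 4, 0, 2],
  [3, 2, 1, 1, 2, 1, 1], [4, 2, 0, 4, 0], [1, 1, 2, 0, 3, 1, 2], [1, 3, 1, 1, 1, 2], [1, 3, 3, 2, 1, 1],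
  [2, 1, 4, 2, 0, 0], [0, 4, 1, 2, 1, 1], [4, 1, 4, 2, 0, 4, 0], [0, 3, 3, 0, 2, 1], [3, 0, 0, 0, 2, 1],
  [1, 3, 2, 1, 1], [2, 0, 4, 2, 0, 0], [1, 4, 0, 3, 0, 2, 1], [2, 0, 3, 2, 0, 0], [0, 4, 4, 0, 0, 2],
  [4, 1, 4, 4, 1, 2], [4, 4, 2, 1, 3, 1, 2], [0, 0, 4, 1, 3, 0, 2], [1, 2, 0, 0, 4, 2, 0, 0],
  [4, 4, 2, 1, 4, 0, 0], [0, 0, 3, 2, 1, 4, 0, 0], [4, 1, 4, 2, 1, 1, 1, 1], [1, 1, 3, 1, 2, 1, 1],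
  [1, 2, 0, 0, 4, 0, 0], [1, 3, 1, 1, 4, 2, 1], [1, 3, 0, 0, 3, 1, 2], [1, 1, 1, 2, 0, 3, 0],
  [0, 4, 1, 1, 1, 1, 2], [1, 2, 1, 1], [3, 0, 4, 4, 0, 2], [0, 3, 2, 1, 3, 2, 0], [1, 4, 1, 1, 2, 0, 3, 0],
  [0, 3, 2, 1, 1, 4, 2, 0], [0, 0, 3, 0, 2, 1, 1], [2, 0, 0, 0, 3, 2, 1], [4, 4, 2, 1, 4, 4, 0],
  [3, 0, 3, 1, 1, 2], [4, 1, 3, 0, 3, 1, 2], [3, 1, 4, 4, 1, 2], [1, 4, 0, 4, 4, 0, 2],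
  [4, 4, 2, 1, 3, 3, 1], [0, 3, 0, 0, 2], [4, 1, 3, 0, 2, 1], [1, 3, 1, 2], [4, 2, 1, 4, 1, 4, 2, 0],
  [3, 0, 3, 3, 2, 1], [0, 0, 0, 4, 1, 2], [4, 2, 1, 3, 0, 0, 0, 0], [4, 2, 0, 0, 3, 0],
  [2, 1, 4, 1, 3, 2, 1], [3, 3, 0, 2, 1, 3, 3, 0], [3, 1, 1, 3, 1, 2], [1, 2, 1, 1, 1, 4, 0],
  [2, 1, 1, 1, 1, 1, 1], [0, 2, 1, 1, 2, 1, 1], [3, 2, 0, 3, 3, 2, 1], [0, 0, 4, 0, 2],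
  [4, 1, 1, 1, 1, 2, 1], [3, 0, 3, 1, 4, 2, 1], [4, 2, 0, 4, 0, 2, 0], [4, 0, 2], [3, 3, 2, 1, 3, 2, 0],
  [4, 0, 4, 0, 4, 2, 1], [3, 3, 2, 0, 0, 2, 1], [1, 1, 3, 3, 0, 0, 2], [0, 4, 2, 0, 3, 2, 0, 0],
  [1, 2, 1, 1, 3, 0, 0], [4, 4, 1, 2], [4, 1, 1, 2, 1], [2, 0, 4, 4, 0, 3, 0, 0], [3, 2, 1, 4, 4, 0],
  [3, 3, 0, 0, 2], [2, 1, 4, 1, 4, 1, 1], [2, 1, 3, 3, 1, 2, 1], [3, 2, 1, 4, 4, 0, 0],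
  [4, 4, 0, 3, 0, 0, 2], [2, 1, 3, 0, 2, 0], [4, 4, 2, 1, 3, 0, 0], [0, 2, 1, 1, 3, 0, 0], [4, 4, 0, 2, 1],
  [0, 2, 0, 0, 3, 0], [1, 3, 0, 3, 2, 1], [0, 4, 4, 1, 3, 0, 2, 1], [2, 0, 3, 0, 3, 1], [2, 0, 4, 1, 2],
  [1, 3, 1, 3, 0, 0, 2], [0, 3, 2, 1, 3, 1, 1], [3, 0, 0, 2, 1], [3, 3, 2, 0, 3, 0], [2, 0, 3, 1, 1, 1, 2],
  [0, 3, 0, 0, 2, 1, 1], [3, 1, 3, 3, 1, 2], [0, 3, 0, 3, 0, 0, 2], [2, 0, 4, 1, 4, 4, 1],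
  [1, 4, 4, 2, 0, 3, 0], [0, 3, 2, 0, 3, 0], [3, 1, 4, 1, 3, 1, 2], [0, 2, 1, 4, 4, 0, 0],
  [2, 1, 3, 2, 0, 4, 4, 1], [1, 2, 0, 3, 0, 3, 0], [4, 0, 3, 2, 1, 3, 0, 0], [2, 1, 1, 1, 1, 4, 0],
  [0, 3, 1, 2, 1], [2, 1, 4, 4, 0, 2, 0, 0], [4, 4, 1, 2, 1], [1, 4, 2, 1, 3, 1, 1], [3, 3, 2, 1, 3, 1, 1],
  [4, 2, 1, 1, 3, 0, 0], [3, 0, 3, 1, 2, 0, 3, 0], [1, 4, 2, 1, 4, 2, 0], [2, 0, 3, 1, 4, 1, 1],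
  [1, 1, 3, 0, 3, 1, 2], [3, 3, 1, 1, 4, 0, 2], [4, 2, 0, 3, 0, 3, 0], [1, 2, 0, 0, 0, 3, 3, 0],
  [1, 4, 2, 0, 3, 3, 1], [3, 2, 1, 1, 2, 1], [3, 2, 0, 4, 4, 0], [4, 2, 1], [0, 3, 1, 3, 3, 0, 2],
  [4, 4, 2, 0, 0, 2], [1, 3, 2, 0, 4, 1, 2, 0], [1, 3, 3, 0, 3, 2, 1], [2, 0, 4, 0, 4, 2, 1],
  [3, 0, 4, 2, 1, 1], [0, 4, 1, 1, 1, 2, 1], [1, 3, 1, 1, 2], [3, 0, 0, 0, 3, 2, 1], [1, 4, 2, 0, 3, 0],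
  [3, 3, 1, 4, 2, 1, 1], [3, 1, 3, 2, 1, 1], [0, 3, 3, 0, 3, 0, 2], [1, 3, 0, 4, 2, 1], [0, 3, 0, 3, 2, 1],
  [0, 0, 3, 1, 1, 2, 1], [4, 1, 4, 0, 4, 2, 1], [1, 4, 0, 3, 0, 2], [0, 4, 2, 0, 4, 4, 1],
  [0, 0, 2, 1, 4, 2, 0], [0, 0, 3, 2, 1, 1], [4, 0, 3, 3, 2, 1, 1], [1, 1, 3, 3, 0, 2],
  [1, 1, 4, 0, 4, 1, 2], [4, 1, 1, 3, 0, 0, 2], [1, 3, 1, 3, 0, 2, 1], [1, 4, 1, 1, 3, 1, 2, 1],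
  [3, 3, 2, 1, 4, 2, 0], [3, 0, 2, 1], [0, 0, 2, 1, 4, 0, 0], [1, 1, 3, 0, 2, 1, 1], [4, 4, 1, 4, 2, 1, 1],
  [2, 1, 1, 3, 1, 3, 1], [1, 4, 0, 0, 2, 1, 1], [4, 4, 0, 3, 2, 1], [1, 3, 2, 0, 0, 4, 0, 0],
  [1, 3, 2, 1, 1, 1], [1, 1, 3, 1, 1, 2, 1], [0, 0, 3, 0, 0, 2, 1], [2, 0, 3, 1, 4, 0],
  [4, 2, 0, 3, 1, 4, 0], [1, 2, 1, 1, 1, 3, 0, 0], [4, 0, 3, 1, 1, 2, 1], [2, 0, 3, 2, 0, 3, 1],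
  [3, 1, 2, 1, 1, 3, 0], [0, 3, 0, 2], [3, 3, 2, 1, 1, 1], [4, 2, 1, 1, 2, 1, 1], [4, 2, 1, 1, 4, 2, 0],
  [4, 0, 4, 0, 2, 1], [3, 2, 0, 0, 2], [3, 2, 1, 4, 1, 4, 2, 0], [1, 4, 2, 1, 3, 2, 0],
  [2, 0, 4, 2, 1, 4, 1], [3, 3, 2, 1, 3, 0, 2], [2, 0, 3, 2, 1, 3, 0], [1, 2, 0, 3, 3, 1, 1],
  [4, 1, 4, 1, 2], [1, 1, 1, 1, 2, 1, 1], [3, 3, 0, 0, 0, 2, 1], [1, 1, 3, 0, 0, 2], [2, 0, 3, 2, 1, 1],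
  [3, 0, 3, 0, 3, 1, 2], [2, 1, 4, 1, 3, 0, 2], [4, 0, 0, 4, 4, 2, 1], [4, 0, 2, 1, 1, 1],
  [4, 0, 0, 0, 3, 1, 2], [2, 0, 3, 0, 0, 2, 0, 0], [0, 2, 1, 1, 4, 1, 1], [1, 1, 3, 1, 2, 1],
  [1, 3, 2, 1, 3, 0, 0], [2, 1, 1, 1, 1], [1, 4, 0, 4, 2, 1], [2, 0, 4, 0], [3, 2, 1, 1, 1, 4, 0, 0],
  [4, 1, 2, 1, 1, 1, 1], [3, 2, 1, 3, 0, 2], [0, 4, 2, 1, 1], [4, 0, 2, 1, 3, 0, 0],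
  [1, 3, 2, 0, 3, 0, 0, 0], [4, 4, 1, 1, 2, 0, 4, 0], [1, 1, 4, 0, 2, 1], [3, 3, 2, 0, 0, 2],
  [2, 1, 4, 0, 2, 0, 0], [1, 3, 2, 1, 1, 1, 3, 0], [3, 3, 1, 3, 0, 2, 1], [4, 0, 3, 2, 1],
  [2, 1, 3, 1, 4, 2, 0], [4, 1, 3, 2, 0, 0, 3, 0], [0, 4, 0, 2, 1], [3, 2, 0, 4, 4, 2, 0],
  [0, 0, 0, 3, 1, 2, 1], [4, 0, 0, 3, 1, 2, 1], [1, 2, 1], [2, 1, 1, 2, 0, 3, 0, 0], [3, 1, 1, 1, 1, 2, 1],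
  [4, 2, 1, 3, 1, 2], [0, 4, 4, 2, 1, 1, 2, 1], [4, 1, 4, 1, 1, 2, 1], [2, 0, 0, 4, 4, 0, 0],
  [1, 2, 0, 4, 0, 2, 0], [0, 4, 2, 1, 3, 1, 1], [0, 2, 0, 0, 0, 0, 0], [4, 0, 4, 0, 2],
  [0, 4, 4, 2, 1, 3, 2, 0], [4, 0, 3, 1, 3, 2, 1], [3, 1, 3, 1, 1, 2, 1], [0, 3, 1, 2, 1, 1],
  [3, 3, 0, 4, 2, 1, 1], [4, 1, 4, 0, 2, 1, 1], [0, 3, 2, 1], [1, 3, 2, 1, 3, 1, 3, 0],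
  [3, 1, 1, 1, 4, 4, 2, 1], [0, 4, 2, 0, 0, 2], [0, 4, 2, 1, 4, 2, 0], [4, 0, 0, 4, 0, 2, 1],
  [3, 1, 3, 3, 2, 1], [0, 3, 3, 2, 1, 1, 1, 1], [0, 3, 1, 3, 1, 2], [0, 2, 1, 3, 1, 4, 0], [1, 4, 1, 2],
  [1, 1, 1, 1, 4, 0, 2], [2, 0, 0, 3, 0, 0], [3, 0, 3, 1, 2], [2, 1, 3, 0, 0, 0, 4, 0],
  [2, 1, 4, 4, 1, 1, 1, 1], [0, 3, 3, 2, 0, 4, 4, 0], [3, 0, 0, 3, 2, 1], [3, 0, 2, 0, 0, 3, 1],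
  [4, 4, 0, 3, 2, 1, 1], [2, 0, 3, 0], [2, 1, 1, 4, 2, 0], [2, 1, 3, 0, 3, 2, 0], [0, 2, 0, 0, 0, 3, 3, 0],
  [2, 1, 4, 4, 0, 4, 0], [0, 0, 3, 1, 3, 2, 1], [4, 0, 3, 0, 0, 2, 1], [3, 2, 1, 1, 3, 2, 0],
  [2, 1, 4, 4, 1, 2, 0], [3, 3, 0, 0, 4, 2, 1], [0, 0, 2, 1, 1], [2, 1, 4, 1, 1, 2], [3, 2, 1, 1, 1, 1],
  [0, 3, 3, 0, 0, 2, 1], [0, 4, 2, 1, 4, 0, 0], [1, 2], [4, 0, 0, 4, 1, 2], [0, 2, 1, 1, 1, 3, 0],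
  [2, 0, 4, 0, 0, 4, 1], [0, 0, 0, 2, 1, 3, 2, 0], [4, 1, 4, 1, 2, 1], [1, 2, 0, 3, 0, 2, 0],
  [3, 3, 2, 0, 0, 3, 0], [3, 3, 0, 4, 2, 1], [0, 0, 4, 2, 1], [3, 0, 3, 0, 2], [3, 3, 1, 3, 1, 2, 1],
  [3, 1, 2, 0, 4, 1, 1], [2, 1, 1, 1, 4, 0, 0, 0], [2, 0, 0, 3, 1, 1, 4, 0], [3, 0, 2, 1, 1, 3, 2, 1],
  [2, 0, 4, 0, 0, 0, 2], [2, 1, 1, 2, 1], [2, 1, 4, 4, 0], [3, 2, 0, 0, 3, 2, 0], [1, 3, 0, 2, 1, 1, 1],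
  [1, 3, 3, 1, 2, 1], [4, 4, 0, 0, 2, 1], [2, 0, 3, 1, 1, 1, 1], [1, 4, 1, 3, 1, 2], [2, 1, 1, 4, 0, 0],
  [0, 3, 2, 0, 4, 1, 2, 0], [4, 4, 2, 1, 1, 1, 1], [1, 1, 4, 4, 2, 1], [4, 2, 1, 3, 0, 2],
  [0, 3, 3, 0, 3, 2, 1], [3, 0, 4, 4, 2, 1], [4, 0, 4, 1, 3, 2, 1], [1, 1, 1, 1, 1, 1, 2],
  [4, 1, 3, 3, 2, 1], [1, 3, 0, 0, 4, 1, 2], [0, 4, 0, 3, 1, 2, 1, 1], [3, 3, 2, 1], [0, 0, 2, 1],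
  [0, 3, 2, 0, 0, 3, 0], [2, 1, 1, 3, 3, 0, 0], [3, 1, 3, 0, 2], [2, 0, 3, 1, 1, 1, 3, 0],
  [3, 0, 3, 2, 1, 1, 1], [0, 4, 1, 2, 0, 3, 0], [3, 2, 0, 4, 4, 2, 0, 0], [0, 3, 1, 1, 2],
  [0, 3, 1, 4, 2, 1, 1], [0, 2, 1, 1, 3, 2, 0], [2, 1, 1, 2, 0, 4, 0], [4, 1, 3, 2, 1],
  [4, 1, 3, 3, 1, 1, 2], [0, 4, 2, 0, 3, 0], [2, 1, 1, 3, 0], [1, 4, 1, 3, 3, 2, 1, 1], [1, 2, 0, 0, 4, 0, 2]]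

/-- part 5 of the words in `gens24` mapping the dodecad of squares onto the dodecads -/
def certsD5 : List (List ℕ) := [
  [2, 0, 0, 4, 1, 2], [0, 4, 1, 1, 2], [4, 0, 0, 0, 2, 1], [0, 3, 2, 0, 0, 0, 0, 0], [4, 1, 3, 0, 3, 2, 1],
  [0, 3, 3, 1, 4, 0, 2], [3, 0, 0, 2, 1, 3, 2, 0], [4, 2, 1, 4, 1, 3, 1], [0, 3, 3, 1, 1, 2, 1],
  [1, 4, 0, 0, 2], [3, 2, 0, 3, 1, 1, 3, 0], [3, 2, 0, 0, 2, 1], [0, 4, 2, 1, 1, 1, 1],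
  [1, 4, 0, 0, 0, 3, 2, 1], [1, 3, 3, 0, 0, 0, 2], [4, 4, 2, 0, 4, 0], [0, 0, 0, 3, 0, 3, 2, 1],
  [0, 3, 1, 2, 0, 3, 0], [0, 3, 1, 4, 2, 1], [3, 3, 1, 3, 1, 2], [2, 0, 4, 4, 0, 2, 0],
  [0, 4, 2, 1, 1, 1, 3, 0], [2, 0, 4, 1, 4, 2, 0], [3, 3, 1, 4, 1, 1, 2], [0, 4, 0, 3, 0, 2],
  [1, 3, 1, 1, 2, 1, 1], [2, 1, 3, 2, 1, 1, 2], [2, 0, 3, 1, 3, 1, 2], [4, 0, 4, 1, 3, 3, 2, 1],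
  [3, 3, 1, 1, 4, 1, 2], [2, 0, 3, 3, 1], [0, 2, 1, 4, 1, 2], [4, 4, 1, 2, 0, 4, 0], [4, 1, 2, 1, 1, 1],
  [1, 4, 2, 1, 4, 1, 2], [0, 0, 0, 0, 3, 2, 1, 1], [1, 1, 1, 2, 0, 4, 0], [4, 2, 0, 4, 4, 0],
  [1, 2, 0, 3, 2, 1, 1, 1], [4, 1, 2, 0, 4, 1, 1], [0, 3, 0, 3, 2, 1, 1], [3, 2, 1, 1, 4, 4, 0],
  [1, 1, 2, 0, 0, 3, 3, 0], [2, 1, 4, 0, 3, 1, 1], [3, 3, 0, 2], [1, 3, 1, 4, 0, 2], [4, 1, 1, 4, 2, 1],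
  [1, 4, 0, 0, 2, 1], [4, 1, 2, 0, 0, 2, 1], [4, 2, 1, 1, 3, 1, 2, 0], [4, 0, 2, 1, 1, 3, 2, 0],
  [4, 0, 4, 1, 2], [1, 1, 4, 1, 1, 2], [3, 1, 3, 2, 1, 1, 1, 1], [3, 0, 2, 1, 3, 0, 0],
  [1, 4, 1, 4, 2, 1, 1], [0, 0, 3, 1, 2], [2, 0, 4, 1, 1], [0, 0, 3, 2, 1, 4, 2, 0],
  [0, 2, 1, 3, 1, 3, 0, 0], [2, 0, 3, 1, 1, 2, 1], [3, 2, 1, 3, 1, 4, 0], [3, 3, 0, 2, 1, 1],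
  [0, 0, 3, 0, 4, 1, 2], [1, 4, 1, 2, 1, 1], [3, 3, 1, 2, 1, 1], [2, 1, 1, 1], [4, 1, 3, 0, 2],
  [4, 2, 0, 4, 1, 1], [3, 2, 1, 4, 0, 0], [3, 0, 4, 0, 4, 2, 1], [2, 0, 0, 3, 0, 2, 0], [3, 0, 2, 1, 1],
  [2, 0, 0, 0, 4, 4, 0], [0, 4, 4, 0, 2, 1, 1, 1], [0, 4, 4, 0, 4, 0, 2], [3, 1, 3, 1, 2, 1, 1],
  [0, 4, 2, 0, 0, 0, 0, 0], [3, 1, 1, 4, 1, 2], [2, 0, 0, 2, 1], [3, 3, 1, 1, 2, 1, 1], [0, 4, 2, 0, 4, 0],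
  [1, 1, 3, 2, 1, 4, 4, 0], [1, 2, 0, 3, 1, 2], [4, 2, 1, 1, 2, 1], [3, 1, 1, 1, 2], [2, 0, 3, 1, 3, 0, 2],
  [3, 3, 2, 1, 1], [0, 2, 1, 4, 2, 0, 0], [0, 0, 4, 1, 2, 1, 1], [0, 0, 4, 2, 0, 4, 0, 0],
  [1, 4, 4, 1, 1, 2, 1], [0, 3, 2, 0, 0, 4, 0, 0], [0, 3, 2, 1, 1, 1], [1, 4, 1, 1, 1, 2, 1],
  [4, 2, 1, 3, 1, 3, 0], [2, 1, 1, 3, 1, 2, 0], [3, 1, 1, 2, 1], [3, 2, 1, 1], [4, 1, 3, 1, 2, 1, 1, 1],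
  [2, 1, 4, 0, 0], [3, 1, 1, 2, 0, 4, 0], [4, 0, 3, 0, 2, 1], [2, 1, 3, 0, 0], [4, 4, 2, 0, 4, 4, 0],
  [1, 3, 0, 2], [2, 1, 1, 4, 1, 4, 1], [4, 1, 4, 1, 2, 1, 1], [3, 2, 0, 0, 0, 4, 4, 0],
  [0, 0, 0, 0, 3, 2, 1], [1, 1, 1, 1, 3, 1, 2, 1], [2, 0, 0, 4, 2, 0, 0], [3, 1, 4, 1, 3, 2, 1, 1],
  [1, 3, 1, 2, 1, 1, 1], [4, 4, 0, 3, 0, 2], [4, 0, 3, 2, 1, 1, 1], [2, 0, 3, 1, 2, 0, 0, 0, 0],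
  [1, 4, 4, 0, 0, 0, 2, 1], [4, 0, 3, 1, 4, 2, 1], [0, 3, 0, 0, 3, 3, 2, 1], [1, 1, 4, 0, 4, 0, 2],
  [1, 3, 1, 2, 1, 1], [4, 4, 0, 2, 1, 1], [2, 0, 0, 4, 0, 0], [3, 1, 1, 4, 2, 1], [3, 0, 2, 0, 0, 0, 2, 1],
  [3, 0, 0, 3, 1, 2], [1, 1, 2, 0, 3, 0], [1, 1, 2, 1, 1, 4, 2, 0], [4, 1, 3, 1, 3, 0, 2],
  [2, 1, 4, 4, 2, 1], [2, 1, 1], [4, 4, 1, 3, 2, 1], [0, 4, 1, 3, 2, 1, 1, 1], [1, 4, 0, 3, 1, 1, 2],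
  [4, 1, 1, 2, 0, 3, 0], [3, 3, 0, 3, 1, 2], [0, 3, 2, 0, 0, 0, 4, 0], [3, 0, 2, 1, 1, 1, 1],
  [1, 4, 0, 0, 4, 2, 1], [4, 0, 0, 3, 3, 2, 1], [4, 2, 1, 1, 4, 1, 2], [1, 1, 3, 3, 2, 1],
  [4, 2, 1, 4, 1, 1, 2, 1], [3, 1, 1, 4, 0, 2], [2, 1, 1, 1, 3, 3, 0], [4, 1, 1, 1, 1, 1, 2],
  [4, 0, 2, 1, 3, 3, 0], [0, 0, 3, 2, 0, 0, 2], [1, 3, 2, 0, 3, 1, 2, 1], [2, 1, 1, 1, 1, 3, 2, 0],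
  [2, 1, 4, 0, 3, 0], [4, 4, 1, 1, 1, 1, 2, 1], [4, 1, 1, 1, 4, 2, 1], [4, 0, 4, 4, 0, 2],
  [4, 0, 3, 0, 0, 2], [2, 0, 4, 1, 1, 4, 2, 0], [3, 3, 2, 1, 3, 3, 2, 1], [0, 0, 3, 0, 0, 2],
  [3, 0, 2, 1, 3, 2, 0], [4, 0, 3, 2, 0, 3, 0], [0, 4, 1, 3, 0, 2, 1], [3, 1, 2], [3, 3, 2, 0, 3, 0, 2, 0],
  [3, 0, 4, 1, 2], [1, 1, 2, 1, 1, 1], [2, 0, 3, 1, 2, 1], [0, 2, 1, 3, 1, 3, 0], [4, 2, 1, 3, 3, 1],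
  [2, 1, 1, 3, 1, 3, 3, 0], [1, 1, 3, 3, 2, 1, 1], [3, 3, 2, 1, 3, 0, 0], [4, 0, 3, 1, 2],
  [2, 1, 1, 1, 1, 3, 3, 0], [4, 4, 0, 0, 2], [4, 4, 0, 3, 1, 2, 1], [2, 1, 3, 1, 4, 1, 2, 0],
  [0, 3, 1, 1, 3, 1, 2], [2, 1, 1, 1, 4, 0], [0, 4, 4, 1, 1, 2, 1, 1], [1, 1, 2, 1, 1],
  [3, 1, 1, 1, 2, 1, 1], [3, 2, 1, 1, 4, 2, 0], [1, 2, 0, 0, 0, 3, 2, 1], [1, 3, 0, 3, 1, 1, 2],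
  [0, 4, 1, 1, 4, 1, 2], [3, 0, 0, 2], [1, 1, 3, 1, 2], [0, 0, 0, 4, 0, 2], [0, 0, 4, 1, 2],
  [2, 0, 0, 4, 1, 3, 2, 0], [4, 2, 1, 1, 3, 1, 1], [4, 4, 2, 0, 0, 3, 0], [0, 4, 0, 2],
  [4, 2, 1, 1, 1, 1, 2, 1], [1, 4, 0, 2], [2, 0, 4, 4, 0, 4, 0], [1, 3, 3, 2, 0, 0, 2, 1],
  [4, 2, 0, 3, 2, 0, 0], [2, 0, 0, 3, 1, 4, 0], [1, 4, 1, 1, 2, 1], [1, 3, 3, 0, 0, 2], [4, 1, 4, 4, 2, 1],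
  [3, 0, 3, 2, 0, 0, 2], [2, 1, 1, 3, 0, 0], [1, 4, 4, 0, 2, 1], [2, 0, 0, 3, 0], [4, 0, 0, 4, 0, 2],
  [3, 2, 1, 3, 1, 1], [0, 0, 0, 2], [1, 2, 0, 3, 1, 1, 1, 2], [3, 0, 0, 2, 1, 1], [3, 0, 3, 0, 0, 2],
  [3, 2, 0, 3, 0], [2, 0, 3, 0, 4, 4, 1], [3, 3, 0, 2, 1, 4, 2, 0], [3, 1, 2, 1], [1, 4, 4, 1, 2, 1],
  [3, 3, 2, 1, 4, 4, 0], [1, 1, 4, 2, 1, 4, 2, 0], [0, 2, 1, 3, 0, 2, 0], [4, 4, 2, 0, 0, 2, 1],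
  [4, 4, 1, 3, 1, 2, 1], [0, 3, 2, 1, 3, 0, 0], [0, 4, 4, 0, 0, 0, 2], [2, 0, 4, 0, 3, 3, 1],
  [2, 0, 3, 0, 3, 2, 1, 1], [0, 0, 2, 1, 1, 1, 1], [0, 4, 4, 0, 2, 1], [3, 3, 0, 3, 0, 2],
  [0, 4, 0, 4, 2, 1], [3, 0, 3, 2, 1], [4, 1, 4, 1, 3, 0, 2], [0, 2, 1, 4, 2, 0], [3, 1, 4, 0, 3, 1, 2],
  [1, 1, 1, 3, 3, 0, 2], [3, 0, 4, 2, 1, 4, 2, 0], [2, 1, 3, 2, 0, 3, 1], [3, 2, 1, 4, 1, 1, 2],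
  [1, 3, 0, 2, 1], [3, 1, 3, 0, 0, 2], [3, 2, 1, 3, 1, 2, 0], [0, 2, 1, 4, 1, 3, 0, 0], [0, 3, 0, 0, 2, 1],
  [0, 3, 3, 2, 0, 3, 0], [4, 2, 1, 1, 1, 3, 0, 0], [3, 0, 0, 4, 0, 2], [4, 4, 0, 4, 2, 1],
  [1, 3, 2, 0, 0, 2], [4, 2, 1, 1, 4, 0, 0], [4, 1, 3, 1, 2, 1, 1], [0, 2, 1, 3, 1, 2, 0],
  [1, 4, 1, 4, 1, 2], [4, 0, 4, 2, 0, 4, 0, 0], [4, 4, 2, 0, 3, 0], [4, 1, 4, 1, 4, 2, 1, 1],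
  [4, 2, 1, 3, 0, 0], [3, 2, 1, 4, 1, 4, 1], [2, 0, 4, 0, 2, 1], [3, 3, 0, 0, 3, 2, 1],
  [1, 3, 2, 1, 3, 0, 2], [1, 4, 0, 2, 1, 3, 0, 0], [4, 2, 0, 0, 0, 2, 1], [2, 0, 3, 0, 3, 0],
  [2, 0, 3, 1, 3, 3, 0], [4, 1, 2, 0, 3, 1, 2], [4, 0, 2, 1], [0, 0, 3, 1, 2, 1], [1, 1, 2, 1],
  [2, 1, 3, 1, 1, 1, 2, 0], [2, 1, 1, 4, 4, 0], [0, 4, 2, 0, 3, 0, 2, 0], [4, 2, 1, 3, 1, 1],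
  [4, 4, 2, 1, 3, 2, 0], [0, 4, 0, 0, 3, 2, 1], [4, 0, 4, 2, 0, 4, 0], [0, 2, 0, 0, 0, 2, 1],
  [3, 1, 4, 4, 0, 0, 2], [4, 2, 1, 4, 2, 0], [3, 0, 3, 1, 2, 1], [3, 3, 2, 1, 1, 1, 1], [3, 1, 3, 1, 2],
  [1, 1, 4, 1, 2], [1, 3, 0, 3, 1, 2], [3, 3, 2, 0, 4, 4, 0], [4, 0, 4, 1, 1, 2], [2, 0, 0, 0, 3, 3, 0],
  [0, 3, 1, 3, 2, 1], [4, 2, 0, 3, 3, 1], [2, 0, 3, 1, 1, 3, 0], [3, 3, 0, 0, 2, 1], [1, 4, 0, 0, 4, 1, 2],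
  [0, 0, 2, 1, 3, 2, 0], [4, 2, 1, 4, 4, 0], [0, 4, 2, 1], [0, 0, 3, 1, 3, 3, 0, 2], [0, 0, 0, 4, 0, 2, 1],
  [2, 0, 0, 2], [3, 0, 3, 1, 3, 2, 1], [1, 1, 3, 3, 1, 2, 1], [1, 4, 4, 0, 0, 2, 1], [3, 2, 0, 4, 1, 2, 0],
  [1, 1, 1, 4, 4, 2, 1], [1, 4, 2, 1, 3, 0, 2], [3, 3, 0, 3, 2, 1], [0, 2, 1, 1, 4, 4, 1],
  [1, 4, 1, 3, 3, 2, 1], [4, 0, 3, 1, 2, 1, 1], [0, 2, 1], [1, 3, 1, 3, 0, 2], [0, 4, 0, 3, 2, 1, 1],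
  [4, 1, 2, 0, 3, 0], [3, 1, 1, 2], [3, 1, 4, 2, 1, 1], [3, 3, 2, 1, 4, 2, 0, 0], [4, 2, 0, 3, 0],
  [3, 1, 3, 0, 3, 1, 2], [4, 4, 1, 2, 1, 1], [1, 4, 0, 0, 0, 2, 1], [3, 2, 0, 0, 0, 0, 0],
  [3, 3, 1, 4, 0, 2], [2, 1, 3, 0, 3, 3, 0, 0], [3, 3, 1, 1, 2, 1], [3, 0, 4, 2, 1], [2, 0, 3, 0, 4, 1, 2],
  [4, 0, 4, 2, 1, 3, 1, 1], [0, 0, 3, 0, 3, 2, 1], [3, 1, 2, 0, 3, 0], [2, 0, 3, 0, 4, 4, 0],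
  [4, 2, 1, 1, 1, 3, 0], [1, 3, 3, 1, 4, 1, 1, 2], [4, 0, 3, 0, 2], [2, 1, 3, 0, 4, 1, 1, 1],
  [0, 3, 0, 0, 4, 2, 1], [0, 0, 0, 2, 1, 4, 2, 0], [2, 1, 4, 1, 2], [4, 0, 2, 1, 1], [0, 0, 0, 3, 2, 1, 1],
  [2, 0, 3, 0, 2, 1, 1], [3, 2, 1, 4, 1, 3, 1], [3, 0, 3, 2, 1, 1], [1, 3, 3, 0, 2],
  [3, 2, 0, 3, 2, 1, 1, 1], [1, 4, 0, 4, 1, 2], [3, 2, 0, 0, 0, 3, 3, 0], [1, 3, 0, 2, 1, 3, 0, 0],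
  [3, 1, 3, 0, 2, 1], [0, 3, 2, 1, 4, 2, 0], [4, 1, 1, 3, 1, 2, 1], [3, 3, 1, 2, 1, 1, 1],
  [1, 1, 4, 1, 2, 1, 1], [0, 3, 0, 2, 1], [1, 4, 1, 3, 0, 2], [4, 2, 0, 0, 3, 0, 0], [1, 3, 0, 2, 1, 1],
  [4, 4, 0, 2, 1, 1, 1], [4, 2, 0, 0, 0, 0, 0], [4, 2, 0, 0, 4, 2, 1], [1, 2, 0, 0, 2, 1],
  [3, 0, 0, 3, 1, 2, 1], [0, 4, 1, 3, 1, 1, 2], [4, 0, 0, 2, 1, 1], [0, 4, 4, 0, 3, 2, 1],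
  [0, 4, 2, 0, 4, 0, 0], [3, 2, 0, 0, 4, 0, 0], [3, 2, 1, 1, 1], [2, 1, 1, 4, 0, 0, 2, 1],
  [1, 3, 1, 1, 2, 1], [1, 4, 1, 3, 1, 2, 1, 1, 1], [2, 1, 1, 1, 4, 0, 0], [4, 4, 2, 1, 1],
  [2, 0, 4, 1, 1, 1, 3, 0], [0, 0, 0, 3, 2, 1], [0, 2, 1, 1, 3, 2, 1], [0, 3, 2, 1, 3, 1, 3, 0],
  [2, 1, 1, 1, 3, 0, 0], [2, 0, 4, 1, 3, 0, 2], [3, 0, 0, 3, 3, 2, 1], [0, 4, 1, 4, 1, 1, 2],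
  [2, 1, 3, 0, 3, 1], [0, 3, 1, 2, 1, 1, 3, 0], [3, 2, 1, 1, 4, 1, 2], [2, 0, 4, 4, 1],
  [4, 1, 3, 2, 1, 1, 1], [1, 3, 3, 0, 3, 1, 2], [3, 2, 0, 0, 0, 4, 0], [3, 0, 2, 1, 4, 0, 0],
  [3, 3, 0, 0, 4, 0, 2], [0, 4, 2, 1, 1, 4, 2, 0], [3, 3, 0, 3, 1, 2, 1], [0, 4, 0, 4, 0, 2, 1],
  [0, 3, 2, 0, 0, 2], [3, 2, 1, 3, 3, 2, 1], [4, 1, 1, 4, 0, 2, 1, 1], [2, 1, 4, 2, 0, 0, 3, 0],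
  [4, 2, 1, 3, 2, 0], [4, 1, 4, 0, 0, 4, 1, 2], [2, 1, 4, 1, 4, 1], [1, 4, 0, 3, 2, 0, 3, 0],
  [1, 3, 0, 4, 1, 2]]

/-- part 6 of the words in `gens24` mapping the dodecad of squares onto the dodecads -/
def certsD6 : List (List ℕ) := [
  [1, 2, 0, 3, 1, 2, 1], [2, 1, 3, 1, 3, 0], [2, 0, 3, 3, 1, 1], [1, 4, 0, 3, 1, 2], [1, 4, 4, 0, 0, 2],
  [4, 0, 4, 1, 1, 2, 1, 1], [4, 4, 1, 1, 2, 1, 1], [1, 1, 1, 2, 1, 1], [2, 1, 4, 0, 0, 0, 0, 0],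
  [4, 1, 1, 4, 1, 2], [1, 3, 0, 0, 2], [2, 1, 3, 1, 1], [0, 4, 1, 2], [2, 1, 1, 4, 1, 4, 0, 0],
  [1, 1, 4, 0, 2], [3, 1, 2, 0, 4, 1, 2, 0], [3, 1, 1, 2, 0, 3, 0], [2, 0, 4, 1, 4, 0, 0],
  [2, 1, 4, 0, 4, 1, 1], [1, 4, 0, 0, 4, 0, 2], [0, 0, 2], [1, 3, 0, 3, 0, 0, 2], [2, 0, 4, 0, 4, 4, 1],
  [1, 3, 1, 2, 1], [3, 0, 2, 1, 4, 2, 0], [3, 2, 1, 3, 0, 0], [4, 4, 0, 0, 0, 2], [3, 0, 4, 1, 2, 1, 1, 1],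
  [0, 2, 1, 1, 1, 1], [4, 0, 4, 2, 1], [4, 1, 3, 2, 1, 3, 0, 2], [2, 1, 4, 2, 0], [0, 3, 3, 2, 1, 1, 2, 1],
  [3, 0, 3, 1, 1, 2, 1], [3, 3, 1, 1, 1, 1, 2], [2, 1, 4, 1, 3, 0, 0], [3, 2, 1, 3, 1, 1, 1],
  [2, 0, 3, 0, 0, 2], [2, 1, 3, 1, 2, 0], [4, 2, 0, 3, 1, 2, 1], [0, 4, 0, 2, 1, 3, 0, 0],
  [3, 2, 0, 3, 0, 0, 0], [3, 2, 1, 4, 1, 3, 3, 0], [0, 4, 2, 1, 1, 4, 1, 1], [1, 4, 0, 2, 1],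
  [1, 1, 1, 2, 1], [4, 2, 0, 3, 0, 2, 0], [4, 0, 0, 3, 2, 1], [2, 0, 0, 0, 2, 1], [3, 2, 1, 1, 1, 3, 0],
  [1, 3, 1, 3, 1, 2], [2, 1, 1, 1, 4, 1], [3, 1, 3, 2, 1], [1, 3, 3, 0, 0, 2, 1], [4, 0, 2, 1, 3, 0, 2, 0],
  [0, 2, 1, 3, 2, 0], [0, 0, 4, 0, 2, 1], [4, 1, 2, 1], [4, 4, 1, 3, 2, 1, 1], [4, 4, 1, 1, 3, 2, 1],
  [2, 0, 0, 3, 3, 0, 4, 0], [3, 2, 0, 3, 0, 0, 2], [2, 1, 1, 4, 4, 1], [2, 1], [4, 0, 3, 2, 1, 1],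
  [3, 2, 1, 3, 1, 2], [1, 3, 1, 4, 2, 1, 1], [3, 1, 3, 1, 2, 1], [3, 0, 2, 1, 1, 3, 0, 0],
  [1, 3, 3, 1, 4, 0, 2], [0, 2, 1, 3, 1, 2], [2, 1, 3, 1, 1, 3, 1], [4, 4, 1, 3, 3, 1, 2],
  [1, 3, 1, 2, 0, 3, 0], [3, 2, 1, 3, 0, 0, 0, 0], [3, 0, 0, 4, 2, 1], [2, 0, 4, 0, 2, 0],
  [1, 4, 0, 2, 1, 1], [2, 1, 3, 1, 3, 1, 1], [1, 3, 0, 3, 2, 1, 1], [0, 0, 3, 2, 0, 4, 1, 2],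
  [4, 4, 0, 3, 1, 3, 2, 1], [3, 2, 1, 4, 2, 0], [4, 4, 1, 2, 1, 1, 1, 1], [4, 4, 1, 3, 0, 0, 2],
  [2, 1, 4, 2, 0, 4, 0], [3, 2, 0, 0, 3, 0, 0], [0, 4, 0, 0, 0, 2], [4, 1, 3, 1, 1, 2], [4, 2, 0, 4, 0, 0],
  [2, 0, 3, 3, 1, 4, 0, 0], [0, 4, 1, 4, 0, 2, 1, 1], [0, 0, 3, 2, 1], [2, 1, 1, 3, 2, 1],
  [3, 2, 1, 3, 1, 3, 0], [3, 0, 2, 0, 0, 0, 0, 0], [4, 1, 4, 1, 1, 2], [0, 0, 0, 0, 2, 1, 1],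
  [3, 3, 1, 3, 3, 2, 1], [0, 0, 4, 2, 0, 0, 2], [3, 0, 3, 3, 0, 0, 2, 1], [2, 1, 4, 1, 4, 2, 0],
  [2, 0, 0, 4, 0, 0, 3, 0], [2, 0, 4, 0, 0, 3, 0], [0, 0, 3, 2, 1, 1, 1, 1], [4, 0, 4, 0, 4, 1, 2],
  [1, 1, 3, 0, 4, 1, 2], [1, 1, 4, 0, 3, 1, 2], [2, 0, 4, 4, 0, 0, 2], [4, 1, 4, 0, 3, 2, 1],
  [3, 0, 4, 0, 2, 1], [4, 1, 2], [1, 1, 1, 4, 0, 2], [0, 2], [0, 2, 0, 0, 3, 0, 0], [0, 4, 1, 1, 2, 1, 1],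
  [0, 3, 0, 3, 1, 2], [4, 0, 3, 0, 3, 2, 1], [4, 1, 3, 0, 4, 2, 1, 1], [3, 3, 2, 1, 1, 2, 1],
  [4, 0, 4, 1, 3, 0, 2], [1, 2, 0, 3, 0, 0, 2], [2, 0, 4, 0, 0, 4, 0, 0], [4, 2, 1, 1, 4, 1, 1],
  [1, 1, 1, 1, 2, 1], [4, 2, 0, 0, 3, 1], [1, 1, 3, 1, 3, 1, 2], [2, 1, 3, 2, 0], [1, 4, 1, 2, 1],
  [4, 4, 2, 1, 1, 3, 2, 1], [0, 4, 2, 1, 1, 4, 4, 0], [1, 4, 0, 3, 2, 1, 1], [1, 3, 2, 1, 3, 1, 2],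
  [3, 2, 0, 3, 0, 3, 1], [2, 1, 3, 1, 2], [2, 0, 0, 3, 3, 1, 1], [1, 3, 0, 0, 4, 2, 1],
  [1, 1, 4, 0, 2, 1, 1], [0, 3, 2, 0, 4, 1, 2], [4, 2, 1, 1, 4, 4, 1], [0, 0, 3, 3, 0, 4, 2, 1],
  [2, 0, 4, 0, 4, 0], [4, 0, 0, 0, 2], [1, 2, 1, 1, 3, 2, 1], [1, 4, 1, 4, 1, 1, 2], [0, 0, 0, 2, 1, 1],
  [0, 0, 0, 0, 4, 2, 1], [0, 2, 1, 4, 1, 1, 2], [0, 3, 2, 1, 1, 1, 1], [0, 0, 3, 3, 0, 0, 2, 1],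
  [0, 0, 4, 2, 1, 4, 0, 0], [1, 3, 0, 4, 0, 2, 1], [2], [4, 1, 1, 2, 1, 1], [4, 4, 2, 1, 3, 1, 1],
  [4, 0, 0, 2, 1, 1, 1, 1], [2, 1, 3, 0, 0, 0, 0], [1, 1, 1, 1, 1, 2, 1], [3, 0, 0, 0, 2, 1, 3, 2, 0],
  [4, 2, 1, 1, 4, 4, 0], [0, 4, 1, 4, 1, 2, 1], [2, 0, 3, 0, 2, 0], [2, 1, 4, 0, 0, 4, 0],
  [3, 2, 0, 4, 1, 2], [0, 3, 3, 0, 4, 2, 1], [1, 4, 0, 0, 0, 2], [0, 0, 0, 4, 2, 1], [4, 2, 1, 1, 3, 2, 1],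
  [0, 3, 0, 3, 0, 2], [0, 3, 3, 1, 3, 1, 2, 1], [0, 3, 1, 2, 0, 4, 1, 1], [4, 4, 0, 0, 4, 0, 2],
  [3, 2, 0, 3, 0, 2, 0], [2, 0, 3, 3, 1, 3, 2, 0], [3, 0, 0, 0, 4, 1, 2], [2, 0, 0, 0, 0, 4, 1, 1]]

/-- words in `gens24` mapping the dodecad of squares onto each dodecad of `wtList 12` -/
def certsD : List (List ℕ) :=
  certsD0 ++ certsD1 ++ certsD2 ++ certsD3 ++ certsD4 ++ certsD5 ++ certsD6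

/-- a list of certificates may be checked in two parts -/
theorem checkOrbit_split (gens : List (List ℕ)) (rootOf : ℕ → ℕ) (n : ℕ) :
    ∀ (ms : List ℕ) (ws₁ ws₂ : List (List ℕ)), ws₁.length = n →
      checkOrbit gens rootOf (ms.take n) ws₁ = true →
      checkOrbit gens rootOf (ms.drop n) ws₂ = true →
      checkOrbit gens rootOf ms (ws₁ ++ ws₂) = true := by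
  induction n with
  | zero =>
    intro ms ws₁ ws₂ hl _ h2
    rw [List.length_eq_zero_iff.1 hl, List.nil_append]
    rw [List.drop_zero] at h2
    exact h2
  | succ n ih =>
    intro ms ws₁ ws₂ hl h1 h2
    cases ms with
    | nil => rfl
    | cons m ms =>
      cases ws₁ with
      | nil => simp at hl
      | cons w ws =>
        rw [List.take_succ_cons] at h1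
        rw [List.drop_succ_cons] at h2
        simp only [checkOrbit, Bool.and_eq_true, List.cons_append] at h1 ⊢
        exact ⟨h1.1, ih ms ws ws₂ (by simpa using hl) h1.2 h2⟩

theorem certsD_ok0 :
    checkOrbit gens24 (fun _ => 340831) ((wtList 12).take 400) certsD0 = true := by
  decide +kernel

theorem certsD_ok1 :
    checkOrbit gens24 (fun _ => 340831) (((wtList 12).drop 400).take 400) certsD1 = true := by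
  decide +kernel

theorem certsD_ok2 :
    checkOrbit gens24 (fun _ => 340831) (((wtList 12).drop 800).take 400) certsD2 = true := by
  decide +kernel

theorem certsD_ok3 :
    checkOrbit gens24 (fun _ => 340831) (((wtList 12).drop 1200).take 400) certsD3 = true := by
  decide +kernel

theorem certsD_ok4 :
    checkOrbit gens24 (fun _ => 340831) (((wtList 12).drop 1600).take 400) certsD4 = true := by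
  decide +kernel

theorem certsD_ok5 :
    checkOrbit gens24 (fun _ => 340831) (((wtList 12).drop 2000).take 400) certsD5 = true := by
  decide +kernel

theorem certsD_ok6 :
    checkOrbit gens24 (fun _ => 340831) ((wtList 12).drop 2400) certsD6 = true := by
  decide +kernel

theorem certsD_ok : checkOrbit gens24 (fun _ => 340831) (wtList 12) certsD = true := by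
  unfold certsD
  simp only [List.append_assoc]
  refine checkOrbit_split _ _ 400 _ _ _ (by decide +kernel) certsD_ok0 ?_
  refine checkOrbit_split _ _ 400 _ _ _ (by decide +kernel) certsD_ok1 ?_
  rw [List.drop_drop]
  refine checkOrbit_split _ _ 400 _ _ _ (by decide +kernel) certsD_ok2 ?_
  rw [List.drop_drop]
  refine checkOrbit_split _ _ 400 _ _ _ (by decide +kernel) certsD_ok3 ?_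
  rw [List.drop_drop]
  refine checkOrbit_split _ _ 400 _ _ _ (by decide +kernel) certsD_ok4 ?_
  rw [List.drop_drop]
  refine checkOrbit_split _ _ 400 _ _ _ (by decide +kernel) certsD_ok5 ?_
  rw [List.drop_drop]
  exact certsD_ok6

/-- every dodecad is the image of the dodecad of squares under an element of the group -/
theorem exists_smul_dod (n : ℕ) (hn : n ∈ wtList 12) : ∃ σ ∈ M24, σ • decSet 340831 = decSet n :=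
  checkOrbit_spec gensIn_gens24 _ (wtList 12) certsD certsD_ok n hn

/-! ### all code words -/

theorem wt_chk : cwList.all (fun n => (!(pc n == 0) || n == 0) && (!(pc n == 24) || n == 16777215)
    && (!(pc n == 16) || pc (n ^^^ 16777215) == 8)) = true := by decide +kernel

theorem wt_zero_chk (n : ℕ) (hn : n ∈ cwList) (h : pc n = 0) : n = 0 := by
  have h1 := List.all_eq_true.1 wt_chk n hn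
  simp only [Bool.and_eq_true, Bool.or_eq_true, Bool.not_eq_true', beq_eq_false_iff_ne,
    beq_iff_eq] at h1
  exact h1.1.1.resolve_left (fun h' => h' h)

theorem wt_full_chk (n : ℕ) (hn : n ∈ cwList) (h : pc n = 24) : n = 16777215 := by
  have h1 := List.all_eq_true.1 wt_chk n hn
  simp only [Bool.and_eq_true, Bool.or_eq_true, Bool.not_eq_true', beq_eq_false_iff_ne,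
    beq_iff_eq] at h1
  exact h1.1.2.resolve_left (fun h' => h' h)

theorem wt_co_chk (n : ℕ) (hn : n ∈ cwList) (h : pc n = 16) : pc (n ^^^ 16777215) = 8 := by
  have h1 := List.all_eq_true.1 wt_chk n hn
  simp only [Bool.and_eq_true, Bool.or_eq_true, Bool.not_eq_true', beq_eq_false_iff_ne,
    beq_iff_eq] at h1
  exact h1.2.resolve_left (fun h' => h' h)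

theorem act_of_smul {σ : Equiv.Perm GolayPt} {a b : ℕ} (h : σ • decSet a = decSet b) :
    act σ (dec a) = dec b := by
  apply support₂_injective
  rw [support₂_act, support₂_dec, support₂_dec, h]

/-- statement S5550 -/
theorem noFix_of_mem (u : GV) (hu : u ∈ golayCode) : NoFix u := by
  obtain ⟨n, hn, rfl⟩ := (mem_golayCode_iff u).1 hu
  rcases cwList_weights n hn with h | h | h | h | h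
  · rw [wt_zero_chk n hn h, dec_zero]
    exact noFix_zero
  · have ho : decSet n ∈ octads := (mem_octads_iff _).2 ⟨n, mem_wtList.2 ⟨hn, h⟩, rfl⟩
    obtain ⟨σ, hσ, hσo⟩ := exists_smul_oct0 ho
    rw [← act_of_smul hσo]
    exact noFix_act hσ noFix_oct
  · obtain ⟨σ, hσ, hσd⟩ := exists_smul_dod n (mem_wtList.2 ⟨hn, h⟩)
    rw [← act_of_smul hσd]
    exact noFix_act hσ noFix_dod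
  · have h2 := wt_co_chk n hn h
    have hmem : dec (n ^^^ 16777215) ∈ golayCode := by
      rw [dec_xor, ← one_eq_dec]
      exact golayCode.add_mem (dec_mem_golayCode hn) (Submodule.subset_span (Set.mem_union_right _ rfl))
    obtain ⟨k, hk, hk'⟩ := (mem_golayCode_iff _).1 hmem
    have hk8 : pc k = 8 := by rw [← hammingNorm_dec, ← hk', hammingNorm_dec, h2]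
    have ho : decSet k ∈ octads := (mem_octads_iff _).2 ⟨k, mem_wtList.2 ⟨hk, hk8⟩, rfl⟩
    obtain ⟨σ, hσ, hσo⟩ := exists_smul_oct0 ho
    have e : act σ (dec 5279 + 1) = dec n := by
      rw [map_add, act_of_smul hσo, act_one_word, ← hk', dec_xor, ← one_eq_dec, add_assoc,
        one_add_one_word, add_zero]
    rw [← e]
    exact noFix_act hσ noFix_cooct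
  · rw [wt_full_chk n hn h, ← one_eq_dec]
    exact noFix_one

end Cfsg.Agent.Lib.helper93
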