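import Cfsg.Agent.Lib.helper93.SimpleRank2
import Cfsg.Agent.Lib.helper93.Co0X25
import Cfsg.Agent.Lib.helper93.Co0Fin
import Cfsg.Prelude.Def_Sporadic

/-!
The joint stabiliser in `Cfsg.Co0` of two minimal vectors `v`, `w` of `Cfsg.leechLattice` with
inner product `-8` is simple of order 898128000, as soon as the stabiliser in it of one of its
2025 points (the minimal vectors orthogonal to `v` with inner product 16 with `w`) is simple of
order 443520.  The proof uses the action on the 2025 points (orbits of 330, 462 and 1232 points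
for the point stabiliser) and the action on the 275 points (orbits of 112 and 162 points).
-/

set_option autoImplicit false
open Cfsg MulAction

namespace Cfsg.Agent.Lib.helper93

theorem iUnion_fin2 {X : Type*} (O : X → Set X) (a b : X) :
    (⋃ i : Fin 2, O (![a, b] i)) = O a ∪ O b := by
  ext z
  rw [Set.mem_iUnion]
  constructor
  · rintro ⟨i, hi⟩
    fin_cases i
    · exact Or.inl hi
    · exact Or.inr hi
  · rintro (h | h)
    · exact ⟨0, h⟩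
    · exact ⟨1, h⟩

theorem dot_self_sq (a : GolayPt → ℤ) : dotInt a a = sqNorm a := by
  unfold dotInt sqNorm
  refine Finset.sum_congr rfl fun i _ => ?_
  ring

/-- the joint stabiliser of two minimal vectors with inner product `-8` is simple of order
898128000, given the simplicity and the order of the stabiliser of one of the 2025 points -/
theorem McL_of_point (v w : ↥leechLattice) (hv : sqNorm (v : GolayPt → ℤ) = 32)
    (hw : sqNorm (w : GolayPt → ℤ) = 32)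
    (hvw : dotInt (v : GolayPt → ℤ) (w : GolayPt → ℤ) = -8)
    (x : ↥leechLattice) (hx : sqNorm (x : GolayPt → ℤ) = 32 ∧
      dotInt (v : GolayPt → ℤ) (x : GolayPt → ℤ) = 0 ∧
      dotInt (w : GolayPt → ℤ) (x : GolayPt → ℤ) = 16)
    (hs : IsSimpleGroup ↥(stabilizer ↥Co0 v ⊓ stabilizer ↥Co0 w ⊓ stabilizer ↥Co0 x))
    (hc : Nat.card ↥(stabilizer ↥Co0 v ⊓ stabilizer ↥Co0 w ⊓ stabilizer ↥Co0 x) = 443520) :
    IsMcL ↥(stabilizer ↥Co0 v ⊓ stabilizer ↥Co0 w) := by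
  obtain ⟨hXc, hXt, hXiff, hXo⟩ := McL_2025 v w hv hw hvw
  have hxP : PhiX (v + w, v) x := (hXiff x).2 hx
  obtain ⟨y₁, y₂, y₃, c1, c2, c3, n1, n2, n3⟩ := hXo x hxP
  have hu : sqNorm ((v + w : ↥leechLattice) : GolayPt → ℤ) = 48 := by
    rw [AddSubgroup.coe_add, sqNorm_add, hv, hw, hvw]
    norm_num
  have hv' : sqNorm (v : GolayPt → ℤ) = 32 ∧
      sqNorm (((v + w : ↥leechLattice) : GolayPt → ℤ) - (v : GolayPt → ℤ)) = 32 := by
    refine ⟨hv, ?_⟩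
    rw [AddSubgroup.coe_add, add_sub_cancel_left]
    exact hw
  -- the elements of the group fix `v + w`
  have hfixK : ∀ g : ↥(stabilizer ↥Co0 v ⊓ stabilizer ↥Co0 w),
      (g : ↥Co0).1 (v + w) = v + w ∧ (g : ↥Co0).1 v = v := by
    intro g
    have g1 : (g : ↥Co0).1 v = v := g.2.1
    have g2 : (g : ↥Co0).1 w = w := g.2.2
    exact ⟨by rw [(g : ↥Co0).2.1 v w, g1, g2], g1⟩
  have hfix : ∀ g : ↥Co0, g.1 (v + w) = v + w → g.1 v = v → g.1 w = w := by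
    intro g h1 h2
    have h3 := g.2.1 v w
    rw [h1, h2] at h3
    exact (add_left_cancel h3).symm
  have hact2 : ∀ g : ↥(stabilizer ↥Co0 v ⊓ stabilizer ↥Co0 w),
      act2 (g : ↥Co0) (v + w, v) = (v + w, v) := by
    intro g
    obtain ⟨g1, g2⟩ := hfixK g
    show ((g : ↥Co0).1 (v + w), (g : ↥Co0).1 v) = (v + w, v)
    rw [g1, g2]
  -- the first action
  have horbX : orbit ↥(stabilizer ↥Co0 v ⊓ stabilizer ↥Co0 w) x = {z | PhiX (v + w, v) z} := by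
    ext z
    constructor
    · rintro ⟨g, rfl⟩
      have h2 := PhiX_inv (g : ↥Co0) (v + w, v) x hxP
      rw [hact2 g] at h2
      exact h2
    · intro hz
      obtain ⟨g, hg1, hg2, hg3⟩ := hXt x z hxP hz
      exact ⟨⟨g, ⟨hg1, hg2⟩⟩, hg3⟩
  have hXcard : (orbit ↥(stabilizer ↥Co0 v ⊓ stabilizer ↥Co0 w) x).ncard = 2025 := by
    rw [horbX, ← hXc]
    congr 1
    ext z
    exact hXiff z
  -- the second action
  obtain ⟨hYc, hYt⟩ := McL_conf (v + w) v hu hv'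
  obtain ⟨η, hη⟩ : {y | Phi275 (v + w, v) y}.Nonempty :=
    Set.nonempty_of_ncard_ne_zero (by rw [hYc]; norm_num)
  have hη' : Phi275 (v + w, v) η := hη
  obtain ⟨hU8, hU16, hUt⟩ := U_conf (v + w) v η hu hv' hη'
  obtain ⟨z₁, hz₁⟩ : {y | PhiU8 (v + w, v, η) y}.Nonempty :=
    Set.nonempty_of_ncard_ne_zero (by rw [hU8]; norm_num)
  obtain ⟨z₂, hz₂⟩ : {y | PhiU16 (v + w, v, η) y}.Nonempty :=
    Set.nonempty_of_ncard_ne_zero (by rw [hU16]; norm_num)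
  have hz₁' : PhiU8 (v + w, v, η) z₁ := hz₁
  have hz₂' : PhiU16 (v + w, v, η) z₂ := hz₂
  have horbY : orbit ↥(stabilizer ↥Co0 v ⊓ stabilizer ↥Co0 w) η = {y | Phi275 (v + w, v) y} := by
    ext z
    constructor
    · rintro ⟨g, rfl⟩
      have h2 := Phi275_inv (g : ↥Co0) (v + w, v) η hη'
      rw [hact2 g] at h2
      exact h2
    · intro hz
      obtain ⟨g, hg1, hg2, hg3⟩ := hYt η z hη' hz
      exact ⟨⟨g, ⟨hg2, hfix g hg1 hg2⟩⟩, hg3⟩
  have hact3 : ∀ g : ↥(stabilizer ↥Co0 v ⊓ stabilizer ↥Co0 w ⊓ stabilizer ↥Co0 η),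
      act3 (g : ↥Co0) (v + w, v, η) = (v + w, v, η) := by
    intro g
    have g1 : (g : ↥Co0).1 v = v := g.2.1.1
    have g2 : (g : ↥Co0).1 w = w := g.2.1.2
    have g3 : (g : ↥Co0).1 η = η := g.2.2
    show ((g : ↥Co0).1 (v + w), (g : ↥Co0).1 v, (g : ↥Co0).1 η) = (v + w, v, η)
    rw [(g : ↥Co0).2.1 v w, g1, g2, g3]
  have hne₁ : z₁ ≠ η := by
    rintro rfl
    have h2 : dotInt (z₁ : GolayPt → ℤ) (z₁ : GolayPt → ℤ) = 8 := hz₁'.2
    rw [dot_self_sq, hη'.1] at h2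
    norm_num at h2
  have horb1 : orbit ↥(stabilizer ↥Co0 v ⊓ stabilizer ↥Co0 w ⊓ stabilizer ↥Co0 η) z₁ =
      {y | PhiU8 (v + w, v, η) y} := by
    ext z
    constructor
    · rintro ⟨g, rfl⟩
      have h2 := PhiU8_inv (g : ↥Co0) (v + w, v, η) z₁ hz₁'
      rw [hact3 g] at h2
      exact h2
    · intro hz
      have hz' : PhiU8 (v + w, v, η) z := hz
      have hne : z ≠ η := by
        rintro rfl
        have h2 : dotInt (z : GolayPt → ℤ) (z : GolayPt → ℤ) = 8 := hz'.2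
        rw [dot_self_sq, hη'.1] at h2
        norm_num at h2
      obtain ⟨g, hg1, hg2, hg3, hg4⟩ := hUt z₁ z
        ⟨hz₁'.1, hz'.1, hne₁, hne, hz₁'.2.trans hz'.2.symm⟩
      exact ⟨⟨g, ⟨⟨hg2, hfix g hg1 hg2⟩, hg3⟩⟩, hg4⟩
  have horb2 : orbit ↥(stabilizer ↥Co0 v ⊓ stabilizer ↥Co0 w ⊓ stabilizer ↥Co0 η) z₂ =
      {y | PhiU16 (v + w, v, η) y} := by
    ext z
    constructor
    · rintro ⟨g, rfl⟩
      have h2 := PhiU16_inv (g : ↥Co0) (v + w, v, η) z₂ hz₂'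
      rw [hact3 g] at h2
      exact h2
    · intro hz
      have hz' : PhiU16 (v + w, v, η) z := hz
      obtain ⟨g, hg1, hg2, hg3, hg4⟩ := hUt z₂ z
        ⟨hz₂'.1, hz'.1, hz₂'.2.1, hz'.2.1, hz₂'.2.2.trans hz'.2.2.symm⟩
      exact ⟨⟨g, ⟨⟨hg2, hfix g hg1 hg2⟩, hg3⟩⟩, hg4⟩
  have key := simple_of_two_actions_sub (stabilizer ↥Co0 v ⊓ stabilizer ↥Co0 w) x η hs
    ![y₁, y₂, y₃] ![330, 462, 1232]
    (fun i => by fin_cases i; exacts [n1, n2, n3])
    (fun i => by rw [horbX]; fin_cases i; exacts [c1, c2, c3])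
    (by rw [hXcard]; decide)
    (by decide) (by decide) (by norm_num) (by decide)
    ![z₁, z₂] ![112, 162]
    (fun i => by
      fin_cases i
      · show (orbit ↥(stabilizer ↥Co0 v ⊓ stabilizer ↥Co0 w ⊓ stabilizer ↥Co0 η) z₁).ncard = 112
        rw [horb1, hU8]
      · show (orbit ↥(stabilizer ↥Co0 v ⊓ stabilizer ↥Co0 w ⊓ stabilizer ↥Co0 η) z₂).ncard = 162
        rw [horb2, hU16])
    (fun i => by rw [horbY]; fin_cases i; exacts [hz₁'.1, hz₂'.1])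
    (by rw [horbY, hYc]; decide)
    (by decide) (by decide) (by decide) (by decide)
    (by rw [hc]; decide)
  refine ⟨key.1, ?_⟩
  rw [key.2, hc]
  decide

/-- the joint stabiliser of the images of three vectors is the conjugate of their joint
stabiliser -/
theorem stab3_conj (h : ↥Co0) (a b c : ↥leechLattice) :
    stabilizer ↥Co0 (h.1 a) ⊓ stabilizer ↥Co0 (h.1 b) ⊓ stabilizer ↥Co0 (h.1 c) =
      (stabilizer ↥Co0 a ⊓ stabilizer ↥Co0 b ⊓ stabilizer ↥Co0 c).map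
        (MulAut.conj h).toMonoidHom := by
  rw [Subgroup.map_inf _ _ _ (MulAut.conj h).injective,
    Subgroup.map_inf _ _ _ (MulAut.conj h).injective,
    ← stabilizer_smul_eq_stabilizer_map_conj, ← stabilizer_smul_eq_stabilizer_map_conj,
    ← stabilizer_smul_eq_stabilizer_map_conj]
  rfl

/-- the joint stabilisers of two minimal vectors with inner product `-8` are simple of order
898128000, given the simplicity and the order of the stabiliser of ONE point for ONE such pair -/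
theorem McL_of_base (v₀ w₀ x₀ : ↥leechLattice) (hv₀ : sqNorm (v₀ : GolayPt → ℤ) = 32)
    (hw₀ : sqNorm (w₀ : GolayPt → ℤ) = 32)
    (hvw₀ : dotInt (v₀ : GolayPt → ℤ) (w₀ : GolayPt → ℤ) = -8)
    (hx₀ : sqNorm (x₀ : GolayPt → ℤ) = 32 ∧
      dotInt (v₀ : GolayPt → ℤ) (x₀ : GolayPt → ℤ) = 0 ∧
      dotInt (w₀ : GolayPt → ℤ) (x₀ : GolayPt → ℤ) = 16)
    (hs : IsSimpleGroup ↥(stabilizer ↥Co0 v₀ ⊓ stabilizer ↥Co0 w₀ ⊓ stabilizer ↥Co0 x₀))
    (hc : Nat.card ↥(stabilizer ↥Co0 v₀ ⊓ stabilizer ↥Co0 w₀ ⊓ stabilizer ↥Co0 x₀) = 443520)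
    (v w : ↥leechLattice) (hv : sqNorm (v : GolayPt → ℤ) = 32)
    (hw : sqNorm (w : GolayPt → ℤ) = 32)
    (hvw : dotInt (v : GolayPt → ℤ) (w : GolayPt → ℤ) = -8) :
    IsMcL ↥(stabilizer ↥Co0 v ⊓ stabilizer ↥Co0 w) := by
  obtain ⟨h₁, hh₁⟩ := Cfsg.Agent.S0400.result v₀ v hv₀ hv
  have hh₁' : h₁.1 v₀ = v := hh₁
  have e1 : dotInt (v : GolayPt → ℤ) ((h₁.1 w₀ : ↥leechLattice) : GolayPt → ℤ) = -8 := by
    rw [← hh₁', co_dot]
    exact hvw₀
  obtain ⟨h₂, h21, h22⟩ := stab_trans (-8) (Or.inr (Or.inl rfl)) v (h₁.1 w₀) w hv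
    ((co_norm h₁ w₀).trans hw₀) hw e1 hvw
  have gv : (h₂ * h₁).1 v₀ = v := by rw [co_mul_apply, hh₁', h21]
  have gw : (h₂ * h₁).1 w₀ = w := by rw [co_mul_apply, h22]
  have hx : sqNorm (((h₂ * h₁).1 x₀ : ↥leechLattice) : GolayPt → ℤ) = 32 ∧
      dotInt (v : GolayPt → ℤ) (((h₂ * h₁).1 x₀ : ↥leechLattice) : GolayPt → ℤ) = 0 ∧
      dotInt (w : GolayPt → ℤ) (((h₂ * h₁).1 x₀ : ↥leechLattice) : GolayPt → ℤ) = 16 := by
    refine ⟨(co_norm _ x₀).trans hx₀.1, ?_, ?_⟩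
    · rw [← gv, co_dot]
      exact hx₀.2.1
    · rw [← gw, co_dot]
      exact hx₀.2.2
  have hsub := stab3_conj (h₂ * h₁) v₀ w₀ x₀
  rw [gv, gw] at hsub
  have hs' : IsSimpleGroup ↥(stabilizer ↥Co0 v ⊓ stabilizer ↥Co0 w ⊓
      stabilizer ↥Co0 ((h₂ * h₁).1 x₀)) := by
    rw [hsub]
    exact ((stabilizer ↥Co0 v₀ ⊓ stabilizer ↥Co0 w₀ ⊓ stabilizer ↥Co0 x₀).equivMapOfInjective
      (MulAut.conj (h₂ * h₁)).toMonoidHom (MulAut.conj (h₂ * h₁)).injective).symm.isSimpleGroup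
  have hc' : Nat.card ↥(stabilizer ↥Co0 v ⊓ stabilizer ↥Co0 w ⊓
      stabilizer ↥Co0 ((h₂ * h₁).1 x₀)) = 443520 := by
    rw [hsub, ← Nat.card_congr
      ((stabilizer ↥Co0 v₀ ⊓ stabilizer ↥Co0 w₀ ⊓ stabilizer ↥Co0 x₀).equivMapOfInjective
        (MulAut.conj (h₂ * h₁)).toMonoidHom (MulAut.conj (h₂ * h₁)).injective).toEquiv]
    exact hc
  exact McL_of_point v w hv hw hvw _ hx hs' hc'

end Cfsg.Agent.Lib.helper93
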