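import Cfsg.Agent.Lib.helper93.SimpleRank

/-!
A second simplicity criterion: a finite group with two transitive actions whose point stabilisers
are maximal (by the sizes of their orbits), the first of them simple, is simple when the degree of
the second action divides neither the degree of the first nor the order of the first stabiliser.
-/

set_option autoImplicit false

namespace Cfsg.Agent.Lib.helper93

open MulAction

/-- The index of a point stabiliser, and its maximality when no proper union of the fixed point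
and orbits of the stabiliser has a size dividing the degree. -/
theorem max_of_suborbits {G X : Type*} [Group G] [Finite G] [MulAction G X] (ω : X) {k : ℕ}
    (y : Fin k → X) (s : Fin k → ℕ)
    (hy : ∀ i, (orbit ↥(stabilizer G ω) (y i)).ncard = s i)
    (hcov : orbit G ω = {ω} ∪ ⋃ i, orbit ↥(stabilizer G ω) (y i))
    (hinj : Function.Injective s) (h1 : ∀ i, s i ≠ 1)
    (hblock : ∀ I : Finset (Fin k), (1 + ∑ i ∈ I, s i) ∣ (1 + ∑ i, s i) →
      I = ∅ ∨ I = Finset.univ) :
    (stabilizer G ω).index = 1 + ∑ i, s i ∧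
      ∀ K : Subgroup G, stabilizer G ω ≤ K → K = stabilizer G ω ∨ K = ⊤ := by
  classical
  have hω : ∀ h : ↥(stabilizer G ω), h • ω = ω := fun h => h.2
  have hU : ∀ A : Set X, A ⊆ orbit G ω → (∀ h : ↥(stabilizer G ω), ∀ a ∈ A, h • a ∈ A) →
      ∃ I : Finset (Fin k), (A \ {ω}).ncard = ∑ i ∈ I, s i ∧ ∀ i, i ∈ I ↔ y i ∈ A := by
    intro A hA hinv
    exact invariant_ncard ω y s hy hinj h1 hω A (hcov ▸ hA) hinv
  have hfinO : (orbit G ω).Finite := Set.finite_range _
  have hidx : (stabilizer G ω).index = 1 + ∑ i, s i := by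
    rw [index_stabilizer]
    obtain ⟨I, hI, hI'⟩ := hU (orbit G ω) subset_rfl (fun h a ha => by
      obtain ⟨g, rfl⟩ := ha
      exact ⟨(h : G) * g, mul_smul _ _ _⟩)
    have hIu : I = Finset.univ := by
      rw [Finset.eq_univ_iff_forall]
      intro i
      rw [hI', hcov]
      exact Or.inr (Set.mem_iUnion.2 ⟨i, mem_orbit_self _⟩)
    rw [← Set.ncard_sdiff_singleton_add_one (mem_orbit_self ω) hfinO, hI, hIu, add_comm]
  refine ⟨hidx, ?_⟩
  intro K hHK
  have hst : stabilizer ↥K ω = (stabilizer G ω).subgroupOf K := by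
    ext k
    rw [mem_stabilizer_iff, Subgroup.mem_subgroupOf, mem_stabilizer_iff]
    rfl
  have hrel : (stabilizer G ω).relIndex K = (orbit ↥K ω).ncard := by
    rw [← index_stabilizer, hst]
    rfl
  have hsub : orbit ↥K ω ⊆ orbit G ω := by
    rintro _ ⟨k, rfl⟩
    exact ⟨(k : G), rfl⟩
  obtain ⟨I, hI, -⟩ := hU (orbit ↥K ω) hsub (fun h a ha => by
    obtain ⟨k, rfl⟩ := ha
    exact ⟨⟨(h : G) * k, K.mul_mem (hHK h.2) k.2⟩, mul_smul (h : G) (k : G) ω⟩)
  have hcard : (stabilizer G ω).relIndex K = 1 + ∑ i ∈ I, s i := by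
    rw [hrel, ← Set.ncard_sdiff_singleton_add_one (mem_orbit_self ω) (Set.finite_range _), hI,
      add_comm]
  have hmul := Subgroup.relIndex_mul_index hHK
  rw [hidx, hcard] at hmul
  rcases hblock I (Dvd.intro _ hmul) with h | h
  · left
    rw [h, Finset.sum_empty, add_zero] at hcard
    exact le_antisymm (Subgroup.relIndex_eq_one.1 hcard) hHK
  · right
    rw [h] at hmul
    have hpos : 0 < 1 + ∑ i, s i := by omega
    have h2 : K.index = 1 := Nat.eq_of_mul_eq_mul_left hpos (by rw [hmul, mul_one])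
    exact Subgroup.index_eq_one.1 h2

/-- The orbit of a point is the union of the point and of orbits of its stabiliser, of distinct
sizes other than 1, as soon as the sizes add up. -/
theorem cover_of_card {G X : Type*} [Group G] [Finite G] [MulAction G X] (ω : X) {k : ℕ}
    (y : Fin k → X) (s : Fin k → ℕ)
    (hy : ∀ i, (orbit ↥(stabilizer G ω) (y i)).ncard = s i)
    (hsub : ∀ i, y i ∈ orbit G ω) (hcard : (orbit G ω).ncard = 1 + ∑ i, s i)
    (hinj : Function.Injective s) (h1 : ∀ i, s i ≠ 1) :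
    orbit G ω = {ω} ∪ ⋃ i, orbit ↥(stabilizer G ω) (y i) := by
  classical
  have hω : ∀ h : ↥(stabilizer G ω), h • ω = ω := fun h => h.2
  have hAsub : ({ω} ∪ ⋃ i, orbit ↥(stabilizer G ω) (y i)) ⊆ orbit G ω := by
    rintro x (hx | hx)
    · rw [Set.mem_singleton_iff.1 hx]
      exact mem_orbit_self ω
    · obtain ⟨i, hi⟩ := Set.mem_iUnion.1 hx
      obtain ⟨h, rfl⟩ := hi
      obtain ⟨g, hg⟩ := hsub i
      have hg' : g • ω = y i := hg
      exact ⟨(h : G) * g, by
        show ((h : G) * g) • ω = (h : G) • y i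
        rw [mul_smul, hg']⟩
  have hinv : ∀ h : ↥(stabilizer G ω), ∀ a ∈ ({ω} ∪ ⋃ i, orbit ↥(stabilizer G ω) (y i)),
      h • a ∈ ({ω} ∪ ⋃ i, orbit ↥(stabilizer G ω) (y i)) := by
    rintro h a (ha | ha)
    · left
      rw [Set.mem_singleton_iff.1 ha, hω h]
      rfl
    · right
      obtain ⟨i, hi⟩ := Set.mem_iUnion.1 ha
      obtain ⟨h', rfl⟩ := hi
      exact Set.mem_iUnion.2 ⟨i, ⟨h * h', mul_smul _ _ _⟩⟩
  obtain ⟨I, hI, hI'⟩ := invariant_ncard ω y s hy hinj h1 hω _ subset_rfl hinv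
  have hIu : I = Finset.univ := by
    rw [Finset.eq_univ_iff_forall]
    intro i
    rw [hI']
    exact Or.inr (Set.mem_iUnion.2 ⟨i, mem_orbit_self _⟩)
  have hfinO : (orbit G ω).Finite := Set.finite_range _
  have hAc : ({ω} ∪ ⋃ i, orbit ↥(stabilizer G ω) (y i)).ncard = 1 + ∑ i, s i := by
    have hmem : ω ∈ ({ω} ∪ ⋃ i, orbit ↥(stabilizer G ω) (y i)) := Or.inl rfl
    rw [← Set.ncard_sdiff_singleton_add_one hmem (hfinO.subset hAsub), hI, hIu, add_comm]
  exact (Set.eq_of_subset_of_ncard_le hAsub (by rw [hAc, hcard]) hfinO).symm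

/-- A simplicity criterion from two transitive actions with maximal point stabilisers. -/
theorem simple_of_two_actions {G X Y : Type*} [Group G] [Finite G] [MulAction G X]
    [MulAction G Y] (ω : X) (η : Y) (hs : IsSimpleGroup ↥(stabilizer G ω))
    {k : ℕ} (y : Fin k → X) (s : Fin k → ℕ)
    (hy : ∀ i, (orbit ↥(stabilizer G ω) (y i)).ncard = s i)
    (hcov : orbit G ω = {ω} ∪ ⋃ i, orbit ↥(stabilizer G ω) (y i))
    (hinj : Function.Injective s) (h1 : ∀ i, s i ≠ 1) (hk : 0 < k)
    (hblock : ∀ I : Finset (Fin k), (1 + ∑ i ∈ I, s i) ∣ (1 + ∑ i, s i) →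
      I = ∅ ∨ I = Finset.univ)
    {l : ℕ} (z : Fin l → Y) (t : Fin l → ℕ)
    (hz : ∀ i, (orbit ↥(stabilizer G η) (z i)).ncard = t i)
    (hcovY : orbit G η = {η} ∪ ⋃ i, orbit ↥(stabilizer G η) (z i))
    (hinjY : Function.Injective t) (h1Y : ∀ i, t i ≠ 1)
    (hblockY : ∀ I : Finset (Fin l), (1 + ∑ i ∈ I, t i) ∣ (1 + ∑ i, t i) →
      I = ∅ ∨ I = Finset.univ)
    (hnm : ¬ (1 + ∑ i, t i) ∣ (1 + ∑ i, s i))
    (hnU : ¬ (1 + ∑ i, t i) ∣ Nat.card ↥(stabilizer G ω)) :
    IsSimpleGroup G ∧ Nat.card G = (1 + ∑ i, s i) * Nat.card ↥(stabilizer G ω) := by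
  obtain ⟨hidx, hmax⟩ := max_of_suborbits ω y s hy hcov hinj h1 hblock
  obtain ⟨hidxY, hmaxY⟩ := max_of_suborbits η z t hz hcovY hinjY h1Y hblockY
  have hnt : Nontrivial G := by
    have h2 : Nontrivial ↥(stabilizer G ω) := hs.toNontrivial
    exact Function.Injective.nontrivial (f := fun x : ↥(stabilizer G ω) => (x : G))
      Subtype.coe_injective
  have hcardG : Nat.card G = (1 + ∑ i, s i) * Nat.card ↥(stabilizer G ω) := by
    rw [← hidx, Subgroup.index_mul_card]
  have hcardG' : Nat.card G = (1 + ∑ i, t i) * Nat.card ↥(stabilizer G η) := by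
    rw [← hidxY, Subgroup.index_mul_card]
  have hpos : 0 < 1 + ∑ i, s i := by omega
  refine ⟨{ toNontrivial := hnt, eq_bot_or_eq_top_of_normal := fun N hN => ?_ }, hcardG⟩
  have := hN
  rcases hmax (N ⊔ stabilizer G ω) le_sup_right with hK | hK
  · have hNH : N ≤ stabilizer G ω := hK ▸ le_sup_left
    rcases hs.eq_bot_or_eq_top_of_normal (N.subgroupOf (stabilizer G ω)) inferInstance with
      hM | hM
    · left
      exact (Subgroup.subgroupOf_eq_bot.1 hM).eq_bot_of_le hNH
    · exfalso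
      have hHN : stabilizer G ω ≤ N := Subgroup.subgroupOf_eq_top.1 hM
      have hy0 : y ⟨0, hk⟩ ∈ orbit G ω := by
        rw [hcov]
        exact Or.inr (Set.mem_iUnion.2 ⟨⟨0, hk⟩, mem_orbit_self _⟩)
      obtain ⟨g, hg⟩ := hy0
      have hg' : g • ω = y ⟨0, hk⟩ := hg
      have hfix : ∀ h : ↥(stabilizer G ω), h • y ⟨0, hk⟩ = y ⟨0, hk⟩ := by
        intro h
        have h2 : g⁻¹ * (h : G) * g ∈ stabilizer G ω := by
          have h3 := hN.conj_mem (h : G) (hHN h.2) g⁻¹
          rw [inv_inv] at h3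
          exact hNH h3
        have h3 : (g⁻¹ * (h : G) * g) • ω = ω := h2
        rw [← hg']
        show (h : G) • g • ω = g • ω
        have h4 : (h : G) • g • ω = g • (g⁻¹ * (h : G) * g) • ω := by
          rw [smul_smul, smul_smul]
          congr 1
          group
        rw [h4, h3]
      have h5 : orbit ↥(stabilizer G ω) (y ⟨0, hk⟩) = {y ⟨0, hk⟩} := by
        ext x
        constructor
        · rintro ⟨h, rfl⟩
          exact hfix h
        · rintro rfl
          exact mem_orbit_self _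
      exact h1 ⟨0, hk⟩ (by rw [← hy ⟨0, hk⟩, h5, Set.ncard_singleton])
  · rcases hs.eq_bot_or_eq_top_of_normal (N.subgroupOf (stabilizer G ω)) inferInstance with
      hM | hM
    · exfalso
      have hbot : N ⊓ stabilizer G ω = ⊥ := disjoint_iff.1 (Subgroup.subgroupOf_eq_bot.1 hM)
      have hcN : Nat.card ↥N = 1 + ∑ i, s i := by
        have e1 : N.relIndex (N ⊔ stabilizer G ω) = N.relIndex (stabilizer G ω) :=
          Subgroup.relIndex_sup_left (stabilizer G ω) N
        rw [hK, Subgroup.relIndex_top_right, ← Subgroup.inf_relIndex_right, hbot,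
          Subgroup.relIndex_bot_left] at e1
        have e2 := Subgroup.card_mul_index N
        rw [e1, hcardG] at e2
        exact Nat.eq_of_mul_eq_mul_right Nat.card_pos e2
      rcases hmaxY (N ⊔ stabilizer G η) le_sup_right with hKY | hKY
      · have hNU : N ≤ stabilizer G η := hKY ▸ le_sup_left
        have hd : Nat.card ↥N ∣ Nat.card ↥(stabilizer G η) := Subgroup.card_dvd_of_le hNU
        rw [hcN] at hd
        obtain ⟨c, hc⟩ := hd
        have e1 := hcardG'
        rw [hc, hcardG] at e1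
        apply hnU
        refine ⟨c, ?_⟩
        apply Nat.eq_of_mul_eq_mul_left hpos
        rw [e1]
        ring
      · have e1 : N.relIndex (N ⊔ stabilizer G η) = N.relIndex (stabilizer G η) :=
          Subgroup.relIndex_sup_left (stabilizer G η) N
        rw [hKY, Subgroup.relIndex_top_right] at e1
        have e2 := Subgroup.card_mul_index N
        obtain ⟨d, hd⟩ := Subgroup.relIndex_dvd_card N (stabilizer G η)
        have hr : 0 < N.relIndex (stabilizer G η) := by
          rcases Nat.eq_zero_or_pos (N.relIndex (stabilizer G η)) with h0 | h0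
          · rw [h0, zero_mul] at hd
            exact absurd hd Nat.card_pos.ne'
          · exact h0
        rw [e1, hcN, hcardG', hd] at e2
        apply hnm
        refine ⟨d, ?_⟩
        apply Nat.eq_of_mul_eq_mul_right hr
        rw [e2]
        ring
    · right
      have hHN : stabilizer G ω ≤ N := Subgroup.subgroupOf_eq_top.1 hM
      rw [sup_eq_left.2 hHN] at hK
      exact hK

/-- `simple_of_two_actions` for a subgroup `K` of a group acting on `X` and `Y`, with the point
stabilisers written as intersections in the ambient group and the covers given by counting. -/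
theorem simple_of_two_actions_sub {G₀ X Y : Type*} [Group G₀] [MulAction G₀ X] [MulAction G₀ Y]
    (K : Subgroup G₀) [Finite ↥K] (ω : X) (η : Y)
    (hs : IsSimpleGroup ↥(K ⊓ stabilizer G₀ ω))
    {k : ℕ} (y : Fin k → X) (s : Fin k → ℕ)
    (hy : ∀ i, (orbit ↥(K ⊓ stabilizer G₀ ω) (y i)).ncard = s i)
    (hsub : ∀ i, y i ∈ orbit ↥K ω) (hcard : (orbit ↥K ω).ncard = 1 + ∑ i, s i)
    (hinj : Function.Injective s) (h1 : ∀ i, s i ≠ 1) (hk : 0 < k)
    (hblock : ∀ I : Finset (Fin k), (1 + ∑ i ∈ I, s i) ∣ (1 + ∑ i, s i) →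
      I = ∅ ∨ I = Finset.univ)
    {l : ℕ} (z : Fin l → Y) (t : Fin l → ℕ)
    (hz : ∀ i, (orbit ↥(K ⊓ stabilizer G₀ η) (z i)).ncard = t i)
    (hsubY : ∀ i, z i ∈ orbit ↥K η) (hcardY : (orbit ↥K η).ncard = 1 + ∑ i, t i)
    (hinjY : Function.Injective t) (h1Y : ∀ i, t i ≠ 1)
    (hblockY : ∀ I : Finset (Fin l), (1 + ∑ i ∈ I, t i) ∣ (1 + ∑ i, t i) →
      I = ∅ ∨ I = Finset.univ)
    (hnm : ¬ (1 + ∑ i, t i) ∣ (1 + ∑ i, s i))
    (hnU : ¬ (1 + ∑ i, t i) ∣ Nat.card ↥(K ⊓ stabilizer G₀ ω)) :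
    IsSimpleGroup ↥K ∧ Nat.card ↥K = (1 + ∑ i, s i) * Nat.card ↥(K ⊓ stabilizer G₀ ω) := by
  have hs' : IsSimpleGroup ↥(stabilizer ↥K ω) := (stabSubEquiv K ω).isSimpleGroup
  have hc : Nat.card ↥(stabilizer ↥K ω) = Nat.card ↥(K ⊓ stabilizer G₀ ω) :=
    Nat.card_congr (stabSubEquiv K ω).toEquiv
  have hy' : ∀ i, (orbit ↥(stabilizer ↥K ω) (y i)).ncard = s i := fun i => by
    rw [orbit_stabSub]
    exact hy i
  have hz' : ∀ i, (orbit ↥(stabilizer ↥K η) (z i)).ncard = t i := fun i => by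
    rw [orbit_stabSub]
    exact hz i
  obtain ⟨h2, h3⟩ := simple_of_two_actions (G := ↥K) ω η hs' y s hy'
    (cover_of_card ω y s hy' hsub hcard hinj h1) hinj h1 hk hblock z t hz'
    (cover_of_card η z t hz' hsubY hcardY hinjY h1Y) hinjY h1Y hblockY hnm (by rw [hc]; exact hnU)
  exact ⟨h2, by rw [h3, hc]⟩

end Cfsg.Agent.Lib.helper93
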